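import Mathlib

/-!
# Smoothness descends along a faithfully flat étale map on the source

`R → A → B`, `A → B` étale and faithfully flat, `B` (formally) smooth over `R`, `A` of finite
presentation over `R`  ⟹  `A` (formally) smooth over `R`.
-/

universe u

open TensorProduct

namespace Groth.Agent.Lib.Lead.SmoothSrcLocal

open Algebra

section Lift

variable {P A B : Type u} [CommRing P] [CommRing A] [CommRing B] [Algebra P A] [Algebra A B]
  [Algebra P B] [IsScalarTower P A B]

/-- Étale algebras lift along surjections (weak form: some étale lift with the right kernel). -/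
theorem exists_etale_lift [Algebra.Etale A B] (hPA : Function.Surjective (algebraMap P A)) :
    ∃ (Q : Type u) (_ : CommRing Q) (_ : Algebra P Q) (_ : Algebra.Etale P Q) (π : Q →ₐ[P] B),
      Function.Surjective π ∧
        RingHom.ker π = Ideal.map (algebraMap P Q) (RingHom.ker (algebraMap P A)) := by
  classical
  obtain ⟨ι, σ, _, _, S, hS⟩ :=
    (Algebra.Etale.iff_isStandardSmoothOfRelativeDimension_zero.mp ‹Algebra.Etale A B›).out
  haveI : Fintype σ := Fintype.ofFinite σ
  haveI hc : S.HasCoeffs P := ⟨by
    intro x _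
    exact hPA x⟩
  let Q₀ := S.toPresentation.ModelOfHasCoeffs P
  let P₀ : PreSubmersivePresentation P Q₀ ι σ := S.toPreSubmersivePresentation.ofHasCoeffs P
  -- the map `Q₀ → B`
  let π₀ : Q₀ →ₐ[P] B := Ideal.Quotient.liftₐ _ (MvPolynomial.aeval S.val) (by
    simp_rw [← RingHom.mem_ker, ← SetLike.le_def, Ideal.span_le]
    rintro a ⟨i, rfl⟩
    simp)
  have hπ₀mk : ∀ g : MvPolynomial ι P, π₀ (Ideal.Quotient.mk _ g) = MvPolynomial.aeval S.val g :=
    fun g => rfl
  have hΔ : π₀ P₀.jacobian = S.jacobian := by
    rw [PreSubmersivePresentation.jacobian_eq_jacobiMatrix_det]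
    have h1 : MvPolynomial.aeval S.val (S.jacobianOfHasCoeffs P) = S.jacobian :=
      S.aeval_jacobianOfHasCoeffs P
    rw [← h1]
    have h2 : P₀.jacobiMatrix.det = S.jacobianOfHasCoeffs P := by
      unfold SubmersivePresentation.jacobianOfHasCoeffs
      congr!
    rw [h2]
    rfl
  let Δ : Q₀ := P₀.jacobian
  let Q := Localization.Away Δ
  let PQ : PreSubmersivePresentation P Q (Unit ⊕ ι) (Unit ⊕ σ) :=
    (PreSubmersivePresentation.localizationAway Q Δ).comp P₀
  have hjac : IsUnit PQ.jacobian := by
    rw [PreSubmersivePresentation.comp_jacobian_eq_jacobian_smul_jacobian,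
      PreSubmersivePresentation.localizationAway_jacobian, Algebra.smul_def]
    exact (IsLocalization.Away.algebraMap_isUnit Δ).mul (IsLocalization.Away.algebraMap_isUnit Δ)
  let SQ : SubmersivePresentation P Q (Unit ⊕ ι) (Unit ⊕ σ) := { PQ with jacobian_isUnit := hjac }
  have hdim : SQ.dimension = 0 := by
    have h1 := PreSubmersivePresentation.dimension_comp_eq_dimension_add_dimension
      (PreSubmersivePresentation.localizationAway Q Δ) P₀
    have h2 : P₀.dimension = S.dimension := rfl
    have h3 : (PreSubmersivePresentation.localizationAway Q Δ).dimension = 0 :=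
      Presentation.localizationAway_dimension_zero Δ
    change PQ.dimension = 0
    rw [h1, h2, h3, hS]
  haveI hEt : Algebra.Etale P Q := Algebra.Etale.iff_isStandardSmoothOfRelativeDimension_zero.mpr
    (SQ.isStandardSmoothOfRelativeDimension hdim)
  have hunit : ∀ y : Submonoid.powers Δ, IsUnit (π₀ (y : Q₀)) := by
    rintro ⟨_, n, rfl⟩
    change IsUnit (π₀ (Δ ^ n))
    rw [map_pow]
    exact (hΔ ▸ S.jacobian_isUnit).pow n
  let π : Q →ₐ[P] B := IsLocalization.liftAlgHom (M := Submonoid.powers Δ) (f := π₀) hunit
  have hπ : ∀ y : Q₀, π (algebraMap Q₀ Q y) = π₀ y := fun y => by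
    simp [π, IsLocalization.liftAlgHom]
  have hπ₀surj : Function.Surjective π₀ := by
    intro b
    obtain ⟨g, rfl⟩ := S.algebraMap_surjective b
    obtain ⟨g', rfl⟩ := MvPolynomial.map_surjective _ hPA g
    refine ⟨Ideal.Quotient.mk _ g', ?_⟩
    rw [hπ₀mk]
    rw [Generators.algebraMap_apply]
    exact (MvPolynomial.aeval_map_algebraMap A S.val g').symm
  have hJ₀ : RingHom.ker π₀ ≤ Ideal.map (algebraMap P Q₀) (RingHom.ker (algebraMap P A)) := by
    intro y hy
    obtain ⟨g, rfl⟩ := Ideal.Quotient.mk_surjective y
    rw [RingHom.mem_ker, hπ₀mk, ← MvPolynomial.aeval_map_algebraMap A] at hy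
    have hker : MvPolynomial.map (algebraMap P A) g ∈ S.ker := by
      rw [Generators.ker_eq_ker_aeval_val]
      exact hy
    rw [← S.span_range_relation_eq_ker, Ideal.mem_span_range_iff_exists_fun] at hker
    obtain ⟨c, hc⟩ := hker
    choose c' hc' using fun i => MvPolynomial.map_surjective _ hPA (c i)
    let g' := g - ∑ i, c' i * S.toPresentation.relationOfHasCoeffs P i
    have hg' : MvPolynomial.map (algebraMap P A) g' = 0 := by
      simp only [g', map_sub, map_sum, map_mul, hc', Presentation.map_relationOfHasCoeffs, hc,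
        sub_self]
    have hmk : (Ideal.Quotient.mk _ g : Q₀) = Ideal.Quotient.mk _ g' := by
      rw [eq_comm, Ideal.Quotient.mk_eq_mk_iff_sub_mem]
      simp only [g', sub_sub_cancel_left]
      refine neg_mem (Ideal.sum_mem _ fun i _ => Ideal.mul_mem_left _ _
        (Ideal.subset_span ⟨i, rfl⟩))
    rw [hmk]
    have h3 : g' ∈ Ideal.map (MvPolynomial.C : P →+* MvPolynomial ι P)
        (RingHom.ker (algebraMap P A)) := by
      rw [← MvPolynomial.ker_map]
      exact hg'
    have h4 := Ideal.mem_map_of_mem (Ideal.Quotient.mk (Ideal.span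
      (Set.range (S.toPresentation.relationOfHasCoeffs P)))) h3
    rw [Ideal.map_map] at h4
    exact h4
  refine ⟨Q, inferInstance, inferInstance, hEt, π, ?_, ?_⟩
  · intro b
    obtain ⟨y, rfl⟩ := hπ₀surj b
    exact ⟨algebraMap Q₀ Q y, hπ y⟩
  · apply le_antisymm
    · intro x hx
      obtain ⟨y, s, rfl⟩ := IsLocalization.exists_mk'_eq (Submonoid.powers Δ) x
      have h1 : π (IsLocalization.mk' Q y s) * π₀ s = π₀ y := by
        rw [← hπ, ← hπ, ← map_mul, IsLocalization.mk'_spec]
      rw [RingHom.mem_ker] at hx
      have h2 : π₀ y = 0 := by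
        rw [← h1]
        change π _ * _ = 0
        rw [hx, zero_mul]
      have h3 := hJ₀ h2
      have h4 := Ideal.mem_map_of_mem (algebraMap Q₀ Q) h3
      rw [Ideal.map_map, ← IsScalarTower.algebraMap_eq] at h4
      rw [IsLocalization.mk'_eq_mul_mk'_one]
      exact Ideal.mul_mem_right _ _ h4
    · rw [Ideal.map_le_iff_le_comap]
      intro p hp
      rw [Ideal.mem_comap, RingHom.mem_ker, AlgHom.commutes, IsScalarTower.algebraMap_apply P A B,
        (RingHom.mem_ker).mp hp, map_zero]

end Lift

section Main

variable (R A B : Type u) [CommRing R] [CommRing A] [CommRing B] [Algebra R A] [Algebra A B]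
  [Algebra R B] [IsScalarTower R A B]

set_option backward.isDefEq.respectTransparency false in
/-- For `A → B` étale, `B ⊗[A] H¹(L_{A/R}) = 0` as soon as `H¹(L_{B/R}) = 0`. -/
theorem subsingleton_tensor_h1Cotangent [Algebra.Etale A B]
    [Subsingleton (Algebra.H1Cotangent R B)] :
    Subsingleton (B ⊗[A] Algebra.H1Cotangent R A) := by
  let PE : Extension.{u} R A := (Generators.self R A).toExtension
  letI : Algebra PE.Ring B := ((algebraMap A B).comp (algebraMap PE.Ring A)).toAlgebra
  haveI : IsScalarTower PE.Ring A B := .of_algebraMap_eq' rfl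
  obtain ⟨Q, _, _, hEt, π, hπsurj, hπker⟩ :=
    exists_etale_lift (P := PE.Ring) (A := A) (B := B) PE.algebraMap_surjective
  letI : Algebra R Q := ((algebraMap PE.Ring Q).comp (algebraMap R PE.Ring)).toAlgebra
  haveI : IsScalarTower R PE.Ring Q := .of_algebraMap_eq' rfl
  haveI : IsScalarTower R PE.Ring B := .of_algebraMap_eq fun r => by
    rw [IsScalarTower.algebraMap_apply R A B, IsScalarTower.algebraMap_apply R PE.Ring A,
      IsScalarTower.algebraMap_apply PE.Ring A B]
  let πR : Q →ₐ[R] B := π.restrictScalars R
  let QE : Extension.{u} R B := Extension.ofSurjective πR hπsurj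
  letI algPQ : Algebra PE.Ring QE.Ring := (inferInstance : Algebra PE.Ring Q)
  let f : PE.Hom QE :=
    { toRingHom := algebraMap PE.Ring Q
      toRingHom_algebraMap := fun x => (IsScalarTower.algebraMap_apply R PE.Ring Q x).symm
      algebraMap_toRingHom := fun x => π.commutes x }
  haveI : FormallySmooth R PE.Ring := inferInstanceAs (FormallySmooth R (MvPolynomial _ _))
  haveI : FormallySmooth PE.Ring Q := inferInstance
  haveI : FormallySmooth R QE.Ring := FormallySmooth.comp R PE.Ring Q
  haveI : Module.Flat A B := inferInstance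
  have H₁ : f.toRingHom.FormallyEtale := RingHom.formallyEtale_algebraMap.mpr
    (inferInstance : Algebra.FormallyEtale PE.Ring Q)
  haveI : Module.Flat PE.Ring QE.Ring := (inferInstance : Module.Flat PE.Ring Q)
  have H₂ : Function.Bijective ((f.mapKer (alg := algPQ) rfl).liftBaseChange QE.Ring) := by
    have hval : ∀ z : QE.Ring ⊗[PE.Ring] PE.ker,
        ((f.mapKer (alg := algPQ) rfl).liftBaseChange QE.Ring z).1 =
          TensorProduct.rid PE.Ring QE.Ring (LinearMap.lTensor QE.Ring (PE.ker.subtype) z) := by
      intro z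
      induction z with
      | zero => simp only [map_zero]; rfl
      | add x y hx hy =>
        rw [map_add, map_add, map_add, ← hx, ← hy]
        rfl
      | tmul q j =>
        rw [LinearMap.liftBaseChange_tmul, LinearMap.lTensor_tmul, TensorProduct.rid_tmul]
        change (q : QE.Ring) * algebraMap PE.Ring QE.Ring (j : PE.Ring) = _
        rw [Algebra.smul_def, mul_comm]
        rfl
    constructor
    · rw [injective_iff_map_eq_zero]
      intro z hz
      have h1 := hval z
      rw [hz] at h1
      have h2 : LinearMap.lTensor QE.Ring (PE.ker.subtype) z = 0 :=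
        (TensorProduct.rid PE.Ring QE.Ring).injective (by rw [← h1, map_zero]; rfl)
      exact (Module.Flat.lTensor_preserves_injective_linearMap (M := QE.Ring) PE.ker.subtype
        Subtype.val_injective) (by rw [h2, map_zero])
    · intro y
      have hy : y.1 ∈ RingHom.ker π := y.2
      rw [hπker] at hy
      have hle : Ideal.map (algebraMap PE.Ring Q) (RingHom.ker (algebraMap PE.Ring A)) ≤
          (LinearMap.range (QE.ker.subtype ∘ₗ
            (f.mapKer (alg := algPQ) rfl).liftBaseChange QE.Ring) : Submodule QE.Ring QE.Ring) := by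
        rw [Ideal.map, Ideal.span_le]
        rintro _ ⟨j, hj, rfl⟩
        refine ⟨(1 : QE.Ring) ⊗ₜ[PE.Ring] (⟨j, hj⟩ : PE.ker), ?_⟩
        change (((f.mapKer (alg := algPQ) rfl).liftBaseChange QE.Ring) _).1 = _
        rw [hval, LinearMap.lTensor_tmul, TensorProduct.rid_tmul, Algebra.smul_def, mul_one]
        rfl
      obtain ⟨z, hz⟩ := hle hy
      exact ⟨z, Subtype.ext hz⟩
  have e := Extension.tensorH1CotangentOfFormallyEtale f (alg := algPQ) rfl H₁ H₂ ≪≫ₗ
    Extension.equivH1CotangentOfFormallySmooth _
  exact e.subsingleton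

/-- **Formal smoothness descends along a faithfully flat étale map on the source.** -/
theorem formallySmooth_of_etale_faithfullyFlat [Algebra.Etale A B] [Module.FaithfullyFlat A B]
    [Algebra.FinitePresentation R A] [Algebra.FormallySmooth R B] : Algebra.FormallySmooth R A := by
  rw [Algebra.formallySmooth_iff]
  constructor
  · have e' : B ⊗[A] Ω[A⁄R] ≃ₗ[B] Ω[B⁄R] :=
      KaehlerDifferential.tensorKaehlerEquivOfFormallyEtale R A B
    have : Module.Flat B (B ⊗[A] Ω[A⁄R]) := .of_linearEquiv e'
    have : Module.Flat A Ω[A⁄R] := Module.Flat.of_flat_tensorProduct _ _ B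
    exact Module.Flat.projective_of_finitePresentation
  · have := subsingleton_tensor_h1Cotangent R A B
    exact Module.FaithfullyFlat.lTensor_reflects_triviality A B _

/-- **Smoothness descends along a faithfully flat étale map on the source** (given that `A` is
already known to be of finite presentation over `R`). -/
theorem smooth_of_etale_faithfullyFlat [Algebra.Etale A B] [Module.FaithfullyFlat A B]
    [Algebra.FinitePresentation R A] [Algebra.Smooth R B] : Algebra.Smooth R A :=
  ⟨formallySmooth_of_etale_faithfullyFlat R A B, inferInstance⟩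

end Main

end Groth.Agent.Lib.Lead.SmoothSrcLocal
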