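import Mathlib
import Groth.Agent.Lib.Lead.SmoothSrcLocal
import Groth.Agent.Lib.Helper14.EtSrcLocal

/-!
# `SrcLocal @Smooth`: smoothness is étale-local on the source (lead, for helper24's request)
-/

universe u
open CategoryTheory CategoryTheory.Limits AlgebraicGeometry MorphismProperty

namespace Groth.Agent.Lib.Lead.SmoothSrcLocal

open Groth.Agent.Lib.Helper14.ESL

set_option backward.isDefEq.respectTransparency.types false in
/-- Finite presentation descends along a faithfully flat étale map on the source
(ring version of helper14's `srcLocal_locallyOfFinitePresentation`). -/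
theorem finitePresentation_of_etale_faithfullyFlat (R A B : Type u) [CommRing R] [CommRing A]
    [CommRing B] [Algebra R A] [Algebra A B] [Algebra R B] [IsScalarTower R A B]
    [Algebra.Etale A B] [Module.FaithfullyFlat A B] [Algebra.FinitePresentation R B] :
    Algebra.FinitePresentation R A := by
  have hs : Surjective (Spec.map (CommRingCat.ofHom (algebraMap A B))) :=
    ⟨PrimeSpectrum.comap_surjective_of_faithfullyFlat⟩
  have h := core_ring (P := @LocallyOfFinitePresentation) (Q := RingHom.FinitePresentation)
    (fun _ h => h)
    RingHom.finitePresentation_stableUnderComposition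
    (fun _ _ => RingHom.FinitePresentation.id _) RingHom.finitePresentation_respectsIso
    (fun f _ h hf => RingHom.FinitePresentation.of_comp_finiteType f h hf)
    (R := R) (A := A) (B := B) hs (RingHom.finitePresentation_algebraMap.mpr inferInstance)
  exact RingHom.finitePresentation_algebraMap.mp h

/-- Smoothness descends along a faithfully flat étale map on the source. -/
theorem smooth_of_etale_faithfullyFlat' (R A B : Type u) [CommRing R] [CommRing A]
    [CommRing B] [Algebra R A] [Algebra A B] [Algebra R B] [IsScalarTower R A B]
    [Algebra.Etale A B] [Module.FaithfullyFlat A B] [Algebra.Smooth R B] :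
    Algebra.Smooth R A := by
  haveI := finitePresentation_of_etale_faithfullyFlat R A B
  exact smooth_of_etale_faithfullyFlat R A B

/-- Smoothness is étale-local on the source. -/
theorem srcLocal_smooth : SrcLocal @Smooth.{u} :=
  srcLocal_of_ring (P := @Smooth) (Q := RingHom.Smooth) (fun {R A B} _ _ _ _ _ _ _ _ _ h => by
    rw [RingHom.smooth_algebraMap] at h ⊢
    exact smooth_of_etale_faithfullyFlat' R A B)

end Groth.Agent.Lib.Lead.SmoothSrcLocal
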