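import Mathlib.Topology.Spectral.ConstructibleTopology
import Mathlib.Topology.Spectral.Basic
import Mathlib.Topology.Spectral.Hom
import Mathlib.Topology.Constructible
import Mathlib.Topology.Sober

set_option autoImplicit false
set_option linter.unusedSectionVars false

namespace Groth.Agent.Lib.Lead

open Topology Set

variable {X : Type*} [TopologicalSpace X]

/-- the constructible topology of a spectral-like space is compact (as an unbundled statement) -/
theorem compactSpace_constructible [CompactSpace X] [QuasiSober X] [PrespectralSpace X]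
    [QuasiSeparatedSpace X] : @CompactSpace X (constructibleTopology X) :=
  @Function.Surjective.compactSpace (WithConstructibleTopology X) X _ (constructibleTopology X)
    (WithTopology.ofTopology) (WithTopology.continuous_ofTopology _) _
    (WithTopology.ofTopology_surjective _)

theorem isOpen_constructible_of_isOpen [PrespectralSpace X] {U : Set X} (hU : IsOpen U) :
    IsOpen[constructibleTopology X] U := by
  obtain ⟨S, hS, rfl⟩ := (PrespectralSpace.isTopologicalBasis (X := X)).open_eq_sUnion hU
  exact @isOpen_sUnion X (constructibleTopology X) S fun s hs =>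
    (hS hs).2.isOpen_constructibleTopology_of_isOpen (hS hs).1

theorem isClosed_constructible_of_isClosed [PrespectralSpace X] {Z : Set X} (hZ : IsClosed Z) :
    IsClosed[constructibleTopology X] Z := by
  rw [← @isOpen_compl_iff X Z (constructibleTopology X)]
  exact isOpen_constructible_of_isOpen hZ.isOpen_compl

theorem isClosed_constructible_of_isOpen_isCompact {U : Set X} (hU : IsOpen U)
    (hc : IsCompact U) : IsClosed[constructibleTopology X] U := by
  rw [← @isOpen_compl_iff X U (constructibleTopology X)]
  exact IsCompact.isOpen_constructibleTopology_of_isClosed (by simpa using hc) hU.isClosed_compl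

theorem constructible_le [PrespectralSpace X] :
    constructibleTopology X ≤ (inferInstance : TopologicalSpace X) :=
  fun _ hU => isOpen_constructible_of_isOpen hU

/-- finite intersection property in the constructible topology -/
theorem iInter_nonempty_of_isClosed_constructible [CompactSpace X] [QuasiSober X]
    [PrespectralSpace X] [QuasiSeparatedSpace X] {ι : Type*} {t : ι → Set X}
    (htc : ∀ i, IsClosed[constructibleTopology X] (t i))
    (hst : ∀ s : Finset ι, (⋂ i ∈ s, t i).Nonempty) : (⋂ i, t i).Nonempty :=
  @CompactSpace.iInter_nonempty X (constructibleTopology X) ι compactSpace_constructible t htc hst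

theorem sInter_nonempty_of_isClosed_constructible [CompactSpace X] [QuasiSober X]
    [PrespectralSpace X] [QuasiSeparatedSpace X] {s : Set (Set X)}
    (hsc : ∀ t ∈ s, IsClosed[constructibleTopology X] t)
    (hs : ∀ t ⊆ s, t.Finite → (⋂₀ t).Nonempty) : (⋂₀ s).Nonempty :=
  @CompactSpace.nonempty_sInter X (constructibleTopology X) compactSpace_constructible s hsc hs

/-- a constructibly closed subset of a spectral space is quasi-compact -/
theorem isCompact_of_isClosed_constructible [CompactSpace X] [QuasiSober X]
    [PrespectralSpace X] [QuasiSeparatedSpace X] {E : Set X}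
    (hE : IsClosed[constructibleTopology X] E) : IsCompact E := by
  have h1 : @IsCompact X (constructibleTopology X) E :=
    @IsClosed.isCompact X (constructibleTopology X) E compactSpace_constructible hE
  have hcont : @Continuous X X (constructibleTopology X) _ id :=
    continuous_id_of_le constructible_le
  simpa using @IsCompact.image X X (constructibleTopology X) _ E id h1 hcont

/-- specialization via compact open neighbourhoods -/
theorem specializes_of_forall_compact_open [PrespectralSpace X] {e x : X}
    (h : ∀ U : Set X, IsOpen U → IsCompact U → x ∈ U → e ∈ U) : e ⤳ x := by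
  rw [specializes_iff_forall_open]
  intro V hV hxV
  obtain ⟨U, ⟨hUo, hUc⟩, hxU, hUV⟩ :=
    (PrespectralSpace.isTopologicalBasis (X := X)).exists_subset_of_mem_open hxV hV
  exact hUV (h U hUo hUc hxU)

/-- Stacks 0903 (1): points of the closure of a constructibly closed set are specializations. -/
theorem exists_specializes_of_mem_closure [CompactSpace X] [QuasiSober X]
    [PrespectralSpace X] [QuasiSeparatedSpace X] {E : Set X}
    (hE : IsClosed[constructibleTopology X] E) {x : X} (hx : x ∈ closure E) :
    ∃ e ∈ E, e ⤳ x := by
  let S : Set (Set X) := {s | ∃ U : Set X, IsOpen U ∧ IsCompact U ∧ x ∈ U ∧ s = E ∩ U}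
  have hne : (⋂₀ (insert E S)).Nonempty := by
    apply sInter_nonempty_of_isClosed_constructible
    · rintro t (rfl | ⟨U, hUo, hUc, -, rfl⟩)
      · exact hE
      · exact @IsClosed.inter X E U (constructibleTopology X) hE
          (isClosed_constructible_of_isOpen_isCompact hUo hUc)
    · intro T hT hfin
      -- intersect the finitely many compact opens
      have : ∀ t ∈ T, ∃ U : Set X, IsOpen U ∧ IsCompact U ∧ x ∈ U ∧ E ∩ U ⊆ t := by
        intro t ht
        rcases hT ht with rfl | ⟨U, hUo, hUc, hxU, rfl⟩
        · exact ⟨univ, isOpen_univ, isCompact_univ, mem_univ _, inter_subset_left⟩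
        · exact ⟨U, hUo, hUc, hxU, subset_rfl⟩
      choose! U hUo hUc hxU hUt using this
      have hopen : IsOpen (⋂ t ∈ T, U t) := hfin.isOpen_biInter hUo
      have hmem : x ∈ ⋂ t ∈ T, U t := by simpa using hxU
      obtain ⟨e, heU, heE⟩ := mem_closure_iff.mp hx _ hopen hmem
      refine ⟨e, ?_⟩
      rw [mem_sInter]
      intro t ht
      exact hUt t ht ⟨heE, by simpa using (mem_iInter₂.mp heU t ht)⟩
  obtain ⟨e, he⟩ := hne
  rw [mem_sInter] at he
  refine ⟨e, he E (mem_insert _ _), specializes_of_forall_compact_open ?_⟩
  intro U hUo hUc hxU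
  exact (he (E ∩ U) (mem_insert_of_mem _ ⟨U, hUo, hUc, hxU, rfl⟩)).2

/-- Stacks 0903 (2) -/
theorem isClosed_of_isClosed_constructible_of_stableUnderSpecialization [CompactSpace X]
    [QuasiSober X] [PrespectralSpace X] [QuasiSeparatedSpace X] {E : Set X}
    (hE : IsClosed[constructibleTopology X] E) (hs : StableUnderSpecialization E) :
    IsClosed E := by
  rw [← closure_subset_iff_isClosed]
  intro x hx
  obtain ⟨e, heE, hex⟩ := exists_specializes_of_mem_closure hE hx
  exact hs hex heE

/-- Stacks 0903 (3) -/
theorem isOpen_of_isOpen_constructible_of_stableUnderGeneralization [CompactSpace X]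
    [QuasiSober X] [PrespectralSpace X] [QuasiSeparatedSpace X] {E : Set X}
    (hE : IsOpen[constructibleTopology X] E) (hs : StableUnderGeneralization E) :
    IsOpen E := by
  rw [← isClosed_compl_iff]
  apply isClosed_of_isClosed_constructible_of_stableUnderSpecialization
  · exact (@isClosed_compl_iff X (constructibleTopology X) E).mpr hE
  · exact hs.compl

/-- a directed family has lower bounds for finite subfamilies -/
theorem exists_subset_biInter_of_directed {I : Type*} [Nonempty I] (U : I → Set X)
    (hdir : ∀ i j, ∃ k, U k ⊆ U i ∩ U j) (s : Finset I) : ∃ k, U k ⊆ ⋂ i ∈ s, U i := by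
  classical
  induction s using Finset.induction_on with
  | empty => exact ⟨Classical.arbitrary I, by simp⟩
  | insert a s _ ih =>
    obtain ⟨k, hk⟩ := ih
    obtain ⟨l, hl⟩ := hdir a k
    refine ⟨l, ?_⟩
    intro x hx
    simp only [Finset.mem_insert, mem_iInter]
    rintro i (rfl | hi)
    · exact (hl hx).1
    · exact mem_iInter₂.mp (hk (hl hx).2) i hi

/-- Stacks 0A31-like: an open set containing a directed intersection of quasi-compact opens
contains one of them. -/
theorem exists_subset_of_iInter_subset_of_directed [CompactSpace X] [QuasiSober X]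
    [PrespectralSpace X] [QuasiSeparatedSpace X] {I : Type*} [Nonempty I] (U : I → Set X)
    (hU : ∀ i, IsOpen (U i) ∧ IsCompact (U i)) (hdir : ∀ i j, ∃ k, U k ⊆ U i ∩ U j)
    (V : Set X) (hV : IsOpen V) (h : (⋂ i, U i) ⊆ V) : ∃ i, U i ⊆ V := by
  by_contra hcon
  push Not at hcon
  have hne : (⋂ i, U i ∩ Vᶜ).Nonempty := by
    apply iInter_nonempty_of_isClosed_constructible
    · intro i
      exact @IsClosed.inter X _ _ (constructibleTopology X)
        (isClosed_constructible_of_isOpen_isCompact (hU i).1 (hU i).2)
        (isClosed_constructible_of_isClosed hV.isClosed_compl)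
    · intro s
      obtain ⟨k, hk⟩ := exists_subset_biInter_of_directed U hdir s
      obtain ⟨x, hxU, hxV⟩ := Set.not_subset.mp (hcon k)
      refine ⟨x, ?_⟩
      simp only [mem_iInter]
      intro i hi
      exact ⟨mem_iInter₂.mp (hk hxU) i hi, hxV⟩
  obtain ⟨x, hx⟩ := hne
  rw [mem_iInter] at hx
  exact (hx (Classical.arbitrary I)).2 (h (mem_iInter.mpr fun i => (hx i).1))

/-- Stacks 0904-like: two points have a common generalization or disjoint open neighbourhoods -/
theorem exists_common_generalization_or_disjoint [CompactSpace X] [QuasiSober X]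
    [PrespectralSpace X] [QuasiSeparatedSpace X] (x y : X) :
    (∃ z : X, z ⤳ x ∧ z ⤳ y) ∨
    (∃ U V : Set X, IsOpen U ∧ IsOpen V ∧ x ∈ U ∧ y ∈ V ∧ Disjoint U V) := by
  by_cases hdis : ∃ U V : Set X, IsOpen U ∧ IsOpen V ∧ x ∈ U ∧ y ∈ V ∧ Disjoint U V
  · exact Or.inr hdis
  left
  push Not at hdis
  let S : Set (Set X) := {s | IsOpen s ∧ IsCompact s ∧ (x ∈ s ∨ y ∈ s)}
  have hne : (⋂₀ S).Nonempty := by
    apply sInter_nonempty_of_isClosed_constructible
    · rintro t ⟨hto, htc, -⟩
      exact isClosed_constructible_of_isOpen_isCompact hto htc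
    · intro T hT hfin
      -- split T into the members containing x and the members containing y
      have hUo : IsOpen (⋂ t ∈ {t ∈ T | x ∈ t}, t) :=
        (hfin.subset (sep_subset _ _)).isOpen_biInter fun t ht => (hT ht.1).1
      have hVo : IsOpen (⋂ t ∈ {t ∈ T | y ∈ t}, t) :=
        (hfin.subset (sep_subset _ _)).isOpen_biInter fun t ht => (hT ht.1).1
      have hxU : x ∈ ⋂ t ∈ {t ∈ T | x ∈ t}, t := by
        simp only [mem_iInter]; exact fun t ht => ht.2
      have hyV : y ∈ ⋂ t ∈ {t ∈ T | y ∈ t}, t := by
        simp only [mem_iInter]; exact fun t ht => ht.2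
      have := hdis _ _ hUo hVo hxU hyV
      rw [Set.not_disjoint_iff] at this
      obtain ⟨z, hzU, hzV⟩ := this
      refine ⟨z, ?_⟩
      rw [mem_sInter]
      intro t ht
      rcases (hT ht).2.2 with hx | hy
      · exact mem_iInter₂.mp hzU t ⟨ht, hx⟩
      · exact mem_iInter₂.mp hzV t ⟨ht, hy⟩
  obtain ⟨z, hz⟩ := hne
  rw [mem_sInter] at hz
  exact ⟨z, specializes_of_forall_compact_open fun U hUo hUc hxU => hz U ⟨hUo, hUc, Or.inl hxU⟩,
    specializes_of_forall_compact_open fun U hUo hUc hyU => hz U ⟨hUo, hUc, Or.inr hyU⟩⟩

section maps

variable {Y : Type*} [TopologicalSpace Y]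

/-- spectral maps are continuous for the constructible topologies -/
theorem continuous_constructible_of_isSpectralMap {f : X → Y} (hf : IsSpectralMap f) :
    @Continuous X Y (constructibleTopology X) (constructibleTopology Y) f := by
  apply continuous_generateFrom_iff.mpr
  rintro s (⟨hso, hsc⟩ | ⟨hscl, hsc⟩)
  · exact (hf.isCompact_preimage_of_isOpen hso hsc).isOpen_constructibleTopology_of_isOpen
      (hso.preimage hf.continuous)
  · apply IsCompact.isOpen_constructibleTopology_of_isClosed _ (hscl.preimage hf.continuous)
    rw [← preimage_compl]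
    exact hf.isCompact_preimage_of_isOpen hscl.isOpen_compl hsc

theorem t2Space_constructible [T0Space X] [PrespectralSpace X] :
    @T2Space X (constructibleTopology X) := by
  refine @T2Space.mk X (constructibleTopology X) fun x y hxy => ?_
  have hns : ¬ Inseparable x y := fun h => hxy h.eq
  rw [inseparable_iff_forall_isOpen] at hns
  push Not at hns
  obtain ⟨V, hVo, hV⟩ := hns
  rcases hV with ⟨hxV, hyV⟩ | ⟨hxV, hyV⟩
  · obtain ⟨U, ⟨hUo, hUc⟩, hxU, hUV⟩ :=
      (PrespectralSpace.isTopologicalBasis (X := X)).exists_subset_of_mem_open hxV hVo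
    exact ⟨U, Uᶜ, hUc.isOpen_constructibleTopology_of_isOpen hUo,
      (@isOpen_compl_iff X U (constructibleTopology X)).mpr
        (isClosed_constructible_of_isOpen_isCompact hUo hUc),
      hxU, fun h => hyV (hUV h), disjoint_compl_right⟩
  · obtain ⟨U, ⟨hUo, hUc⟩, hyU, hUV⟩ :=
      (PrespectralSpace.isTopologicalBasis (X := X)).exists_subset_of_mem_open hyV hVo
    exact ⟨Uᶜ, U, (@isOpen_compl_iff X U (constructibleTopology X)).mpr
        (isClosed_constructible_of_isOpen_isCompact hUo hUc),
      hUc.isOpen_constructibleTopology_of_isOpen hUo,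
      fun h => hxV (hUV h), hyU, disjoint_compl_left⟩

/-- a spectral map between spectral spaces is closed for the constructible topologies -/
theorem isClosedMap_constructible_of_isSpectralMap [CompactSpace X] [QuasiSober X]
    [PrespectralSpace X] [QuasiSeparatedSpace X] [T0Space Y] [PrespectralSpace Y]
    {f : X → Y} (hf : IsSpectralMap f) :
    @IsClosedMap X Y (constructibleTopology X) (constructibleTopology Y) f :=
  @Continuous.isClosedMap X Y (constructibleTopology X) (constructibleTopology Y)
    compactSpace_constructible t2Space_constructible f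
    (continuous_constructible_of_isSpectralMap hf)

/-- Stacks 09XU: a bijective spectral map of spectral spaces along which specializations or
generalizations lift is a homeomorphism. -/
theorem isHomeomorph_of_isSpectralMap_bijective [CompactSpace X] [QuasiSober X]
    [PrespectralSpace X] [QuasiSeparatedSpace X] [T0Space Y] [CompactSpace Y] [QuasiSober Y]
    [PrespectralSpace Y] [QuasiSeparatedSpace Y] (f : X → Y) (hf : IsSpectralMap f)
    (hb : Function.Bijective f) (hlift : GeneralizingMap f ∨ SpecializingMap f) :
    IsHomeomorph f := by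
  have hcl := isClosedMap_constructible_of_isSpectralMap hf
  rcases hlift with hg | hs
  · refine ⟨hf.continuous, fun U hU => ?_, hb⟩
    apply isOpen_of_isOpen_constructible_of_stableUnderGeneralization
    · rw [← @isClosed_compl_iff Y (constructibleTopology Y), ← image_compl_eq hb]
      exact hcl _ ((@isClosed_compl_iff X (constructibleTopology X) U).mpr
        (isOpen_constructible_of_isOpen hU))
    · exact hg.stableUnderGeneralization_image hU.stableUnderGeneralization
  · rw [isHomeomorph_iff_continuous_isClosedMap_bijective]
    refine ⟨hf.continuous, fun Z hZ => ?_, hb⟩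
    apply isClosed_of_isClosed_constructible_of_stableUnderSpecialization
    · exact hcl _ (isClosed_constructible_of_isClosed hZ)
    · exact hs.stableUnderSpecialization_image hZ.stableUnderSpecialization

end maps

/-- constructible sets are clopen in the constructible topology (of a quasi-compact space) -/
theorem isClopen_constructible_of_isConstructible [CompactSpace X] {s : Set X}
    (hs : IsConstructible s) : @IsClopen X (constructibleTopology X) s := by
  induction hs using IsConstructible.empty_union_induction with
  | open_retrocompact U hUopen hUcomp =>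
    exact ⟨isClosed_constructible_of_isOpen_isCompact hUopen hUcomp.isCompact,
      hUcomp.isCompact.isOpen_constructibleTopology_of_isOpen hUopen⟩
  | union s hs t ht hs' ht' => exact @IsClopen.union X (constructibleTopology X) s t hs' ht'
  | compl s hs hs' => exact @IsClopen.compl X (constructibleTopology X) s hs'

/-- the set of generalizations of points of a quasi-compact set is the intersection of the
quasi-compact opens containing it -/
theorem generalizations_eq_sInter [PrespectralSpace X] {E : Set X} (hE : IsCompact E) :
    {x | ∃ e ∈ E, x ⤳ e} = ⋂₀ {U : Set X | IsOpen U ∧ IsCompact U ∧ E ⊆ U} := by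
  ext x
  simp only [mem_ofPred_eq, mem_sInter]
  constructor
  · rintro ⟨e, heE, hxe⟩ U ⟨hUo, -, hEU⟩
    exact hxe.mem_open hUo (hEU heE)
  · intro hx
    by_contra hcon
    push Not at hcon
    have : ∀ e ∈ E, ∃ V : Set X, IsOpen V ∧ IsCompact V ∧ e ∈ V ∧ x ∉ V := by
      intro e he
      have := hcon e he
      rw [specializes_iff_forall_open] at this
      push Not at this
      obtain ⟨V, hVo, heV, hxV⟩ := this
      obtain ⟨U, ⟨hUo, hUc⟩, heU, hUV⟩ :=
        (PrespectralSpace.isTopologicalBasis (X := X)).exists_subset_of_mem_open heV hVo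
      exact ⟨U, hUo, hUc, heU, fun h => hxV (hUV h)⟩
    choose! V hVo hVc heV hxV using this
    obtain ⟨t, htE, hcov⟩ := hE.elim_nhds_subcover V (fun e he => (hVo e he).mem_nhds (heV e he))
    have hxU := hx (⋃ e ∈ t, V e) ⟨isOpen_biUnion fun e he => hVo e (htE e he),
      t.finite_toSet.isCompact_biUnion fun e he => hVc e (htE e he), hcov⟩
    simp only [mem_iUnion] at hxU
    obtain ⟨e, het, hxe⟩ := hxU
    exact hxV e (htE e het) hxe

end Groth.Agent.Lib.Lead
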