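import Mathlib
import Groth.Prelude.Def_CInt
import Groth.Agent.Lib.Helper29.QCohQcqs

/-!
# Schematically dense opens and regular elements
-/

universe u
open CategoryTheory AlgebraicGeometry TopologicalSpace Opposite

namespace Groth.Agent.Lib.Lead.SchDense

/-- In a Noetherian ring, an ideal with trivial annihilator contains a nonzerodivisor. -/
theorem exists_mem_nonZeroDivisors {A : Type*} [CommRing A] [IsNoetherianRing A] (I : Ideal A)
    (hI : ∀ a : A, (∀ r ∈ I, r * a = 0) → a = 0) : ∃ r ∈ I, r ∈ nonZeroDivisors A := by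
  classical
  by_contra hcon
  push_neg at hcon
  have hsub : (I : Set A) ⊆ ⋃ p ∈ associatedPrimes A A, (p : Set A) := by
    rw [biUnion_associatedPrimes_eq_compl_nonZeroDivisors]
    intro r hr
    exact hcon r hr
  have hfin : (associatedPrimes A A).Finite := associatedPrimes.finite A A
  have hsub' : (I : Set A) ⊆ ⋃ p ∈ (hfin.toFinset : Set (Ideal A)), ((id p : Ideal A) : Set A) := by
    simpa using hsub
  obtain ⟨p, hp, hIp⟩ := (Ideal.subset_union_prime (f := id) ⊥ ⊥ (fun p hp _ _ => by
    have : p ∈ associatedPrimes A A := by simpa using hp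
    exact this.isPrime)).1 hsub'
  have hp' : IsAssociatedPrime p A := (by simpa using hp : p ∈ associatedPrimes A A)
  obtain ⟨hprime, x, hx⟩ := isAssociatedPrime_iff.1 hp'
  have hx0 : x = 0 := by
    apply hI
    intro r hr
    have : r ∈ Submodule.colon (⊥ : Submodule A A) {x} := by rw [← hx]; exact hIp hr
    rw [Submodule.mem_colon_singleton, Submodule.mem_bot] at this
    exact this
  apply hprime.ne_top
  rw [hx, hx0]
  rw [Ideal.eq_top_iff_one, Submodule.mem_colon_singleton]
  simp

variable {X : Scheme.{u}}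

/-- The ideal of functions on an affine open `W` whose non-vanishing locus lies in `U`. -/
def idealOf (W U : X.Opens) : Ideal Γ(X, W) where
  carrier := {r | X.basicOpen r ≤ U}
  add_mem' := by
    intro a b ha hb
    exact (X.basicOpen_add_le a b).trans (sup_le ha hb)
  zero_mem' := by
    change X.basicOpen (0 : Γ(X, W)) ≤ U
    rw [Scheme.basicOpen_zero]
    exact bot_le
  smul_mem' := by
    intro c a ha
    change X.basicOpen (c * a) ≤ U
    rw [Scheme.basicOpen_mul]
    exact inf_le_right.trans ha

theorem mem_idealOf {W U : X.Opens} (r : Γ(X, W)) : r ∈ idealOf W U ↔ X.basicOpen r ≤ U := Iff.rfl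

/-- If `U` is schematically dense, the ideal `idealOf W U` has trivial annihilator. -/
theorem ann_idealOf_eq_bot {W U : X.Opens} (hW : IsAffineOpen W)
    (hU : CInt.IsSchematicallyDense U) (a : Γ(X, W)) (ha : ∀ r ∈ idealOf W U, r * a = 0) :
    a = 0 := by
  apply hU W
  rw [map_zero]
  -- show the restriction of `a` to `W ⊓ U` vanishes, locally on basic opens
  refine X.sheaf.eq_of_locally_eq' (fun x : (W ⊓ U : X.Opens) =>
      X.basicOpen (hW.exists_basicOpen_le (V := U) ⟨x.1, x.2.2⟩ x.2.1).choose)
    (W ⊓ U) (fun x => homOfLE (le_inf (X.basicOpen_le _)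
      (hW.exists_basicOpen_le (V := U) ⟨x.1, x.2.2⟩ x.2.1).choose_spec.1)) ?_ _ _ ?_
  · intro x hx
    rw [Opens.mem_iSup]
    exact ⟨⟨x, hx⟩, (hW.exists_basicOpen_le (V := U) ⟨x, hx.2⟩ hx.1).choose_spec.2⟩
  · intro x
    set r := (hW.exists_basicOpen_le (V := U) ⟨x.1, x.2.2⟩ x.2.1).choose with hr
    have hrU : X.basicOpen r ≤ U :=
      (hW.exists_basicOpen_le (V := U) ⟨x.1, x.2.2⟩ x.2.1).choose_spec.1
    have h0 : r * a = 0 := ha r hrU
    refine Eq.trans ?_ (map_zero (X.presheaf.map _).hom).symm
    change (X.presheaf.map (homOfLE (inf_le_left : W ⊓ U ≤ W)).op ≫ X.presheaf.map _) a = 0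
    rw [← Functor.map_comp]
    have hunit : IsUnit (X.presheaf.map (homOfLE (X.basicOpen_le r)).op r) :=
      RingedSpace.isUnit_res_basicOpen _ r
    have h1 : X.presheaf.map (homOfLE (X.basicOpen_le r)).op (r * a) = 0 := by
      rw [h0, map_zero]
    rw [map_mul] at h1
    exact (hunit.mul_right_eq_zero).1 h1

/-- A schematically dense open of a locally Noetherian scheme contains the non-vanishing locus of a
nonzerodivisor on every affine open. -/
theorem exists_regular_basicOpen_le [IsLocallyNoetherian X] {W U : X.Opens} (hW : IsAffineOpen W)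
    (hU : CInt.IsSchematicallyDense U) :
    ∃ r : Γ(X, W), r ∈ nonZeroDivisors Γ(X, W) ∧ X.basicOpen r ≤ U := by
  have : IsNoetherianRing Γ(X, W) := IsLocallyNoetherian.component_noetherian ⟨W, hW⟩
  obtain ⟨r, hr, hr'⟩ := exists_mem_nonZeroDivisors (idealOf W U)
    (fun a ha => ann_idealOf_eq_bot hW hU a ha)
  exact ⟨r, hr', hr⟩

end Groth.Agent.Lib.Lead.SchDense
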