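import Groth.Agent.Lib.Lead.FF.B3
import Groth.Agent.Lib.Lead.FF.B12
import Groth.Agent.Lib.Lead.FF.A

/-!
# Formal functions: algebra lemmas B1, B2, B3 (requested by helper12, post #2291)

All in namespace `Groth.Agent.Lib.Lead.FFAlg`:
* `limSub Hn t` : the inverse limit of a tower, as an additive subgroup of the product;
* `nonempty_adicCompletion_addEquiv_lim` (B1), with the explicit map `Phi` (`Phi_of`, `Phi_mk`,
  `Phi_injective`, `Phi_surjective`);
* `bijective_toLim_of_isAdicComplete` (B2);
* `isAdicComplete_of_finite_of_isNoetherianRing` (B3);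
* `graded_stabilize` (A), with the auxiliary `smul_mem_closure`.
-/
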