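import Groth.Agent.Lib.Helper17.FlatBridge
import Groth.Agent.Lib.Helper17.Tensor
import Groth.Agent.Lib.Helper28.DCohRes22
import Groth.Agent.Lib.Helper29.QCohLocFree
import Groth.Agent.Lib.Helper29.TensorIso

/-!
# Tensoring with an invertible module is exact
-/

set_option autoImplicit false

universe u

open CategoryTheory CategoryTheory.Limits AlgebraicGeometry Opposite

namespace Groth.Agent.Lib.Lead.TwistExact

open Groth.Agent.Lib.Helper29.QCoh

variable {X : Scheme.{u}}

/-- Tensoring on the right with `L`, as a functor on `O_X`-modules. -/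
noncomputable abbrev tensorRight (L : X.Modules) : X.Modules ⥤ X.Modules :=
  (ModSite.tensorBi X.sheaf).flip.obj L

lemma tensorRight_obj (L M : X.Modules) : (tensorRight L).obj M = CohB1.tensorMod M L := rfl

instance (L : X.Modules) : (tensorRight L).IsLeftAdjoint :=
  Groth.Agent.Lib.Helper17.Tensor.isLeftAdjoint_flip_obj (O := X.sheaf) L

instance (L : X.Modules) : (tensorRight L).PreservesZeroMorphisms :=
  Functor.preservesZeroMorphisms_of_isLeftAdjoint _

/-- Tensoring with a flat module preserves finite limits. -/
theorem preservesFiniteLimits_tensorRight_of_isFlat {L : X.Modules} (hL : FlatMod.IsFlat L) :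
    PreservesFiniteLimits (tensorRight L) :=
  (Groth.Agent.Lib.Helper17.Tensor.isFlat_iff (O := X.sheaf) L).1
    ((Groth.Agent.Lib.Helper17.FlatBridge.isFlat_iff L).1 hL)

theorem isFlat_of_isInvertible {L : X.Modules} (hL : PicF.IsInvertible L) : FlatMod.IsFlat L :=
  Groth.Agent.Lib.Helper28.DCohRes.isFlat_of_isFinLocFree
    (isFinLocFree_of_isFinLocFreeOfRank ((isInvertible_iff_isFinLocFreeOfRank_one L).mp hL))

/-- Tensoring with a flat module preserves short exact sequences. -/
theorem shortExact_map_tensorRight {L : X.Modules} (hL : FlatMod.IsFlat L)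
    (S : ShortComplex X.Modules) (hS : S.ShortExact) :
    (S.map (tensorRight L)).ShortExact := by
  haveI := preservesFiniteLimits_tensorRight_of_isFlat hL
  haveI : PreservesFiniteColimits (tensorRight L) :=
    Groth.Agent.Lib.Helper17.Tensor.flip_obj_preservesFiniteColimits (O := X.sheaf) L
  exact hS.map_of_exact (tensorRight L)

end Groth.Agent.Lib.Lead.TwistExact
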