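import Mathlib
import Groth.Prelude.Def_PBC
import Groth.Agent.Lib.Helper1.UnderColimit
import Groth.Agent.Lib.Helper4.IndEtGen
import Groth.Agent.Lib.Helper10.IndEtale

/-!
# Composition of ind-étale ring maps (lead)
-/

set_option autoImplicit false
universe u

namespace Groth.Agent.Lib.Lead.IndEtTrans

open CategoryTheory CategoryTheory.Limits TensorProduct
open Groth.Agent.Lib.Helper4.IndEt

/-- converse of `isIndEtale_of_ind`. -/
theorem ind_of_isIndEtale (R B : Type u) [CommRing R] [CommRing B] [Algebra R B]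
    (h : EtPBC.IsIndEtale R B) : ObjectProperty.ind.{u} (Pet R) (mkU R B) := by
  obtain ⟨J, hJ1, hJ2, D, c, hc, hD, ⟨e⟩⟩ := h
  refine ⟨J, hJ1, hJ2, ⟨D, c.ι ≫ (Functor.const J).map e.hom, ?_⟩, hD⟩
  exact IsColimit.ofIsoColimit hc (Cocone.ext e (fun j => rfl))

theorem isIndEtale_of_algEquiv {R B C : Type u} [CommRing R] [CommRing B] [CommRing C]
    [Algebra R B] [Algebra R C] (e : B ≃ₐ[R] C) (h : EtPBC.IsIndEtale R B) :
    EtPBC.IsIndEtale R C := by
  obtain ⟨J, hJ1, hJ2, D, c, hc, hD, ⟨e'⟩⟩ := h
  refine ⟨J, hJ1, hJ2, D, c, hc, hD, ⟨e' ≪≫ ?_⟩⟩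
  exact Under.isoMk (e.toRingEquiv.toCommRingCatIso) (by
      ext a
      exact e.commutes a)

attribute [local instance] IsFiltered.isConnected in
/-- `Under.map f` preserves filtered colimits. -/
noncomputable def isColimitMapCoconeUnderMap {R S : CommRingCat.{u}} (f : R ⟶ S) {J : Type u}
    [SmallCategory J] [IsFiltered J] (D : J ⥤ Under S) (c : Cocone D) (hc : IsColimit c) :
    IsColimit ((Under.map f).mapCocone c) := by
  have h1 : IsColimit ((Under.forget S).mapCocone c) := isColimitOfPreserves _ hc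
  exact isColimitOfReflects (Under.forget R) h1

theorem map_mkU (A B C : Type u) [CommRing A] [CommRing B] [CommRing C] [Algebra A B]
    [Algebra B C] [Algebra A C] [IsScalarTower A B C] :
    (Under.map (CommRingCat.ofHom (algebraMap A B))).obj (mkU B C) = mkU A C := by
  change Under.mk _ = Under.mk _
  congr 1
  ext x
  exact (IsScalarTower.algebraMap_apply A B C x).symm

/-- A filtered colimit (in `Under B`) of `A`-ind-étale algebras is `A`-ind-étale. -/
theorem ind_of_colimit_under {A B : Type u} [CommRing A] [CommRing B] [Algebra A B]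
    {J : Type u} [SmallCategory J] [IsFiltered J] (D : J ⥤ Under (CommRingCat.of B))
    (c : Cocone D) (hc : IsColimit c)
    (h : ∀ j, ObjectProperty.ind.{u} (Pet A)
      ((Under.map (CommRingCat.ofHom (algebraMap A B))).obj (D.obj j))) :
    ObjectProperty.ind.{u} (Pet A)
      ((Under.map (CommRingCat.ofHom (algebraMap A B))).obj c.pt) := by
  rw [← ind_ind_pet]
  exact ⟨J, inferInstance, inferInstance,
    ⟨D ⋙ Under.map _, ((Under.map _).mapCocone c).ι, isColimitMapCoconeUnderMap _ D c hc⟩, h⟩

/-- étale over `A`, then ind-étale: ind-étale over `A`. -/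
theorem ind_of_etale_of_isIndEtale (A C' C : Type u) [CommRing A] [CommRing C'] [CommRing C]
    [Algebra A C'] [Algebra C' C] [Algebra A C] [IsScalarTower A C' C] [Algebra.Etale A C']
    (h : EtPBC.IsIndEtale C' C) : ObjectProperty.ind.{u} (Pet A) (mkU A C) := by
  obtain ⟨J, hJ1, hJ2, D, c, hc, hD, ⟨e⟩⟩ := h
  rw [← map_mkU A C' C]
  refine (ObjectProperty.ind.{u} (Pet A)).prop_of_iso
    ((Under.map (CommRingCat.ofHom (algebraMap A C'))).mapIso e) ?_
  refine ⟨J, hJ1, hJ2,
    ⟨D ⋙ Under.map _, ((Under.map _).mapCocone c).ι, isColimitMapCoconeUnderMap _ D c hc⟩, ?_⟩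
  intro j
  letI a1 : Algebra C' (D.obj j).right := (D.obj j).hom.hom.toAlgebra
  letI a2 : Algebra A (D.obj j).right := ((D.obj j).hom.hom.comp (algebraMap A C')).toAlgebra
  haveI : IsScalarTower A C' (D.obj j).right := IsScalarTower.of_algebraMap_eq (fun x => rfl)
  have h1 : Algebra.Etale C' (D.obj j).right := hD j
  change @Algebra.Etale A (D.obj j).right _ _ a2
  exact Algebra.Etale.comp A C' (D.obj j).right

attribute [local instance] IsFiltered.isConnected in
/-- A finitely generated `ℤ`-subalgebra of a filtered colimit factors through a stage. -/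
theorem exists_factor {A B : Type u} [CommRing A] [CommRing B] [Algebra A B]
    {J : Type u} [SmallCategory J] [IsFiltered J] (pres : ColimitPresentation J (mkU A B))
    (A₀ : Subalgebra ℤ B) (hfg : A₀.FG) :
    ∃ (i : J) (g' : A₀ →+* (pres.diag.obj i).right),
      ∀ x : A₀, (pres.ι.app i).right (g' x) = (x : B) := by
  let R : CommRingCat.{u} := CommRingCat.of (ULift.{u} ℤ)
  let F : J ⥤ CommRingCat.{u} := pres.diag ⋙ Under.forget _
  let α : (Functor.const J).obj R ⟶ F :=
    { app := fun j => CommRingCat.isInitial.to _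
      naturality := fun _ _ _ => CommRingCat.isInitial.hom_ext _ _ }
  let S : CommRingCat.{u} := CommRingCat.of A₀
  let f : R ⟶ S := CommRingCat.isInitial.to _
  have hc : IsColimit ((Under.forget _).mapCocone pres.cocone) :=
    isColimitOfPreserves _ pres.isColimit
  have hf : f.hom.FinitePresentation := by
    have h1 : Algebra.FiniteType ℤ A₀ := (Subalgebra.fg_iff_finiteType A₀).mp hfg
    have h2 : Algebra.FinitePresentation ℤ A₀ :=
      Algebra.FinitePresentation.of_finiteType.mp h1
    have h3 : (algebraMap ℤ A₀).FinitePresentation := RingHom.finitePresentation_algebraMap.mpr h2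
    have h4 : f.hom.comp (ULift.ringEquiv.{0, u} (R := ℤ)).symm.toRingHom = algebraMap ℤ A₀ :=
      RingHom.ext_int _ _
    rw [← h4] at h3
    exact RingHom.FinitePresentation.of_comp_finiteType _ h3
      (RingHom.FiniteType.of_surjective _ (ULift.ringEquiv.{0, u} (R := ℤ)).symm.surjective)
  let g : S ⟶ ((Under.forget _).mapCocone pres.cocone).pt := CommRingCat.ofHom A₀.val.toRingHom
  obtain ⟨i, g', -, h2⟩ := RingHom.EssFiniteType.exists_eq_comp_ι_app_of_isColimit R F α f
    ((Under.forget _).mapCocone pres.cocone) hc hf g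
    (fun i => CommRingCat.isInitial.hom_ext _ _)
  refine ⟨i, g'.hom, fun x => ?_⟩
  have := congrArg (fun m => m.hom x) h2
  exact this.symm

section stage

variable {A B : Type u} [CommRing A] [CommRing B] [Algebra A B]
  {J : Type u} [SmallCategory J] [IsFiltered J] (pres : ColimitPresentation J (mkU A B))

/-- the diagram of stages under a fixed stage `i`, as algebras over that stage -/
noncomputable def stageDiag (i : J) : Under i ⥤ Under (CommRingCat.of (pres.diag.obj i).right) where
  obj u := Under.mk (CommRingCat.ofHom (pres.diag.map u.hom).right.hom)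
  map {u v} f := Under.homMk (CommRingCat.ofHom (pres.diag.map f.right).right.hom) (by
    ext x
    have h : u.hom ≫ f.right = v.hom := Under.w f
    change (pres.diag.map f.right).right ((pres.diag.map u.hom).right x) =
      (pres.diag.map v.hom).right x
    rw [← h, Functor.map_comp]
    rfl)
  map_id u := by
    ext x
    change (pres.diag.map (𝟙 u.right)).right x = x
    rw [pres.diag.map_id]
    rfl
  map_comp {u v w} f g := by
    ext x
    change (pres.diag.map (f.right ≫ g.right)).right x =
      (pres.diag.map g.right).right ((pres.diag.map f.right).right x)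
    rw [Functor.map_comp]
    rfl

/-- the cocone over `stageDiag` with point `B`. -/
noncomputable def stageCocone (i : J) : Cocone (stageDiag pres i) where
  pt := Under.mk (CommRingCat.ofHom (pres.ι.app i).right.hom)
  ι :=
    { app := fun u => Under.homMk (CommRingCat.ofHom (pres.ι.app u.right).right.hom) (by
        ext x
        change (pres.ι.app u.right).right ((pres.diag.map u.hom).right x) =
          (pres.ι.app i).right x
        rw [← pres.w u.hom]
        rfl)
      naturality := fun u v f => by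
        ext x
        change (pres.ι.app v.right).right ((pres.diag.map f.right).right x) =
          (pres.ι.app u.right).right x
        rw [← pres.w f.right]
        rfl }

theorem stageCocone_isColimit (i : J) : Nonempty (IsColimit (stageCocone pres i)) := by
  apply Groth.Agent.Lib.Helper1.isColimit_under_of_surj_inj
  · intro x
    obtain ⟨j, y, hy⟩ := Groth.Agent.Lib.Helper10.IndEtale.under_exists_rep pres.diag pres.cocone
      pres.isColimit x
    refine ⟨Under.mk (IsFiltered.leftToMax i j),
      (pres.diag.map (IsFiltered.rightToMax i j)).right y, ?_⟩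
    change x = (pres.ι.app (IsFiltered.max i j)).right
      ((pres.diag.map (IsFiltered.rightToMax i j)).right y)
    rw [← hy, ← pres.w (IsFiltered.rightToMax i j)]
    rfl
  · intro u v xu xv hx
    have hx' : (pres.ι.app u.right).right xu = (pres.ι.app v.right).right xv := hx
    let k0 : Under i := IsFiltered.max u v
    let l : u ⟶ k0 := IsFiltered.leftToMax u v
    let r : v ⟶ k0 := IsFiltered.rightToMax u v
    have h0 : (pres.cocone.ι.app k0.right).right ((pres.diag.map l.right).right xu) =
        (pres.cocone.ι.app k0.right).right ((pres.diag.map r.right).right xv) := by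
      have e1 : (pres.ι.app k0.right).right ((pres.diag.map l.right).right xu) =
          (pres.ι.app u.right).right xu := by
        rw [← pres.w l.right]; rfl
      have e2 : (pres.ι.app k0.right).right ((pres.diag.map r.right).right xv) =
          (pres.ι.app v.right).right xv := by
        rw [← pres.w r.right]; rfl
      exact e1.trans (hx'.trans e2.symm)
    obtain ⟨k1, w, hw⟩ := Groth.Agent.Lib.Helper10.IndEtale.under_exists_eq pres.diag pres.cocone
      pres.isColimit k0.right _ _ h0
    let k' : Under i := Under.mk (k0.hom ≫ w)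
    let m : k0 ⟶ k' := Under.homMk w rfl
    refine ⟨k', l ≫ m, r ≫ m, ?_⟩
    change (pres.diag.map (l.right ≫ w)).right xu = (pres.diag.map (r.right ≫ w)).right xv
    rw [Functor.map_comp, Functor.map_comp]
    exact hw

theorem stage_isIndEtale (hP : ∀ j, Pet A (pres.diag.obj j)) (i : J) :
    letI : Algebra (pres.diag.obj i).right B := (pres.ι.app i).right.hom.toAlgebra
    EtPBC.IsIndEtale (pres.diag.obj i).right B := by
  letI : Algebra (pres.diag.obj i).right B := (pres.ι.app i).right.hom.toAlgebra
  obtain ⟨hc⟩ := stageCocone_isColimit pres i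
  refine ⟨Under i, inferInstance, inferInstance, stageDiag pres i, stageCocone pres i, hc, ?_,
    ⟨Iso.refl _⟩⟩
  intro u
  letI a0 : Algebra A (pres.diag.obj i).right := (pres.diag.obj i).hom.hom.toAlgebra
  letI a1 : Algebra A (pres.diag.obj u.right).right := (pres.diag.obj u.right).hom.hom.toAlgebra
  letI a2 : Algebra (pres.diag.obj i).right (pres.diag.obj u.right).right :=
    (pres.diag.map u.hom).right.hom.toAlgebra
  haveI : IsScalarTower A (pres.diag.obj i).right (pres.diag.obj u.right).right :=
    IsScalarTower.of_algebraMap_eq (fun x =>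
      (Groth.Agent.Lib.Helper10.IndEtale.under_w_apply (pres.diag.map u.hom) x).symm)
  haveI e0 : Algebra.Etale A (pres.diag.obj i).right := hP i
  haveI e1 : Algebra.Etale A (pres.diag.obj u.right).right := hP u.right
  change @Algebra.Etale (pres.diag.obj i).right (pres.diag.obj u.right).right _ _ a2
  exact Algebra.Etale.of_restrictScalars A _ _

end stage

/-- auxiliary: the étale case after descent to a stage `Bi`. -/
theorem ind_of_isIndEtale_of_etale_aux (A B C Bi : Type u) [CommRing A] [CommRing B] [CommRing C]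
    [CommRing Bi] [Algebra A B] [Algebra B C] [Algebra A C] [IsScalarTower A B C]
    [Algebra A Bi] [Algebra Bi B] [IsScalarTower A Bi B] [Algebra.Etale A Bi]
    (A₀ : Subalgebra ℤ B) (C₀ : Type u) [CommRing C₀] [Algebra A₀ C₀] [Algebra.Etale A₀ C₀]
    [Algebra A₀ Bi] [IsScalarTower A₀ Bi B]
    (eqv : C ≃ₐ[B] B ⊗[A₀] C₀) (hBiB : EtPBC.IsIndEtale Bi B) :
    ObjectProperty.ind.{u} (Pet A) (mkU A C) := by
  -- `C' = Bi ⊗ C₀`
  let C' := Bi ⊗[A₀] C₀
  letI aC' : Algebra A C' := inferInstance
  haveI tC' : IsScalarTower A Bi C' := inferInstance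
  haveI eC' : Algebra.Etale A C' := Algebra.Etale.comp A Bi C'
  -- the ring isomorphism `C' ⊗[Bi] B ≃ C`
  let e2 : B ⊗[Bi] C' ≃ₐ[B] B ⊗[A₀] C₀ := Algebra.TensorProduct.cancelBaseChange A₀ Bi B B C₀
  let e3 : C' ⊗[Bi] B ≃ₐ[Bi] B ⊗[Bi] C' := Algebra.TensorProduct.comm Bi C' B
  let ψ : C' ⊗[Bi] B ≃+* C :=
    (e3.toRingEquiv.trans e2.toRingEquiv).trans eqv.symm.toRingEquiv
  letI aCC : Algebra C' C := (ψ.toRingHom.comp (algebraMap C' (C' ⊗[Bi] B))).toAlgebra
  let ψa : C' ⊗[Bi] B ≃ₐ[C'] C := AlgEquiv.ofRingEquiv (f := ψ) (fun x => rfl)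
  have hinst : (algebraMap Bi B).toAlgebra = ‹Algebra Bi B› :=
    Algebra.algebra_ext _ _ (fun _ => rfl)
  have h1 : EtPBC.IsIndEtale C' (C' ⊗[Bi] B) := by
    have h0 := Groth.Agent.Lib.Helper10.IndEtale.isIndEtale_baseChange_core Bi C' B
      (algebraMap Bi B)
    rw [hinst] at h0
    exact h0 hBiB
  have h2 : EtPBC.IsIndEtale C' C := isIndEtale_of_algEquiv ψa h1
  haveI tt : IsScalarTower A C' C := by
    refine IsScalarTower.of_algebraMap_eq (fun a => ?_)
    change algebraMap A C a = ψ ((algebraMap A Bi a ⊗ₜ[A₀] (1 : C₀)) ⊗ₜ[Bi] (1 : B))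
    change _ = eqv.symm (e2 (e3 ((algebraMap A Bi a ⊗ₜ[A₀] (1 : C₀)) ⊗ₜ[Bi] (1 : B))))
    rw [show e3 ((algebraMap A Bi a ⊗ₜ[A₀] (1 : C₀)) ⊗ₜ[Bi] (1 : B)) =
      (1 : B) ⊗ₜ[Bi] (algebraMap A Bi a ⊗ₜ[A₀] (1 : C₀)) from
        Algebra.TensorProduct.comm_tmul _ _ _]
    rw [show e2 ((1 : B) ⊗ₜ[Bi] (algebraMap A Bi a ⊗ₜ[A₀] (1 : C₀))) =
      (algebraMap A Bi a • (1 : B)) ⊗ₜ[A₀] (1 : C₀) from
        Algebra.TensorProduct.cancelBaseChange_tmul _ _ _ _ _ _ _ _]
    rw [Algebra.smul_def, mul_one, ← IsScalarTower.algebraMap_apply A Bi B]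
    rw [show (algebraMap A B a) ⊗ₜ[A₀] (1 : C₀) = algebraMap B (B ⊗[A₀] C₀) (algebraMap A B a)
      from rfl, eqv.symm.commutes, ← IsScalarTower.algebraMap_apply A B C]
  exact ind_of_etale_of_isIndEtale A C' C h2

/-- ind-étale then étale: ind-étale. -/
theorem ind_of_isIndEtale_of_etale (A B C : Type u) [CommRing A] [CommRing B] [CommRing C]
    [Algebra A B] [Algebra B C] [Algebra A C] [IsScalarTower A B C]
    (hAB : EtPBC.IsIndEtale A B) [Algebra.Etale B C] :
    ObjectProperty.ind.{u} (Pet A) (mkU A C) := by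
  obtain ⟨J, hJ1, hJ2, pres, hP⟩ := ind_of_isIndEtale A B hAB
  obtain ⟨A₀, C₀, _, _, hfg, hEt, ⟨eqv⟩⟩ := Algebra.Etale.exists_subalgebra_fg ℤ B C
  obtain ⟨i, g', hg'⟩ := exists_factor pres A₀ hfg
  -- the stage
  letI a0 : Algebra A (pres.diag.obj i).right := (pres.diag.obj i).hom.hom.toAlgebra
  letI a1 : Algebra (pres.diag.obj i).right B := (pres.ι.app i).right.hom.toAlgebra
  letI a2 : Algebra A₀ (pres.diag.obj i).right := g'.toAlgebra
  haveI t1 : IsScalarTower A₀ (pres.diag.obj i).right B :=
    IsScalarTower.of_algebraMap_eq (fun x => (hg' x).symm)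
  haveI t2 : IsScalarTower A (pres.diag.obj i).right B :=
    IsScalarTower.of_algebraMap_eq (fun x =>
      (Groth.Agent.Lib.Helper10.IndEtale.under_w_apply (pres.ι.app i) x).symm)
  haveI e0 : Algebra.Etale A (pres.diag.obj i).right := hP i
  have hBiB : EtPBC.IsIndEtale (pres.diag.obj i).right B := stage_isIndEtale pres hP i
  exact ind_of_isIndEtale_of_etale_aux A B C (pres.diag.obj i).right A₀ C₀ eqv hBiB

end Groth.Agent.Lib.Lead.IndEtTrans
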