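import Mathlib

/-!
# Elementwise criteria for `Mono`/`Epi` of homology maps of short complexes of modules
-/

set_option autoImplicit false
universe u v
open CategoryTheory CategoryTheory.Limits

namespace Groth.Agent.Lib.Lead.ModHomology

variable {R : Type u} [Ring R] {S₁ S₂ : ShortComplex (ModuleCat.{v} R)} (φ : S₁ ⟶ S₂)

theorem comm₂₃_apply (x : S₁.X₂) : S₂.g.hom (φ.τ₂.hom x) = φ.τ₃.hom (S₁.g.hom x) := by
  have := congrArg (fun f => f.hom x) φ.comm₂₃
  simpa using this

theorem comm₁₂_apply (x : S₁.X₁) : S₂.f.hom (φ.τ₁.hom x) = φ.τ₂.hom (S₁.f.hom x) := by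
  have := congrArg (fun f => f.hom x) φ.comm₁₂
  simpa using this

/-- the map on cycles -/
noncomputable def kmap : LinearMap.ker S₁.g.hom →ₗ[R] LinearMap.ker S₂.g.hom :=
  (φ.τ₂.hom.comp (LinearMap.ker S₁.g.hom).subtype).codRestrict _ (fun x => by
    rw [LinearMap.mem_ker, LinearMap.comp_apply, Submodule.subtype_apply, comm₂₃_apply,
      LinearMap.mem_ker.mp x.2, map_zero])

@[simp] theorem kmap_coe (x : LinearMap.ker S₁.g.hom) : (kmap φ x : S₂.X₂) = φ.τ₂.hom x := rfl

theorem kmap_toCycles (z : S₁.X₁) :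
    kmap φ (S₁.moduleCatToCycles z) = S₂.moduleCatToCycles (φ.τ₁.hom z) := by
  apply Subtype.ext
  rw [kmap_coe]
  change φ.τ₂.hom (S₁.f.hom z) = S₂.f.hom (φ.τ₁.hom z)
  rw [comm₁₂_apply]

/-- the map on homology -/
noncomputable def hmap :
    (LinearMap.ker S₁.g.hom ⧸ LinearMap.range S₁.moduleCatToCycles) →ₗ[R]
      (LinearMap.ker S₂.g.hom ⧸ LinearMap.range S₂.moduleCatToCycles) :=
  Submodule.mapQ _ _ (kmap φ) (by
    rintro _ ⟨z, rfl⟩
    exact ⟨φ.τ₁.hom z, (kmap_toCycles φ z).symm⟩)

@[simp] theorem hmap_mk (x : LinearMap.ker S₁.g.hom) :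
    hmap φ (Submodule.Quotient.mk x) = Submodule.Quotient.mk (kmap φ x) := rfl

set_option backward.isDefEq.respectTransparency false in
/-- explicit left homology map data -/
noncomputable def data : ShortComplex.LeftHomologyMapData φ S₁.moduleCatLeftHomologyData
    S₂.moduleCatLeftHomologyData where
  φK := ModuleCat.ofHom (kmap φ)
  φH := ModuleCat.ofHom (hmap φ)
  commi := by
    ext x
    rfl
  commf' := by
    ext z
    exact kmap_toCycles φ z
  commπ := by
    ext x
    rfl

set_option backward.isDefEq.respectTransparency false in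
theorem mono_homologyMap_iff_injective :
    Mono (ShortComplex.homologyMap φ) ↔ Function.Injective (hmap φ) := by
  rw [(data φ).homologyMap_eq]
  have hinj : Function.Injective (hmap φ) ↔ Mono (ModuleCat.ofHom (hmap φ)) :=
    (ModuleCat.mono_iff_injective (ModuleCat.ofHom (hmap φ))).symm
  rw [hinj]
  change Mono (_ ≫ ModuleCat.ofHom (hmap φ) ≫ _) ↔ _
  constructor
  · intro h
    have h1 : Mono (ModuleCat.ofHom (hmap φ) ≫ S₂.moduleCatLeftHomologyData.homologyIso.inv) := by
      have e : ModuleCat.ofHom (hmap φ) ≫ S₂.moduleCatLeftHomologyData.homologyIso.inv =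
          S₁.moduleCatLeftHomologyData.homologyIso.inv ≫
            (S₁.moduleCatLeftHomologyData.homologyIso.hom ≫ ModuleCat.ofHom (hmap φ) ≫
              S₂.moduleCatLeftHomologyData.homologyIso.inv) := by simp
      rw [e]
      infer_instance
    exact mono_of_mono _ S₂.moduleCatLeftHomologyData.homologyIso.inv
  · intro h
    infer_instance

set_option backward.isDefEq.respectTransparency false in
theorem epi_homologyMap_iff_surjective :
    Epi (ShortComplex.homologyMap φ) ↔ Function.Surjective (hmap φ) := by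
  rw [(data φ).homologyMap_eq]
  have hsurj : Function.Surjective (hmap φ) ↔ Epi (ModuleCat.ofHom (hmap φ)) :=
    (ModuleCat.epi_iff_surjective (ModuleCat.ofHom (hmap φ))).symm
  rw [hsurj]
  change Epi (_ ≫ ModuleCat.ofHom (hmap φ) ≫ _) ↔ _
  constructor
  · intro h
    have h1 : Epi (S₁.moduleCatLeftHomologyData.homologyIso.hom ≫ ModuleCat.ofHom (hmap φ)) := by
      have e : S₁.moduleCatLeftHomologyData.homologyIso.hom ≫ ModuleCat.ofHom (hmap φ) =
          (S₁.moduleCatLeftHomologyData.homologyIso.hom ≫ ModuleCat.ofHom (hmap φ) ≫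
            S₂.moduleCatLeftHomologyData.homologyIso.inv) ≫
              S₂.moduleCatLeftHomologyData.homologyIso.hom := by simp
      rw [e]
      infer_instance
    exact epi_of_epi S₁.moduleCatLeftHomologyData.homologyIso.hom _
  · intro h
    infer_instance

theorem mk_eq_zero_iff (S : ShortComplex (ModuleCat.{v} R)) (x : LinearMap.ker S.g.hom) :
    (Submodule.Quotient.mk x : LinearMap.ker S.g.hom ⧸ LinearMap.range S.moduleCatToCycles) = 0 ↔
      ∃ z : S.X₁, S.f.hom z = (x : S.X₂) := by
  rw [Submodule.Quotient.mk_eq_zero]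
  constructor
  · rintro ⟨z, hz⟩
    exact ⟨z, congrArg Subtype.val hz⟩
  · rintro ⟨z, hz⟩
    exact ⟨z, Subtype.ext hz⟩

/-- `homologyMap φ` is a monomorphism iff every cycle of `S₁` whose image is a boundary is a
boundary. -/
theorem mono_homologyMap_iff :
    Mono (ShortComplex.homologyMap φ) ↔
      ∀ x : S₁.X₂, S₁.g.hom x = 0 → (∃ y : S₂.X₁, S₂.f.hom y = φ.τ₂.hom x) →
        ∃ z : S₁.X₁, S₁.f.hom z = x := by
  rw [mono_homologyMap_iff_injective, injective_iff_map_eq_zero]
  constructor
  · intro h x hx hy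
    have := h (Submodule.Quotient.mk ⟨x, hx⟩)
    rw [hmap_mk, mk_eq_zero_iff, mk_eq_zero_iff] at this
    exact this hy
  · intro h w hw
    obtain ⟨x, rfl⟩ := Submodule.Quotient.mk_surjective _ w
    rw [hmap_mk, mk_eq_zero_iff] at hw
    rw [mk_eq_zero_iff]
    exact h x x.2 hw

/-- `homologyMap φ` is an epimorphism iff every cycle of `S₂` is homologous to the image of a
cycle of `S₁`. -/
theorem epi_homologyMap_iff :
    Epi (ShortComplex.homologyMap φ) ↔
      ∀ y : S₂.X₂, S₂.g.hom y = 0 →
        ∃ x : S₁.X₂, S₁.g.hom x = 0 ∧ ∃ z : S₂.X₁, S₂.f.hom z = y - φ.τ₂.hom x := by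
  rw [epi_homologyMap_iff_surjective]
  constructor
  · intro h y hy
    obtain ⟨w, hw⟩ := h (Submodule.Quotient.mk ⟨y, hy⟩)
    obtain ⟨x, rfl⟩ := Submodule.Quotient.mk_surjective _ w
    rw [hmap_mk, eq_comm, ← sub_eq_zero, ← Submodule.Quotient.mk_sub, mk_eq_zero_iff] at hw
    obtain ⟨z, hz⟩ := hw
    exact ⟨x, x.2, z, by rw [hz]; rfl⟩
  · intro h w
    obtain ⟨y, rfl⟩ := Submodule.Quotient.mk_surjective _ w
    obtain ⟨x, hx, z, hz⟩ := h y y.2
    refine ⟨Submodule.Quotient.mk ⟨x, hx⟩, ?_⟩
    rw [hmap_mk, eq_comm, ← sub_eq_zero, ← Submodule.Quotient.mk_sub, mk_eq_zero_iff]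
    exact ⟨z, by rw [hz]; rfl⟩

section HC

variable {ι : Type*} {c : ComplexShape ι} {C D : HomologicalComplex (ModuleCat.{v} R) c}
  (f : C ⟶ D) (i j k : ι) (hi : c.prev j = i) (hk : c.next j = k)

/-- the natural iso between the two homology functors -/
noncomputable def homIso (hi : c.prev j = i) (hk : c.next j = k) :
    HomologicalComplex.shortComplexFunctor (ModuleCat.{v} R) c j ⋙ ShortComplex.homologyFunctor _ ≅
      HomologicalComplex.shortComplexFunctor' (ModuleCat.{v} R) c i j k ⋙
        ShortComplex.homologyFunctor _ :=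
  Functor.isoWhiskerRight (HomologicalComplex.natIsoSc' _ c i j k hi hk) _

include hi hk in
theorem hc_mono_iff_mono' :
    Mono (HomologicalComplex.homologyMap f j) ↔
      Mono (ShortComplex.homologyMap ((HomologicalComplex.shortComplexFunctor' _ c i j k).map f)) := by
  have e : Arrow.mk ((HomologicalComplex.shortComplexFunctor (ModuleCat.{v} R) c j ⋙
        ShortComplex.homologyFunctor _).map f) ≅
      Arrow.mk ((HomologicalComplex.shortComplexFunctor' (ModuleCat.{v} R) c i j k ⋙
        ShortComplex.homologyFunctor _).map f) :=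
    Arrow.isoMk ((homIso i j k hi hk).app C) ((homIso i j k hi hk).app D)
      ((homIso i j k hi hk).hom.naturality f).symm
  exact (MorphismProperty.monomorphisms _).arrow_mk_iso_iff e

include hi hk in
theorem hc_epi_iff_epi' :
    Epi (HomologicalComplex.homologyMap f j) ↔
      Epi (ShortComplex.homologyMap ((HomologicalComplex.shortComplexFunctor' _ c i j k).map f)) := by
  have e : Arrow.mk ((HomologicalComplex.shortComplexFunctor (ModuleCat.{v} R) c j ⋙
        ShortComplex.homologyFunctor _).map f) ≅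
      Arrow.mk ((HomologicalComplex.shortComplexFunctor' (ModuleCat.{v} R) c i j k ⋙
        ShortComplex.homologyFunctor _).map f) :=
    Arrow.isoMk ((homIso i j k hi hk).app C) ((homIso i j k hi hk).app D)
      ((homIso i j k hi hk).hom.naturality f).symm
  exact (MorphismProperty.epimorphisms _).arrow_mk_iso_iff e

include hi hk in
/-- `H_j(f)` is mono iff every `j`-cycle of `C` whose image is a boundary is a boundary. -/
theorem hc_mono_iff :
    Mono (HomologicalComplex.homologyMap f j) ↔
      ∀ x : C.X j, (C.d j k).hom x = 0 → (∃ y : D.X i, (D.d i j).hom y = (f.f j).hom x) →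
        ∃ z : C.X i, (C.d i j).hom z = x := by
  rw [hc_mono_iff_mono' f i j k hi hk, mono_homologyMap_iff]
  rfl

include hi hk in
/-- `H_j(f)` is epi iff every `j`-cycle of `D` is homologous to the image of a cycle of `C`. -/
theorem hc_epi_iff :
    Epi (HomologicalComplex.homologyMap f j) ↔
      ∀ y : D.X j, (D.d j k).hom y = 0 →
        ∃ x : C.X j, (C.d j k).hom x = 0 ∧ ∃ z : D.X i, (D.d i j).hom z = y - (f.f j).hom x := by
  rw [hc_epi_iff_epi' f i j k hi hk, epi_homologyMap_iff]
  rfl

end HC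

end Groth.Agent.Lib.Lead.ModHomology
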