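import Groth.Agent.Lib.Lead.ProConsTop
import Mathlib

/-!
# Pro-constructible and ind-constructible subsets of schemes
-/

set_option autoImplicit false

universe u

namespace Groth.Agent.Lib.Lead

open Topology Set ProCons AlgebraicGeometry CategoryTheory

theorem spectralSpace_of_isAffineOpen {X : Scheme.{u}} {U : X.Opens} (hU : IsAffineOpen U) :
    SpectralSpace ↥(U : Set X) := by
  have h1 : CompactSpace ↥(U : Set X) := isCompact_iff_compactSpace.mp hU.isCompact
  have h2 : QuasiSeparatedSpace ↥(U : Set X) :=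
    (isQuasiSeparated_iff_quasiSeparatedSpace _ U.isOpen).mp hU.isQuasiSeparated
  have hemb : IsOpenEmbedding (Subtype.val : ↥(U : Set X) → X) :=
    U.isOpen.isOpenEmbedding_subtypeVal
  exact { toT0Space := inferInstance
          toCompactSpace := h1
          toQuasiSober := hemb.quasiSober
          toQuasiSeparatedSpace := h2
          toPrespectralSpace := hemb.prespectralSpace }

theorem locallySpectral_scheme (X : Scheme.{u}) : LocallySpectral X := by
  intro x
  obtain ⟨_, ⟨U, hU, rfl⟩, hxU, -⟩ := (X.isBasis_affineOpens).exists_subset_of_mem_open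
    (mem_univ x) isOpen_univ
  exact ⟨U, U.isOpen, hxU, spectralSpace_of_isAffineOpen hU⟩

/-- For affine opens `V ⊆ f⁻¹ U`, the restriction `V → U` is closed for the constructible
topologies. -/
theorem isClosedMap_constructible_resLE {X' X : Scheme.{u}} (f : X' ⟶ X) {U : X.Opens}
    (hU : IsAffineOpen U) {V : X'.Opens} (hV : IsAffineOpen V) (e : V ≤ f ⁻¹ᵁ U) :
    @IsClosedMap ↥V.toScheme ↥U.toScheme (constructibleTopology _) (constructibleTopology _)
      (f.resLE U V e) := by
  have : IsAffine V.toScheme := hV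
  have : IsAffine U.toScheme := hU
  exact isClosedMap_constructible_of_isSpectralMap (f.resLE U V e).isSpectralMap

/-- The image of a pro-constructible subset under a quasi-compact morphism is
pro-constructible. -/
theorem isProConstructible_image_of_quasiCompact {X' X : Scheme.{u}} (f : X' ⟶ X)
    [QuasiCompact f] {E' : Set X'} (hE' : IsProConstructible E') :
    IsProConstructible (f '' E') := by
  apply isProConstructible_of_forall_exists_spectral
  intro x
  obtain ⟨_, ⟨U, hU, rfl⟩, hxU, -⟩ := (X.isBasis_affineOpens).exists_subset_of_mem_open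
    (mem_univ x) isOpen_univ
  refine ⟨U, U.isOpen, hxU, spectralSpace_of_isAffineOpen hU, ?_⟩
  have hcompact : IsCompact (f ⁻¹' (U : Set X)) :=
    QuasiCompact.isCompact_preimage _ U.isOpen hU.isCompact
  have hbasis : ∀ y : X', f y ∈ U → ∃ V : X'.Opens, IsAffineOpen V ∧ y ∈ V ∧ V ≤ f ⁻¹ᵁ U := by
    intro y hy
    obtain ⟨_, ⟨V, hV, rfl⟩, hyV, hVU⟩ := (X'.isBasis_affineOpens).exists_subset_of_mem_open
      (show y ∈ ((f ⁻¹ᵁ U : X'.Opens) : Set X') from hy) (f ⁻¹ᵁ U).isOpen
    exact ⟨V, hV, hyV, hVU⟩
  choose! V hVaff hyV hVU using hbasis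
  obtain ⟨t, htU, hcov⟩ := hcompact.elim_nhds_subcover (fun y => (V y : Set X'))
    (fun y hy => (V y).isOpen.mem_nhds (hyV y hy))
  -- the pieces
  let A : X' → Set ↥(U : Set X) := fun y => {u | ∃ e' ∈ E', e' ∈ V y ∧ f e' = u.1}
  have hA : ∀ y ∈ t, IsClosed[constructibleTopology ↥(U : Set X)] (A y) := by
    intro y hy
    have hyU : f y ∈ U := htU y hy
    have hsp : SpectralSpace ↥((V y : X'.Opens) : Set X') :=
      spectralSpace_of_isAffineOpen (hVaff y hyU)
    have h1 := isClosed_constructible_of_isProConstructible hE' (V y) (V y).isOpen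
    have h2 := isClosedMap_constructible_resLE f hU (hVaff y hyU) (hVU y hyU) _ h1
    have hval : ∀ v : ↥((V y : X'.Opens) : Set X'),
        ((f.resLE U (V y) (hVU y hyU)) v : ↥(U : Set X)).1 = f v.1 := by
      intro v
      have := congrArg (fun g => g.base v) (Scheme.Hom.resLE_comp_ι f (hVU y hyU))
      exact this
    have hAy : A y = (show Set ↥(U : Set X) from
        (f.resLE U (V y) (hVU y hyU)) '' (Subtype.val ⁻¹' E')) := by
      ext u
      simp only [A, mem_ofPred_eq, mem_image, mem_preimage]
      constructor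
      · rintro ⟨e', he'E, he'V, he'u⟩
        refine ⟨⟨e', he'V⟩, he'E, ?_⟩
        apply Subtype.ext
        rw [← he'u]
        exact hval ⟨e', he'V⟩
      · rintro ⟨v, hvE, rfl⟩
        exact ⟨v.1, hvE, v.2, (hval v).symm⟩
    rw [hAy]
    exact h2
  have hEq : (Subtype.val ⁻¹' (f '' E') : Set ↥(U : Set X)) = ⋃ y ∈ t, A y := by
    ext u
    simp only [mem_preimage, mem_image, mem_iUnion, exists_prop, A, mem_ofPred_eq]
    constructor
    · rintro ⟨e', he', hu⟩
      have : e' ∈ f ⁻¹' (U : Set X) := by
        rw [mem_preimage, hu]; exact u.2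
      have := hcov this
      simp only [mem_iUnion, exists_prop] at this
      obtain ⟨y, hyt, hy⟩ := this
      exact ⟨y, hyt, e', he', hy, hu⟩
    · rintro ⟨y, -, e', he', -, hu⟩
      exact ⟨e', he', hu⟩
  rw [hEq]
  exact @Set.Finite.isClosed_biUnion _ _ (constructibleTopology ↥(U : Set X)) _ _
    t.finite_toSet hA

theorem resLE_val {X' X : Scheme.{u}} (f : X' ⟶ X) {U : X.Opens} {V : X'.Opens}
    (e : V ≤ f ⁻¹ᵁ U) (v : ↥((V : X'.Opens) : Set X')) :
    ((f.resLE U V e) v : ↥(U : Set X)).1 = f v.1 := by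
  have := congrArg (fun g => g.base v) (Scheme.Hom.resLE_comp_ι f e)
  exact this

/-- For affine opens `V ⊆ f⁻¹ U`, the restriction `V → U` is continuous for the constructible
topologies. -/
theorem continuous_constructible_resLE {X' X : Scheme.{u}} (f : X' ⟶ X) {U : X.Opens}
    (hU : IsAffineOpen U) {V : X'.Opens} (hV : IsAffineOpen V) (e : V ≤ f ⁻¹ᵁ U) :
    @Continuous ↥V.toScheme ↥U.toScheme (constructibleTopology _) (constructibleTopology _)
      (f.resLE U V e) := by
  have : IsAffine V.toScheme := hV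
  have : IsAffine U.toScheme := hU
  exact continuous_constructible_of_isSpectralMap (f.resLE U V e).isSpectralMap

/-- The preimage of a pro-constructible subset under a morphism of schemes is
pro-constructible. -/
theorem isProConstructible_preimage {X' X : Scheme.{u}} (f : X' ⟶ X) {E : Set X}
    (hE : IsProConstructible E) : IsProConstructible (f ⁻¹' E) := by
  apply isProConstructible_of_forall_exists_spectral
  intro x'
  obtain ⟨_, ⟨U, hU, rfl⟩, hxU, -⟩ := (X.isBasis_affineOpens).exists_subset_of_mem_open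
    (mem_univ (f x')) isOpen_univ
  obtain ⟨_, ⟨V, hV, rfl⟩, hxV, hVU⟩ := (X'.isBasis_affineOpens).exists_subset_of_mem_open
    (show x' ∈ ((f ⁻¹ᵁ U : X'.Opens) : Set X') from hxU) (f ⁻¹ᵁ U).isOpen
  refine ⟨V, V.isOpen, hxV, spectralSpace_of_isAffineOpen hV, ?_⟩
  have hsp : SpectralSpace ↥(U : Set X) := spectralSpace_of_isAffineOpen hU
  have h1 := isClosed_constructible_of_isProConstructible hE U U.isOpen
  have h2 := @IsClosed.preimage _ _ (constructibleTopology _) (constructibleTopology _) _
    (continuous_constructible_resLE f hU hV hVU) _ h1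
  have hEq : (Subtype.val ⁻¹' (f ⁻¹' E) : Set ↥((V : X'.Opens) : Set X')) =
      (f.resLE U V hVU) ⁻¹' (Subtype.val ⁻¹' E : Set ↥(U : Set X)) := by
    ext v
    change f v.1 ∈ E ↔ ((f.resLE U V hVU) v : ↥(U : Set X)).1 ∈ E
    rw [resLE_val f hVU v]
  rw [hEq]
  exact h2

/-- The preimage of an ind-constructible subset under a morphism of schemes is
ind-constructible. -/
theorem isIndConstructible_preimage {X' X : Scheme.{u}} (f : X' ⟶ X) {E : Set X}
    (hE : IsIndConstructible E) : IsIndConstructible (f ⁻¹' E) := by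
  have := isIndConstructible_compl (isProConstructible_preimage f (isProConstructible_compl hE))
  rwa [preimage_compl, compl_compl] at this

/-- The image of an ind-constructible subset under a morphism locally of finite presentation is
ind-constructible. -/
theorem isIndConstructible_image_of_locallyOfFinitePresentation {X' X : Scheme.{u}} (f : X' ⟶ X)
    [LocallyOfFinitePresentation f] {E' : Set X'} (hE' : IsIndConstructible E') :
    IsIndConstructible (f '' E') := by
  apply isIndConstructible_of_forall_exists_spectral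
  intro x
  obtain ⟨_, ⟨U, hU, rfl⟩, hxU, -⟩ := (X.isBasis_affineOpens).exists_subset_of_mem_open
    (mem_univ x) isOpen_univ
  have hsp : SpectralSpace ↥(U : Set X) := spectralSpace_of_isAffineOpen hU
  refine ⟨U, U.isOpen, hxU, hsp, ?_⟩
  rw [@isOpen_iff_forall_mem_open ↥(U : Set X) (constructibleTopology _) _]
  rintro u ⟨e', he'E, he'u⟩
  -- an affine open neighbourhood of e' inside f⁻¹ U
  obtain ⟨_, ⟨V, hV, rfl⟩, heV, hVU⟩ := (X'.isBasis_affineOpens).exists_subset_of_mem_open
    (show e' ∈ ((f ⁻¹ᵁ U : X'.Opens) : Set X') by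
      change f e' ∈ (U : Set X); rw [he'u]; exact u.2) (f ⁻¹ᵁ U).isOpen
  have hspV : SpectralSpace ↥((V : X'.Opens) : Set X') := spectralSpace_of_isAffineOpen hV
  have h1 := isOpen_constructible_of_isIndConstructible hE' V V.isOpen
  obtain ⟨C, hCc, heC, hCE⟩ := exists_isConstructible_subset_of_isOpen_constructible h1
    (x := (⟨e', heV⟩ : ↥((V : X'.Opens) : Set X'))) he'E
  have : IsAffine (Scheme.Opens.toScheme V) := hV
  have : IsAffine (Scheme.Opens.toScheme U) := hU
  have hC' : IsConstructible ((f.resLE U V hVU) '' C) :=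
    (f.resLE U V hVU).isConstructible_image hCc
  refine ⟨(f.resLE U V hVU) '' C, ?_, (isClopen_constructible_of_isConstructible hC').2, ?_⟩
  · rintro _ ⟨v, hvC, rfl⟩
    exact ⟨v.1, hCE hvC, (resLE_val f hVU v).symm⟩
  · refine ⟨⟨e', heV⟩, heC, ?_⟩
    apply Subtype.ext
    rw [resLE_val f hVU]
    exact he'u

/-- On a locally Noetherian scheme, a subset `E` such that `E ∩ closure {x}` is a neighbourhood
of `x` in `closure {x}` for all `x ∈ E` is ind-constructible. -/
theorem isIndConstructible_of_forall_mem_nhds_closure (X : Scheme.{u}) [IsLocallyNoetherian X]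
    {E : Set X}
    (h : ∀ x ∈ E, (Subtype.val ⁻¹' E : Set ↥(closure ({x} : Set X))) ∈
      nhds (⟨x, subset_closure rfl⟩ : ↥(closure ({x} : Set X)))) :
    IsIndConstructible E := by
  apply isIndConstructible_of_forall_exists_spectral
  intro x
  obtain ⟨_, ⟨U, hU, rfl⟩, hxU, -⟩ := (X.isBasis_affineOpens).exists_subset_of_mem_open
    (mem_univ x) isOpen_univ
  have hsp : SpectralSpace ↥(U : Set X) := spectralSpace_of_isAffineOpen hU
  refine ⟨U, U.isOpen, hxU, hsp, ?_⟩
  have hN : IsNoetherianRing Γ(X, U) := IsLocallyNoetherian.component_noetherian ⟨U, hU⟩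
  have hNS : TopologicalSpace.NoetherianSpace ↥(U : Set X) := noetherianSpace_of_isAffineOpen U hU
  rw [@isOpen_iff_forall_mem_open ↥(U : Set X) (constructibleTopology _) _]
  intro u huE
  have hu := h u.1 huE
  rw [mem_nhds_subtype] at hu
  obtain ⟨N, hN, hNE⟩ := hu
  obtain ⟨W, hWN, hWo, huW⟩ := mem_nhds_iff.mp hN
  have hopen : IsOpen (Subtype.val ⁻¹' W : Set ↥(U : Set X)) :=
    hWo.preimage continuous_subtype_val
  have hclosed : IsClosed (Subtype.val ⁻¹' closure ({u.1} : Set X) : Set ↥(U : Set X)) :=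
    isClosed_closure.preimage continuous_subtype_val
  have hretro : ∀ {s : Set ↥(U : Set X)}, IsOpen s → IsConstructible s := fun hs =>
    IsRetrocompact.isConstructible hs fun _ _ _ => TopologicalSpace.NoetherianSpace.isCompact _
  have hC : IsConstructible ((Subtype.val ⁻¹' W : Set ↥(U : Set X)) ∩
      Subtype.val ⁻¹' closure ({u.1} : Set X)) :=
    (hretro hopen).inter (isConstructible_compl.mp (hretro hclosed.isOpen_compl))
  refine ⟨_, ?_, (isClopen_constructible_of_isConstructible hC).2, ⟨huW, subset_closure rfl⟩⟩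
  rintro v ⟨hvW, hvcl⟩
  exact hNE (show (⟨v.1, hvcl⟩ : ↥(closure ({u.1} : Set X))) ∈ Subtype.val ⁻¹' N from hWN hvW)

end Groth.Agent.Lib.Lead
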