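import Mathlib

/-!
# Geometric properties and extension of the base field

* `exists_common_field_extension`: two field extensions of `k` embed in a common field.
* `geometrically_of_geometrically_bc`: if an object property `P` of schemes descends along base
  changes of field extensions `Spec M ⟶ Spec L`, then `geometrically P` for `X_K ⟶ Spec K`
  implies `geometrically P` for `X ⟶ Spec k`.
* descent of connectedness / irreducibility / reducedness along such base changes.
-/

set_option autoImplicit false

universe u

open CategoryTheory Limits AlgebraicGeometry TensorProduct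

namespace Groth.Agent.Lib.Lead

theorem exists_common_field_extension (k K L : Type u) [Field k] [Field K] [Field L]
    [Algebra k K] [Algebra k L] :
    ∃ (M : Type u) (_ : Field M) (φ : K →+* M) (ψ : L →+* M),
      φ.comp (algebraMap k K) = ψ.comp (algebraMap k L) := by
  have hinj : Function.Injective (Algebra.TensorProduct.includeLeft : K →ₐ[k] K ⊗[k] L) :=
    Algebra.TensorProduct.includeLeft_injective (S := k) (algebraMap k L).injective
  have hnt : Nontrivial (K ⊗[k] L) := by
    refine ⟨⟨(Algebra.TensorProduct.includeLeft : K →ₐ[k] K ⊗[k] L) 0,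
      (Algebra.TensorProduct.includeLeft : K →ₐ[k] K ⊗[k] L) 1, ?_⟩⟩
    intro h
    exact zero_ne_one (hinj h)
  obtain ⟨m, hm⟩ := Ideal.exists_maximal (K ⊗[k] L)
  let _ : Field ((K ⊗[k] L) ⧸ m) := Ideal.Quotient.field m
  refine ⟨(K ⊗[k] L) ⧸ m, inferInstance,
    (Ideal.Quotient.mk m).comp (Algebra.TensorProduct.includeLeft : K →ₐ[k] K ⊗[k] L).toRingHom,
    (Ideal.Quotient.mk m).comp (Algebra.TensorProduct.includeRight : L →ₐ[k] K ⊗[k] L).toRingHom, ?_⟩
  ext c
  simp only [RingHom.coe_comp, Function.comp_apply, AlgHom.toRingHom_eq_coe, RingHom.coe_coe,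
    AlgHom.commutes]

/-- If `P` descends along base changes of field extensions, then `geometrically P` can be checked
after extending the base field. -/
theorem geometrically_of_geometrically_bc {P : ObjectProperty Scheme.{u}}
    (hP : ∀ {L M : Type u} [Field L] [Field M] (ψ : L →+* M) {Y Y' : Scheme.{u}} (p : Y' ⟶ Y)
      (s : Y ⟶ Spec (.of L)) (s' : Y' ⟶ Spec (.of M)),
      IsPullback p s' s (Spec.map (CommRingCat.ofHom ψ)) → P Y' → P Y)
    {k K : Type u} [Field k] [Field K] [Algebra k K] {X : Scheme.{u}} (f : X ⟶ Spec (.of k))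
    (h : geometrically P (pullback.snd f (Spec.map (CommRingCat.ofHom (algebraMap k K))))) :
    geometrically P f := by
  intro L _ y Z fst snd hpb
  obtain ⟨φ0, rfl⟩ := Spec.map_surjective y
  algebraize [φ0.hom]
  obtain ⟨M, _, φ, ψ, hcompat⟩ := exists_common_field_extension k K L
  let Z' := pullback snd (Spec.map (CommRingCat.ofHom ψ))
  let p : Z' ⟶ Z := pullback.fst _ _
  let s' : Z' ⟶ Spec (.of M) := pullback.snd _ _
  have hsq : IsPullback p s' snd (Spec.map (CommRingCat.ofHom ψ)) := IsPullback.of_hasPullback _ _
  refine hP ψ p snd s' hsq ?_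
  have hbig := hsq.paste_horiz hpb
  have hcomp : Spec.map (CommRingCat.ofHom ψ) ≫ Spec.map φ0 =
      Spec.map (CommRingCat.ofHom φ) ≫ Spec.map (CommRingCat.ofHom (algebraMap k K)) := by
    rw [← Spec.map_comp, ← Spec.map_comp]
    congr 1
    ext c
    have := congrArg (fun g => g c) hcompat
    simpa [RingHom.algebraMap_toAlgebra] using this.symm
  rw [hcomp] at hbig
  let g : Z' ⟶ pullback f (Spec.map (CommRingCat.ofHom (algebraMap k K))) :=
    pullback.lift (p ≫ fst) (s' ≫ Spec.map (CommRingCat.ofHom φ)) (by
      rw [Category.assoc, Category.assoc]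
      exact hbig.w)
  have hg1 : g ≫ pullback.fst f (Spec.map (CommRingCat.ofHom (algebraMap k K))) = p ≫ fst :=
    pullback.lift_fst _ _ _
  have hg2 : g ≫ pullback.snd f (Spec.map (CommRingCat.ofHom (algebraMap k K))) =
      s' ≫ Spec.map (CommRingCat.ofHom φ) := pullback.lift_snd _ _ _
  rw [← hg1] at hbig
  have hleft := hbig.of_right hg2 (IsPullback.of_hasPullback f _)
  exact h _ g s' hleft

/-- `Spec` of a field extension is surjective. -/
theorem surjective_Spec_map_of_field {L M : Type u} [Field L] [Field M] (ψ : L →+* M) :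
    Surjective (Spec.map (CommRingCat.ofHom ψ)) := by
  constructor
  intro x
  have : Nonempty ↥(Spec (CommRingCat.of M)) := inferInstance
  obtain ⟨y⟩ := this
  refine ⟨y, ?_⟩
  have : Subsingleton ↥(Spec (CommRingCat.of L)) :=
    inferInstanceAs (Subsingleton (PrimeSpectrum L))
  exact Subsingleton.elim _ _

/-- `Spec` of a field extension is flat. -/
theorem flat_Spec_map_of_field {L M : Type u} [Field L] [Field M] (ψ : L →+* M) :
    Flat (Spec.map (CommRingCat.ofHom ψ)) := by
  rw [HasRingHomProperty.Spec_iff (P := @Flat)]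
  algebraize [ψ]
  change RingHom.Flat ψ
  rw [RingHom.Flat]
  infer_instance

theorem connectedSpace_descends {L M : Type u} [Field L] [Field M] (ψ : L →+* M)
    {Y Y' : Scheme.{u}} (p : Y' ⟶ Y) (s : Y ⟶ Spec (.of L)) (s' : Y' ⟶ Spec (.of M))
    (hsq : IsPullback p s' s (Spec.map (CommRingCat.ofHom ψ))) (h : ConnectedSpace Y') :
    ConnectedSpace Y := by
  have hs : Surjective p :=
    MorphismProperty.of_isPullback (P := @Surjective) hsq.flip (surjective_Spec_map_of_field ψ)
  have hsurj : Function.Surjective p := hs.surj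
  have : Nonempty Y := (inferInstance : Nonempty Y').map p
  have huniv : (Set.univ : Set Y) = Set.range p := (Set.range_eq_univ.mpr hsurj).symm
  have hpre : PreconnectedSpace Y := ⟨by rw [huniv]; exact isPreconnected_range p.continuous⟩
  exact { toPreconnectedSpace := hpre, toNonempty := this }

theorem irreducibleSpace_descends {L M : Type u} [Field L] [Field M] (ψ : L →+* M)
    {Y Y' : Scheme.{u}} (p : Y' ⟶ Y) (s : Y ⟶ Spec (.of L)) (s' : Y' ⟶ Spec (.of M))
    (hsq : IsPullback p s' s (Spec.map (CommRingCat.ofHom ψ))) (h : IrreducibleSpace Y') :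
    IrreducibleSpace Y := by
  have hs : Surjective p :=
    MorphismProperty.of_isPullback (P := @Surjective) hsq.flip (surjective_Spec_map_of_field ψ)
  exact Function.Surjective.irreducibleSpace p.continuous hs.surj

set_option backward.isDefEq.respectTransparency.types false in
/-- Reducedness descends along flat surjective morphisms. -/
theorem isReduced_of_flat_of_surjective {Y Y' : Scheme.{u}} (p : Y' ⟶ Y) [Flat p] [Surjective p]
    [IsReduced Y'] : IsReduced Y := by
  suffices h : ∀ y : Y, _root_.IsReduced (Y.presheaf.stalk y) from isReduced_of_isReduced_stalk Y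
  intro y
  obtain ⟨y', rfl⟩ := (inferInstance : Surjective p).surj y
  algebraize [(p.stalkMap y').hom]
  have : Module.FaithfullyFlat (Y.presheaf.stalk (p y')) (Y'.presheaf.stalk y') :=
    @Module.FaithfullyFlat.of_flat_of_isLocalHom _ _ _ _ _ _ _
      (Flat.stalkMap p y') (p.toLRSHom.prop y')
  have hinj : Function.Injective (p.stalkMap y').hom := ‹RingHom.FaithfullyFlat _›.injective
  exact isReduced_of_injective (p.stalkMap y').hom hinj

theorem isReduced_descends {L M : Type u} [Field L] [Field M] (ψ : L →+* M)
    {Y Y' : Scheme.{u}} (p : Y' ⟶ Y) (s : Y ⟶ Spec (.of L)) (s' : Y' ⟶ Spec (.of M))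
    (hsq : IsPullback p s' s (Spec.map (CommRingCat.ofHom ψ))) (h : IsReduced Y') :
    IsReduced Y := by
  have hs : Surjective p :=
    MorphismProperty.of_isPullback (P := @Surjective) hsq.flip (surjective_Spec_map_of_field ψ)
  have hf : Flat p :=
    MorphismProperty.of_isPullback (P := @Flat) hsq.flip (flat_Spec_map_of_field ψ)
  exact isReduced_of_flat_of_surjective p

end Groth.Agent.Lib.Lead
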