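import Mathlib
import Groth.Prelude.Def_EtMil
import Groth.Agent.Lib.Helper26.FibreSquareKer

/-!
# Milnor squares (fibre squares of rings `B' = B ×_A A'` with `A' → A` surjective)

The exact sequence `0 → B' → B × A' → A → 0` of `R`-modules and consequences.
-/

set_option autoImplicit false
universe u
open TensorProduct

namespace Groth.Agent.Lib.Lead.Milnor

open Groth.Agent.Lib.Helper26.FibreSquareKer

/-- Binary products of flat modules are flat. -/
theorem flat_prod (R : Type u) [CommRing R] (M N : Type u) [AddCommGroup M] [Module R M]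
    [AddCommGroup N] [Module R N] [Module.Flat R M] [Module.Flat R N] : Module.Flat R (M × N) := by
  rw [Module.Flat.iff_rTensor_preserves_injective_linearMap]
  intro P P' _ _ _ _ f hf
  have h1 : Function.Injective ((f.rTensor M).prodMap (f.rTensor N)) :=
    Function.Injective.prodMap (Module.Flat.rTensor_preserves_injective_linearMap f hf)
      (Module.Flat.rTensor_preserves_injective_linearMap f hf)
  have h2 : (TensorProduct.prodRight R R P' M N).toLinearMap.comp (f.rTensor (M × N)) =
      ((f.rTensor M).prodMap (f.rTensor N)).comp (TensorProduct.prodRight R R P M N).toLinearMap := by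
    ext p x <;> simp
  intro z z' hzz
  apply (TensorProduct.prodRight R R P M N).injective
  apply h1
  have e1 := congrArg (fun e => e z) h2
  have e2 := congrArg (fun e => e z') h2
  simp only [LinearMap.coe_comp, LinearEquiv.coe_coe, Function.comp_apply] at e1 e2
  rw [← e1, ← e2, hzz]

section finite

/-- If `S ⊗ M` is a finite `S`-module, some f.g. submodule `N ≤ M` has `S ⊗ N → S ⊗ M` surjective. -/
theorem exists_fg_lTensor_surjective (R S : Type u) [CommRing R] [CommRing S] [Algebra R S]
    (M : Type u) [AddCommGroup M] [Module R M] [Module.Finite S (S ⊗[R] M)] :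
    ∃ N : Submodule R M, N.FG ∧ Function.Surjective (N.subtype.lTensor S) := by
  obtain ⟨s, hs⟩ := (Module.Finite.fg_top : (⊤ : Submodule S (S ⊗[R] M)).FG)
  obtain ⟨N, hN, hsN⟩ := TensorProduct.exists_finite_submodule_right_of_setFinite
    (s : Set (S ⊗[R] M)) s.finite_toSet
  refine ⟨N, Module.Finite.iff_fg.mp hN, ?_⟩
  have h1 : (s : Set (S ⊗[R] M)) ⊆ LinearMap.range (LinearMap.baseChange S N.subtype) := by
    intro x hx
    obtain ⟨w, hw⟩ := hsN hx
    exact ⟨w, by rw [LinearMap.baseChange_eq_ltensor]; exact hw⟩
  have h2 : LinearMap.range (LinearMap.baseChange S N.subtype) = ⊤ := by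
    rw [eq_top_iff, ← hs]
    exact Submodule.span_le.mpr h1
  intro z
  have : z ∈ LinearMap.range (LinearMap.baseChange S N.subtype) := by rw [h2]; trivial
  obtain ⟨w, hw⟩ := this
  exact ⟨w, by rw [LinearMap.baseChange_eq_ltensor] at hw; exact hw⟩

theorem lTensor_surjective_of_le (R S : Type u) [CommRing R] [CommRing S] [Algebra R S]
    (M : Type u) [AddCommGroup M] [Module R M] {N N' : Submodule R M} (h : N ≤ N')
    (hN : Function.Surjective (N.subtype.lTensor S)) :
    Function.Surjective (N'.subtype.lTensor S) := by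
  intro z
  obtain ⟨w, rfl⟩ := hN z
  refine ⟨(Submodule.inclusion h).lTensor S w, ?_⟩
  rw [← LinearMap.comp_apply, ← LinearMap.lTensor_comp]
  rfl

theorem subsingleton_lTensor_quotient (R S : Type u) [CommRing R] [CommRing S] [Algebra R S]
    (M : Type u) [AddCommGroup M] [Module R M] (N : Submodule R M)
    (hN : Function.Surjective (N.subtype.lTensor S)) : Subsingleton (S ⊗[R] (M ⧸ N)) := by
  refine ⟨fun x y => ?_⟩
  suffices h : ∀ z : S ⊗[R] (M ⧸ N), z = 0 by rw [h x, h y]
  intro z
  obtain ⟨w, rfl⟩ := LinearMap.lTensor_surjective S N.mkQ_surjective z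
  obtain ⟨v, rfl⟩ := hN w
  rw [← LinearMap.comp_apply, ← LinearMap.lTensor_comp]
  have : N.mkQ.comp N.subtype = 0 := by ext; simp
  rw [this, LinearMap.lTensor_zero, LinearMap.zero_apply]

/-- Descent of finiteness of modules along a Milnor square. -/
theorem finite_of_baseChange {B' B A' A : Type u} [CommRing B'] [CommRing B] [CommRing A']
    [CommRing A] [Algebra B' B] [Algebra B' A'] [Algebra B A] [Algebra A' A] [Algebra B' A]
    [IsScalarTower B' B A] [IsScalarTower B' A' A]
    (hsq : EtMil.IsFibreSquare B' B A' A)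
    (L' : Type u) [AddCommGroup L'] [Module B' L']
    [Module.Finite B (B ⊗[B'] L')] [Module.Finite A' (A' ⊗[B'] L')] : Module.Finite B' L' := by
  obtain ⟨N₁, hN₁, hs₁⟩ := exists_fg_lTensor_surjective B' B L'
  obtain ⟨N₂, hN₂, hs₂⟩ := exists_fg_lTensor_surjective B' A' L'
  have h1 := subsingleton_lTensor_quotient B' B L' (N₁ ⊔ N₂)
    (lTensor_surjective_of_le B' B L' le_sup_left hs₁)
  have h2 := subsingleton_lTensor_quotient B' A' L' (N₁ ⊔ N₂)
    (lTensor_surjective_of_le B' A' L' le_sup_right hs₂)
  have h3 := subsingleton_of_baseChange hsq (L' ⧸ (N₁ ⊔ N₂))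
  rw [Submodule.Quotient.subsingleton_iff] at h3
  exact ⟨h3 ▸ hN₁.sup hN₂⟩

end finite

section seq

variable (R : Type u) {B' B A' A : Type u} [CommRing R] [CommRing B'] [CommRing B] [CommRing A']
  [CommRing A]
  [Algebra B' B] [Algebra B' A'] [Algebra B A] [Algebra A' A] [Algebra B' A]
  [IsScalarTower B' B A] [IsScalarTower B' A' A]
  [Algebra R B'] [Algebra R B] [Algebra R A'] [Algebra R A]
  [IsScalarTower R B' B] [IsScalarTower R B' A'] [IsScalarTower R B' A] [IsScalarTower R B A]
  [IsScalarTower R A' A]

variable (B' B A' A) in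
/-- `B' → B × A'` -/
noncomputable def incl : B' →ₗ[R] B × A' :=
  (IsScalarTower.toAlgHom R B' B).toLinearMap.prod (IsScalarTower.toAlgHom R B' A').toLinearMap

variable (B' B A' A) in
/-- `B × A' → A`, `(b, a') ↦ b - a'` -/
noncomputable def diff : B × A' →ₗ[R] A :=
  (IsScalarTower.toAlgHom R B A).toLinearMap.comp (LinearMap.fst R B A') -
    (IsScalarTower.toAlgHom R A' A).toLinearMap.comp (LinearMap.snd R B A')

@[simp] theorem incl_apply (b' : B') :
    incl R B' B A' b' = (algebraMap B' B b', algebraMap B' A' b') := rfl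

@[simp] theorem diff_apply (x : B × A') :
    diff R B A' A x = algebraMap B A x.1 - algebraMap A' A x.2 := rfl

theorem incl_injective (hsq : EtMil.IsFibreSquare B' B A' A) :
    Function.Injective (incl R B' B A') := by
  intro x y h
  have h1 := congrArg Prod.fst h
  have h2 := congrArg Prod.snd h
  exact ext_of_fibreSquare hsq h1 h2

theorem diff_surjective (hsq : EtMil.IsFibreSquare B' B A' A) :
    Function.Surjective (diff R B A' A) := by
  intro a
  obtain ⟨a', ha'⟩ := hsq.1 (-a)
  exact ⟨(0, a'), by simp [ha']⟩

theorem exact_incl_diff (hsq : EtMil.IsFibreSquare B' B A' A) :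
    Function.Exact (incl R B' B A') (diff R B A' A) := by
  intro x
  constructor
  · intro hx
    rw [diff_apply, sub_eq_zero] at hx
    obtain ⟨b', ⟨h1, h2⟩, -⟩ := hsq.2 x.1 x.2 hx
    exact ⟨b', by rw [incl_apply, h1, h2]⟩
  · rintro ⟨b', rfl⟩
    rw [incl_apply, diff_apply, sub_eq_zero, ← IsScalarTower.algebraMap_apply,
      ← IsScalarTower.algebraMap_apply]

/-- For any `R`-module `N`, `N ⊗ B' → N ⊗ (B × A')` is injective when `A` is `R`-flat. -/
theorem lTensor_incl_injective (hsq : EtMil.IsFibreSquare B' B A' A) [Module.Flat R A]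
    (N : Type u) [AddCommGroup N] [Module R N] :
    Function.Injective ((incl R B' B A').lTensor N) :=
  LinearMap.lTensor_injective_of_exact_of_flat (diff R B A' A) (diff_surjective R hsq)
    (incl R B' B A') (incl_injective R hsq) (exact_incl_diff R hsq) N

/-- If `B`, `A'`, `A` are `R`-flat then so is `B'`. -/
theorem flat_corner (hsq : EtMil.IsFibreSquare B' B A' A)
    [Module.Flat R B] [Module.Flat R A'] [Module.Flat R A] : Module.Flat R B' := by
  have := flat_prod R B A'
  rw [Module.Flat.iff_rTensor_preserves_injective_linearMap]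
  intro N N' _ _ _ _ f hf
  have h1 : Function.Injective ((f.rTensor (B × A')).comp ((incl R B' B A').lTensor N)) :=
    (Module.Flat.rTensor_preserves_injective_linearMap f hf).comp (lTensor_incl_injective R hsq N)
  have h2 : (f.rTensor (B × A')).comp ((incl R B' B A').lTensor N) =
      ((incl R B' B A').lTensor N').comp (f.rTensor B') := by
    ext n b
    simp
  rw [h2] at h1
  exact Function.Injective.of_comp h1

section baseChange

variable (T : Type u) [CommRing T] [Algebra R T]

theorem algMap_id_eq_lTensor {X Y : Type u} [CommRing X] [CommRing Y] [Algebra R X] [Algebra R Y]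
    (φ : X →ₐ[R] Y) (z : T ⊗[R] X) :
    Algebra.TensorProduct.map (AlgHom.id R T) φ z = φ.toLinearMap.lTensor T z := by
  induction z with
  | zero => simp
  | tmul t x => simp
  | add a b ha hb => simp only [map_add, ha, hb]

theorem prodRight_lTensor_incl (z : T ⊗[R] B') :
    TensorProduct.prodRight R R T B A' ((incl R B' B A').lTensor T z) =
      ((IsScalarTower.toAlgHom R B' B).toLinearMap.lTensor T z,
        (IsScalarTower.toAlgHom R B' A').toLinearMap.lTensor T z) := by
  induction z with
  | zero => simp only [map_zero]; rfl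
  | tmul t x => simp
  | add a b ha hb => simp only [map_add, ha, hb, Prod.mk_add_mk]

theorem lTensor_diff_prodRight_symm (x : T ⊗[R] B) (y : T ⊗[R] A') :
    (diff R B A' A).lTensor T ((TensorProduct.prodRight R R T B A').symm (x, y)) =
      (IsScalarTower.toAlgHom R B A).toLinearMap.lTensor T x -
        (IsScalarTower.toAlgHom R A' A).toLinearMap.lTensor T y := by
  have h : ((diff R B A' A).lTensor T).comp (TensorProduct.prodRight R R T B A').symm.toLinearMap =
      ((IsScalarTower.toAlgHom R B A).toLinearMap.lTensor T).comp (LinearMap.fst R _ _) -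
        ((IsScalarTower.toAlgHom R A' A).toLinearMap.lTensor T).comp (LinearMap.snd R _ _) := by
    apply LinearMap.prod_ext
    · ext t b
      simp [TensorProduct.prodRight]
    · ext t a
      simp [TensorProduct.prodRight, TensorProduct.tmul_neg]
  have := congrArg (fun e => e (x, y)) h
  simpa using this

/-- Base change of a fibre square of flat `R`-algebras along `R → T` is a fibre square. -/
theorem baseChange_fibreSquare (hsq : EtMil.IsFibreSquare B' B A' A) [Module.Flat R A] :
    Function.Surjective (Algebra.TensorProduct.map (AlgHom.id R T) (IsScalarTower.toAlgHom R A' A)) ∧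
    ∀ (x : T ⊗[R] B) (y : T ⊗[R] A'),
      Algebra.TensorProduct.map (AlgHom.id R T) (IsScalarTower.toAlgHom R B A) x =
        Algebra.TensorProduct.map (AlgHom.id R T) (IsScalarTower.toAlgHom R A' A) y →
      ∃! z : T ⊗[R] B',
        Algebra.TensorProduct.map (AlgHom.id R T) (IsScalarTower.toAlgHom R B' B) z = x ∧
        Algebra.TensorProduct.map (AlgHom.id R T) (IsScalarTower.toAlgHom R B' A') z = y := by
  constructor
  · intro a
    have hs : Function.Surjective ((IsScalarTower.toAlgHom R A' A).toLinearMap.lTensor T) :=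
      LinearMap.lTensor_surjective T hsq.1
    obtain ⟨w, hw⟩ := hs a
    exact ⟨w, by rw [algMap_id_eq_lTensor, hw]⟩
  · intro x y hxy
    rw [algMap_id_eq_lTensor, algMap_id_eq_lTensor] at hxy
    have hex := lTensor_exact T (exact_incl_diff R hsq) (diff_surjective R hsq)
    have h0 : (diff R B A' A).lTensor T ((TensorProduct.prodRight R R T B A').symm (x, y)) = 0 := by
      rw [lTensor_diff_prodRight_symm, hxy, sub_self]
    obtain ⟨z, hz⟩ := (hex _).mp h0
    have hz' := congrArg (TensorProduct.prodRight R R T B A') hz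
    rw [prodRight_lTensor_incl, LinearEquiv.apply_symm_apply] at hz'
    refine ⟨z, ⟨by rw [algMap_id_eq_lTensor]; exact congrArg Prod.fst hz',
      by rw [algMap_id_eq_lTensor]; exact congrArg Prod.snd hz'⟩, ?_⟩
    rintro z' ⟨h1, h2⟩
    rw [algMap_id_eq_lTensor] at h1 h2
    apply lTensor_incl_injective R hsq T
    apply (TensorProduct.prodRight R R T B A').injective
    rw [prodRight_lTensor_incl, prodRight_lTensor_incl, h1, h2]
    exact hz'.symm

end baseChange

end seq

end Groth.Agent.Lib.Lead.Milnor
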