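import Groth.Agent.Lib.Helper10.ValSpec
import Mathlib

/-!
# Lifting valuation rings along flat / universally closed surjective morphisms
-/

set_option autoImplicit false

universe w u

namespace Groth.Agent.Lib.Lead

open CategoryTheory CategoryTheory.Limits AlgebraicGeometry HTop IsLocalRing
open Groth.Agent.Lib.Helper10.ValSpec

/-- A specialization in `Spec V ×_Y X` over (generic point ⤳ closed point) of `Spec V` gives an
extension of valuation rings `V → W` and a lift `Spec W → X`, sending the closed point to the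
image of the special point. -/
theorem exists_extVal_lift_of_specializes {X Y : Scheme.{u}} (f : X ⟶ Y) (V : CommRingCat.{u})
    [IsDomain V] [ValuationRing V] (g : Spec V ⟶ Y) (w' w : ↑(pullback g f)) (hw : w' ⤳ w)
    (hw1 : pullback.fst g f w' = genericPt V)
    (hw2 : pullback.fst g f w = (closedPoint V : ↥(Spec V))) :
    ∃ (W : CommRingCat.{u}) (_ : IsDomain W) (_ : ValuationRing W) (φ : V ⟶ W),
      HTop.IsExtVal V W φ ∧ ∃ g' : Spec W ⟶ X, g' ≫ f = Spec.map φ ≫ g ∧
        g' (closedPoint W : ↥(Spec W)) = pullback.snd g f w := by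
  obtain ⟨W, hWd, hWv, b, hb1, hb2⟩ := exists_valuationRing_of_specializes hw
  let φ : V ⟶ W := Spec.preimage (b ≫ pullback.fst g f)
  have hφ : Spec.map φ = b ≫ pullback.fst g f := Spec.map_preimage _
  refine ⟨W, hWd, hWv, φ, ⟨?_, ?_⟩, b ≫ pullback.snd g f, ?_, ?_⟩
  · rw [RingHom.injective_iff_ker_eq_bot, RingHom.ker_eq_comap_bot]
    have h1 : Spec.map φ (genericPt W) = genericPt V := by
      rw [hφ]
      calc (b ≫ pullback.fst g f) (genericPt W) = pullback.fst g f (b (genericPt W)) := rfl
        _ = genericPt V := by rw [hb1, hw1]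
    exact congrArg PrimeSpectrum.asIdeal h1
  · have h1 : Spec.map φ (closedPoint W : ↥(Spec W)) = (closedPoint V : ↥(Spec V)) := by
      have e : (b ≫ pullback.fst g f) (closedPoint W : ↥(Spec W)) =
          pullback.fst g f (b (closedPoint W : ↥(Spec W))) := rfl
      rw [hφ, e, hb2, hw2]
    have h2 : (maximalIdeal W).comap φ.hom = maximalIdeal V :=
      congrArg PrimeSpectrum.asIdeal h1
    exact ((local_hom_TFAE φ.hom).out 0 4).mpr h2
  · rw [Category.assoc, ← pullback.condition, ← Category.assoc, hφ]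
  · calc (b ≫ pullback.snd g f) (closedPoint W : ↥(Spec W))
        = pullback.snd g f (b (closedPoint W : ↥(Spec W))) := rfl
      _ = pullback.snd g f w := by rw [hb2]

/-- Lifting along a flat morphism through a prescribed point over the image of the closed point. -/
theorem exists_extVal_lift_of_flat {X Y : Scheme.{u}} (f : X ⟶ Y) [Flat f] (V : CommRingCat.{u})
    [IsDomain V] [ValuationRing V] (g : Spec V ⟶ Y) (x : X)
    (hx : f x = g (closedPoint V : ↥(Spec V))) :
    ∃ (W : CommRingCat.{u}) (_ : IsDomain W) (_ : ValuationRing W) (φ : V ⟶ W),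
      HTop.IsExtVal V W φ ∧ ∃ g' : Spec W ⟶ X, g' ≫ f = Spec.map φ ≫ g ∧
        g' (closedPoint W : ↥(Spec W)) = x := by
  obtain ⟨w, hw1, hw2⟩ := Scheme.Pullback.exists_preimage_pullback (f := g) (g := f)
    (closedPoint V : ↥(Spec V)) x hx.symm
  have hgen : GeneralizingMap (pullback.fst g f) := Flat.generalizingMap (pullback.fst g f)
  obtain ⟨w', hw', hw'1⟩ := hgen (a := w) (b := genericPt V)
    (by rw [hw1]; exact genericPt_specializes V _)
  obtain ⟨W, hWd, hWv, φ, hφ, g', hg', hg'c⟩ :=
    exists_extVal_lift_of_specializes f V g w' w hw' hw'1 hw1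
  exact ⟨W, hWd, hWv, φ, hφ, g', hg', by rw [hg'c, hw2]⟩

/-- Lifting along a universally closed surjective morphism. -/
theorem exists_extVal_lift_of_universallyClosed_surjective {X Y : Scheme.{u}} (f : X ⟶ Y)
    [UniversallyClosed f] [Surjective f] (V : CommRingCat.{u})
    [IsDomain V] [ValuationRing V] (g : Spec V ⟶ Y) :
    ∃ (W : CommRingCat.{u}) (_ : IsDomain W) (_ : ValuationRing W) (φ : V ⟶ W),
      HTop.IsExtVal V W φ ∧ ∃ g' : Spec W ⟶ X, g' ≫ f = Spec.map φ ≫ g := by
  have hsurj : Function.Surjective (pullback.fst g f) :=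
    (inferInstance : Surjective (pullback.fst g f)).surj
  have hclosed : IsClosedMap (pullback.fst g f) := (pullback.fst g f).isClosedMap
  obtain ⟨w', hw'⟩ := hsurj (genericPt V)
  have hmem : (closedPoint V : ↥(Spec V)) ∈ (pullback.fst g f) '' closure {w'} := by
    have hcl := hclosed _ (isClosed_closure (s := {w'}))
    have hsub : closure {genericPt V} ⊆ (pullback.fst g f) '' closure {w'} :=
      hcl.closure_subset_iff.mpr (by
        rintro _ rfl
        exact ⟨w', subset_closure rfl, hw'⟩)
    exact hsub (specializes_iff_mem_closure.mp (genericPt_specializes V _))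
  obtain ⟨w, hw, hwz⟩ := hmem
  obtain ⟨W, hWd, hWv, φ, hφ, g', hg', -⟩ :=
    exists_extVal_lift_of_specializes f V g w' w (specializes_iff_mem_closure.mpr hw) hw' hwz
  exact ⟨W, hWd, hWv, φ, hφ, g', hg'⟩

end Groth.Agent.Lib.Lead
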