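import Groth.Prelude.Def_HTop
import Groth.Agent.S7469
import Groth.Agent.S7470
import Mathlib

/-!
# V coverings: finite affine open covers, gluing
-/

set_option autoImplicit false

universe w u

namespace Groth.Agent.Lib.Lead

open CategoryTheory CategoryTheory.Limits AlgebraicGeometry HTop

/-- A morphism from the spectrum of a local ring factors through any open containing the image
of the closed point. -/
theorem range_subset_of_closedPoint_mem {Y : Scheme.{u}} (V : CommRingCat.{u}) [IsLocalRing V]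
    (g : Spec V ⟶ Y) (W : Y.Opens) (h : g (IsLocalRing.closedPoint V) ∈ W) :
    Set.range g ⊆ Set.range W.ι := by
  rintro _ ⟨p, rfl⟩
  rw [Scheme.Opens.range_ι]
  exact ((IsLocalRing.specializes_closedPoint (R := V) p).map g.continuous).mem_open W.isOpen h

/-- The family of a finite cover of an affine scheme by affine opens. -/
noncomputable def openFamily {Y : Scheme.{u}} {m : ℕ} (W : Fin m → Y.Opens) :
    PreZeroHypercover.{0} Y where
  I₀ := Fin m
  X k := (W k).toScheme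
  f k := (W k).ι

/-- A finite cover of an affine scheme by affine opens is a standard V covering. -/
theorem isStandardV_openFamily {Y : Scheme.{u}} [IsAffine Y] {m : ℕ} (W : Fin m → Y.Opens)
    (hW : ∀ k, IsAffineOpen (W k)) (hcov : ∀ y : Y, ∃ k, y ∈ W k) :
    IsStandardV (openFamily W) := by
  refine ⟨inferInstance, inferInstanceAs (Finite (Fin m)), fun k => hW k, ?_⟩
  intro V _ _ g
  obtain ⟨k, hk⟩ := hcov (g (IsLocalRing.closedPoint V))
  let h' : Spec V ⟶ (W k).toScheme :=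
    IsOpenImmersion.lift (W k).ι g (range_subset_of_closedPoint_mem V g (W k) hk)
  have hh' : h' ≫ (W k).ι = g := IsOpenImmersion.lift_fac _ _ _
  refine ⟨V, inferInstance, inferInstance, 𝟙 V, ⟨Function.injective_id, ?_⟩, k, h', ?_⟩
  · rw [CommRingCat.hom_id]
    exact isLocalHom_id V
  · change h' ≫ (W k).ι = _
    rw [hh', Spec.map_id, Category.id_comp]

/-- A V covering pulls back to a V covering. -/
theorem isVCover_pullback₁ {T T' : Scheme.{u}} (g : T' ⟶ T) (E : PreZeroHypercover.{w} T)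
    (hE : IsVCover E) : IsVCover (E.pullback₁ g) := by
  classical
  intro U'
  let Y : Scheme.{u} := (U' : T'.Opens).toScheme
  have hYaff : IsAffine Y := U'.2
  let γ : Y ⟶ T := (U' : T'.Opens).ι ≫ g
  have hloc : ∀ y : Y, ∃ (U : T.affineOpens) (W : Y.Opens),
      IsAffineOpen W ∧ y ∈ W ∧ W ≤ γ ⁻¹ᵁ (U : T.Opens) := by
    intro y
    obtain ⟨_, ⟨U, hU, rfl⟩, hyU, -⟩ := (T.isBasis_affineOpens).exists_subset_of_mem_open
      (Set.mem_univ (γ y)) isOpen_univ
    obtain ⟨_, ⟨W, hW, rfl⟩, hyW, hWU⟩ := (Y.isBasis_affineOpens).exists_subset_of_mem_open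
      (show y ∈ ((γ ⁻¹ᵁ U : Y.Opens) : Set Y) from hyU) (γ ⁻¹ᵁ U).isOpen
    exact ⟨⟨U, hU⟩, W, hW, hyW, hWU⟩
  choose U W hWaff hyW hWU using hloc
  obtain ⟨t, -, ht⟩ := isCompact_univ.elim_nhds_subcover (fun y => ((W y : Y.Opens) : Set Y))
    (fun y _ => (W y).isOpen.mem_nhds (hyW y))
  let m := t.card
  let e : Fin m ≃ t := t.equivFin.symm
  let yk : Fin m → Y := fun k => (e k).1
  let W' : Fin m → Y.Opens := fun k => W (yk k)
  have hcov : ∀ y : Y, ∃ k, y ∈ W' k := by
    intro y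
    have := ht (Set.mem_univ y)
    simp only [Set.mem_iUnion, exists_prop] at this
    obtain ⟨z, hzt, hyz⟩ := this
    refine ⟨e.symm ⟨z, hzt⟩, ?_⟩
    simp only [W', yk, Equiv.apply_symm_apply]
    exact hyz
  have hstd := fun k => hE (U (yk k))
  choose F hFstd hFref using hstd
  let γk : ∀ k, (W' k).toScheme ⟶ ((U (yk k) : T.affineOpens) : T.Opens).toScheme :=
    fun k => γ.resLE _ _ (hWU (yk k))
  have hγk : ∀ k, γk k ≫ ((U (yk k) : T.affineOpens) : T.Opens).ι = (W' k).ι ≫ γ :=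
    fun k => Scheme.Hom.resLE_comp_ι γ (hWU (yk k))
  let G : ∀ k, PreZeroHypercover.{0} ((openFamily W').X k) :=
    fun k => (F k).pullback₁ (γk k)
  have hG : ∀ k, IsStandardV (G k) := by
    intro k
    have : IsAffine (W' k).toScheme := hWaff (yk k)
    exact Groth.Agent.S7469.result (γk k) (F k) (hFstd k)
  refine ⟨(openFamily W').bind G,
    Groth.Agent.S7470.result (openFamily W')
      (isStandardV_openFamily W' (fun k => hWaff (yk k)) hcov) G hG, ?_⟩
  rintro ⟨k, i⟩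
  obtain ⟨i', h₀, hh₀⟩ := hFref k i
  let h₀' : (F k).X i ⟶ E.X i' := h₀
  let p1 : pullback (γk k) ((F k).f i) ⟶ (W' k).toScheme := pullback.fst _ _
  let p2 : pullback (γk k) ((F k).f i) ⟶ (F k).X i := pullback.snd _ _
  have hcond : p1 ≫ γk k = p2 ≫ (F k).f i := pullback.condition
  have hcompat : (p1 ≫ (W' k).ι ≫ (U' : T'.Opens).ι) ≫ g = (p2 ≫ h₀') ≫ E.f i' := by
    calc (p1 ≫ (W' k).ι ≫ (U' : T'.Opens).ι) ≫ g
        = p1 ≫ ((W' k).ι ≫ γ) := by simp only [γ, Category.assoc]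
      _ = p1 ≫ (γk k ≫ ((U (yk k) : T.affineOpens) : T.Opens).ι) := by rw [hγk k]
      _ = (p1 ≫ γk k) ≫ ((U (yk k) : T.affineOpens) : T.Opens).ι := by rw [Category.assoc]
      _ = (p2 ≫ (F k).f i) ≫ ((U (yk k) : T.affineOpens) : T.Opens).ι := by rw [hcond]
      _ = p2 ≫ (h₀' ≫ E.f i') := by rw [Category.assoc, hh₀]
      _ = (p2 ≫ h₀') ≫ E.f i' := by rw [Category.assoc]
  let h : pullback (γk k) ((F k).f i) ⟶ pullback g (E.f i') :=
    pullback.lift (p1 ≫ (W' k).ι ≫ (U' : T'.Opens).ι) (p2 ≫ h₀') hcompat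
  refine ⟨i', h, ?_⟩
  change h ≫ pullback.fst g (E.f i') = (p1 ≫ (W' k).ι) ≫ (U' : T'.Opens).ι
  rw [pullback.lift_fst, Category.assoc]

/-- Post-composing a family with a morphism of the target. -/
def compFamily {T₁ T₂ : Scheme.{u}} (E : PreZeroHypercover.{w} T₁) (e : T₁ ⟶ T₂) :
    PreZeroHypercover.{w} T₂ where
  I₀ := E.I₀
  X := E.X
  f j := E.f j ≫ e

/-- Standard V coverings are transported along isomorphisms of the target. -/
theorem isStandardV_compFamily_iso {T₁ T₂ : Scheme.{u}} (E : PreZeroHypercover.{w} T₁)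
    (hE : IsStandardV E) (e : T₁ ≅ T₂) : IsStandardV (compFamily E e.hom) := by
  have := hE.isAffine
  refine ⟨.of_isIso e.inv, hE.finite_index, hE.isAffine_obj, ?_⟩
  intro V _ _ g
  obtain ⟨W, hW1, hW2, φ, hφ, j, g', hg'⟩ := hE.lift V (g ≫ e.inv)
  refine ⟨W, hW1, hW2, φ, hφ, j, g', ?_⟩
  change g' ≫ E.f j ≫ e.hom = _
  rw [← Category.assoc, hg', Category.assoc, Category.assoc, e.inv_hom_id, Category.comp_id]

/-- Composites of V coverings are V coverings. -/
theorem isVCover_bind {T : Scheme.{u}} (E : PreZeroHypercover.{w} T) (hE : IsVCover E)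
    (F : ∀ i, PreZeroHypercover.{w} (E.X i)) (hF : ∀ i, IsVCover (F i)) :
    IsVCover (E.bind F) := by
  intro U
  obtain ⟨G, hGstd, hGref⟩ := hE U
  choose i h hh using hGref
  have hGaff := hGstd.isAffine_obj
  -- V coverings of the members of G
  have hpb : ∀ j, IsVCover ((F (i j)).pullback₁ (h j)) :=
    fun j => isVCover_pullback₁ (h j) (F (i j)) (hF (i j))
  have htop : ∀ j, ∃ H : PreZeroHypercover.{0} (((⊤ : (G.X j).Opens)) : Scheme.{u}),
      IsStandardV H ∧ RefinesOver (⊤ : (G.X j).Opens).ι H ((F (i j)).pullback₁ (h j)) := by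
    intro j
    have := hGaff j
    exact hpb j ⟨⊤, isAffineOpen_top (G.X j)⟩
  choose H hHstd hHref using htop
  let H' : ∀ j, PreZeroHypercover.{0} (G.X j) := fun j => compFamily (H j) (G.X j).topIso.hom
  have hH' : ∀ j, IsStandardV (H' j) := fun j =>
    isStandardV_compFamily_iso (H j) (hHstd j) (G.X j).topIso
  refine ⟨G.bind H', Groth.Agent.S7470.result G hGstd H' hH', ?_⟩
  rintro ⟨j, l⟩
  obtain ⟨l', k, hk⟩ := hHref j l
  let k' : (H j).X l ⟶ pullback (h j) ((F (i j)).f l') := k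
  have hk' : k' ≫ pullback.fst (h j) ((F (i j)).f l') = (H j).f l ≫ (⊤ : (G.X j).Opens).ι := hk
  let q : (H j).X l ⟶ (F (i j)).X l' := k' ≫ pullback.snd _ _
  refine ⟨⟨i j, l'⟩, q, ?_⟩
  change q ≫ (F (i j)).f l' ≫ E.f (i j) = (((H j).f l ≫ (⊤ : (G.X j).Opens).ι) ≫ G.f j) ≫
    (U : T.Opens).ι
  calc q ≫ (F (i j)).f l' ≫ E.f (i j)
      = k' ≫ (pullback.snd (h j) ((F (i j)).f l') ≫ (F (i j)).f l') ≫ E.f (i j) := by
        simp only [q, Category.assoc]
    _ = k' ≫ (pullback.fst (h j) ((F (i j)).f l') ≫ h j) ≫ E.f (i j) := by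
        rw [pullback.condition]
    _ = (k' ≫ pullback.fst (h j) ((F (i j)).f l')) ≫ h j ≫ E.f (i j) := by
        simp only [Category.assoc]
    _ = ((H j).f l ≫ (⊤ : (G.X j).Opens).ι) ≫ G.f j ≫ (U : T.Opens).ι := by
        rw [hk', hh j]
    _ = _ := by simp only [Category.assoc]

end Groth.Agent.Lib.Lead
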