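import Groth.Agent.Lib.Lead.VCover
import Groth.Agent.S7473
import Mathlib

/-!
# Sheaf criteria for V coverings: Zariski sheaf + standard V coverings
-/

set_option autoImplicit false

universe w' w'' w u

namespace Groth.Agent.Lib.Lead

open CategoryTheory CategoryTheory.Limits AlgebraicGeometry HTop

/-- Pulling back the sieve generated by a family is the sieve generated by the pulled back family. -/
theorem pullback_generate_presieve₀ {T Z : Scheme.{u}} (E : PreZeroHypercover.{w'} T) (h : Z ⟶ T) :
    (Sieve.generate E.presieve₀).pullback h = Sieve.generate (E.pullback₁ h).presieve₀ := by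
  ext W a
  constructor
  · rintro ⟨Y, b, c, ⟨i⟩, hbc⟩
    exact ⟨_, pullback.lift a b hbc.symm, pullback.fst h (E.f i), ⟨i⟩, pullback.lift_fst _ _ _⟩
  · rintro ⟨Y, b, c, ⟨i⟩, rfl⟩
    let i' : E.I₀ := i
    let b' : W ⟶ pullback h (E.f i') := b
    have hc : pullback.snd h (E.f i') ≫ E.f i' = pullback.fst h (E.f i') ≫ h :=
      pullback.condition.symm
    refine ⟨_, b' ≫ pullback.snd h (E.f i'), E.f i', ⟨i'⟩, ?_⟩
    calc (b' ≫ pullback.snd h (E.f i')) ≫ E.f i'
        = b' ≫ (pullback.snd h (E.f i') ≫ E.f i') := Category.assoc _ _ _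
      _ = b' ≫ (pullback.fst h (E.f i') ≫ h) := by rw [hc]
      _ = (b' ≫ pullback.fst h (E.f i')) ≫ h := (Category.assoc _ _ _).symm

/-- For a Zariski sheaf, the sheaf condition for a sieve can be checked after pullback to all
affine schemes. -/
theorem isSheafFor_sieve_of_forall_affine {F : Scheme.{u}ᵒᵖ ⥤ Type w}
    (hzar : Presieve.IsSheaf Scheme.zariskiTopology F) {T : Scheme.{u}} (S : Sieve T)
    (h : ∀ (Y : Scheme.{u}) [IsAffine Y] (g : Y ⟶ T),
      Presieve.IsSheafFor F (S.pullback g).arrows) :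
    Presieve.IsSheafFor F S.arrows := by
  refine T.affineOneHypercover.isSheafFor_sieve_of_pullback hzar (fun i => ?_) (fun i j k => ?_)
  · have : IsAffine (T.affineOneHypercover.X i) := inferInstanceAs (IsAffine (Spec _))
    exact h _ _
  · have : IsAffine (T.affineOneHypercover.Y k) := inferInstanceAs (IsAffine (Spec _))
    exact (h _ _).isSeparatedFor

/-- Re-indexing a family along a map of index types. -/
def reindexFamily {T : Scheme.{u}} (E : PreZeroHypercover.{w'} T) {ι : Type w''} (e : ι → E.I₀) :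
    PreZeroHypercover.{w''} T where
  I₀ := ι
  X k := E.X (e k)
  f k := E.f (e k)

theorem presieve₀_reindexFamily {T : Scheme.{u}} (E : PreZeroHypercover.{w'} T) {ι : Type w''}
    (e : ι → E.I₀) (he : Function.Surjective e) : (reindexFamily E e).presieve₀ = E.presieve₀ := by
  funext Y
  apply Set.ext
  intro f
  constructor
  · rintro ⟨k⟩
    exact ⟨e k⟩
  · rintro ⟨j⟩
    obtain ⟨k, rfl⟩ := he j
    exact Presieve.ofArrows.mk (ι := ι) (Y := fun k => E.X (e k)) (f := fun k => E.f (e k)) k

theorem isStandardV_reindexFamily {T : Scheme.{u}} (E : PreZeroHypercover.{w'} T)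
    (hE : IsStandardV E) {ι : Type w''} [Finite ι] (e : ι → E.I₀) (he : Function.Surjective e) :
    IsStandardV (reindexFamily E e) := by
  refine ⟨hE.isAffine, ‹Finite ι›, fun k => hE.isAffine_obj _, ?_⟩
  intro V _ _ g
  obtain ⟨W, hWd, hWv, φ, hφ, j, g', hg'⟩ := hE.lift V g
  obtain ⟨k, rfl⟩ := he j
  exact ⟨W, hWd, hWv, φ, hφ, k, g', hg'⟩

theorem exists_reindex_fin {T : Scheme.{u}} (E : PreZeroHypercover.{w'} T) [Finite E.I₀] :
    ∃ (n : ℕ) (e : Fin n → E.I₀), Function.Surjective e := by
  obtain ⟨n, ⟨e⟩⟩ := Finite.exists_equiv_fin E.I₀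
  exact ⟨n, e.symm, e.symm.surjective⟩

/-- A standard V covering is a V covering. -/
theorem isVCover_of_isStandardV {T : Scheme.{u}} (E : PreZeroHypercover.{w'} T)
    (hE : IsStandardV E) : IsVCover E := by
  intro U
  have : IsAffine ((U : T.Opens) : Scheme.{u}) := U.2
  have h1 := Groth.Agent.S7469.result (U : T.Opens).ι E hE
  have := hE.finite_index
  obtain ⟨n, e, he⟩ := exists_reindex_fin E
  refine ⟨reindexFamily (E.pullback₁ (U : T.Opens).ι) e,
    isStandardV_reindexFamily _ h1 e he, fun k => ⟨e k, pullback.snd _ _, ?_⟩⟩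
  exact pullback.condition.symm

/-- The sheaf condition for standard V coverings with index type in any universe follows from
the one for index types in a fixed universe. -/
theorem isSheafFor_of_isStandardV {F : Scheme.{u}ᵒᵖ ⥤ Type w}
    (hstd : ∀ (T : Scheme.{u}) (E : PreZeroHypercover.{w''} T), IsStandardV E →
      Presieve.IsSheafFor F E.presieve₀)
    {T : Scheme.{u}} (E : PreZeroHypercover.{w'} T) (hE : IsStandardV E) :
    Presieve.IsSheafFor F E.presieve₀ := by
  have := hE.finite_index
  obtain ⟨n, e, he⟩ := exists_reindex_fin E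
  let e' : ULift.{w''} (Fin n) → E.I₀ := fun k => e k.down
  have he' : Function.Surjective e' := fun j => by
    obtain ⟨k, hk⟩ := he j
    exact ⟨⟨k⟩, hk⟩
  rw [← presieve₀_reindexFamily E e' he']
  exact hstd T _ (isStandardV_reindexFamily E hE e' he')

/-- Given the sheaf condition for standard V coverings (and Zariski coverings), all pullbacks of
the sieve of a standard V covering satisfy the sheaf condition. -/
theorem isSheafFor_pullback_of_isStandardV {F : Scheme.{u}ᵒᵖ ⥤ Type w}
    (hzar : Presieve.IsSheaf Scheme.zariskiTopology F)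
    (hstd : ∀ (T : Scheme.{u}) (E : PreZeroHypercover.{w''} T), IsStandardV E →
      Presieve.IsSheafFor F E.presieve₀)
    {Y : Scheme.{u}} (G : PreZeroHypercover.{w'} Y) (hG : IsStandardV G) {Z : Scheme.{u}}
    (f : Z ⟶ Y) : Presieve.IsSheafFor F ((Sieve.generate G.presieve₀).pullback f).arrows := by
  apply isSheafFor_sieve_of_forall_affine hzar
  intro Z' _ g'
  rw [← Sieve.pullback_comp, pullback_generate_presieve₀, ← Presieve.isSheafFor_iff_generate]
  exact isSheafFor_of_isStandardV hstd _ (Groth.Agent.S7469.result (g' ≫ f) G hG)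

/-- A Zariski sheaf satisfying the sheaf condition for standard V coverings satisfies it for all
V coverings. -/
theorem isSheafFor_of_isVCover {F : Scheme.{u}ᵒᵖ ⥤ Type w}
    (hzar : Presieve.IsSheaf Scheme.zariskiTopology F)
    (hstd : ∀ (T : Scheme.{u}) (E : PreZeroHypercover.{w''} T), IsStandardV E →
      Presieve.IsSheafFor F E.presieve₀)
    {T : Scheme.{u}} (E : PreZeroHypercover.{w'} T) (hE : IsVCover E) :
    Presieve.IsSheafFor F E.presieve₀ := by
  rw [Presieve.isSheafFor_iff_generate]
  apply isSheafFor_sieve_of_forall_affine hzar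
  intro Y _ g
  have hE' : IsVCover (E.pullback₁ g) := isVCover_pullback₁ g E hE
  have htop : (⊤ : Y.Opens) ∈ Y.affineOpens := isAffineOpen_top Y
  obtain ⟨G₀, hG₀, href⟩ := hE' ⟨⊤, htop⟩
  have hG : IsStandardV (compFamily G₀ (Y.topIso).hom) :=
    isStandardV_compFamily_iso G₀ hG₀ (Y.topIso)
  have hle : ((Sieve.generate (compFamily G₀ (Y.topIso).hom).presieve₀ : Sieve Y) : Presieve Y) ≤
      ((Sieve.generate E.presieve₀).pullback g).arrows := by
    rw [pullback_generate_presieve₀]
    rintro W a ⟨_, b, _, ⟨j⟩, rfl⟩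
    obtain ⟨i, k, hk⟩ := href j
    let j' : G₀.I₀ := j
    let b' : W ⟶ G₀.X j' := b
    let k' : G₀.X j' ⟶ (E.pullback₁ g).X i := k
    refine ⟨_, b' ≫ k', (E.pullback₁ g).f i, ⟨i⟩, ?_⟩
    have e1 : (b' ≫ k') ≫ (E.pullback₁ g).f i = b' ≫ (k' ≫ (E.pullback₁ g).f i) :=
      Category.assoc _ _ _
    rw [e1]
    exact congrArg (fun t => b' ≫ t) hk
  refine Presieve.isSheafFor_subsieve_aux F hle ?_ ?_
  · rw [← Presieve.isSheafFor_iff_generate]
    exact isSheafFor_of_isStandardV hstd _ hG
  · intro Z f _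
    exact (isSheafFor_pullback_of_isStandardV hzar hstd _ hG f).isSeparatedFor

/-- A presheaf with the sheaf property for all V coverings is a Zariski sheaf. -/
theorem isSheaf_zariski_of_isVSheaf {F : Scheme.{u}ᵒᵖ ⥤ Type w} (hV : IsVSheaf F) :
    Presieve.IsSheaf Scheme.zariskiTopology F := by
  rw [Scheme.zariskiTopology, Scheme.grothendieckTopology,
    Precoverage.isSheaf_toGrothendieck_iff_of_isStableUnderBaseChange]
  intro X R hR
  have hR' : R ∈ Scheme.fpqcPrecoverage X := Scheme.zariskiPrecoverage_le_fpqcPrecoverage _ hR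
  obtain ⟨E₀, rfl⟩ := R.exists_eq_preZeroHypercover
  let 𝒰 : Scheme.Cover Scheme.fpqcPrecoverage X := ⟨E₀, hR'⟩
  exact hV _ ((presieve₀_mem_vPrecoverage_iff E₀).mpr (Groth.Agent.S7473.result 𝒰))

/-- `IsVSheaf` in terms of families. -/
theorem isVSheaf_iff_forall_isVCover {F : Scheme.{u}ᵒᵖ ⥤ Type w} :
    IsVSheaf F ↔ ∀ (T : Scheme.{u}) (E : PreZeroHypercover.{u + 1} T), IsVCover E →
      Presieve.IsSheafFor F E.presieve₀ := by
  constructor
  · intro hV T E hE
    exact hV _ ((presieve₀_mem_vPrecoverage_iff E).mpr hE)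
  · intro h X R hR
    obtain ⟨E, hE, rfl⟩ := PreZeroHypercoverFamily.mem_precoverage_iff.mp hR
    exact h X E hE

/-- For a Zariski sheaf and a finite family, the sheaf condition for the family is equivalent to
the one for the induced morphism from the coproduct. -/
theorem isSheafFor_singleton_sigmaDesc_iff {F : Scheme.{u}ᵒᵖ ⥤ Type w}
    (hF : Presieve.IsSheaf Scheme.zariskiTopology F) {S : Scheme.{u}}
    (E : PreZeroHypercover.{u} S) [Finite E.I₀] :
    Presieve.IsSheafFor F (Presieve.singleton (Sigma.desc E.f)) ↔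
      Presieve.IsSheafFor F E.presieve₀ := by
  have : PreservesLimitsOfShape (Discrete (E.I₀ × E.I₀)) F :=
    preservesLimitsOfShape_discrete_of_isSheaf_zariskiTopology hF
  have : PreservesLimitsOfShape (Discrete E.I₀) F :=
    preservesLimitsOfShape_discrete_of_isSheaf_zariskiTopology hF
  exact Presieve.isSheafFor_sigmaDesc_iff E.f (coproductIsCoproduct _)
    (FinitaryExtensive.isVanKampen_finiteCoproducts (coproductIsCoproduct _)).isUniversal F

/-- The coproduct morphism of a standard V covering is a one-member standard V covering. -/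
theorem isStandardV_singleton_sigmaDesc {T : Scheme.{u}} (E : PreZeroHypercover.{u} T)
    (hE : IsStandardV E) : IsStandardV (PreZeroHypercover.singleton.{w'} (Sigma.desc E.f)) := by
  have := hE.finite_index
  have := hE.isAffine_obj
  refine ⟨hE.isAffine, inferInstanceAs (Finite PUnit), fun _ => inferInstanceAs (IsAffine (∐ E.X)), ?_⟩
  intro V _ _ g
  obtain ⟨W, hWd, hWv, φ, hφ, j, g', hg'⟩ := hE.lift V g
  refine ⟨W, hWd, hWv, φ, hφ, PUnit.unit, g' ≫ Sigma.ι E.X j, ?_⟩
  change (g' ≫ Sigma.ι E.X j) ≫ Sigma.desc E.f = _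
  rw [Category.assoc, Sigma.ι_desc, hg']

end Groth.Agent.Lib.Lead
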