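import Mathlib

/-! `f.toImage` is scheme-theoretically dominant for quasi-compact `f`; combined with helper19's
`SchDomEpi.eq_of_comp_eq` this gives right-cancellation for surjective quasi-compact `f.toImage`. -/

open CategoryTheory AlgebraicGeometry

universe u

namespace Groth.Agent.Lib.Lead.ToImageDominant

theorem isSchemeTheoreticallyDominant_toImage {X Y : Scheme.{u}} (f : X ⟶ Y) [QuasiCompact f] :
    IsSchemeTheoreticallyDominant f.toImage := by
  constructor
  refine Scheme.IdealSheafData.ext_of_iSup_eq_top
    (fun U : Y.affineOpens => (⟨f.imageι ⁻¹ᵁ U.1, U.2.preimage f.imageι⟩ : f.image.affineOpens)) ?_ ?_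
  · have h := iSup_affineOpens_eq_top Y
    have h2 := congrArg (fun W => f.imageι ⁻¹ᵁ W) h
    simp only [Scheme.Hom.preimage_iSup, Scheme.Hom.preimage_top] at h2
    exact h2
  · intro U
    rw [Scheme.Hom.ker_apply, Scheme.IdealSheafData.ideal_bot, Pi.bot_apply]
    exact (RingHom.injective_iff_ker_eq_bot _).mp (f.toImage_app_injective U)

end Groth.Agent.Lib.Lead.ToImageDominant
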