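import Mathlib
import Groth.Prelude.Def_BMCoh4
import Groth.Agent.Lib.Helper18.TopDim
import Groth.Agent.Lib.Helper16.ReducedSub

/-!
# Dimension theory for the objects of a constructible class (lead)
-/

set_option autoImplicit false
universe u
open AlgebraicGeometry CategoryTheory TopologicalSpace Topology

noncomputable section

namespace Groth.Agent.Lib.Lead.BMDim
open WeilCoh BMCoh

section Top

theorem natDim_congr {S T : Type u} [TopologicalSpace S] [TopologicalSpace T] (e : S ≃ₜ T) :
    natDim S = natDim T := by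
  unfold natDim
  rw [IsHomeomorph.topologicalKrullDim_eq e e.isHomeomorph]

theorem natDim_le_of_le {S T : Type u} [TopologicalSpace S] [TopologicalSpace T]
    (h : topologicalKrullDim S ≤ topologicalKrullDim T) (hT : topologicalKrullDim T < ⊤) :
    natDim S ≤ natDim T := by
  unfold natDim
  generalize topologicalKrullDim S = a at *
  generalize topologicalKrullDim T = b at *
  induction a using WithBot.recBotCoe with
  | bot => simp
  | coe a =>
    induction b using WithBot.recBotCoe with
    | bot => simp at h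
    | coe b =>
      simp only [WithBot.unbotD_coe]
      have hb : b ≠ ⊤ := by
        rintro rfl
        simp at hT
      exact ENat.toNat_le_toNat (by exact_mod_cast h) hb

theorem le_natDim_of_le {T : Type u} [TopologicalSpace T] (n : ℕ)
    (h : (n : WithBot ℕ∞) ≤ topologicalKrullDim T) (hT : topologicalKrullDim T < ⊤) :
    n ≤ natDim T := by
  unfold natDim
  generalize topologicalKrullDim T = b at *
  induction b using WithBot.recBotCoe with
  | bot => simp at h
  | coe b =>
    simp only [WithBot.unbotD_coe]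
    have hb : b ≠ ⊤ := by
      rintro rfl
      simp at hT
    have h' : (n : ℕ∞) ≤ b := by exact_mod_cast h
    lift b to ℕ using hb
    simpa using h'

theorem natDim_cast_eq {T : Type u} [TopologicalSpace T] [Nonempty T]
    (hT : topologicalKrullDim T < ⊤) : ((natDim T : ℕ) : WithBot ℕ∞) = topologicalKrullDim T := by
  have h0 : (0 : WithBot ℕ∞) ≤ topologicalKrullDim T :=
    Groth.Agent.Lib.Helper18.TopDim.zero_le_topologicalKrullDim
  unfold natDim
  generalize topologicalKrullDim T = b at *
  induction b using WithBot.recBotCoe with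
  | bot => simp at h0
  | coe b =>
    simp only [WithBot.unbotD_coe]
    have hb : b ≠ ⊤ := by
      rintro rfl
      simp at hT
    lift b to ℕ using hb
    simp

variable {X : Type u} [TopologicalSpace X]

theorem natDim_subset_le {Y Z : Set X} (h : Y ⊆ Z) (hX : topologicalKrullDim X < ⊤) :
    natDim ↥Y ≤ natDim ↥Z :=
  natDim_le_of_le (Topology.IsEmbedding.inclusion h).isInducing.topologicalKrullDim_le
    ((topologicalKrullDim_subspace_le X Z).trans_lt hX)

theorem natDim_set_le (Y : Set X) (hX : topologicalKrullDim X < ⊤) :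
    natDim ↥Y ≤ natDim X :=
  natDim_le_of_le (topologicalKrullDim_subspace_le X Y) hX

/-- a chain of maximal length -/
theorem exists_ltSeries_length_eq_natDim (S : Type u) [TopologicalSpace S] [Nonempty S]
    (hS : topologicalKrullDim S < ⊤) :
    ∃ p : LTSeries (IrreducibleCloseds S), p.length = natDim S := by
  have h0 : (0 : WithBot ℕ∞) ≤ topologicalKrullDim S :=
    Groth.Agent.Lib.Helper18.TopDim.zero_le_topologicalKrullDim
  have hfd : FiniteDimensionalOrder (IrreducibleCloseds S) := by
    rw [Order.finiteDimensionalOrder_iff_krullDim_ne_bot_and_top]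
    refine ⟨?_, hS.ne⟩
    intro hbot
    unfold topologicalKrullDim at h0
    rw [hbot] at h0
    simp at h0
  refine ⟨LTSeries.longestOf _, ?_⟩
  have h1 := Order.krullDim_eq_length_of_finiteDimensionalOrder (α := IrreducibleCloseds S)
  have h2 := natDim_cast_eq (T := S) hS
  unfold topologicalKrullDim at h2
  rw [h1] at h2
  exact_mod_cast h2.symm

/-- strict drop of the dimension of the closure under proper specialization -/
theorem natDim_closure_lt {x y : X} (hX : topologicalKrullDim X < ⊤) (h : y ∈ closure ({x} : Set X))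
    (hne : x ∉ closure ({y} : Set X)) :
    natDim ↥(closure ({y} : Set X)) < natDim ↥(closure ({x} : Set X)) := by
  haveI : Nonempty ↥(closure ({y} : Set X)) := ⟨⟨y, subset_closure rfl⟩⟩
  have hfy : topologicalKrullDim ↥(closure ({y} : Set X)) < ⊤ :=
    (topologicalKrullDim_subspace_le X _).trans_lt hX
  have hfx : topologicalKrullDim ↥(closure ({x} : Set X)) < ⊤ :=
    (topologicalKrullDim_subspace_le X _).trans_lt hX
  obtain ⟨p, hp⟩ := exists_ltSeries_length_eq_natDim ↥(closure ({y} : Set X)) hfy
  let p' : LTSeries (IrreducibleCloseds X) :=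
    p.map (IrreducibleCloseds.map Subtype.val continuous_subtype_val)
      (IrreducibleCloseds.map_strictMono_of_isInducing IsInducing.subtypeVal)
  have hlast : ((p'.last : IrreducibleCloseds X) : Set X) ⊆ closure ({y} : Set X) := by
    show closure (Subtype.val '' _) ⊆ _
    refine closure_minimal ?_ isClosed_closure
    rintro _ ⟨z, -, rfl⟩
    exact z.2
  let cx : IrreducibleCloseds X :=
    { carrier := closure ({x} : Set X)
      isIrreducible' := isIrreducible_singleton.closure
      isClosed' := isClosed_closure }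
  have hlt : p'.last < cx := by
    rw [← SetLike.coe_ssubset_coe]
    refine ⟨hlast.trans (closure_minimal (Set.singleton_subset_iff.mpr h) isClosed_closure), ?_⟩
    intro hle
    exact hne (hlast (hle (subset_closure rfl)))
  let q : LTSeries (IrreducibleCloseds X) := p'.snoc cx hlt
  have hq := Groth.Agent.Lib.Helper18.TopDim.length_le_topologicalKrullDim_of_subset q
    (closure ({x} : Set X)) (by
      show ((RelSeries.last q : IrreducibleCloseds X) : Set X) ⊆ _
      rw [RelSeries.last_snoc]
      exact subset_rfl)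
  have hlen : q.length = p.length + 1 := rfl
  have := le_natDim_of_le (q.length) hq hfx
  omega

end Top

section Sch

variable {V : ObjectProperty Scheme.{u}} [IsConstructible V]

theorem fin (X : Obj V) : topologicalKrullDim X.scheme < ⊤ := IsConstructible.finiteDim X.mem

theorem dim_eq_natDim_range {Y X : Scheme.{u}} (f : Y ⟶ X) (hf : IsEmbedding f) :
    dim Y = natDim ↥(Set.range f) := natDim_congr hf.toHomeomorph

theorem pdim_le_dim (X : Obj V) (x : X.scheme) : pdim X.scheme x ≤ dim X.scheme :=
  natDim_set_le _ (fin X)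

theorem exists_pdim_eq_dim (X : Obj V) [Nonempty X.scheme] :
    ∃ x : X.scheme, pdim X.scheme x = dim X.scheme := by
  obtain ⟨p, hp⟩ := exists_ltSeries_length_eq_natDim X.scheme (fin X)
  obtain ⟨y, hy⟩ := QuasiSober.sober p.last.isIrreducible p.last.isClosed
  refine ⟨y, le_antisymm (pdim_le_dim X y) ?_⟩
  have h1 := Groth.Agent.Lib.Helper18.TopDim.length_le_topologicalKrullDim_of_subset p
    (closure ({y} : Set X.scheme)) (by rw [hy.def])
  have h2 := le_natDim_of_le p.length h1
    ((topologicalKrullDim_subspace_le X.scheme _).trans_lt (fin X))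
  unfold pdim dim
  omega

theorem pdim_lt_pdim (X : Obj V) {x y : X.scheme} (h : y ∈ closure ({x} : Set X.scheme))
    (hne : y ≠ x) : pdim X.scheme y < pdim X.scheme x := by
  refine natDim_closure_lt (fin X) h (fun hx => hne ?_)
  have h1 : x ⤳ y := specializes_iff_mem_closure.mpr h
  have h2 : y ⤳ x := specializes_iff_mem_closure.mpr hx
  exact (h2.antisymm h1).eq

theorem range_ptSubι (X : Obj V) (x : X.scheme) :
    Set.range (X.ptSubι x) = closure ({x} : Set X.scheme) := by
  rw [Scheme.IdealSheafData.range_subschemeι, Scheme.IdealSheafData.coe_support_vanishingIdeal]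
  rfl

theorem dim_ptSub (X : Obj V) (x : X.scheme) : dim (X.ptSub x).scheme = pdim X.scheme x := by
  rw [dim_eq_natDim_range (X.ptSubι x) (X.ptSubι x).isClosedEmbedding.isEmbedding]
  unfold pdim
  rw [range_ptSubι]

instance irreducibleSpace_ptSub (X : Obj V) (x : X.scheme) : IrreducibleSpace (X.ptSub x).scheme := by
  have e := (X.ptSubι x).isClosedEmbedding.isEmbedding.toHomeomorph
  rw [range_ptSubι] at e
  haveI : IrreducibleSpace ↥(closure ({x} : Set X.scheme)) :=
    Subtype.irreducibleSpace isIrreducible_singleton.closure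
  rw [irreducibleSpace_def]
  have h1 : IsIrreducible (Set.univ : Set ↥(closure ({x} : Set X.scheme))) :=
    (irreducibleSpace_def _).mp this
  have h2 := h1.image e.symm e.symm.continuous.continuousOn
  rwa [Set.image_univ, e.symm.surjective.range_eq] at h2

/-- (★): a nonempty open of the closure of a point has the dimension of the closure -/
theorem natDim_closure_inter (X : Obj V) (x : X.scheme) (U : X.scheme.Opens) (hx : x ∈ U) :
    natDim ↥(closure ({x} : Set X.scheme) ∩ (U : Set X.scheme)) = pdim X.scheme x := by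
  have hne : (((X.ptSubι x) ⁻¹ᵁ U : (X.ptSub x).scheme.Opens) : Set (X.ptSub x).scheme).Nonempty := by
    have : x ∈ Set.range (X.ptSubι x) := by
      rw [range_ptSubι]; exact subset_closure rfl
    obtain ⟨z, hz⟩ := this
    exact ⟨z, by show (X.ptSubι x) z ∈ U; rw [hz]; exact hx⟩
  have h1 := IsConstructible.dim_open (X.ptSub x).mem (irreducibleSpace_ptSub X x)
    ((X.ptSubι x) ⁻¹ᵁ U) hne
  rw [dim_ptSub] at h1
  rw [← h1]
  have hemb : IsEmbedding (((X.ptSubι x) ⁻¹ᵁ U).ι ≫ X.ptSubι x) :=
    (X.ptSubι x).isClosedEmbedding.isEmbedding.comp ((X.ptSubι x) ⁻¹ᵁ U).ι.isOpenEmbedding.isEmbedding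
  rw [dim_eq_natDim_range _ hemb]
  have hr : Set.range (((X.ptSubι x) ⁻¹ᵁ U).ι ≫ X.ptSubι x) =
      closure ({x} : Set X.scheme) ∩ (U : Set X.scheme) := by
    ext y
    constructor
    · rintro ⟨⟨z, hz⟩, rfl⟩
      refine ⟨?_, hz⟩
      rw [← range_ptSubι]
      exact ⟨z, rfl⟩
    · rintro ⟨h1, h2⟩
      rw [← range_ptSubι] at h1
      obtain ⟨z, rfl⟩ := h1
      exact ⟨⟨z, h2⟩, rfl⟩
  rw [hr]

theorem natDim_image_of_isEmbedding {S T : Type u} [TopologicalSpace S] [TopologicalSpace T]
    {f : S → T} (hf : IsEmbedding f) (s : Set S) : natDim ↥s = natDim ↥(f '' s) := by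
  have e := (hf.comp (IsEmbedding.subtypeVal : IsEmbedding (Subtype.val : s → S))).toHomeomorph
  have hr : Set.range (f ∘ (Subtype.val : s → S)) = f '' s := by
    rw [Set.range_comp, Subtype.range_val]
  rw [hr] at e
  exact natDim_congr e

theorem natDim_eq_zero_of_isEmpty (S : Type u) [TopologicalSpace S] [IsEmpty S] : natDim S = 0 := by
  unfold natDim
  have : topologicalKrullDim S = ⊥ := by
    unfold topologicalKrullDim
    rw [Order.krullDim_eq_bot_iff]
    exact ⟨fun Z => by
      obtain ⟨z, -⟩ := Z.isIrreducible.nonempty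
      exact isEmptyElim z⟩
  rw [this]
  rfl

theorem pdim_eq_of_isClosedImmersion {Y X : Scheme.{u}} (f : Y ⟶ X) [IsClosedImmersion f] (y : Y) :
    pdim Y y = pdim X (f y) := by
  unfold pdim
  rw [natDim_image_of_isEmbedding f.isClosedEmbedding.isEmbedding,
    ← f.isClosedEmbedding.closure_image_eq, Set.image_singleton]

theorem pdim_eq_of_isOpenImmersion (X : Obj V) {Y : Scheme.{u}} (f : Y ⟶ X.scheme)
    [IsOpenImmersion f] (y : Y) : pdim Y y = pdim X.scheme (f y) := by
  rw [← natDim_closure_inter X (f y) f.opensRange ⟨y, rfl⟩]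
  unfold pdim
  rw [natDim_image_of_isEmbedding f.isOpenEmbedding.isEmbedding,
    f.isOpenEmbedding.isEmbedding.closure_eq_preimage_closure_image, Set.image_singleton,
    Set.image_preimage_eq_inter_range]
  rfl

theorem dim_le_of_pdim_le (Y : Obj V) (n : ℕ) (h : ∀ y : Y.scheme, pdim Y.scheme y ≤ n) :
    dim Y.scheme ≤ n := by
  by_cases hY : Nonempty Y.scheme
  · obtain ⟨y, hy⟩ := exists_pdim_eq_dim Y
    rw [← hy]
    exact h y
  · rw [not_nonempty_iff] at hY
    unfold dim
    rw [natDim_eq_zero_of_isEmpty]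
    exact Nat.zero_le _

theorem dim_opens_le (X : Obj V) (U : X.scheme.Opens) : dim (U : Scheme.{u}) ≤ dim X.scheme := by
  rw [dim_eq_natDim_range U.ι U.ι.isOpenEmbedding.isEmbedding]
  exact natDim_set_le _ (fin X)

theorem dim_opens_eq_of_mem (X : Obj V) (U : X.scheme.Opens) (x : X.scheme) (hx : x ∈ U)
    (hd : pdim X.scheme x = dim X.scheme) : dim (U : Scheme.{u}) = dim X.scheme := by
  refine le_antisymm (dim_opens_le X U) ?_
  have h1 := pdim_eq_of_isOpenImmersion X U.ι ⟨x, hx⟩
  have h2 : pdim (U : Scheme.{u}) ⟨x, hx⟩ ≤ dim (U : Scheme.{u}) := pdim_le_dim (X.res U) ⟨x, hx⟩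
  have h3 : U.ι ⟨x, hx⟩ = x := rfl
  rw [h3] at h1
  omega

/-- an open containing all points of codimension `0` has the dimension of the whole -/
theorem dim_opens_eq_of_codim_zero (X : Obj V) (U : X.scheme.Opens)
    (h : ∀ y : X.scheme, codim X.scheme y = 0 → y ∈ U) : dim (U : Scheme.{u}) = dim X.scheme := by
  by_cases hX : Nonempty X.scheme
  · obtain ⟨x, hx⟩ := exists_pdim_eq_dim X
    exact dim_opens_eq_of_mem X U x (h x (by unfold codim; omega)) hx
  · rw [not_nonempty_iff] at hX
    have : IsEmpty ↥(U : Scheme.{u}) := ⟨fun z => hX.false (U.ι z)⟩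
    unfold dim
    rw [natDim_eq_zero_of_isEmpty, natDim_eq_zero_of_isEmpty]

theorem dim_opens_eq_of_containsFj (X : Obj V) (j : ℕ) (U : X.scheme.Opens)
    (h : ContainsFj X j U) : dim (U : Scheme.{u}) = dim X.scheme :=
  dim_opens_eq_of_codim_zero X U (fun y hy => h y (by omega))

/-- The reduced closed subscheme on a closed subset, as an object. -/
abbrev redSub (X : Obj V) (C : Closeds X.scheme) : Obj V :=
  ⟨(Scheme.IdealSheafData.vanishingIdeal C).subscheme,
    IsConstructible.of_isClosedImmersion (Scheme.IdealSheafData.vanishingIdeal C).subschemeι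
      (h := (inferInstance : IsClosedImmersion
        (Scheme.IdealSheafData.vanishingIdeal C).subschemeι)) X.mem⟩

abbrev redSubι (X : Obj V) (C : Closeds X.scheme) : (redSub X C).scheme ⟶ X.scheme :=
  (Scheme.IdealSheafData.vanishingIdeal C).subschemeι

theorem range_redSubι (X : Obj V) (C : Closeds X.scheme) :
    Set.range (redSubι X C) = (C : Set X.scheme) := by
  rw [Scheme.IdealSheafData.range_subschemeι, Scheme.IdealSheafData.coe_support_vanishingIdeal]

instance isReduced_redSub (X : Obj V) (C : Closeds X.scheme) : IsReduced (redSub X C).scheme :=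
  Groth.Agent.Lib.Helper16.isReduced_subscheme_vanishingIdeal C

/-- the dimension of a closed subobject all of whose points have codimension `≥ j + 1` -/
theorem dim_add_le_of_codim_le {X Z : Obj V} (i : Z.scheme ⟶ X.scheme) [IsClosedImmersion i]
    [Nonempty Z.scheme] (j : ℕ) (h : ∀ z : Z.scheme, j ≤ codim X.scheme (i z)) :
    dim Z.scheme + j ≤ dim X.scheme := by
  obtain ⟨z, hz⟩ := exists_pdim_eq_dim Z
  have h1 := pdim_eq_of_isClosedImmersion i z
  have h2 := h z
  have h3 := pdim_le_dim X (i z)
  unfold codim at h2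
  omega

theorem dim_le_of_isClosedImmersion (X : Obj V) {Z : Scheme.{u}} (i : Z ⟶ X.scheme)
    [IsClosedImmersion i] : dim Z ≤ dim X.scheme := by
  rw [dim_eq_natDim_range i i.isClosedEmbedding.isEmbedding]
  exact natDim_set_le _ (fin X)

theorem codim_eq_of_isOpenImmersion (X : Obj V) {U : Obj V} (f : U ⟶ X) (y : U.scheme) :
    codim U.scheme y = codim X.scheme (f.hom y) := by
  unfold codim
  rw [pdim_eq_of_isOpenImmersion X f.hom y, f.dim_eq]

end Sch

section TopIso

/-- isolating a point that is maximal in a closed set -/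
theorem exists_isolating_closed {X : Type u} [TopologicalSpace X] [NoetherianSpace X] [QuasiSober X]
    {C : Set X} (hC : IsClosed C) (x : X) (hx : ∀ y ∈ C, x ∈ closure ({y} : Set X) → y = x) :
    ∃ C' : Set X, IsClosed C' ∧ C' ⊆ C ∧ x ∉ C' ∧ C ⊆ C' ∪ closure ({x} : Set X) := by
  obtain ⟨S, hSf, hSc, hSi, hSU⟩ := NoetherianSpace.exists_finite_set_isClosed_irreducible hC
  refine ⟨(⋃ t ∈ {t ∈ S | x ∉ t}, t), ?_, ?_, ?_, ?_⟩
  · exact (hSf.subset (Set.sep_subset _ _)).isClosed_biUnion (fun t ht => hSc t ht.1)
  · intro p hp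
    simp only [Set.mem_iUnion, Set.mem_ofPred_eq] at hp
    obtain ⟨t, ⟨htS, -⟩, hpt⟩ := hp
    rw [hSU]
    exact ⟨t, htS, hpt⟩
  · intro hx'
    simp only [Set.mem_iUnion, Set.mem_ofPred_eq] at hx'
    obtain ⟨t, ⟨-, hxt⟩, hxt'⟩ := hx'
    exact hxt hxt'
  · intro p hp
    rw [hSU] at hp
    obtain ⟨t, htS, hpt⟩ := hp
    by_cases hxt : x ∈ t
    · right
      obtain ⟨y, hy⟩ := QuasiSober.sober (hSi t htS) (hSc t htS)
      have hyt : y ∈ t := hy.mem
      have hyC : y ∈ C := by rw [hSU]; exact ⟨t, htS, hyt⟩
      have : y = x := hx y hyC (by rw [hy.def]; exact hxt)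
      rw [← this, hy.def]
      exact hpt
    · left
      simp only [Set.mem_iUnion, Set.mem_ofPred_eq]
      exact ⟨t, ⟨htS, hxt⟩, hpt⟩

end TopIso

end Groth.Agent.Lib.Lead.BMDim
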