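import Groth.Agent.Lib.Lead.EtZarFlat
import Groth.Agent.Lib.Helper22.ExtCompare
import Groth.Agent.Lib.Helper22.EtLoc.Push

/-!
# Comparison of étale cohomology and Zariski cohomology for sheaves acyclic on affine étale schemes
-/

set_option autoImplicit false

universe u w w' v

open CategoryTheory CategoryTheory.Limits Opposite AlgebraicGeometry Abelian

namespace Groth.Agent.Lib.Lead.EtZarCompare

open Groth.Agent.Lib.Lead.EtZarFlat Groth.Agent.Lib.Helper22.ExtCompare
  Groth.Agent.Lib.Helper22.EtLoc

noncomputable section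

section general

variable {C : Type u} [Category.{v} C] {J : GrothendieckTopology C}
  [HasSheafify J AddCommGrpCat.{w}] [HasExt.{w'} (Sheaf J AddCommGrpCat.{w})]

/-- If `H¹` of the kernel vanishes, sections over a terminal object lift. -/
theorem surjective_terminal_of_H1 {T : C} (hT : IsTerminal T)
    (S : ShortComplex (Sheaf J AddCommGrpCat.{w})) (hS : S.ShortExact)
    (h : ∀ x : Sheaf.H S.X₁ 1, x = 0) : Function.Surjective (S.g.hom.app (op T)) := by
  intro s
  let x : Sheaf.H S.X₃ 0 := (Sheaf.H.equiv₀ S.X₃ hT).symm s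
  obtain ⟨y, hy⟩ := Ext.covariant_sequence_exact₃ _ hS x (zero_add 1) (h _)
  refine ⟨Sheaf.H.equiv₀ S.X₂ hT y, ?_⟩
  rw [Sheaf.H.equiv₀_naturality]
  have : Sheaf.H.map S.g 0 y = x := hy
  rw [this]
  exact (Sheaf.H.equiv₀ S.X₃ hT).apply_symm_apply s

lemma surjective_of_iso {D : Type*} [Category D] {G Q : Dᵒᵖ ⥤ AddCommGrpCat.{w}} (g : G ⟶ Q)
    {X X' : D} (e : X ≅ X') (h : Function.Surjective (g.app (op X'))) :
    Function.Surjective (g.app (op X)) := by
  intro y
  obtain ⟨x', hx'⟩ := h (Q.map e.inv.op y)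
  refine ⟨G.map e.hom.op x', ?_⟩
  have h1 : g.app (op X) (G.map e.hom.op x') = Q.map e.hom.op (g.app (op X') x') :=
    ConcreteCategory.congr_hom (g.naturality e.hom.op) x'
  rw [h1, hx']
  have h2 : Q.map e.inv.op ≫ Q.map e.hom.op = 𝟙 _ := by
    rw [← Q.map_comp, ← op_comp, e.hom_inv_id, op_id, Q.map_id]
  exact ConcreteCategory.congr_hom h2 y

end general

/-- The identity is terminal in the small étale site. -/
def isTerminalEtTop (Y : Scheme.{u}) : IsTerminal (EtCoh.top Y) :=
  IsTerminal.ofUniqueHom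
    (fun T => MorphismProperty.Over.homMk T.hom (Category.comp_id _) trivial)
    (fun T m => by
      apply MorphismProperty.Over.Hom.ext
      have h := MorphismProperty.Over.w m
      exact (Category.comp_id _).symm.trans h)

section local_

variable {S Y : Scheme.{u}} (j : Y ⟶ S) [Etale j]

instance : PreservesLimits (res j) := by
  unfold res
  infer_instance

instance : PreservesColimits (res j) := (resPushAdj j).leftAdjoint_preservesColimits

lemma shortExact_map_res (C : ShortComplex (EtCoh.Ab S)) (hC : C.ShortExact) :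
    (C.map (res j)).ShortExact := by
  haveI : (res j).PreservesZeroMorphisms := (res j).preservesZeroMorphisms_of_preserves_terminal_object
  exact hC.map_of_exact (res j)

lemma shortExact_map_pull (C : ShortComplex (EtCoh.Ab S)) (hC : C.ShortExact) :
    (C.map (EtCoh.pull j)).ShortExact := by
  haveI : (res j).PreservesZeroMorphisms := (res j).preservesZeroMorphisms_of_preserves_terminal_object
  haveI : (EtCoh.pull j).PreservesZeroMorphisms :=
    (EtCoh.pull j).preservesZeroMorphisms_of_preserves_initial_object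
  exact ShortComplex.shortExact_of_iso
    (ShortComplex.mapNatIso C (pullIsoRes j)).symm (shortExact_map_res j C hC)

/-- Transport of vanishing from `pull` to `res`. -/
lemma H_res_eq_zero (F : EtCoh.Ab S) (n : ℕ)
    (h : Subsingleton (EtCoh.H Y ((EtCoh.pull j).obj F) n)) (x : Sheaf.H ((res j).obj F) n) :
    x = 0 := by
  let e := (pullIsoRes j).app F
  have h1 : x.comp (Ext.mk₀ e.inv) (add_zero n) = 0 := Subsingleton.elim _ _
  have h2 : x = (x.comp (Ext.mk₀ e.inv) (add_zero n)).comp (Ext.mk₀ e.hom) (add_zero n) := by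
    rw [Ext.comp_assoc_of_second_deg_zero, Ext.mk₀_comp_mk₀, e.inv_hom_id, Ext.comp_mk₀_id]
  rw [h2, h1, Ext.zero_comp]

end local_

variable (S : Scheme.{u}) [EtZar.ZarCont S]

/-- The image of the top open is terminal in the small étale site. -/
def isTerminalTop : IsTerminal ((EtZar.zarToEt S).obj ⊤) :=
  IsTerminal.ofUniqueHom
    (fun X => liftTo S X ⊤ (by
      rw [Scheme.Opens.range_ι]
      intro s _
      trivial))
    (fun X m => hom_ext_zarToEt S X ⊤ _ _)

/-- The degree zero comparison. -/
def deg0 : Deg0Iso (EtZar.resZar S)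
    ((constantSheaf S.smallEtaleTopology AddCommGrpCat.{u + 1}).obj
      (AddCommGrpCat.of (ULift ℤ)))
    ((constantSheaf (Opens.grothendieckTopology S) AddCommGrpCat.{u + 1}).obj
      (AddCommGrpCat.of (ULift ℤ))) where
  e G := (Sheaf.H.equiv₀ G (isTerminalTop S)).trans
    (Sheaf.H.equiv₀ ((EtZar.resZar S).obj G)
      (Limits.isTerminalTop (α := S.Opens))).symm
  nat {G G'} g x := by
    show (Sheaf.H.equiv₀ ((EtZar.resZar S).obj G')
        (Limits.isTerminalTop (α := S.Opens))).symm
        (Sheaf.H.equiv₀ G' (isTerminalTop S) (Sheaf.H.map g 0 x)) =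
      Sheaf.H.map ((EtZar.resZar S).map g) 0
        ((Sheaf.H.equiv₀ ((EtZar.resZar S).obj G)
          (Limits.isTerminalTop (α := S.Opens))).symm
          (Sheaf.H.equiv₀ G (isTerminalTop S) x))
    rw [← Sheaf.H.equiv₀_naturality, Sheaf.H.equiv₀_symm_naturality]
    rfl

/-- Sheaves whose higher cohomology vanishes on every affine étale scheme. -/
def Good (G : EtCoh.Ab S) : Prop :=
  ∀ (T : S.Etale), IsAffine T.left → ∀ i : ℕ, 1 ≤ i →
    Subsingleton (EtCoh.H T.left ((EtCoh.pull T.hom).obj G) i)

variable {S}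


/-- The quotient of an injective sheaf by a good subsheaf is good. -/
theorem good_quot (F : EtCoh.Ab S) (hF : Good S F) : Good S (injSC F).X₃ := by
  intro T hT i hi
  haveI : Etale T.hom := T.prop
  obtain ⟨n, rfl⟩ : ∃ n, i = n + 1 := ⟨i - 1, by omega⟩
  have hS := shortExact_map_pull T.hom (injSC F) (injSC_shortExact F)
  refine subsingleton_of_forall_eq 0 fun x => ?_
  have h0 : ∀ z : Ext ((constantSheaf T.left.smallEtaleTopology AddCommGrpCat.{u + 1}).obj
      (AddCommGrpCat.of (ULift ℤ))) ((injSC F).map (EtCoh.pull T.hom)).X₁ (n + 1 + 1), z = 0 := by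
    intro z
    haveI := hF T hT (n + 1 + 1) (by omega)
    exact Subsingleton.elim (α := EtCoh.H T.left ((EtCoh.pull T.hom).obj F) (n + 1 + 1)) _ _
  obtain ⟨y, hy⟩ := Ext.covariant_sequence_exact₃ _ hS x rfl (h0 _)
  haveI := subsingleton_H_pull_of_cechFlasque T.hom (injSC F).X₂
    (cechFlasque_of_injective _) n
  have hy0 : y = 0 :=
    Subsingleton.elim (α := EtCoh.H T.left ((EtCoh.pull T.hom).obj (injSC F).X₂) (n + 1)) _ _
  rw [← hy, hy0, Ext.zero_comp]
  rfl

/-- Sections lift over affine opens. -/
lemma surjective_affineOpen (C : ShortComplex (EtCoh.Ab S)) (hC : C.ShortExact) (hF : Good S C.X₁)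
    (V : S.Opens) (hV : IsAffineOpen V) :
    Function.Surjective (C.g.hom.app (op ((EtZar.zarToEt S).obj V))) := by
  let T : S.Etale := (EtZar.zarToEt S).obj V
  haveI : Etale T.hom := T.prop
  have hTa : IsAffine T.left := hV
  have hS := shortExact_map_res T.hom C hC
  have h1 : ∀ x : Sheaf.H (C.map (res T.hom)).X₁ 1, x = 0 :=
    fun x => H_res_eq_zero T.hom C.X₁ 1 (hF T hTa 1 le_rfl) x
  have hsurj := surjective_terminal_of_H1 (isTerminalEtTop T.left) _ hS h1
  let e : T ≅ (pj T.hom).obj (EtCoh.top T.left) :=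
    MorphismProperty.Over.isoMk (Iso.refl _) (by
      show 𝟙 _ ≫ (𝟙 _ ≫ T.hom) = T.hom
      rw [Category.id_comp, Category.id_comp])
  exact surjective_of_iso C.g.hom e hsurj

theorem shortExact_map_resZar (C : ShortComplex (EtCoh.Ab S)) (hC : C.ShortExact)
    (hF : Good S C.X₁) : (C.map (EtZar.resZar S)).ShortExact := by
  haveI : PreservesLimitsOfSize.{0, 0} (EtZar.resZar S) :=
    (zarAdj S).rightAdjoint_preservesLimits
  haveI : (EtZar.resZar S).PreservesZeroMorphisms :=
    (EtZar.resZar S).preservesZeroMorphisms_of_preserves_terminal_object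
  haveI := hC.mono_f
  have hex : (C.map (EtZar.resZar S)).Exact :=
    hC.exact.map_of_mono_of_preservesKernel _ hC.mono_f inferInstance
  haveI : Mono (C.map (EtZar.resZar S)).f :=
    inferInstanceAs (Mono ((EtZar.resZar S).map C.f))
  haveI : Epi (C.map (EtZar.resZar S)).g := by
    show Epi ((EtZar.resZar S).map C.g)
    haveI : (Opens.grothendieckTopology S).WEqualsLocallyBijective AddCommGrpCat.{u + 1} :=
      .ofEssentiallySmall _
    rw [← Sheaf.isLocallySurjective_iff_epi' (A := AddCommGrpCat.{u + 1})]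
    constructor
    intro U s x hx
    obtain ⟨V, hVaff, hxV, hVU⟩ :=
      TopologicalSpace.Opens.isBasis_iff_nbhd.mp S.isBasis_affineOpens (U := U) hx
    refine ⟨V, homOfLE hVU, ?_, hxV⟩
    exact surjective_affineOpen C hC hF V hVaff _
  exact ShortComplex.ShortExact.mk' hex inferInstance inferInstance

/-- Comparison of Zariski and étale cohomology for good sheaves. -/
theorem nonempty_compare (F : EtCoh.Ab S) (hF : Good S F) (q : ℕ) :
    Nonempty (EtZar.H ((EtZar.resZar S).obj F) q ≃+ EtCoh.H S F q) := by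
  haveI : (EtZar.resZar S).PreservesZeroMorphisms := by
    haveI : PreservesLimitsOfSize.{0, 0} (EtZar.resZar S) :=
      (zarAdj S).rightAdjoint_preservesLimits
    exact (EtZar.resZar S).preservesZeroMorphisms_of_preserves_terminal_object
  obtain ⟨e⟩ := nonempty_ext_addEquiv (deg0 S) (Good S)
    (fun G hG => shortExact_map_resZar (injSC G) (injSC_shortExact G) hG)
    (fun G hG => good_quot G hG)
    (fun G _ n x => by
      haveI := injective_resZar S (injSC G).X₂
      exact Ext.eq_zero_of_injective x) q F hF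
  exact ⟨e.symm⟩

/-- Composition with the identity is the identity. -/
def pjId {S : Scheme.{u}} : pj (𝟙 S) ≅ 𝟭 S.Etale :=
  NatIso.ofComponents
    (fun A => MorphismProperty.Over.isoMk (Iso.refl _) (by
      exact (Category.id_comp _).trans (Category.comp_id _).symm))
    (by
      intro A B f
      apply MorphismProperty.Over.Hom.ext
      exact (Category.comp_id _).trans (Category.id_comp _).symm)

/-- Restriction along the identity is the identity. -/
def resId {S : Scheme.{u}} (F : EtCoh.Ab S) : (res (𝟙 S)).obj F ≅ F :=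
  (fullyFaithfulSheafToPresheaf _ _).preimageIso
    (Functor.isoWhiskerRight (NatIso.op (pjId (S := S))).symm F.obj ≪≫ Functor.leftUnitor _)

/-- Good sheaves on an affine scheme have no higher cohomology. -/
theorem H_eq_zero_of_good [IsAffine S] (F : EtCoh.Ab S) (hF : Good S F) (i : ℕ) (hi : 1 ≤ i)
    (x : EtCoh.H S F i) : x = 0 := by
  have h := hF (EtCoh.top S) (inferInstanceAs (IsAffine S)) i hi
  let e := resId F
  have h1 : x.comp (Ext.mk₀ e.inv) (add_zero i) = 0 :=
    H_res_eq_zero (𝟙 S) F i h _
  have h2 : x = (x.comp (Ext.mk₀ e.inv) (add_zero i)).comp (Ext.mk₀ e.hom) (add_zero i) := by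
    rw [Ext.comp_assoc_of_second_deg_zero, Ext.mk₀_comp_mk₀, e.inv_hom_id, Ext.comp_mk₀_id]
  rw [h2, h1, Ext.zero_comp]

/-- Zariski cohomology of a good sheaf on an affine scheme vanishes in positive degrees. -/
theorem subsingleton_zariskiH [IsAffine S] (F : EtCoh.Ab S) (hF : Good S F) (i : ℕ) (hi : 1 ≤ i) :
    Subsingleton (EtZar.H ((EtZar.resZar S).obj F) i) := by
  obtain ⟨e⟩ := nonempty_compare F hF i
  refine subsingleton_of_forall_eq 0 fun x => ?_
  apply e.injective
  rw [map_zero]
  exact H_eq_zero_of_good F hF i hi _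

end

end Groth.Agent.Lib.Lead.EtZarCompare
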