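import Groth.Agent.Lib.Helper22.EtLoc.OpenCover
import Groth.Agent.Lib.Helper22.EtLoc.MVTranslate
import Groth.Agent.Lib.Helper22.EtLoc.HpullComp
import Groth.Agent.Lib.Helper22.DeltaMV
import Groth.Agent.S0101
import Groth.Agent.Lib.Helper22.ExtCompare

/-!
# Relative Mayer–Vietoris for étale cohomology: `U = U₁ ∪ U₂` inside `X`
-/

set_option autoImplicit false

universe u

open CategoryTheory CategoryTheory.Limits Opposite AlgebraicGeometry Abelian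

namespace Groth.Agent.Lib.Lead.RelMV

open Groth.Agent.Lib.Helper22 Groth.Agent.Lib.Helper22.EtLoc Groth.Agent.Lib.Helper22.CechU.Etale

noncomputable section

variable {X : Scheme.{u}}

instance pullExact {Y Z : Scheme.{u}} (f : Y ⟶ Z) : PreservesFiniteLimits (EtCoh.pull f) :=
  Groth.Agent.S0101.main f

section Cover

variable (U U₁ U₂ : X.Opens) (h₁ : U₁ ≤ U) (h₂ : U₂ ≤ U)

/-- The two-element cover of `U` by `U₁` and `U₂`. -/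
def cov : Bool → X.Etale
  | true => uOpen U₁
  | false => uOpen U₂

/-- The two-element cover of `U` by `U₁` and `U₂`. -/
def covπ : (b : Bool) → cov U₁ U₂ b ⟶ uOpen U
  | true => rO h₁
  | false => rO h₂

lemma rO_left {W V : X.Opens} (h : W ≤ V) : (rO h).left = X.homOfLE h := rfl

include h₁ h₂ in
lemma cover_mem (hU : U₁ ⊔ U₂ = U) :
    Sieve.ofArrows (cov U₁ U₂) (covπ U U₁ U₂ h₁ h₂) ∈ X.smallEtaleTopology (uOpen U) := by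
  rw [mem_smallEtaleTopology_iff]
  intro x
  change ↥(U : Scheme.{u}) at x
  have hx : (x.1 : X) ∈ (U₁ ⊔ U₂ : X.Opens) := by rw [hU]; exact x.2
  rcases hx with hx | hx
  · refine ⟨uOpen U₁, rO h₁, (⟨x.1, hx⟩ : U₁), Sieve.ofArrows_mk _ _ true, ?_⟩
    rw [rO_left]
    exact Scheme.homOfLE_apply' h₁ x.1 hx
  · refine ⟨uOpen U₂, rO h₂, (⟨x.1, hx⟩ : U₂), Sieve.ofArrows_mk _ _ false, ?_⟩
    rw [rO_left]
    exact Scheme.homOfLE_apply' h₂ x.1 hx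

lemma isSheafFor_cover (hU : U₁ ⊔ U₂ = U) (F : EtCoh.Ab X) :
    (Presieve.ofArrows (cov U₁ U₂) (covπ U U₁ U₂ h₁ h₂)).IsSheafFor
      (F.obj ⋙ forget AddCommGrpCat.{u + 1}) := by
  rw [Presieve.isSheafFor_iff_generate]
  exact isSheaf_forget F _ (cover_mem U U₁ U₂ h₁ h₂ hU)

lemma sep (hU : U₁ ⊔ U₂ = U) (F : EtCoh.Ab X) (s s' : F.obj.obj (op (uOpen U)))
    (e1 : F.obj.map (rO h₁).op s = F.obj.map (rO h₁).op s')
    (e2 : F.obj.map (rO h₂).op s = F.obj.map (rO h₂).op s') : s = s' := by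
  refine (isSheafFor_cover U U₁ U₂ h₁ h₂ hU F).isSeparatedFor.ext ?_
  intro Y f hf
  obtain ⟨b⟩ := hf
  cases b
  · exact e2
  · exact e1

lemma glue (hU : U₁ ⊔ U₂ = U) (F : EtCoh.Ab X) (t₁ : F.obj.obj (op (uOpen U₁)))
    (t₂ : F.obj.obj (op (uOpen U₂)))
    (h : F.obj.map (rO (inf_le_left : U₁ ⊓ U₂ ≤ U₁)).op t₁ =
      F.obj.map (rO (inf_le_right : U₁ ⊓ U₂ ≤ U₂)).op t₂) :
    ∃ s : F.obj.obj (op (uOpen U)),
      F.obj.map (rO h₁).op s = t₁ ∧ F.obj.map (rO h₂).op s = t₂ := by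
  have hs := (Presieve.isSheafFor_arrows_iff (F.obj ⋙ forget AddCommGrpCat.{u + 1})
    (covπ U U₁ U₂ h₁ h₂)).1 (isSheafFor_cover U U₁ U₂ h₁ h₂ hU F)
  let x : (b : Bool) → (F.obj ⋙ forget AddCommGrpCat.{u + 1}).obj (op (cov U₁ U₂ b)) := fun b =>
    match b with
    | true => t₁
    | false => t₂
  have key : ∀ (Z : X.Etale) (g₁ : Z ⟶ uOpen U₁) (g₂ : Z ⟶ uOpen U₂),
      F.obj.map g₁.op t₁ = F.obj.map g₂.op t₂ := by
    intro Z g₁ g₂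
    obtain ⟨k, -⟩ : ∃ k, k = liftInf g₁ g₂ := ⟨_, rfl⟩
    have e1 : g₁ = k ≫ rO inf_le_left := Subsingleton.elim _ _
    have e2 : g₂ = k ≫ rO inf_le_right := Subsingleton.elim _ _
    rw [e1, e2, op_comp, op_comp, Functor.map_comp, Functor.map_comp,
      ConcreteCategory.comp_apply, ConcreteCategory.comp_apply, h]
  have hx : Presieve.Arrows.Compatible (F.obj ⋙ forget AddCommGrpCat.{u + 1})
      (covπ U U₁ U₂ h₁ h₂) x := by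
    intro i j Z gi gj _
    cases i <;> cases j
    · have : gi = gj := Subsingleton.elim (α := Z ⟶ uOpen U₂) gi gj
      rw [this]
    · exact (key Z gj gi).symm
    · exact key Z gi gj
    · have : gi = gj := Subsingleton.elim (α := Z ⟶ uOpen U₁) gi gj
      rw [this]
  obtain ⟨s, hs1, -⟩ := hs x hx
  exact ⟨s, hs1 true, hs1 false⟩

end Cover

section MV

variable (U U₁ U₂ : X.Opens) (h₁ : U₁ ≤ U) (h₂ : U₂ ≤ U)

lemma mv_surj (I : EtCoh.Ab X) [Injective I] (A : X.Opens)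
    (y : EtCoh.H ↑A ((EtCoh.pull A.ι).obj I) 0) : ∃ x : EtCoh.H X I 0, EtCore.Hpull A.ι I 0 x = y := by
  obtain ⟨s, hs⟩ := surjective_res_of_injective I (tO A) (σH A.ι I y)
  refine ⟨(Sheaf.H.equiv₀ I (EtCore.topIsTerminal X)).symm s, ?_⟩
  apply (σH A.ι I).injective
  rw [σH_Hpull A.ι I (tO A), AddEquiv.apply_symm_apply, hs]

lemma map_rO_tO (G : EtCoh.Ab X) {W V : X.Opens} (h : W ≤ V) (s : G.obj.obj (op (EtCoh.top X))) :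
    G.obj.map (rO h).op (G.obj.map (tO V).op s) = G.obj.map (tO W).op s := by
  have e : rO h ≫ tO V = tO W := (EtCore.topIsTerminal X).hom_ext _ _
  rw [← ConcreteCategory.comp_apply, ← Functor.map_comp, ← op_comp, e]

lemma mv_c1 (hU : U₁ ⊔ U₂ = U) (I : EtCoh.Ab X) [Injective I]
    (y : EtCoh.H ↑U ((EtCoh.pull U.ι).obj I) 0)
    (e1 : EtCore.HpullVia (X.homOfLE h₁) U.ι U₁.ι (X.homOfLE_ι h₁) I 0 y = 0)
    (e2 : EtCore.HpullVia (X.homOfLE h₂) U.ι U₂.ι (X.homOfLE_ι h₂) I 0 y = 0) : y = 0 := by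
  obtain ⟨x, rfl⟩ := mv_surj I U y
  rw [HpullVia_Hpull_zero] at e1 e2
  apply (σH U.ι I).injective
  rw [map_zero, σH_Hpull U.ι I (tO U)]
  apply sep U U₁ U₂ h₁ h₂ hU I
  · rw [map_rO_tO, map_zero, ← σH_Hpull U₁.ι I (tO U₁), e1, map_zero]
  · rw [map_rO_tO, map_zero, ← σH_Hpull U₂.ι I (tO U₂), e2, map_zero]

lemma mv_c2 (hU : U₁ ⊔ U₂ = U) (I : EtCoh.Ab X) [Injective I]
    (y₁ : EtCoh.H ↑U₁ ((EtCoh.pull U₁.ι).obj I) 0) (y₂ : EtCoh.H ↑U₂ ((EtCoh.pull U₂.ι).obj I) 0)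
    (h : EtCore.HpullVia (X.homOfLE (inf_le_left : U₁ ⊓ U₂ ≤ U₁)) U₁.ι (U₁ ⊓ U₂).ι
        (X.homOfLE_ι inf_le_left) I 0 y₁ =
      EtCore.HpullVia (X.homOfLE (inf_le_right : U₁ ⊓ U₂ ≤ U₂)) U₂.ι (U₁ ⊓ U₂).ι
        (X.homOfLE_ι inf_le_right) I 0 y₂) :
    ∃ y : EtCoh.H ↑U ((EtCoh.pull U.ι).obj I) 0,
      EtCore.HpullVia (X.homOfLE h₁) U.ι U₁.ι (X.homOfLE_ι h₁) I 0 y = y₁ ∧
      EtCore.HpullVia (X.homOfLE h₂) U.ι U₂.ι (X.homOfLE_ι h₂) I 0 y = y₂ := by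
  obtain ⟨x₁, rfl⟩ := mv_surj I U₁ y₁
  obtain ⟨x₂, rfl⟩ := mv_surj I U₂ y₂
  rw [HpullVia_Hpull_zero, HpullVia_Hpull_zero] at h
  have hW : I.obj.map (tO (U₁ ⊓ U₂)).op (Sheaf.H.equiv₀ I (EtCore.topIsTerminal X) x₁) =
      I.obj.map (tO (U₁ ⊓ U₂)).op (Sheaf.H.equiv₀ I (EtCore.topIsTerminal X) x₂) := by
    rw [← σH_Hpull (U₁ ⊓ U₂).ι I (tO (U₁ ⊓ U₂)), ← σH_Hpull (U₁ ⊓ U₂).ι I (tO (U₁ ⊓ U₂)), h]
  obtain ⟨t, ht1, ht2⟩ := glue U U₁ U₂ h₁ h₂ hU I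
    (I.obj.map (tO U₁).op (Sheaf.H.equiv₀ I (EtCore.topIsTerminal X) x₁))
    (I.obj.map (tO U₂).op (Sheaf.H.equiv₀ I (EtCore.topIsTerminal X) x₂)) (by
      rw [map_rO_tO, map_rO_tO]
      exact hW)
  obtain ⟨s, hs⟩ := surjective_res_of_injective I (tO U) t
  refine ⟨EtCore.Hpull U.ι I 0 ((Sheaf.H.equiv₀ I (EtCore.topIsTerminal X)).symm s), ?_, ?_⟩
  · rw [HpullVia_Hpull_zero]
    apply (σH U₁.ι I).injective
    rw [σH_Hpull U₁.ι I (tO U₁), σH_Hpull U₁.ι I (tO U₁), AddEquiv.apply_symm_apply,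
      ← map_rO_tO I h₁, hs, ht1]
  · rw [HpullVia_Hpull_zero]
    apply (σH U₂.ι I).injective
    rw [σH_Hpull U₂.ι I (tO U₂), σH_Hpull U₂.ι I (tO U₂), AddEquiv.apply_symm_apply,
      ← map_rO_tO I h₂, hs, ht2]

/-- Two natural transformations into the degree-zero part of a `ZeroMono` δ-functor which agree on
injective objects agree. -/
lemma natTrans_ext_of_injective {P : EtCoh.Ab X ⥤ AddCommGrpCat.{u + 1}}
    {T : DeltaF.CohDeltaFunctor (EtCoh.Ab X) AddCommGrpCat.{u + 1} ℕ} (hT : T.ZeroMono)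
    (φ ψ : P ⟶ T.F 0) (h : ∀ (I : EtCoh.Ab X) [Injective I], φ.app I = ψ.app I) : φ = ψ := by
  ext G : 2
  haveI : Mono ((T.F 0).map (ExtCompare.injSC G).f) := hT _ (ExtCompare.injSC_shortExact G)
  rw [← cancel_mono ((T.F 0).map (ExtCompare.injSC G).f), ← φ.naturality, ← ψ.naturality,
    h (ExtCompare.injSC G).X₂]

variable (F : EtCoh.Ab X)

include h₁ h₂ in
/-- If a class on `U = U₁ ∪ U₂` restricts to zero on `U₁` and on `U₂` and the cohomology of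
`U₁ ∩ U₂` one degree lower vanishes, then the class is zero. -/
theorem eq_zero_of_restrict_eq_zero (hU : U₁ ⊔ U₂ = U) (n : ℕ)
    (hvan : ∀ η : EtCoh.H ↑(U₁ ⊓ U₂) ((EtCoh.pull (U₁ ⊓ U₂).ι).obj F) n, η = 0)
    (ξ : EtCoh.H ↑U ((EtCoh.pull U.ι).obj F) (n + 1))
    (e1 : EtCore.HpullVia (X.homOfLE h₁) U.ι U₁.ι (X.homOfLE_ι h₁) F (n + 1) ξ = 0)
    (e2 : EtCore.HpullVia (X.homOfLE h₂) U.ι U₂.ι (X.homOfLE_ι h₂) F (n + 1) ξ = 0) : ξ = 0 := by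
  have w₁ : X.homOfLE (inf_le_left : U₁ ⊓ U₂ ≤ U₁) ≫ U₁.ι = (U₁ ⊓ U₂).ι := X.homOfLE_ι _
  have w₂ : X.homOfLE (inf_le_right : U₁ ⊓ U₂ ≤ U₂) ≫ U₂.ι = (U₁ ⊓ U₂).ι := X.homOfLE_ι _
  let α₁ : TD U.ι ⟶ TD U₁.ι := HpullViaHom (X.homOfLE h₁) U.ι U₁.ι (X.homOfLE_ι h₁)
  let α₂ : TD U.ι ⟶ TD U₂.ι := HpullViaHom (X.homOfLE h₂) U.ι U₂.ι (X.homOfLE_ι h₂)
  let β₁ : TD U₁.ι ⟶ TD (U₁ ⊓ U₂).ι :=
    HpullViaHom (X.homOfLE (inf_le_left : U₁ ⊓ U₂ ≤ U₁)) U₁.ι (U₁ ⊓ U₂).ι w₁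
  let β₂ : TD U₂.ι ⟶ TD (U₁ ⊓ U₂).ι :=
    HpullViaHom (X.homOfLE (inf_le_right : U₁ ⊓ U₂ ≤ U₂)) U₂.ι (U₁ ⊓ U₂).ι w₂
  have hw : α₁.app 0 ≫ β₁.app 0 = α₂.app 0 ≫ β₂.app 0 := by
    apply natTrans_ext_of_injective (TD_zeroMono (U₁ ⊓ U₂).ι)
    intro I _
    ext y
    obtain ⟨x, rfl⟩ := mv_surj I U y
    show EtCore.HpullVia _ U₁.ι (U₁ ⊓ U₂).ι w₁ I 0
        (EtCore.HpullVia (X.homOfLE h₁) U.ι U₁.ι (X.homOfLE_ι h₁) I 0 (EtCore.Hpull U.ι I 0 x)) =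
      EtCore.HpullVia _ U₂.ι (U₁ ⊓ U₂).ι w₂ I 0
        (EtCore.HpullVia (X.homOfLE h₂) U.ι U₂.ι (X.homOfLE_ι h₂) I 0 (EtCore.Hpull U.ι I 0 x))
    rw [HpullVia_Hpull_zero, HpullVia_Hpull_zero, HpullVia_Hpull_zero, HpullVia_Hpull_zero]
  have h : ∀ (I : EtCoh.Ab X) [Injective I],
      (DerivedMV.sc (α₁.app 0) (α₂.app 0) (β₁.app 0) (β₂.app 0) hw I).ShortExact := by
    intro I _
    refine SheafExact.ab_mv_shortExact _ _ _ _ _ ?_ ?_ ?_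
    · intro y e1 e2
      exact mv_c1 U U₁ U₂ h₁ h₂ hU I y e1 e2
    · intro y₁ y₂ hy
      exact mv_c2 U U₁ U₂ h₁ h₂ hU I y₁ y₂ hy
    · intro z
      obtain ⟨x, rfl⟩ := mv_surj I (U₁ ⊓ U₂) z
      exact ⟨EtCore.Hpull U₁.ι I 0 x, HpullVia_Hpull_zero _ U₁.ι _ w₁ I x⟩
  obtain ⟨δ, -, hex⟩ := DeltaMV.main (TD_isEffaceable U.ι) (TD_zeroMono U.ι)
    (TD_isEffaceable U₁.ι) (TD_zeroMono U₁.ι) (TD_isEffaceable U₂.ι) (TD_zeroMono U₂.ι)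
    (TD_isEffaceable (U₁ ⊓ U₂).ι) (TD_zeroMono (U₁ ⊓ U₂).ι) α₁ α₂ β₁ β₂ hw h F
  have hk := ker_prod_eq_range _ _ (δ n) (hex n).2.2
  let ξ' : ↑(((TD U.ι).F (n + 1)).obj F) := ξ
  have hmem : ξ' ∈ (AddMonoidHom.prod ((α₁.app (n + 1)).app F).hom
      ((α₂.app (n + 1)).app F).hom).ker :=
    AddMonoidHom.mem_ker.mpr (Prod.ext e1 e2)
  rw [hk] at hmem
  obtain ⟨η, hη⟩ := hmem
  have hη0 : η = 0 := hvan η
  have h3 : ξ' = 0 := by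
    rw [← hη, hη0]
    exact map_zero _
  exact h3

end MV

end

end Groth.Agent.Lib.Lead.RelMV
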