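import Mathlib

/-!
# Étale algebras over strictly henselian local rings have sections
-/

set_option autoImplicit false

universe u

open IsLocalRing Polynomial

namespace Groth.Agent.Lib.Lead.StrictHens

section standard

variable {R : Type u} [CommRing R] [HenselianLocalRing R] [IsSepClosed (ResidueField R)]

/-- Standard étale case. -/
theorem nonempty_algHom_standard (P : StandardEtalePair R) (q : Ideal P.Ring) [q.IsPrime]
    (hq : q.comap (algebraMap R P.Ring) = maximalIdeal R) : Nonempty (P.Ring →ₐ[R] R) := by
  let B := Localization.AtPrime q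
  haveI : IsLocalHom (algebraMap R B) := by
    constructor
    intro a ha
    by_contra hna
    have hm : a ∈ maximalIdeal R := hna
    rw [← hq] at hm
    have hm' : algebraMap R P.Ring a ∈ q := hm
    have h2 : algebraMap P.Ring B (algebraMap R P.Ring a) ∈ maximalIdeal B := by
      rw [← Localization.AtPrime.map_eq_maximalIdeal]
      exact Ideal.mem_map_of_mem _ hm'
    rw [← IsScalarTower.algebraMap_apply] at h2
    exact h2 ha
  haveI : Algebra.FormallyUnramified R B := inferInstance
  haveI : Algebra.EssFiniteType R B := inferInstance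
  have hbij : Function.Bijective (algebraMap (ResidueField R) (ResidueField B)) :=
    IsSepClosed.algebraMap_bijective _ _
  let ι : ResidueField R →+* ResidueField B := algebraMap (ResidueField R) (ResidueField B)
  let β : P.Ring →+* B := algebraMap P.Ring B
  let α₁ : R →+* P.Ring := algebraMap R P.Ring
  have hcompat : ι.comp (residue R) = ((residue B).comp β).comp α₁ := by
    ext r
    show ι (residue R r) = residue B (β (α₁ r))
    have : β (α₁ r) = algebraMap R B r := (IsScalarTower.algebraMap_apply R P.Ring B r).symm
    rw [this]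
    rfl
  obtain ⟨a₀', ha₀'⟩ := hbij.2 (residue B (β P.X))
  obtain ⟨a₀, rfl⟩ := residue_surjective a₀'
  have key : ∀ b : R, ι (residue R b) = residue B (β P.X) → ∀ p : R[X],
      ι (residue R (p.eval b)) = residue B (β (aeval P.X p)) := by
    intro b hb p
    have h1 : ι (residue R (p.eval b)) = p.eval₂ (ι.comp (residue R)) (ι (residue R b)) := by
      rw [← Polynomial.eval₂_id, ← RingHom.comp_apply, Polynomial.hom_eval₂]
      rfl
    have h2 : residue B (β (aeval P.X p)) = p.eval₂ (((residue B).comp β).comp α₁)
        (residue B (β P.X)) := by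
      rw [Polynomial.aeval_def, ← RingHom.comp_apply, Polynomial.hom_eval₂]
      rfl
    rw [h1, h2, hcompat, hb]
  have hι : Function.Injective ι := hbij.1
  have hf0 : P.f.eval a₀ ∈ maximalIdeal R := by
    rw [← residue_eq_zero_iff]
    apply hι
    rw [key a₀ ha₀' P.f, P.hasMap_X.1, map_zero, map_zero, map_zero]
  have hunit_of : ∀ (b : R) (p : R[X]), ι (residue R b) = residue B (β P.X) →
      IsUnit (aeval P.X p) → IsUnit (p.eval b) := by
    intro b p hb hu
    by_contra hnu
    have hm : p.eval b ∈ maximalIdeal R := hnu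
    rw [← residue_eq_zero_iff] at hm
    have h3 := key b hb p
    rw [hm, map_zero] at h3
    have h4 : IsUnit (residue B (β (aeval P.X p))) := (hu.map β).map (residue B)
    rw [← h3] at h4
    exact not_isUnit_zero h4
  have hf' : IsUnit (P.f.derivative.eval a₀) :=
    hunit_of a₀ _ ha₀' P.hasMap_X.isUnit_derivative_f
  obtain ⟨a, ha, haa₀⟩ := HenselianLocalRing.is_henselian P.f P.monic_f a₀ hf0 hf'
  have hab : ι (residue R a) = residue B (β P.X) := by
    rw [← ha₀']
    congr 1
    rw [← sub_eq_zero, ← map_sub, residue_eq_zero_iff]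
    exact haa₀
  have hg : IsUnit (P.g.eval a) := hunit_of a _ hab P.hasMap_X.2
  have hmap : P.HasMap a := by
    refine ⟨?_, ?_⟩
    · rw [Polynomial.coe_aeval_eq_eval]
      exact ha
    · rw [Polynomial.coe_aeval_eq_eval]
      exact hg
  exact ⟨P.lift a hmap⟩

end standard

section general

variable {R A : Type u} [CommRing R] [CommRing A] [Algebra R A] [HenselianLocalRing R]
  [IsSepClosed (ResidueField R)]

/-- An étale algebra over a strictly henselian local ring with a prime over the maximal ideal
admits a retraction. -/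
theorem nonempty_algHom_of_etale [Algebra.Etale R A] (q : Ideal A) [q.IsPrime]
    (hq : q.comap (algebraMap R A) = maximalIdeal R) : Nonempty (A →ₐ[R] R) := by
  haveI : Algebra.FinitePresentation R A := Algebra.Etale.finitePresentation
  haveI : Algebra.IsEtaleAt R q := by
    have h : (Algebra.etaleLocus R A) = Set.univ := Algebra.etaleLocus_eq_univ_iff_etale.mpr inferInstance
    have h2 : (⟨q, inferInstance⟩ : PrimeSpectrum A) ∈ Algebra.etaleLocus R A := by
      rw [h]; trivial
    exact h2
  obtain ⟨f, hfq, hstd⟩ := Algebra.IsEtaleAt.exists_isStandardEtale (R := R) q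
  let A' := Localization.Away f
  obtain ⟨𝓟⟩ := hstd.nonempty_standardEtalePresentation
  let e : A' ≃ₐ[R] 𝓟.P.Ring := 𝓟.equivRing
  have hdisj : Disjoint (Submonoid.powers f : Set A) (q : Set A) :=
    (Ideal.disjoint_powers_iff_notMem_of_isPrime _).mpr hfq
  let q'' : Ideal A' := Ideal.map (algebraMap A A') q
  haveI hq''p : q''.IsPrime := IsLocalization.isPrime_of_isPrime_disjoint (.powers f) _ _ ‹_› hdisj
  have hq''c : q''.comap (algebraMap A A') = q :=
    IsLocalization.comap_map_of_isPrime_disjoint (.powers f) _ ‹_› hdisj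
  let q' : Ideal 𝓟.P.Ring := q''.comap (e.symm : 𝓟.P.Ring →+* A')
  haveI : q'.IsPrime := Ideal.comap_isPrime _ _
  have hq' : q'.comap (algebraMap R 𝓟.P.Ring) = maximalIdeal R := by
    rw [← hq, ← hq''c]
    ext r
    simp only [Ideal.mem_comap, q']
    have h1 : (e.symm : 𝓟.P.Ring →+* A') (algebraMap R 𝓟.P.Ring r) = algebraMap R A' r :=
      e.symm.commutes r
    rw [h1, IsScalarTower.algebraMap_apply R A A']
  obtain ⟨ψ⟩ := nonempty_algHom_standard 𝓟.P q' hq'
  exact ⟨(ψ.comp e.toAlgHom).comp (IsScalarTower.toAlgHom R A A')⟩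

end general

end Groth.Agent.Lib.Lead.StrictHens
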