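import Mathlib
import Groth.Prelude.Def_EtZar
import Groth.Agent.Lib.Lead.StrictHens
import Groth.Agent.Lib.Helper20.SpreadOutLFP
import Groth.Agent.Lib.Helper4.HensSection2

/-!
# Étale morphisms have local sections over points with strictly henselian local ring
-/

set_option autoImplicit false

universe u

open CategoryTheory CategoryTheory.Limits Opposite AlgebraicGeometry IsLocalRing

namespace Groth.Agent.Lib.Lead.StrictHensGeom

noncomputable section

variable {S Y : Scheme.{u}} (f : Y ⟶ S) [Etale f]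

/-- A section over the spectrum of the (strictly henselian) local ring. -/
theorem exists_stalk_section (y : Y)
    (hs : EtCoh.IsStrictlyHenselianLocalRing (S.presheaf.stalk (f y))) :
    ∃ φ : Spec (S.presheaf.stalk (f y)) ⟶ Y, φ ≫ f = S.fromSpecStalk (f y) := by
  obtain ⟨hH, hC⟩ := hs
  set s := f y with hs_def
  let R : CommRingCat.{u} := S.presheaf.stalk s
  let p₂ : pullback f (S.fromSpecStalk s) ⟶ Spec R := pullback.snd f (S.fromSpecStalk s)
  haveI : Etale p₂ := MorphismProperty.pullback_snd _ _ inferInstance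
  obtain ⟨y', hy'1, hy'2⟩ := Scheme.Pullback.exists_preimage_pullback (f := f)
    (g := S.fromSpecStalk s) y (closedPoint R) (by
      rw [Scheme.fromSpecStalk_closedPoint])
  obtain ⟨_, ⟨V', hV', rfl⟩, hyV', -⟩ :=
    (pullback f (S.fromSpecStalk s)).isBasis_affineOpens.exists_subset_of_mem_open
      (Set.mem_univ y') isOpen_univ
  let A : CommRingCat.{u} := Γ(pullback f (S.fromSpecStalk s), V')
  let g : Spec A ⟶ Spec R := hV'.fromSpec ≫ p₂
  haveI : Etale g := inferInstance
  obtain ⟨α, hα⟩ : ∃ α : R ⟶ A, Spec.map α = g := Spec.map_surjective g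
  have hαe : α.hom.Etale := by
    have : Etale (Spec.map α) := by rw [hα]; infer_instance
    exact (HasRingHomProperty.Spec_iff (P := @Etale)).mp this
  obtain ⟨y'', hy''⟩ : ∃ y'' : Spec A, hV'.fromSpec y'' = y' := by
    have : y' ∈ Set.range hV'.fromSpec := by
      rw [hV'.range_fromSpec]; exact hyV'
    exact this
  letI : Algebra R A := α.hom.toAlgebra
  haveI : Algebra.Etale R A := hαe
  let q : Ideal A := y''.asIdeal
  haveI : q.IsPrime := y''.isPrime
  have hq : q.comap (algebraMap R A) = maximalIdeal R := by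
    have h1 : (Spec.map α) y'' = closedPoint R := by
      rw [hα]
      show p₂ (hV'.fromSpec y'') = _
      rw [hy'', hy'2]
    exact congrArg PrimeSpectrum.asIdeal h1
  haveI : HenselianLocalRing R := hH
  haveI : IsSepClosed (ResidueField R) := hC
  obtain ⟨ψ⟩ := StrictHens.nonempty_algHom_of_etale (R := R) (A := A) q hq
  let ψ' : A ⟶ R := CommRingCat.ofHom ψ.toRingHom
  have hψ : α ≫ ψ' = 𝟙 R := by
    ext r
    exact ψ.commutes r
  refine ⟨Spec.map ψ' ≫ hV'.fromSpec ≫ pullback.fst f (S.fromSpecStalk s), ?_⟩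
  have h3 : hV'.fromSpec ≫ p₂ = Spec.map α := hα.symm
  rw [Category.assoc, Category.assoc, pullback.condition, ← Category.assoc hV'.fromSpec]
  show Spec.map ψ' ≫ (hV'.fromSpec ≫ p₂) ≫ S.fromSpecStalk s = _
  rw [h3, ← Category.assoc, ← Spec.map_comp, hψ, Spec.map_id, Category.id_comp]

/-- A local section of an étale morphism near a point with strictly henselian local ring. -/
theorem exists_local_section (y : Y)
    (hs : EtCoh.IsStrictlyHenselianLocalRing (S.presheaf.stalk (f y))) :
    ∃ (W : S.Opens) (_ : f y ∈ W) (σ : W.toScheme ⟶ Y), σ ≫ f = W.ι := by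
  obtain ⟨φ, hφ⟩ := exists_stalk_section f y hs
  obtain ⟨U, hxU, σ, -, hσ⟩ :=
    Groth.Agent.Lib.Helper20.spread_out_of_locallyOfFinitePresentation' (𝟙 S) f φ
      (by rw [hφ, Category.comp_id])
  exact ⟨U, hxU, σ, by rw [hσ, Category.comp_id]⟩

/-- A section over the spectrum of the (strictly henselian) local ring, through a given point. -/
theorem exists_stalk_section_through (y : Y)
    (hs : EtCoh.IsStrictlyHenselianLocalRing (S.presheaf.stalk (f y))) :
    ∃ φ : Spec (S.presheaf.stalk (f y)) ⟶ Y, φ ≫ f = S.fromSpecStalk (f y) ∧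
      φ (closedPoint (S.presheaf.stalk (f y))) = y := by
  obtain ⟨hH, hC⟩ := hs
  set s := f y with hs_def
  let R : CommRingCat.{u} := S.presheaf.stalk s
  let p₂ : pullback f (S.fromSpecStalk s) ⟶ Spec R := pullback.snd f (S.fromSpecStalk s)
  haveI : Etale p₂ := MorphismProperty.pullback_snd _ _ inferInstance
  obtain ⟨y', hy'1, hy'2⟩ := Scheme.Pullback.exists_preimage_pullback (f := f)
    (g := S.fromSpecStalk s) y (closedPoint R) (by
      rw [Scheme.fromSpecStalk_closedPoint])
  haveI : HenselianLocalRing R := hH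
  haveI : IsSepClosed (ResidueField R) := hC
  obtain ⟨u, hu1, hu2⟩ := @Groth.Agent.Lib.Helper4.HensSection.exists_section_through R _ hH hC
    (pullback f (S.fromSpecStalk s)) p₂ _ y' hy'2
  refine ⟨u ≫ pullback.fst f (S.fromSpecStalk s), ?_, ?_⟩
  · rw [Category.assoc, pullback.condition, ← Category.assoc]
    show (u ≫ p₂) ≫ _ = _
    rw [hu1]
    exact Category.id_comp _
  · show (pullback.fst f (S.fromSpecStalk s)) (u (closedPoint R)) = y
    have : u (closedPoint R) = y' := hu2
    rw [this, hy'1]

/-- A local section of an étale morphism through a point with strictly henselian local ring. -/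
theorem exists_local_section_through (y : Y)
    (hs : EtCoh.IsStrictlyHenselianLocalRing (S.presheaf.stalk (f y))) :
    ∃ (W : S.Opens) (hW : f y ∈ W) (σ : W.toScheme ⟶ Y), σ ≫ f = W.ι ∧ σ ⟨f y, hW⟩ = y := by
  obtain ⟨φ, hφ, hφy⟩ := exists_stalk_section_through f y hs
  obtain ⟨U, hxU, σ, h1, hσ⟩ :=
    Groth.Agent.Lib.Helper20.spread_out_of_locallyOfFinitePresentation' (𝟙 S) f φ
      (by rw [hφ, Category.comp_id])
  refine ⟨U, hxU, σ, by rw [hσ, Category.comp_id], ?_⟩
  have h2 : U.fromSpecStalkOfMem (f y) hxU (closedPoint (S.presheaf.stalk (f y))) =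
      ⟨f y, hxU⟩ := by
    apply Subtype.ext
    have h3 := congrArg (fun g => g (closedPoint (S.presheaf.stalk (f y))))
      (congrArg (fun g => g.base) (Scheme.Opens.fromSpecStalkOfMem_ι U (f y) hxU))
    simp only [Scheme.Hom.comp_base, TopCat.hom_comp, ContinuousMap.comp_apply] at h3
    refine Eq.trans ?_ (Scheme.fromSpecStalk_closedPoint (X := S) (x := f y))
    exact h3
  rw [← h2, ← Scheme.Hom.comp_apply, ← h1, hφy]

end

end Groth.Agent.Lib.Lead.StrictHensGeom
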