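import Groth.Agent.Lib.Lead.ZeroDimA
import Groth.Agent.Lib.Lead.RelMV
import Groth.Agent.Lib.Lead.StrictHensGeom
import Groth.Agent.Lib.Helper22.EtLoc.Acyclic

/-!
# Étale cohomology vanishes on affine schemes with closed points and separably closed residue fields
-/

set_option autoImplicit false

universe u

open CategoryTheory CategoryTheory.Limits Opposite AlgebraicGeometry

namespace Groth.Agent.Lib.Lead.ZeroDimVanish

open Groth.Agent.Lib.Helper22 Groth.Agent.Lib.Helper22.EtLoc Groth.Agent.Lib.Helper22.CechU.Etale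
  Groth.Agent.Lib.Lead.RelMV Groth.Agent.Lib.Lead.StrictHensGeom Groth.Agent.Lib.Helper22.ExtCompare

noncomputable section

variable {S : Scheme.{u}}

/-- Sections over the empty open are unique. -/
lemma eq_of_eq_bot (G : EtCoh.Ab S) (W : S.Opens) (hW : W = ⊥)
    (a b : G.obj.obj (op (uOpen W))) : a = b := by
  subst hW
  have hmem : (⊥ : Sieve (uOpen (⊥ : S.Opens))) ∈ S.smallEtaleTopology (uOpen (⊥ : S.Opens)) := by
    rw [mem_smallEtaleTopology_iff]
    intro x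
    change ↥((⊥ : S.Opens) : Scheme.{u}) at x
    exact (Set.notMem_empty _ x.2).elim
  refine (isSheaf_forget G _ hmem).isSeparatedFor.ext ?_
  intro Y f hf
  exact hf.elim

lemma nat_apply {F G : EtCoh.Ab S} (g : F ⟶ G) {A B : S.Etale} (k : A ⟶ B)
    (a : F.obj.obj (op B)) :
    g.hom.app (op A) (F.obj.map k.op a) = G.obj.map k.op (g.hom.app (op B) a) := by
  have n1 := congrArg (fun φ => φ a) (congrArg AddCommGrpCat.Hom.hom (g.hom.naturality k.op))
  simpa only [AddCommGrpCat.hom_comp, AddMonoidHom.coe_comp, Function.comp_apply] using n1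

lemma map_comp_apply (G : EtCoh.Ab S) {A B C : S.Etale} (k : A ⟶ B) (f : B ⟶ C)
    (t : G.obj.obj (op C)) :
    G.obj.map k.op (G.obj.map f.op t) = G.obj.map (k ≫ f).op t := by
  rw [← ConcreteCategory.comp_apply, ← Functor.map_comp, ← op_comp]

section

variable (hS : ∀ s : S, EtCoh.IsStrictlyHenselianLocalRing (S.presheaf.stalk s))
  {F G : EtCoh.Ab S} (g : F ⟶ G) (t : G.obj.obj (op (EtCoh.top S)))

include hS in
set_option backward.isDefEq.respectTransparency.types false in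
/-- Zariski-local lifts through an epimorphism. -/
lemma exists_local_lift [Epi g] (s : S) :
    ∃ (W : S.Opens) (_ : s ∈ W) (a : F.obj.obj (op (uOpen W))),
      g.hom.app (op (uOpen W)) a = G.obj.map (tO W).op t := by
  have hls : Sheaf.IsLocallySurjective g := (Sheaf.isLocallySurjective_iff_epi' _ g).2 inferInstance
  have hmem := Presheaf.imageSieve_mem S.smallEtaleTopology g.hom t
  rw [mem_smallEtaleTopology_iff] at hmem
  obtain ⟨V, f, y, ⟨z, hz⟩, hy⟩ := hmem s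
  have : Etale (V.hom : V.left ⟶ S) := V.prop
  have hy' : (V.hom : V.left ⟶ S).base y = s := by
    have e : f.left ≫ (EtCoh.top S).hom = V.hom := Over.w f.hom
    rw [← hy, ← e]
    rfl
  obtain ⟨W, hW, σ, hσ⟩ := exists_local_section (V.hom : V.left ⟶ S) y (hS _)
  let k : uOpen W ⟶ V := MorphismProperty.Over.homMk σ (by
    rw [uOpen_hom]
    exact hσ) trivial
  have e : k ≫ f = tO W := (EtCore.topIsTerminal S).hom_ext _ _
  refine ⟨W, hy' ▸ hW, F.obj.map k.op z, ?_⟩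
  rw [nat_apply]
  erw [hz]
  rw [map_comp_apply, e]
  rfl

/-- The section `t` of `G` lifts to `F` over the open `U`. -/
def Lifts (U : S.Opens) : Prop :=
  ∃ a : F.obj.obj (op (uOpen U)), g.hom.app (op (uOpen U)) a = G.obj.map (tO U).op t

lemma lifts_mono {V U : S.Opens} (h : V ≤ U) (hU : Lifts g t U) : Lifts g t V := by
  obtain ⟨a, ha⟩ := hU
  refine ⟨F.obj.map (rO h).op a, ?_⟩
  rw [nat_apply, ha, map_rO_tO]

lemma lifts_bot : Lifts g t (⊥ : S.Opens) := ⟨0, eq_of_eq_bot G ⊥ rfl _ _⟩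

lemma lifts_union_disjoint {U₁ U₂ : S.Opens} (hd : U₁ ⊓ U₂ = ⊥) (h₁ : Lifts g t U₁)
    (h₂ : Lifts g t U₂) : Lifts g t (U₁ ⊔ U₂) := by
  obtain ⟨a₁, ha₁⟩ := h₁
  obtain ⟨a₂, ha₂⟩ := h₂
  obtain ⟨a, e1, e2⟩ := glue (U₁ ⊔ U₂) U₁ U₂ le_sup_left le_sup_right rfl F a₁ a₂
    (eq_of_eq_bot F _ hd _ _)
  refine ⟨a, ?_⟩
  apply sep (U₁ ⊔ U₂) U₁ U₂ le_sup_left le_sup_right rfl G
  · rw [← nat_apply, e1, ha₁, map_rO_tO]
  · rw [← nat_apply, e2, ha₂, map_rO_tO]

lemma lifts_union_clopen {U₁ U₂ : S.Opens} (hc : IsClosed (U₁ : Set S)) (h₁ : Lifts g t U₁)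
    (h₂ : Lifts g t U₂) : Lifts g t (U₁ ⊔ U₂) := by
  let W : S.Opens := ⟨(U₂ : Set S) ∩ (U₁ : Set S)ᶜ, U₂.isOpen.inter hc.isOpen_compl⟩
  have hW : W ≤ U₂ := fun x hx => hx.1
  have hd : U₁ ⊓ W = ⊥ := by
    ext x
    simp only [TopologicalSpace.Opens.coe_inf, TopologicalSpace.Opens.coe_bot, Set.mem_inter_iff,
      Set.mem_empty_iff_false, iff_false]
    rintro ⟨h1, -, h3⟩
    exact h3 h1
  have hu : U₁ ⊔ W = U₁ ⊔ U₂ := by
    ext x
    simp only [TopologicalSpace.Opens.coe_sup, Set.mem_union]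
    constructor
    · rintro (h | h)
      · exact Or.inl h
      · exact Or.inr h.1
    · rintro (h | h)
      · exact Or.inl h
      · by_cases hx : x ∈ (U₁ : Set S)
        · exact Or.inl hx
        · exact Or.inr ⟨h, hx⟩
  rw [← hu]
  exact lifts_union_disjoint g t hd h₁ (lifts_mono g t hW h₂)

include hS in
/-- Global sections are right exact. -/
theorem sections_surjective [IsAffine S] (h1 : ∀ s : S, IsClosed ({s} : Set S)) [Epi g] :
    ∃ a : F.obj.obj (op (EtCoh.top S)), g.hom.app (op (EtCoh.top S)) a = t := by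
  obtain ⟨hT2, hTD⟩ := ZeroDimA.profinite S h1
  have key : ∃ U : S.Opens, IsClopen (U : Set S) ∧ (Set.univ : Set S) ⊆ (U : Set S) ∧
      Lifts g t U := by
    refine isCompact_univ.induction_on
      (p := fun s => ∃ U : S.Opens, IsClopen (U : Set S) ∧ s ⊆ (U : Set S) ∧ Lifts g t U)
      ?_ ?_ ?_ ?_
    · exact ⟨⊥, by rw [TopologicalSpace.Opens.coe_bot]; exact isClopen_empty,
        Set.empty_subset _, lifts_bot g t⟩
    · rintro s s' hss ⟨U, hU, hsU, hL⟩
      exact ⟨U, hU, hss.trans hsU, hL⟩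
    · rintro s s' ⟨U, hU, hsU, hL⟩ ⟨U', hU', hsU', hL'⟩
      refine ⟨U ⊔ U', ?_, ?_, lifts_union_clopen g t hU.1 hL hL'⟩
      · rw [TopologicalSpace.Opens.coe_sup]
        exact hU.union hU'
      · rw [TopologicalSpace.Opens.coe_sup]
        exact Set.union_subset_union hsU hsU'
    · intro x _
      obtain ⟨W, hxW, a, ha⟩ := exists_local_lift hS g t x
      obtain ⟨C, hC, hxC, hCW⟩ := compact_exists_isClopen_in_isOpen W.isOpen hxW
      refine ⟨C, mem_nhdsWithin_of_mem_nhds (hC.isOpen.mem_nhds hxC),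
        ⟨⟨C, hC.isOpen⟩, hC, subset_rfl, lifts_mono g t (V := ⟨C, hC.isOpen⟩) hCW ⟨a, ha⟩⟩⟩
  obtain ⟨U, -, hU, a, ha⟩ := key
  have hUV : U ⊔ (⊥ : S.Opens) = ⊤ := by
    rw [sup_bot_eq]
    exact top_le_iff.mp (fun x _ => hU (Set.mem_univ x))
  obtain ⟨b, hb1, -⟩ := Groth.Agent.Lib.Helper22.EtLoc.glue U ⊥ hUV F a 0 (eq_of_eq_bot F _ (by simp) _ _)
  refine ⟨b, ?_⟩
  apply Groth.Agent.Lib.Helper22.EtLoc.sep U ⊥ hUV G
  · rw [← nat_apply, hb1, ha]
  · exact eq_of_eq_bot G ⊥ rfl _ _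

end

/-- Higher étale cohomology vanishes. -/
theorem H_succ_eq_zero [IsAffine S] (h1 : ∀ s : S, IsClosed ({s} : Set S))
    (h2 : ∀ s : S, IsSepClosed (S.residueField s)) (F : EtCoh.Ab S) (n : ℕ)
    (x : EtCoh.H S F (n + 1)) : x = 0 := by
  have hS := ZeroDimA.isStrictlyHenselian_stalk S h1 h2
  refine ext_succ_eq_zero_of_class _ (fun _ : EtCoh.Ab S => True)
    ?_ (fun _ _ => trivial) n F trivial x
  intro G _ x₃
  have hSE := injSC_shortExact G
  have : Epi (injSC G).g := hSE.epi_g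
  obtain ⟨s, hs⟩ := sections_surjective hS (injSC G).g
    (Sheaf.H.equiv₀ _ (EtCore.topIsTerminal _) x₃) h1
  refine ⟨(Sheaf.H.equiv₀ _ (EtCore.topIsTerminal _)).symm s, ?_⟩
  have h := Sheaf.H.equiv₀_symm_naturality (hT := EtCore.topIsTerminal _) (injSC G).g s
  rw [hs, AddEquiv.symm_apply_apply] at h
  exact h

end

end Groth.Agent.Lib.Lead.ZeroDimVanish
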