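import Groth.Agent.Lib.Lead.AdeqKer

/-!
# Restriction of adequate functors along `A → A'` (Stacks 46.3.17-ish)
-/

universe u

open CategoryTheory Limits Opposite TensorProduct

namespace Groth.Agent.Lib.Lead.AdeqRestr

open Adeq Groth.Agent.Lib.Lead.AdeqBasic

noncomputable section

section General

universe v v₁ u₁

variable {C : Type u₁} [Category.{v₁} C] {R : Cᵒᵖ ⥤ RingCat.{u}}

/-- Pointwise bijective morphisms of presheaves of modules are isomorphisms. -/
theorem isIso_of_bijective {F G : PresheafOfModules.{v} R} (α : F ⟶ G)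
    (h : ∀ X, Function.Bijective (α.app X)) : IsIso α := by
  have hm : Mono α := PresheafOfModules.mono_of_injective (fun X => (h X).1)
  have he : Epi α := PresheafOfModules.epi_of_surjective (fun X => (h X).2)
  exact isIso_of_mono_of_epi _

lemma inv_app_apply {F G : PresheafOfModules.{v} R} (α : F ⟶ G) [IsIso α] (X : Cᵒᵖ)
    (z : F.obj X) : (inv α).app X (α.app X z) = z := by
  rw [← comp_app_apply, IsIso.hom_inv_id]; rfl

lemma app_inv_apply {F G : PresheafOfModules.{v} R} (α : F ⟶ G) [IsIso α] (X : Cᵒᵖ)
    (z : G.obj X) : α.app X ((inv α).app X z) = z := by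
  rw [← comp_app_apply, IsIso.inv_hom_id]; rfl

/-- Transfer a pointwise kernel along a commutative square with bijective/injective legs. -/
theorem IsKerPt.transfer {F G H G' H' : PresheafOfModules.{v} R} {ι : F ⟶ G} {g : G ⟶ H}
    (h : IsKerPt ι g) (α : G ⟶ G') (β : H ⟶ H') (g' : G' ⟶ H') (hsq : g ≫ β = α ≫ g')
    (hα : ∀ X, Function.Bijective (α.app X)) (hβ : ∀ X, Function.Injective (β.app X)) :
    IsKerPt (ι ≫ α) g' where
  w := by rw [Category.assoc, ← hsq, ← Category.assoc, h.w, zero_comp]
  inj X a b hab := by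
    apply h.inj X
    apply (hα X).1
    exact hab
  surj X y' hy' := by
    obtain ⟨y, rfl⟩ := (hα X).2 y'
    have h1 : β.app X (g.app X y) = 0 := by
      rw [← comp_app_apply, hsq, comp_app_apply, hy']
    have h2 : g.app X y = 0 := by
      apply hβ X
      rw [h1, map_zero]
    obtain ⟨x, hx⟩ := h.surj X y h2
    exact ⟨x, by rw [comp_app_apply, hx]⟩

end General

variable {A : Type u} [CommRing A] (A' : Type u) [CommRing A'] [Algebra A A']

/-- `restr` preserves pointwise kernels. -/
theorem isKerPt_restr {F G H : MVF A} {ι : F ⟶ G} {g : G ⟶ H} (h : IsKerPt ι g) :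
    IsKerPt ((restr A A').map ι) ((restr A A').map g) where
  w := by
    rw [← Functor.map_comp, h.w]
    apply PresheafOfModules.hom_ext
    intro X
    apply ModuleCat.hom_ext
    apply LinearMap.ext
    intro x
    rfl
  inj X := h.inj _
  surj X y hy := h.surj _ y hy

section Theta

variable {A'} (C : Alg A')

/-- The `A`-algebra structure on an `A'`-algebra. -/
@[reducible] def algR : Algebra A (C : Type u) :=
  ((algebraMap A' (C : Type u)).comp (algebraMap A A')).toAlgebra

lemma towerR : letI := algR (A := A) C; IsScalarTower A A' (C : Type u) :=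
  letI := algR (A := A) C
  IsScalarTower.of_algebraMap_eq (fun _ => rfl)

variable (M : ModuleCat.{u + 1} A)

/-- The extended module `A' ⊗ M`. -/
abbrev extM : ModuleCat.{u + 1} A' := ModuleCat.of A' (A' ⊗[A] (M : Type (u + 1)))

/-- The comparison equivalence `C ⊗[A] M ≃ C ⊗[A'] (A' ⊗[A] M)`. -/
def thetaE : letI := algR (A := A) C
    ((C : Type u) ⊗[A] (M : Type (u + 1))) ≃ₗ[(C : Type u)]
      ((C : Type u) ⊗[A'] (A' ⊗[A] (M : Type (u + 1)))) :=
  letI := algR (A := A) C
  haveI := towerR (A := A) C
  (TensorProduct.AlgebraTensorModule.cancelBaseChange A A' (C : Type u) (C : Type u)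
    (M : Type (u + 1))).symm

lemma thetaE_tmul (c : C) (m : M) : letI := algR (A := A) C
    thetaE C M (c ⊗ₜ[A] m) = c ⊗ₜ[A'] ((1 : A') ⊗ₜ[A] m) := by
  letI := algR (A := A) C
  haveI := towerR (A := A) C
  exact TensorProduct.AlgebraTensorModule.cancelBaseChange_symm_tmul A A' (C : Type u) c m

end Theta

/-- The comparison morphism `restr (underline M) ⟶ underline (A' ⊗ M)`. -/
def theta (M : ModuleCat.{u + 1} A) : (restr A A').obj (U M) ⟶ U (A := A') (extM (A' := A') M) where
  app X := ModuleCat.ofHom (X := ((restr A A').obj (U M)).obj X)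
    (Y := (U (A := A') (extM (A' := A') M)).obj X)
    { toFun := fun x => thetaE X.unop.unop M x
      map_add' := fun x y => map_add (thetaE X.unop.unop M) x y
      map_smul' := fun c x => map_smul (thetaE X.unop.unop M) c x }
  naturality {X Y} f := by
    apply ModuleCat.hom_ext
    apply LinearMap.ext
    intro x
    letI := algR (A := A) X.unop.unop
    letI := algR (A := A) Y.unop.unop
    show thetaE Y.unop.unop M
        ((((Alg.restr A A').map f.unop.unop).hom.toLinearMap.rTensor (M : Type (u + 1))) x) =
      (f.unop.unop.hom.toLinearMap.rTensor (A' ⊗[A] (M : Type (u + 1)))) (thetaE X.unop.unop M x)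
    induction x using TensorProduct.induction_on with
    | zero => simp only [map_zero]
    | tmul c m =>
      rw [LinearMap.rTensor_tmul, thetaE_tmul, thetaE_tmul, LinearMap.rTensor_tmul]
      rfl
    | add x y hx hy => simp only [map_add, hx, hy]

lemma theta_bijective (M : ModuleCat.{u + 1} A) (X : (Alg A')ᵒᵖᵒᵖ) :
    Function.Bijective ((theta A' M).app X) :=
  (thetaE X.unop.unop M).bijective

theorem adequate_restr (F : MVF A) (hF : adequate A F) :
    adequate A' ((restr A A').obj F) := by
  obtain ⟨M, N, ψ, ι, hι⟩ := exists_isKerPt_of_adequate hF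
  have h1 := isKerPt_restr A' hι
  haveI : IsIso (theta A' M) := isIso_of_bijective _ (theta_bijective A' M)
  obtain ⟨φ', hφ'⟩ := exists_underline_map_eq
    (inv (theta A' M) ≫ (restr A A').map ((underline A).map ψ) ≫ theta A' N)
  have h2 := IsKerPt.transfer h1 (theta A' M) (theta A' N) ((underline A').map φ')
    (by rw [hφ', IsIso.hom_inv_id_assoc]) (theta_bijective A' M)
    (fun X => (theta_bijective A' N X).1)
  exact adequate_of_isKerPt φ' _ h2

end

end Groth.Agent.Lib.Lead.AdeqRestr
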