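import Groth.Agent.Lib.Lead.AdeqFlat
import Groth.Agent.Lib.Lead.AdeqRestr

/-!
# Flat base change in extensions, and coefficient functionals
-/

universe u

open CategoryTheory Limits Opposite TensorProduct

namespace Groth.Agent.Lib.Lead.AdeqCoeff

open Adeq Groth.Agent.Lib.Lead.AdeqBasic Groth.Agent.Lib.Lead.AdeqFlat

noncomputable section

variable {A : Type u} [CommRing A]

/-- Five lemma for the base change maps. -/
theorem bc_bijective_of_isKerPt {F G H : MVF A} {i : F ⟶ G} {p : G ⟶ H} (hk : IsKerPt i p)
    (hp : ∀ X, Function.Surjective (p.app X)) {B B' : Alg A} (f : B ⟶ B')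
    (hf : f.hom.toRingHom.Flat) (hF : Function.Bijective (F.bc f))
    (hH : Function.Bijective (H.bc f)) : Function.Bijective (G.bc f) := by
  letI mB : Module (B : Type u) (B' : Type u) := modOf f
  have hflat : Module.Flat (B : Type u) (B' : Type u) := hf
  have hinj : Function.Injective
      ((ModuleCat.extendScalars.{u, u, u + 1} f.hom.toRingHom).map (i.app (pt B))) :=
    Module.Flat.lTensor_preserves_injective_linearMap (M := (B' : Type u))
      (i.app (pt B)).hom (hk.inj (pt B))
  have hexB : Function.Exact (i.app (pt B)).hom (p.app (pt B)).hom := by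
    intro y
    constructor
    · intro hy
      exact hk.surj (pt B) y hy
    · rintro ⟨x, rfl⟩
      exact hk.w_apply (pt B) x
  have hex : Function.Exact
      ((ModuleCat.extendScalars.{u, u, u + 1} f.hom.toRingHom).map (i.app (pt B)))
      ((ModuleCat.extendScalars.{u, u, u + 1} f.hom.toRingHom).map (p.app (pt B))) :=
    lTensor_exact (B' : Type u) hexB (hp (pt B))
  have hsurj : Function.Surjective
      ((ModuleCat.extendScalars.{u, u, u + 1} f.hom.toRingHom).map (p.app (pt B))) :=
    LinearMap.lTensor_surjective (B' : Type u) (hp (pt B))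
  constructor
  · rw [injective_iff_map_eq_zero (G.bc f).hom]
    intro z hz
    have h1 : (ModuleCat.extendScalars.{u, u, u + 1} f.hom.toRingHom).map (p.app (pt B)) z = 0 := by
      apply hH.1
      rw [bc_naturality_apply]
      have : (G.bc f) z = 0 := hz
      rw [this, map_zero]
      exact (bc_zero f H).symm
    obtain ⟨w, hw⟩ := (hex z).mp h1
    have h2 : F.bc f w = 0 := by
      apply hk.inj (pt B')
      rw [← bc_naturality_apply, hw, map_zero]
      exact hz
    have h3 : w = 0 := by
      apply hF.1
      rw [h2]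
      exact (bc_zero f F).symm
    rw [← hw, h3, map_zero]
  · intro y
    obtain ⟨v, hv⟩ := hH.2 (p.app (pt B') y)
    obtain ⟨z', hz'⟩ := hsurj v
    have h1 : p.app (pt B') (y - G.bc f z') = 0 := by
      rw [map_sub, ← bc_naturality_apply, hz', hv, sub_self]
    obtain ⟨x, hx⟩ := hk.surj (pt B') _ h1
    obtain ⟨w, hw⟩ := hF.2 x
    refine ⟨z' + (ModuleCat.extendScalars.{u, u, u + 1} f.hom.toRingHom).map (i.app (pt B)) w, ?_⟩
    rw [map_add, bc_naturality_apply, hw, hx]
    abel

section Coeff

variable {B C : Alg A} (j : B ⟶ C) (G : MVF A)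

/-- Induction on generators `c • G(j)(g)` of `G(C)` when the base change map is surjective. -/
theorem gen_induction (hbc : Function.Surjective (G.bc j)) {motive : G.obj (pt C) → Prop}
    (h0 : motive 0) (hadd : ∀ x y, motive x → motive y → motive (x + y))
    (hgen : ∀ (c : C) (g : G.obj (pt B)), motive (c • tr G j g)) : ∀ z, motive z := by
  letI := modOf j
  intro z
  obtain ⟨w, rfl⟩ := hbc z
  have key : ∀ t : (C : Type u) ⊗[(B : Type u)] (G.obj (pt B)), motive (G.bc j (ofE j _ t)) := by
    intro t
    induction t using TensorProduct.induction_on with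
    | zero =>
      have : G.bc j (ofE j _ 0) = 0 := bc_zero j G
      rw [this]
      exact h0
    | tmul c g =>
      rw [bc_tmul]
      exact hgen c g
    | add x y hx hy =>
      have : G.bc j (ofE j _ (x + y)) = G.bc j (ofE j _ x) + G.bc j (ofE j _ y) :=
        bc_add j G _ _
      rw [this]
      exact hadd _ _ hx hy
  exact key (toE j _ w)

variable (lam : (C : Type u) →+ (B : Type u))
  (hlam : ∀ (b : B) (c : C), lam (j.hom b * c) = b * lam c)

/-- The map `C ⊗[B] G(B) → G(B)`, `c ⊗ g ↦ lam(c) • g`. -/
def lamT (hlam : ∀ (b : B) (c : C), lam (j.hom b * c) = b * lam c) : letI := modOf j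
    ((C : Type u) ⊗[(B : Type u)] (G.obj (pt B))) →+ (G.obj (pt B)) :=
  letI := modOf j
  TensorProduct.liftAddHom
    (AddMonoidHom.mk' (fun c : (C : Type u) =>
        (AddMonoidHom.mk' (fun g : G.obj (pt B) => lam c • g) (fun g g' => smul_add _ _ _)))
      (fun c c' => by
        ext g
        show lam (c + c') • g = lam c • g + lam c' • g
        rw [map_add, add_smul]))
    (fun b c g => by
      show lam (b • c) • g = lam c • (b • g)
      have : (b • c : (C : Type u)) = j.hom b * c := rfl
      rw [this, hlam, mul_smul, smul_comm])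

lemma lamT_tmul (c : C) (g : G.obj (pt B)) : letI := modOf j
    lamT j G lam hlam (c ⊗ₜ[(B : Type u)] g) = lam c • g := rfl

/-- The coefficient functional `G(C) → G(B)` attached to `lam : C → B`. -/
def coeffFun (hbc : Function.Bijective (G.bc j)) (z : G.obj (pt C)) : G.obj (pt B) :=
  lamT j G lam hlam (toE j _ ((Equiv.ofBijective _ hbc).symm z))

lemma coeffFun_bc (hbc : Function.Bijective (G.bc j))
    (w : (ModuleCat.extendScalars.{u, u, u + 1} j.hom.toRingHom).obj (G.obj (pt B))) :
    coeffFun j G lam hlam hbc (G.bc j w) = lamT j G lam hlam (toE j _ w) := by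
  unfold coeffFun
  congr 2
  exact (Equiv.ofBijective _ hbc).symm_apply_apply w

lemma coeffFun_gen (hbc : Function.Bijective (G.bc j)) (c : C) (g : G.obj (pt B)) :
    coeffFun j G lam hlam hbc (c • tr G j g) = lam c • g := by
  letI := modOf j
  rw [← bc_tmul, coeffFun_bc]
  rfl

lemma coeffFun_add (hbc : Function.Bijective (G.bc j)) (z z' : G.obj (pt C)) :
    coeffFun j G lam hlam hbc (z + z') =
      coeffFun j G lam hlam hbc z + coeffFun j G lam hlam hbc z' := by
  obtain ⟨w, rfl⟩ := hbc.2 z
  obtain ⟨w', rfl⟩ := hbc.2 z'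
  rw [← bc_add, coeffFun_bc, coeffFun_bc, coeffFun_bc]
  exact map_add (lamT j G lam hlam) _ _

lemma coeffFun_zero (hbc : Function.Bijective (G.bc j)) :
    coeffFun j G lam hlam hbc 0 = 0 := by
  rw [← bc_zero j G, coeffFun_bc]
  exact map_zero (lamT j G lam hlam)

/-- Naturality of the coefficient functional in the functor. -/
lemma coeffFun_app {G H : MVF A} (η : G ⟶ H) (hG : Function.Bijective (G.bc j))
    (hH : Function.Bijective (H.bc j)) (z : G.obj (pt C)) :
    η.app (pt B) (coeffFun j G lam hlam hG z) = coeffFun j H lam hlam hH (η.app (pt C) z) := by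
  refine gen_induction j G hG.2 (motive := fun z => η.app (pt B) (coeffFun j G lam hlam hG z) =
    coeffFun j H lam hlam hH (η.app (pt C) z)) ?_ ?_ ?_ z
  · rw [coeffFun_zero, map_zero, map_zero, coeffFun_zero]
  · intro x y hx hy
    rw [coeffFun_add, map_add, hx, hy, map_add, coeffFun_add]
  · intro c g
    rw [coeffFun_gen, app_smul, app_smul, app_tr, coeffFun_gen]

end Coeff

end

end Groth.Agent.Lib.Lead.AdeqCoeff
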