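import Groth.Agent.Lib.Lead.AdeqModMain

/-!
# The fppf and Zariski precoverages have affine refinements
-/

universe u

open CategoryTheory Limits Opposite AlgebraicGeometry

namespace Groth.Agent.Lib.Lead.AdeqModInst

open Adeq Groth.Agent.Lib.Lead.AdeqModMain

theorem hasAffineRefinements_fppf : HasAffineRefinements Scheme.fppfPrecoverage.{u} := by
  haveI : (Scheme.precoverage (@Flat ⊓ @LocallyOfFinitePresentation)).IsStableUnderBaseChange :=
    inferInstanceAs (Scheme.fppfPrecoverage.{u}.IsStableUnderBaseChange)
  haveI : (@Flat ⊓ @LocallyOfFinitePresentation : MorphismProperty Scheme.{u}).RespectsLeft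
      @IsOpenImmersion := by
    constructor
    intro X Y Z i hi f hf
    haveI : IsOpenImmersion i := hi
    haveI : Flat f := hf.1
    haveI : LocallyOfFinitePresentation f := hf.2
    exact ⟨inferInstanceAs (Flat (i ≫ f)), inferInstanceAs (LocallyOfFinitePresentation (i ≫ f))⟩
  exact hasAffineRefinements_precoverage (@Flat ⊓ @LocallyOfFinitePresentation)
    (fun X Y f hf => by
      haveI : Flat f := hf.1
      haveI : LocallyOfFinitePresentation f := hf.2
      exact f.isOpenMap)

theorem hasAffineRefinements_zariski : HasAffineRefinements Scheme.zariskiPrecoverage.{u} := by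
  haveI : (@IsOpenImmersion : MorphismProperty Scheme.{u}).RespectsLeft @IsOpenImmersion := by
    constructor
    intro X Y Z i hi f hf
    haveI : IsOpenImmersion i := hi
    haveI : IsOpenImmersion f := hf
    exact inferInstanceAs (IsOpenImmersion (i ≫ f))
  exact hasAffineRefinements_precoverage @IsOpenImmersion
    (fun X Y f hf => by
      haveI : IsOpenImmersion f := hf
      exact f.isOpenEmbedding.isOpenMap)

end Groth.Agent.Lib.Lead.AdeqModInst
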