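import Groth.Agent.Lib.Lead.ProConsScheme
import Mathlib

/-!
# Pro-constructible subsets of affine schemes are images of affine schemes

For a subset `Z` of `Spec A` closed for the constructible topology, the product `B` of the residue
fields of the points of `Z` satisfies `range (Spec B → Spec A) = Z`.
-/

set_option autoImplicit false

universe u

namespace Groth.Agent.Lib.Lead

open Topology Set ProCons AlgebraicGeometry CategoryTheory PrimeSpectrum

/-- The product of residue fields at the points of `Z`. -/
noncomputable def piResidueFieldHom {A : Type u} [CommRing A] (Z : Set (PrimeSpectrum A)) :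
    A →+* (Π p : Z, p.1.asIdeal.ResidueField) :=
  RingHom.pi fun p : Z => algebraMap A p.1.asIdeal.ResidueField

theorem piResidueFieldHom_apply {A : Type u} [CommRing A] (Z : Set (PrimeSpectrum A)) (a : A)
    (p : Z) : piResidueFieldHom Z a p = algebraMap A p.1.asIdeal.ResidueField a := rfl

theorem range_comap_piResidueFieldHom {A : Type u} [CommRing A] (Z : Set (PrimeSpectrum A))
    (hZ : IsClosed[constructibleTopology (PrimeSpectrum A)] Z) :
    Set.range (PrimeSpectrum.comap (piResidueFieldHom Z)) = Z := by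
  classical
  apply subset_antisymm
  · rintro _ ⟨Q, rfl⟩
    by_contra hq
    have hop : IsOpen[constructibleTopology (PrimeSpectrum A)] Zᶜ :=
      (@isOpen_compl_iff _ Z (constructibleTopology _)).mpr hZ
    obtain ⟨B, hBc, hqB, hBZ⟩ := exists_isConstructible_subset_of_isOpen_constructible hop hq
    obtain ⟨S, rfl⟩ := PrimeSpectrum.exists_constructibleSetData_iff.mpr hBc
    simp only [ConstructibleSetData.toSet, mem_iUnion] at hqB
    obtain ⟨C, hCS, hqC⟩ := hqB
    have hg : ∀ i, piResidueFieldHom Z (C.g i) ∈ Q.asIdeal := by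
      intro i
      have := hqC.1
      rw [mem_zeroLocus] at this
      exact this ⟨i, rfl⟩
    have hf : piResidueFieldHom Z C.f ∉ Q.asIdeal := by
      intro h
      apply hqC.2
      rw [mem_zeroLocus]
      rintro _ rfl
      exact h
    have hZC : ∀ p : Z, C.f ∈ p.1.asIdeal ∨ ∃ i, C.g i ∉ p.1.asIdeal := by
      intro p
      by_contra h
      push Not at h
      refine hBZ (mem_iUnion₂.mpr ⟨C, hCS, ?_, ?_⟩) p.2
      · rw [mem_zeroLocus]
        rintro _ ⟨i, rfl⟩
        exact h.2 i
      · intro hp
        rw [mem_zeroLocus] at hp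
        exact h.1 (hp rfl)
    let b0 : Π p : Z, p.1.asIdeal.ResidueField := fun p => if C.f ∈ p.1.asIdeal then 1 else 0
    have hb0 : piResidueFieldHom Z C.f * b0 = 0 := by
      ext p
      simp only [Pi.mul_apply, Pi.zero_apply, b0, piResidueFieldHom_apply]
      split_ifs with h
      · rw [Ideal.algebraMap_residueField_eq_zero.mpr h, zero_mul]
      · rw [mul_zero]
    have hb0Q : b0 ∈ Q.asIdeal := by
      have : piResidueFieldHom Z C.f * b0 ∈ Q.asIdeal := by rw [hb0]; exact zero_mem _
      exact (Q.isPrime.mem_or_mem this).resolve_left hf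
    let e : Fin C.n → Π p : Z, p.1.asIdeal.ResidueField :=
      fun i p => if C.g i ∈ p.1.asIdeal then 0 else 1
    have he : ∀ i, e i ∈ Q.asIdeal := by
      intro i
      have : e i = piResidueFieldHom Z (C.g i) *
          ((fun p : Z => (algebraMap A p.1.asIdeal.ResidueField (C.g i))⁻¹) :
            Π p : Z, p.1.asIdeal.ResidueField) := by
        ext p
        simp only [Pi.mul_apply, e, piResidueFieldHom_apply]
        split_ifs with h
        · rw [Ideal.algebraMap_residueField_eq_zero.mpr h, zero_mul]
        · rw [mul_inv_cancel₀]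
          exact fun h0 => h (Ideal.algebraMap_residueField_eq_zero.mp h0)
      rw [this]
      exact Q.asIdeal.mul_mem_right _ (hg i)
    have hprod : (1 - b0) * ∏ i, (1 - e i) = 0 := by
      ext p
      simp only [Pi.mul_apply, Pi.sub_apply, Pi.one_apply, Pi.zero_apply, Finset.prod_apply,
        mul_eq_zero]
      rcases hZC p with h | ⟨i, hi⟩
      · left
        simp only [b0, h, if_true, sub_self]
      · right
        apply Finset.prod_eq_zero (Finset.mem_univ i)
        simp only [e, hi, if_false, sub_self]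
    have hmem : (1 - b0) * ∏ i, (1 - e i) ∈ Q.asIdeal := by rw [hprod]; exact zero_mem _
    have h1 : (1 : Π p : Z, p.1.asIdeal.ResidueField) ∉ Q.asIdeal :=
      (Ideal.ne_top_iff_one _).mp Q.isPrime.ne_top
    rcases Q.isPrime.mem_or_mem hmem with h | h
    · apply h1
      have := Q.asIdeal.add_mem h hb0Q
      rwa [sub_add_cancel] at this
    · rw [Ideal.IsPrime.prod_mem_iff] at h
      obtain ⟨i, -, hi⟩ := h
      apply h1
      have := Q.asIdeal.add_mem hi (he i)
      rwa [sub_add_cancel] at this
  · intro p hp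
    refine ⟨⟨Ideal.comap (Pi.evalRingHom (fun p : Z => p.1.asIdeal.ResidueField) ⟨p, hp⟩) ⊥,
      Ideal.comap_isPrime _ _⟩, ?_⟩
    ext a
    simp only [PrimeSpectrum.comap_asIdeal, Ideal.mem_comap, Ideal.mem_bot, Pi.evalRingHom_apply,
      piResidueFieldHom_apply]
    exact Ideal.algebraMap_residueField_eq_zero

/-- A pro-constructible subset of `Spec A` is the image of `Spec B → Spec A` for some ring `B`. -/
theorem exists_range_Spec_map_eq_of_isProConstructible (A : CommRingCat.{u})
    {Z : Set (Spec A)} (hZ : IsProConstructible Z) :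
    ∃ (B : CommRingCat.{u}) (φ : A ⟶ B), Set.range (Spec.map φ) = Z := by
  have hsp : SpectralSpace (Spec A) := inferInstanceAs (SpectralSpace (PrimeSpectrum A))
  have hcl : IsClosed[constructibleTopology (PrimeSpectrum A)] (Z : Set (PrimeSpectrum A)) :=
    isClosed_constructible_of_isProConstructible_of_spectralSpace hZ
  refine ⟨CommRingCat.of (Π p : (Z : Set (PrimeSpectrum A)), p.1.asIdeal.ResidueField),
    CommRingCat.ofHom (piResidueFieldHom (Z : Set (PrimeSpectrum A))), ?_⟩
  exact range_comap_piResidueFieldHom (Z : Set (PrimeSpectrum A)) hcl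

/-- A pro-constructible subset of an affine scheme is the image of an affine scheme. -/
theorem exists_range_eq_of_isProConstructible_of_isAffine (Y : Scheme.{u}) [IsAffine Y]
    {Z : Set Y} (hZ : IsProConstructible Z) :
    ∃ (B : CommRingCat.{u}) (g : Spec B ⟶ Y), Set.range g = Z := by
  obtain ⟨B, φ, hφ⟩ := exists_range_Spec_map_eq_of_isProConstructible Γ(Y, ⊤)
    (isProConstructible_preimage Y.isoSpec.inv hZ)
  refine ⟨B, Spec.map φ ≫ Y.isoSpec.inv, ?_⟩
  have : ⇑(Spec.map φ ≫ Y.isoSpec.inv) = ⇑Y.isoSpec.inv ∘ ⇑(Spec.map φ) := by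
    ext x; simp
  rw [this, Set.range_comp, hφ, Set.image_preimage_eq]
  exact (Scheme.homeoOfIso Y.isoSpec).symm.surjective

/-- A pro-constructible subset of a quasi-compact scheme is the image of an affine scheme. -/
theorem exists_isAffine_range_eq_of_isProConstructible (X : Scheme.{u}) [CompactSpace X]
    {E : Set X} (hE : IsProConstructible E) :
    ∃ (X' : Scheme.{u}) (f : X' ⟶ X), IsAffine X' ∧ Set.range f = E := by
  let 𝒰 := X.affineCover.finiteSubcover
  have key : ∀ i : 𝒰.I₀, ∃ (B : CommRingCat.{u}) (g : Spec B ⟶ 𝒰.X i),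
      Set.range g = (𝒰.f i) ⁻¹' E := fun i =>
    exists_range_eq_of_isProConstructible_of_isAffine (𝒰.X i)
      (isProConstructible_preimage (𝒰.f i) hE)
  choose B g hg using key
  refine ⟨∐ fun i => Spec (B i), Limits.Sigma.desc fun i => g i ≫ 𝒰.f i, inferInstance, ?_⟩
  apply subset_antisymm
  · rintro _ ⟨y, rfl⟩
    obtain ⟨⟨i, z⟩, rfl⟩ := (sigmaMk fun i => Spec (B i)).surjective y
    rw [sigmaMk_mk, ← Scheme.Hom.comp_apply, Limits.Sigma.ι_desc, Scheme.Hom.comp_apply]
    have : g i z ∈ (𝒰.f i) ⁻¹' E := by rw [← hg i]; exact ⟨z, rfl⟩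
    exact this
  · intro x hx
    obtain ⟨i, y, rfl⟩ := 𝒰.exists_eq x
    have : y ∈ Set.range (g i) := by rw [hg i]; exact hx
    obtain ⟨z, rfl⟩ := this
    refine ⟨Limits.Sigma.ι (fun i => Spec (B i)) i z, ?_⟩
    rw [← Scheme.Hom.comp_apply, Limits.Sigma.ι_desc, Scheme.Hom.comp_apply]

end Groth.Agent.Lib.Lead
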