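import Mathlib

set_option autoImplicit false
universe u

/-! Lifting algebra maps from finitely presented algebras through localizations (lead).
`exists_lift_away` (existence, f.p. source), `exists_eq_after_loc` (uniqueness, f.t. source). -/
namespace Groth.Agent.Lib.Lead.SpreadOut

section

variable {R T L : Type u} [CommRing R] [CommRing T] [CommRing L] [Algebra R T] [Algebra T L]
  [Algebra R L] [IsScalarTower R T L] (M : Submonoid T) [IsLocalization M L]

/-- canonical map `T_t → L` for `t ∈ M`. -/
noncomputable def ι (t : T) (ht : t ∈ M) : Localization.Away t →ₐ[R] L :=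
  IsLocalization.Away.liftAlgHom (A := R) t (f := IsScalarTower.toAlgHom R T L)
    (IsLocalization.map_units L ⟨t, ht⟩)

theorem ι_algebraMap (t : T) (ht : t ∈ M) (x : T) :
    ι (R := R) (L := L) M t ht (algebraMap T (Localization.Away t) x) = algebraMap T L x := by
  unfold ι
  rw [IsLocalization.Away.liftAlgHom_apply, IsLocalization.Away.lift_eq]
  rfl

/-- canonical map `T_t → T_{t'}` for `t ∣ t'`. -/
noncomputable def ρ (t t' : T) (h : t ∣ t') : Localization.Away t →ₐ[R] Localization.Away t' :=
  IsLocalization.Away.liftAlgHom (A := R) t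
    (f := IsScalarTower.toAlgHom R T (Localization.Away t'))
    (IsLocalization.Away.isUnit_of_dvd t' h)

theorem ρ_algebraMap (t t' : T) (h : t ∣ t') (x : T) :
    ρ (R := R) t t' h (algebraMap T (Localization.Away t) x) =
      algebraMap T (Localization.Away t') x := by
  unfold ρ
  rw [IsLocalization.Away.liftAlgHom_apply, IsLocalization.Away.lift_eq]
  rfl

/-- two ring homs out of `T_t` agreeing on `T` are equal -/
theorem away_hom_ext {P : Type*} [Semiring P] (t : T) (f g : Localization.Away t →+* P)
    (h : ∀ x : T, f (algebraMap T _ x) = g (algebraMap T _ x)) : f = g :=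
  IsLocalization.ringHom_ext (Submonoid.powers t) (RingHom.ext h)

theorem ι_ρ (t t' : T) (h : t ∣ t') (ht : t ∈ M) (ht' : t' ∈ M) (z : Localization.Away t) :
    ι (R := R) (L := L) M t' ht' (ρ (R := R) t t' h z) = ι (R := R) (L := L) M t ht z := by
  have := away_hom_ext t
    ((ι (R := R) (L := L) M t' ht').toRingHom.comp (ρ (R := R) t t' h).toRingHom)
    (ι (R := R) (L := L) M t ht).toRingHom (by
      intro x
      change ι (R := R) (L := L) M t' ht' (ρ (R := R) t t' h (algebraMap T _ x)) =
        ι (R := R) (L := L) M t ht (algebraMap T _ x)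
      rw [ρ_algebraMap, ι_algebraMap, ι_algebraMap])
  exact RingHom.congr_fun this z

theorem ρ_ρ (t t' t'' : T) (h : t ∣ t') (h' : t' ∣ t'') (z : Localization.Away t) :
    ρ (R := R) t' t'' h' (ρ (R := R) t t' h z) = ρ (R := R) t t'' (h.trans h') z := by
  have := away_hom_ext t
    ((ρ (R := R) t' t'' h').toRingHom.comp (ρ (R := R) t t' h).toRingHom)
    (ρ (R := R) t t'' (h.trans h')).toRingHom (by
      intro x
      change ρ (R := R) t' t'' h' (ρ (R := R) t t' h (algebraMap T _ x)) =
        ρ (R := R) t t'' (h.trans h') (algebraMap T _ x)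
      rw [ρ_algebraMap, ρ_algebraMap, ρ_algebraMap])
  exact RingHom.congr_fun this z

/-- Kernel lemma. -/
theorem exists_mul_eq_zero (t : T) (ht : t ∈ M) (z : Localization.Away t)
    (hz : ι (R := R) (L := L) M t ht z = 0) :
    ∃ u ∈ M, algebraMap T (Localization.Away t) u * z = 0 := by
  obtain ⟨k, c, hc⟩ := IsLocalization.Away.surj t z
  have h1 : algebraMap T L c = 0 := by
    rw [← ι_algebraMap (R := R) M t ht c, ← hc, map_mul, hz, zero_mul]
  obtain ⟨⟨u, hu⟩, huc⟩ := (IsLocalization.map_eq_zero_iff M L c).1 h1
  refine ⟨u, hu, ?_⟩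
  have h2 : IsUnit (algebraMap T (Localization.Away t) t ^ k) :=
    IsLocalization.Away.algebraMap_pow_isUnit t k
  apply h2.mul_left_injective
  change algebraMap T (Localization.Away t) u * z * algebraMap T (Localization.Away t) t ^ k =
    0 * algebraMap T (Localization.Away t) t ^ k
  rw [zero_mul, mul_assoc, hc, ← map_mul]
  change algebraMap T _ (u * c) = 0
  rw [huc, map_zero]


/-- Lemma B: uniqueness of lifts up to further localization. -/
theorem exists_eq_after_loc {S : Type u} [CommRing S] [Algebra R S] [Algebra.FiniteType R S]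
    (t : T) (ht : t ∈ M) (f₁ f₂ : S →ₐ[R] Localization.Away t)
    (h : ∀ s, ι (R := R) (L := L) M t ht (f₁ s) = ι (R := R) (L := L) M t ht (f₂ s)) :
    ∃ u ∈ M, ∀ s, ρ (R := R) t (t * u) (Dvd.intro u rfl) (f₁ s) =
      ρ (R := R) t (t * u) (Dvd.intro u rfl) (f₂ s) := by
  classical
  obtain ⟨F, hF⟩ := Algebra.FiniteType.out (R := R) (A := S)
  have hex : ∀ s : S, ∃ u ∈ M, algebraMap T (Localization.Away t) u * (f₁ s - f₂ s) = 0 := by
    intro s
    apply exists_mul_eq_zero (R := R) (L := L) M t ht
    rw [map_sub, h s, sub_self]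
  choose v hvM hv using hex
  refine ⟨∏ s ∈ F, v s, prod_mem (fun s _ => hvM s), ?_⟩
  set u := ∏ s ∈ F, v s with hu
  have hAlg : (ρ (R := R) t (t * u) (Dvd.intro u rfl)).comp f₁ =
      (ρ (R := R) t (t * u) (Dvd.intro u rfl)).comp f₂ := by
    apply AlgHom.ext_of_adjoin_eq_top hF
    intro s hs
    rw [AlgHom.comp_apply, AlgHom.comp_apply, ← sub_eq_zero, ← map_sub]
    have h1 : IsUnit (algebraMap T (Localization.Away (t * u)) (v s)) := by
      apply IsLocalization.Away.isUnit_of_dvd (t * u)
      exact Dvd.dvd.mul_left (Finset.dvd_prod_of_mem v hs) t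
    apply h1.mul_right_injective
    change algebraMap T (Localization.Away (t * u)) (v s) * _ =
      algebraMap T (Localization.Away (t * u)) (v s) * 0
    rw [mul_zero, ← ρ_algebraMap (R := R) t (t * u) (Dvd.intro u rfl), ← map_mul, hv s, map_zero]
  intro s
  exact AlgHom.congr_fun hAlg s

/-- Lemma A: lifting maps from finitely presented algebras through a localization. -/
theorem exists_lift_away {S : Type u} [CommRing S] [Algebra R S] [Algebra.FinitePresentation R S]
    (f : S →ₐ[R] L) :
    ∃ (t : T) (ht : t ∈ M) (f' : S →ₐ[R] Localization.Away t),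
      ∀ s, ι (R := R) (L := L) M t ht (f' s) = f s := by
  classical
  obtain ⟨n, π, hπ, hker⟩ := Algebra.FinitePresentation.out (R := R) (A := S)
  obtain ⟨F, hF⟩ := hker
  -- common denominator
  obtain ⟨⟨d, hd⟩, hint⟩ := IsLocalization.exist_integer_multiples_of_finite M
    (fun i : Fin n => f (π (MvPolynomial.X i)))
  choose c hc using hint
  -- hc i : algebraMap T L (c i) = d • f (π (X i))
  let x : Fin n → Localization.Away d := fun i =>
    IsLocalization.mk' (Localization.Away d) (c i) (⟨d, 1, pow_one d⟩ : Submonoid.powers d)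
  have hx : ∀ i, ι (R := R) (L := L) M d hd (x i) = f (π (MvPolynomial.X i)) := by
    intro i
    have hunit : IsUnit (algebraMap T L d) := IsLocalization.map_units L ⟨d, hd⟩
    apply hunit.mul_right_injective
    change algebraMap T L d * _ = algebraMap T L d * _
    rw [← ι_algebraMap (R := R) M d hd d, ← map_mul]
    have : algebraMap T (Localization.Away d) d * x i = algebraMap T (Localization.Away d) (c i) := by
      simp only [x]
      rw [mul_comm]
      exact IsLocalization.mk'_spec (Localization.Away d) (c i)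
        (⟨d, 1, pow_one d⟩ : Submonoid.powers d)
    rw [this, ι_algebraMap, ι_algebraMap, hc i]
    simp [Algebra.smul_def]
  let g : MvPolynomial (Fin n) R →ₐ[R] Localization.Away d := MvPolynomial.aeval x
  have hg : ∀ p, ι (R := R) (L := L) M d hd (g p) = f (π p) := by
    intro p
    have : (ι (R := R) (L := L) M d hd).comp g = f.comp π := by
      apply MvPolynomial.algHom_ext
      intro i
      simp only [AlgHom.comp_apply, g, MvPolynomial.aeval_X]
      exact hx i
    exact AlgHom.congr_fun this p
  have hex : ∀ p : MvPolynomial (Fin n) R, p ∈ F →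
      ∃ u ∈ M, algebraMap T (Localization.Away d) u * g p = 0 := by
    intro p hp
    apply exists_mul_eq_zero (R := R) (L := L) M d hd
    rw [hg]
    have : p ∈ RingHom.ker π.toRingHom := by rw [← hF]; exact Ideal.subset_span hp
    rw [show π p = 0 from this, map_zero]
  choose! v hvM hv using hex
  set u := ∏ p ∈ F, v p with hu
  have huM : u ∈ M := prod_mem (fun p hp => hvM p hp)
  let g' : MvPolynomial (Fin n) R →ₐ[R] Localization.Away (d * u) :=
    (ρ (R := R) d (d * u) (Dvd.intro u rfl)).comp g
  have hg' : RingHom.ker π.toRingHom ≤ RingHom.ker g'.toRingHom := by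
    rw [← hF, Ideal.span_le]
    intro p hp
    change g' p = 0
    have h1 : IsUnit (algebraMap T (Localization.Away (d * u)) (v p)) := by
      apply IsLocalization.Away.isUnit_of_dvd (d * u)
      exact Dvd.dvd.mul_left (Finset.dvd_prod_of_mem v hp) d
    apply h1.mul_right_injective
    change algebraMap T (Localization.Away (d * u)) (v p) * _ =
      algebraMap T (Localization.Away (d * u)) (v p) * 0
    rw [mul_zero]
    change _ * ρ (R := R) d (d * u) (Dvd.intro u rfl) (g p) = 0
    rw [← ρ_algebraMap (R := R) d (d * u) (Dvd.intro u rfl), ← map_mul, hv p hp, map_zero]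
  refine ⟨d * u, mul_mem hd huM, AlgHom.liftOfSurjective π hπ g' hg', ?_⟩
  intro s
  obtain ⟨p, rfl⟩ := hπ s
  rw [AlgHom.liftOfSurjective_apply]
  change ι (R := R) (L := L) M (d * u) _ (ρ (R := R) d (d * u) (Dvd.intro u rfl) (g p)) = _
  rw [ι_ρ (R := R) (L := L) M d (d * u) (Dvd.intro u rfl) hd, hg]

end


end Groth.Agent.Lib.Lead.SpreadOut
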