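import Mathlib

/-!
# Coproducts in the small étale site and sheaves

A sheaf of types on the small étale site of `X` turns a coproduct cofan into a product.
-/

open CategoryTheory Limits AlgebraicGeometry Opposite

namespace Groth.Agent.Lib.Lead.EtaleCoprod

universe u w

variable {X : Scheme.{u}}

/-- forgetful functor to schemes -/
noncomputable abbrev Φ (X : Scheme.{u}) : X.Etale ⥤ Scheme.{u} :=
  Scheme.Etale.forget X ⋙ Over.forget X

set_option backward.isDefEq.respectTransparency.types false in
noncomputable instance (G : Type u) : PreservesColimitsOfShape (Discrete G) (Scheme.Etale.forget X) :=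
  inferInstanceAs (PreservesColimitsOfShape (Discrete G) (MorphismProperty.Over.forget @Etale ⊤ X))

theorem exists_iso {G : Type u} {Y : G → X.Etale} {W : X.Etale} (ι : ∀ g, Y g ⟶ W)
    (hc : IsColimit (Cofan.mk W ι)) :
    ∃ e : (∐ fun g => (Y g).left) ≅ W.left,
      ∀ g, Sigma.ι (fun g => (Y g).left) g ≫ e.hom = (ι g).left := by
  have hc' := isColimitOfPreserves (Φ X) hc
  have hc'' : IsColimit (Cofan.mk W.left (fun g => (ι g).left)) :=
    (isColimitMapCoconeCofanMkEquiv (Φ X) _ _).1 hc'
  refine ⟨(coproductIsCoproduct _).coconePointUniqueUpToIso hc'', fun g => ?_⟩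
  exact IsColimit.comp_coconePointUniqueUpToIso_hom (coproductIsCoproduct _) hc'' (Discrete.mk g)

/-- sections of a sheaf over an empty étale scheme are unique -/
theorem subsingleton_of_isEmpty (P : X.Etaleᵒᵖ ⥤ Type w)
    (hP : Presieve.IsSheaf X.smallEtaleTopology P) (Z : X.Etale) [IsEmpty Z.left] :
    Subsingleton (P.obj (op Z)) := by
  have hcov : Sieve.ofArrows (fun i : PEmpty.{1} => (i.elim : X.Etale)) (fun i => (i.elim : _ ⟶ Z)) ∈
      X.smallEtaleTopology Z := by
    rw [Scheme.ofArrows_mem_smallEtaleTopology_iff]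
    ext z
    exact (IsEmpty.false z).elim
  have hsh := hP _ hcov
  refine ⟨fun s t => ?_⟩
  refine hsh.isSeparatedFor.ext ?_
  rintro V f ⟨_, _, _, ⟨i⟩, _⟩
  exact i.elim

theorem bijective_of_isSheaf {G : Type u} {Y : G → X.Etale} {W : X.Etale} (ι : ∀ g, Y g ⟶ W)
    (hc : IsColimit (Cofan.mk W ι)) (P : X.Etaleᵒᵖ ⥤ Type w)
    (hP : Presieve.IsSheaf X.smallEtaleTopology P) :
    Function.Bijective (fun s : P.obj (op W) => fun g : G => P.map (ι g).op s) := by
  classical
  obtain ⟨e, he⟩ := exists_iso ι hc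
  have hcov : Sieve.ofArrows _ ι ∈ X.smallEtaleTopology W := by
    rw [Scheme.ofArrows_mem_smallEtaleTopology_iff]
    ext w
    simp only [Set.mem_iUnion, Set.mem_range, Set.mem_univ, iff_true]
    obtain ⟨g, y, hy⟩ := (sigmaOpenCover (fun g => (Y g).left)).exists_eq (e.inv w)
    refine ⟨g, y, ?_⟩
    rw [← he g, Scheme.Hom.comp_apply]
    erw [hy]
    rw [← Scheme.Hom.comp_apply, e.inv_hom_id]
    rfl
  have hsh := hP _ hcov
  rw [Sieve.ofArrows, ← Presieve.isSheafFor_iff_generate, Presieve.isSheafFor_arrows_iff] at hsh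
  have hcompat : ∀ x : (g : G) → P.obj (op (Y g)), Presieve.Arrows.Compatible P ι x := by
    intro x g g' Z a b hab
    have hab' : a.left ≫ (ι g).left = b.left ≫ (ι g').left := congrArg (Φ X).map hab
    rw [← he g, ← he g', ← Category.assoc, ← Category.assoc, cancel_mono] at hab'
    by_cases h : g = g'
    · subst h
      rw [cancel_mono] at hab'
      have : a = b := (Φ X).map_injective hab'
      rw [this]
    · have : IsEmpty Z.left := isEmpty_of_commSq_sigmaι_of_ne ⟨hab'⟩ h
      have := subsingleton_of_isEmpty P hP Z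
      exact Subsingleton.elim _ _
  constructor
  · intro s s' hss
    obtain ⟨t, _, ht⟩ := hsh _ (hcompat (fun g => P.map (ι g).op s))
    rw [ht s (fun _ => rfl), ht s' (fun g => (congrFun hss g).symm)]
  · intro x
    obtain ⟨t, ht, _⟩ := hsh x (hcompat x)
    exact ⟨t, funext ht⟩

end Groth.Agent.Lib.Lead.EtaleCoprod
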