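import Mathlib
import Groth.Prelude.Def_PBC
import Groth.Agent.Lib.Lead.IndEtTrans

/-!
# Cancellation for ind-étale ring maps (lead)
-/

set_option autoImplicit false
universe u

namespace Groth.Agent.Lib.Lead.IndEtCancel

open CategoryTheory CategoryTheory.Limits TensorProduct
open Groth.Agent.Lib.Helper4.IndEt Groth.Agent.Lib.Lead.IndEtTrans

section quotSystem

variable {P C : Type u} [CommRing P] [CommRing C] {J : Type u} [SmallCategory J] [IsFiltered J]
  (K : J → Ideal P) (hK : ∀ {j k : J}, (j ⟶ k) → K j ≤ K k) (π : P →+* C)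

/-- the diagram of quotients `P ⧸ K j` under `P`. -/
noncomputable def quotDiag : J ⥤ Under (CommRingCat.of P) where
  obj j := Under.mk (CommRingCat.ofHom (Ideal.Quotient.mk (K j)))
  map {j k} u := Under.homMk (CommRingCat.ofHom (Ideal.Quotient.factor (hK u))) (by
    ext x
    rfl)
  map_id j := by
    ext x
    obtain ⟨x, rfl⟩ := Ideal.Quotient.mk_surjective x
    rfl
  map_comp u v := by
    ext x
    obtain ⟨x, rfl⟩ := Ideal.Quotient.mk_surjective x
    rfl

/-- the cocone with point `C`. -/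
noncomputable def quotCocone (hle : ∀ j, K j ≤ RingHom.ker π) : Cocone (quotDiag K hK) where
  pt := Under.mk (CommRingCat.ofHom π)
  ι :=
    { app := fun j => Under.homMk
        (CommRingCat.ofHom (Ideal.Quotient.lift (K j) π (fun a ha => hle j ha))) (by
          ext x
          rfl)
      naturality := fun j k u => by
        ext x
        obtain ⟨x, rfl⟩ := Ideal.Quotient.mk_surjective x
        rfl }

include hK in
theorem quot_isIndEtale (hπ : Function.Surjective π) (hle : ∀ j, K j ≤ RingHom.ker π)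
    (hker : ∀ z, π z = 0 → ∃ j, z ∈ K j) (hEt : ∀ j, Algebra.Etale P (P ⧸ K j)) :
    letI := π.toAlgebra
    EtPBC.IsIndEtale P C := by
  letI := π.toAlgebra
  obtain ⟨hc⟩ : Nonempty (IsColimit (quotCocone K hK π hle)) := by
    apply Groth.Agent.Lib.Helper1.isColimit_under_of_surj_inj
    · intro x
      obtain ⟨p, rfl⟩ := hπ x
      exact ⟨Classical.choice IsFiltered.nonempty, Ideal.Quotient.mk _ p, rfl⟩
    · intro i j xi xj hx
      obtain ⟨p, rfl⟩ := Ideal.Quotient.mk_surjective xi
      obtain ⟨q, rfl⟩ := Ideal.Quotient.mk_surjective xj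
      have h1 : π p = π q := hx
      obtain ⟨l, hl⟩ := hker (p - q) (by rw [map_sub, h1, sub_self])
      refine ⟨IsFiltered.max₃ i j l, IsFiltered.firstToMax₃ i j l, IsFiltered.secondToMax₃ i j l,
        ?_⟩
      change Ideal.Quotient.mk (K (IsFiltered.max₃ i j l)) p =
        Ideal.Quotient.mk (K (IsFiltered.max₃ i j l)) q
      rw [Ideal.Quotient.eq]
      exact hK (IsFiltered.thirdToMax₃ i j l) hl
  refine ⟨J, inferInstance, inferInstance, quotDiag K hK, quotCocone K hK π hle, hc, ?_,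
    ⟨Iso.refl _⟩⟩
  intro j
  change @Algebra.Etale P (P ⧸ K j) _ _ (Ideal.Quotient.mk (K j)).toAlgebra
  have : (Ideal.Quotient.mk (K j)).toAlgebra = (inferInstance : Algebra P (P ⧸ K j)) :=
    Algebra.algebra_ext _ _ (fun _ => rfl)
  rw [this]
  exact hEt j

end quotSystem

/-- quotient by the extension of the kernel of a surjective étale map is étale. -/
theorem etale_quot_map_ker (R S P : Type u) [CommRing R] [CommRing S] [CommRing P] [Algebra R S]
    [Algebra R P] [Algebra.Etale R S] (hs : Function.Surjective (algebraMap R S)) :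
    Algebra.Etale P (P ⧸ (RingHom.ker (Algebra.ofId R S)).map (algebraMap R P)) := by
  let e1 := Algebra.TensorProduct.quotIdealMapEquivTensorQuot P (RingHom.ker (Algebra.ofId R S))
  let e2 : (R ⧸ RingHom.ker (Algebra.ofId R S)) ≃ₐ[R] S :=
    Ideal.quotientKerAlgEquivOfSurjective (f := Algebra.ofId R S) hs
  let e3 : P ⊗[R] (R ⧸ RingHom.ker (Algebra.ofId R S)) ≃ₐ[P] P ⊗[R] S :=
    Algebra.TensorProduct.congr AlgEquiv.refl e2
  exact Algebra.Etale.of_equiv (e1.trans e3).symm

section stage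

variable (A B C : Type u) [CommRing A] [CommRing B] [CommRing C] [Algebra A B] [Algebra B C]
  [Algebra A C] [IsScalarTower A B C]

/-- the graph map `B ⊗ C → C`. -/
noncomputable def gr : B ⊗[A] C →ₐ[A] C :=
  Algebra.TensorProduct.productMap (IsScalarTower.toAlgHom A B C) (AlgHom.id A C)

theorem gr_tmul (b : B) (c : C) : gr A B C (b ⊗ₜ c) = algebraMap B C b * c := by
  simp [gr]

variable {A B} {B' : Type u} [CommRing B'] [Algebra A B'] (ι : B' →ₐ[A] B)

/-- the map `B' ⊗ B' → B ⊗ C` -/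
noncomputable def stageMap : B' ⊗[A] B' →ₐ[A] B ⊗[A] C :=
  Algebra.TensorProduct.map ι ((IsScalarTower.toAlgHom A B C).comp ι)

theorem stageMap_tmul (x y : B') :
    stageMap C ι (x ⊗ₜ y) = ι x ⊗ₜ algebraMap B C (ι y) := by
  simp [stageMap]

/-- the ideal of `B ⊗ C` generated by the diagonal ideal of the stage `B'`. -/
noncomputable def stageK : Ideal (B ⊗[A] C) :=
  (RingHom.ker (Algebra.TensorProduct.lmul' A (S := B')).toRingHom).map (stageMap C ι).toRingHom

theorem gr_comp_stageMap :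
    (gr A B C).comp (stageMap C ι) =
      ((IsScalarTower.toAlgHom A B C).comp ι).comp (Algebra.TensorProduct.lmul' A (S := B')) := by
  apply Algebra.TensorProduct.ext'
  intro x y
  simp [gr_tmul, stageMap_tmul]

theorem stageK_le_ker : stageK C ι ≤ RingHom.ker (gr A B C).toRingHom := by
  unfold stageK
  rw [Ideal.map_le_iff_le_comap]
  intro z hz
  rw [Ideal.mem_comap, RingHom.mem_ker]
  have h := congrArg (fun f => f z) (gr_comp_stageMap C ι)
  have hz' : Algebra.TensorProduct.lmul' A (S := B') z = 0 := hz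
  change gr A B C (stageMap C ι z) = 0
  change gr A B C (stageMap C ι z) = _ at h
  rw [h]
  simp [hz']

theorem mem_stageK (x : B') :
    ι x ⊗ₜ[A] (1 : C) - (1 : B) ⊗ₜ[A] algebraMap B C (ι x) ∈ stageK C ι := by
  have h1 : (x ⊗ₜ[A] (1 : B') - (1 : B') ⊗ₜ[A] x) ∈
      RingHom.ker (Algebra.TensorProduct.lmul' A (S := B')).toRingHom := by
    rw [RingHom.mem_ker]
    change Algebra.TensorProduct.lmul' A (S := B') _ = 0
    simp
  have h2 := Ideal.mem_map_of_mem (stageMap C ι).toRingHom h1
  have h3 : (stageMap C ι).toRingHom (x ⊗ₜ[A] (1 : B') - (1 : B') ⊗ₜ[A] x) =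
      ι x ⊗ₜ[A] (1 : C) - (1 : B) ⊗ₜ[A] algebraMap B C (ι x) := by
    change stageMap C ι _ = _
    rw [map_sub, stageMap_tmul, stageMap_tmul]
    simp
  rw [h3] at h2
  exact h2

theorem stageK_mono {B'' : Type u} [CommRing B''] [Algebra A B''] (ι' : B'' →ₐ[A] B)
    (t : B' →ₐ[A] B'') (h : ι'.comp t = ι) : stageK C ι ≤ stageK C ι' := by
  subst h
  have e1 : stageMap C (ι'.comp t) = (stageMap C ι').comp (Algebra.TensorProduct.map t t) := by
    apply Algebra.TensorProduct.ext'
    intro x y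
    simp [stageMap_tmul]
  have e2 : (Algebra.TensorProduct.lmul' A (S := B'')).comp (Algebra.TensorProduct.map t t) =
      t.comp (Algebra.TensorProduct.lmul' A (S := B')) := by
    apply Algebra.TensorProduct.ext'
    intro x y
    simp
  unfold stageK
  rw [Ideal.map_le_iff_le_comap]
  intro z hz
  rw [Ideal.mem_comap]
  have hz' : Algebra.TensorProduct.lmul' A (S := B') z = 0 := hz
  have h3 : (stageMap C (ι'.comp t)).toRingHom z =
      (stageMap C ι').toRingHom (Algebra.TensorProduct.map t t z) := by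
    change stageMap C (ι'.comp t) z = _
    rw [e1]
    rfl
  rw [h3]
  apply Ideal.mem_map_of_mem
  rw [RingHom.mem_ker]
  change (Algebra.TensorProduct.lmul' A (S := B'')).comp (Algebra.TensorProduct.map t t) z = 0
  rw [e2]
  change t (Algebra.TensorProduct.lmul' A (S := B') z) = 0
  rw [hz', map_zero]

theorem stageK_etale [Algebra.Etale A B'] :
    Algebra.Etale (B ⊗[A] C) ((B ⊗[A] C) ⧸ stageK C ι) := by
  letI a1 : Algebra (B' ⊗[A] B') B' := (Algebra.TensorProduct.lmul' A (S := B')).toRingHom.toAlgebra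
  letI a2 : Algebra (B' ⊗[A] B') (B ⊗[A] C) := (stageMap C ι).toRingHom.toAlgebra
  haveI t1 : IsScalarTower A (B' ⊗[A] B') B' :=
    IsScalarTower.of_algebraMap_eq (fun a =>
      ((Algebra.TensorProduct.lmul' A (S := B')).commutes a).symm)
  haveI e1 : Algebra.Etale A (B' ⊗[A] B') := Algebra.Etale.comp A B' (B' ⊗[A] B')
  haveI e2 : Algebra.Etale (B' ⊗[A] B') B' := Algebra.Etale.of_restrictScalars A _ _
  have hs : Function.Surjective (algebraMap (B' ⊗[A] B') B') := fun x => ⟨x ⊗ₜ 1, by
    change Algebra.TensorProduct.lmul' A (S := B') (x ⊗ₜ 1) = x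
    simp⟩
  exact etale_quot_map_ker (B' ⊗[A] B') B' (B ⊗[A] C) hs

end stage

/-- the graph map `B ⊗[A] C → C` is ind-étale when `A → B` is. -/
theorem graph_isIndEtale (A B C : Type u) [CommRing A] [CommRing B] [CommRing C] [Algebra A B]
    [Algebra B C] [Algebra A C] [IsScalarTower A B C] (hAB : EtPBC.IsIndEtale A B) :
    letI := (gr A B C).toRingHom.toAlgebra
    EtPBC.IsIndEtale (B ⊗[A] C) C := by
  obtain ⟨J, hJ1, hJ2, pres, hP⟩ := ind_of_isIndEtale A B hAB
  letI inst : ∀ j, Algebra A (pres.diag.obj j).right := fun j => (pres.diag.obj j).hom.hom.toAlgebra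
  have hEt : ∀ j, Algebra.Etale A (pres.diag.obj j).right := hP
  let ιA : ∀ j, (pres.diag.obj j).right →ₐ[A] B := fun j =>
    { (pres.ι.app j).right.hom with
      commutes' := fun a => Groth.Agent.Lib.Helper10.IndEtale.under_w_apply (pres.ι.app j) a }
  let tA : ∀ {j k : J} (_ : j ⟶ k), (pres.diag.obj j).right →ₐ[A] (pres.diag.obj k).right :=
    fun u =>
    { (pres.diag.map u).right.hom with
      commutes' := fun a => Groth.Agent.Lib.Helper10.IndEtale.under_w_apply (pres.diag.map u) a }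
  have hcomp : ∀ {j k : J} (u : j ⟶ k), (ιA k).comp (tA u) = ιA j := by
    intro j k u
    ext x
    change (pres.ι.app k).right ((pres.diag.map u).right x) = (pres.ι.app j).right x
    rw [← pres.w u]
    rfl
  let K : J → Ideal (B ⊗[A] C) := fun j => stageK C (ιA j)
  have hK : ∀ {j k : J}, (j ⟶ k) → K j ≤ K k := fun u => stageK_mono C _ _ (tA u) (hcomp u)
  have hsurjB : ∀ b : B, ∃ j x, ιA j x = b := fun b =>
    Groth.Agent.Lib.Helper10.IndEtale.under_exists_rep pres.diag pres.cocone pres.isColimit b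
  have key : ∀ z : B ⊗[A] C, ∃ j, z - (1 : B) ⊗ₜ[A] (gr A B C z) ∈ K j := by
    intro z
    induction z using TensorProduct.induction_on with
    | zero =>
      refine ⟨Classical.choice IsFiltered.nonempty, ?_⟩
      simp
    | tmul b c =>
      obtain ⟨j, x, rfl⟩ := hsurjB b
      refine ⟨j, ?_⟩
      have h1 := mem_stageK C (ιA j) x
      have h2 : (ιA j x) ⊗ₜ[A] c - (1 : B) ⊗ₜ[A] (gr A B C ((ιA j x) ⊗ₜ[A] c)) =
          (ιA j x ⊗ₜ[A] (1 : C) - (1 : B) ⊗ₜ[A] algebraMap B C (ιA j x)) * ((1 : B) ⊗ₜ[A] c) := by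
        rw [gr_tmul, sub_mul, Algebra.TensorProduct.tmul_mul_tmul,
          Algebra.TensorProduct.tmul_mul_tmul, mul_one, one_mul, one_mul]
      rw [h2]
      exact Ideal.mul_mem_right _ _ h1
    | add z1 z2 h1 h2 =>
      obtain ⟨j1, h1⟩ := h1
      obtain ⟨j2, h2⟩ := h2
      refine ⟨IsFiltered.max j1 j2, ?_⟩
      have e : z1 + z2 - (1 : B) ⊗ₜ[A] (gr A B C (z1 + z2)) =
          (z1 - (1 : B) ⊗ₜ[A] (gr A B C z1)) + (z2 - (1 : B) ⊗ₜ[A] (gr A B C z2)) := by
        rw [map_add, TensorProduct.tmul_add]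
        ring
      rw [e]
      exact Ideal.add_mem _ (hK (IsFiltered.leftToMax j1 j2) h1)
        (hK (IsFiltered.rightToMax j1 j2) h2)
  refine quot_isIndEtale K hK (gr A B C).toRingHom ?_ ?_ ?_ ?_
  · intro c
    exact ⟨(1 : B) ⊗ₜ[A] c, by
      change gr A B C _ = c
      rw [gr_tmul, map_one, one_mul]⟩
  · intro j
    exact stageK_le_ker C (ιA j)
  · intro z hz
    obtain ⟨j, hj⟩ := key z
    have hz' : gr A B C z = 0 := hz
    rw [hz', TensorProduct.tmul_zero, sub_zero] at hj
    exact ⟨j, hj⟩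
  · intro j
    exact stageK_etale C (ιA j)

/-- cancellation: `A → B`, `A → C` ind-étale, then `B → C` is ind-étale. -/
theorem cancel (A B C : Type u) [CommRing A] [CommRing B] [CommRing C] [Algebra A B]
    [Algebra B C] [Algebra A C] [IsScalarTower A B C] (hB : EtPBC.IsIndEtale A B)
    (hC : EtPBC.IsIndEtale A C)
    (trans : ∀ (A B C : Type u) [CommRing A] [CommRing B] [CommRing C] [Algebra A B]
      [Algebra B C] [Algebra A C] [IsScalarTower A B C], EtPBC.IsIndEtale A B →
      EtPBC.IsIndEtale B C → EtPBC.IsIndEtale A C) : EtPBC.IsIndEtale B C := by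
  have h1 : EtPBC.IsIndEtale B (B ⊗[A] C) := by
    have hinst : (algebraMap A C).toAlgebra = ‹Algebra A C› :=
      Algebra.algebra_ext _ _ (fun _ => rfl)
    have h0 := Groth.Agent.Lib.Helper10.IndEtale.isIndEtale_baseChange_core A B C (algebraMap A C)
    rw [hinst] at h0
    exact h0 hC
  letI aPC : Algebra (B ⊗[A] C) C := (gr A B C).toRingHom.toAlgebra
  have h2 : EtPBC.IsIndEtale (B ⊗[A] C) C := graph_isIndEtale A B C hB
  haveI : IsScalarTower B (B ⊗[A] C) C := IsScalarTower.of_algebraMap_eq (fun b => by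
    change algebraMap B C b = gr A B C (b ⊗ₜ[A] (1 : C))
    rw [gr_tmul, mul_one])
  exact trans B (B ⊗[A] C) C h1 h2

end Groth.Agent.Lib.Lead.IndEtCancel
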