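import Mathlib

/-! Exactness of complexes of abelian sheaves tested on a basis of weakly contractible objects. -/

set_option autoImplicit false
universe w v u
open CategoryTheory Limits Opposite

namespace Groth.Agent.Lib.Lead.ExactB

variable {C : Type u} [Category.{v} C] (J : GrothendieckTopology C)

/-- sections over `V` -/
abbrev Φ (V : Cᵒᵖ) : Sheaf J AddCommGrpCat.{w} ⥤ AddCommGrpCat.{w} :=
  sheafToPresheaf J AddCommGrpCat.{w} ⋙ (evaluation Cᵒᵖ AddCommGrpCat.{w}).obj V

variable {J}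

theorem app_comp_apply {F G H : Sheaf J AddCommGrpCat.{w}} (φ : F ⟶ G) (ψ : G ⟶ H) (W : Cᵒᵖ)
    (x : F.obj.obj W) : (φ ≫ ψ).hom.app W x = ψ.hom.app W (φ.hom.app W x) := rfl

theorem injective_of_mono {F G : Sheaf J AddCommGrpCat.{w}} (φ : F ⟶ G) [Mono φ] (W : Cᵒᵖ) :
    Function.Injective (φ.hom.app W) := by
  have h : Mono ((Φ J W).map φ) := inferInstance
  exact (AddCommGrpCat.mono_iff_injective _).1 h

variable [HasSheafify J AddCommGrpCat.{w}]

theorem exists_cycle (S : ShortComplex (Sheaf J AddCommGrpCat.{w})) (V : Cᵒᵖ)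
    (y : S.X₂.obj.obj V) (hy : S.g.hom.app V y = 0) :
    ∃ z : S.cycles.obj.obj V, S.iCycles.hom.app V z = y := by
  let T : ShortComplex (Sheaf J AddCommGrpCat.{w}) := ShortComplex.mk S.iCycles S.g S.iCycles_g
  have hT : T.Exact := ShortComplex.exact_of_f_is_kernel T S.cyclesIsKernel
  have hT' : (T.map (Φ J V)).Exact :=
    hT.map_of_mono_of_preservesKernel (Φ J V) (inferInstanceAs (Mono S.iCycles)) inferInstance
  exact (ShortComplex.ab_exact_iff _).1 hT' y hy

/-- local exactness -/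
def LocExact (S : ShortComplex (Sheaf J AddCommGrpCat.{w})) : Prop :=
  ∀ (V : C) (y : S.X₂.obj.obj (op V)), S.g.hom.app (op V) y = 0 →
    ∃ R ∈ J V, ∀ ⦃W : C⦄ (a : W ⟶ V), R a →
      ∃ x : S.X₁.obj.obj (op W), S.f.hom.app (op W) x = S.X₂.obj.map a.op y

theorem exact_of_locExact (S : ShortComplex (Sheaf J AddCommGrpCat.{w})) (h : LocExact S) :
    S.Exact := by
  rw [S.exact_iff_epi_toCycles]
  haveI : Sheaf.IsLocallySurjective S.toCycles := by
    constructor
    intro V z
    have hz : S.g.hom.app (op V) (S.iCycles.hom.app (op V) z) = 0 := by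
      rw [← app_comp_apply, S.iCycles_g]
      rfl
    obtain ⟨R, hR, hRx⟩ := h V (S.iCycles.hom.app (op V) z) hz
    refine J.superset_covering ?_ hR
    intro W a ha
    obtain ⟨x, hx⟩ := hRx a ha
    refine ⟨x, ?_⟩
    apply injective_of_mono S.iCycles (op W)
    rw [← app_comp_apply, S.toCycles_i, hx]
    exact (NatTrans.naturality_apply S.iCycles.hom a.op z).symm
  exact Sheaf.epi_of_isLocallySurjective S.toCycles

variable [J.WEqualsLocallyBijective AddCommGrpCat.{w}]

theorem main (B : C → Prop)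
    (hB : ∀ U : C, B U → ∀ (P Q : Sheaf J (Type w)) (ψ : P ⟶ Q), Epi ψ →
      Function.Surjective (ψ.hom.app (op U)))
    (hcov : ∀ V : C, ∃ S : Sieve V, S ∈ J V ∧ ∀ ⦃W : C⦄ (f : W ⟶ V), S.arrows f →
      ∃ (U : C) (g : W ⟶ U) (h : U ⟶ V), B U ∧ g ≫ h = f)
    (S : ShortComplex (Sheaf J AddCommGrpCat.{w})) :
    S.Exact ↔ ∀ U : C, B U → (S.map (Φ J (op U))).Exact := by
  constructor
  · intro hS U hU
    rw [ShortComplex.ab_exact_iff]
    intro y hy
    have hepi : Epi S.toCycles := S.exact_iff_epi_toCycles.1 hS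
    have : Sheaf.IsLocallySurjective S.toCycles :=
      (Sheaf.isLocallySurjective_iff_epi' (φ := S.toCycles)).2 hepi
    have hepi' : Epi ((sheafCompose J (forget AddCommGrpCat.{w})).map S.toCycles) :=
      inferInstance
    have hsurj := hB U hU _ _ _ hepi'
    obtain ⟨z, hz⟩ := exists_cycle S (op U) y hy
    obtain ⟨x, hx⟩ := hsurj z
    refine ⟨x, ?_⟩
    have hx' : S.toCycles.hom.app (op U) x = z := hx
    show S.f.hom.app (op U) x = y
    rw [← hz, ← hx', ← app_comp_apply, S.toCycles_i]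
  · intro h
    apply exact_of_locExact
    intro V y hy
    obtain ⟨R, hR, hRB⟩ := hcov V
    refine ⟨R, hR, fun W a ha => ?_⟩
    obtain ⟨U, g', h', hU, rfl⟩ := hRB a ha
    have hy' : S.g.hom.app (op U) (S.X₂.obj.map h'.op y) = 0 := by
      rw [NatTrans.naturality_apply S.g.hom h'.op y, hy, map_zero]
    obtain ⟨x, hx⟩ := (ShortComplex.ab_exact_iff _).1 (h U hU) (S.X₂.obj.map h'.op y) hy'
    have hx' : S.f.hom.app (op U) x = S.X₂.obj.map h'.op y := hx
    refine ⟨S.X₁.obj.map g'.op x, ?_⟩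
    rw [NatTrans.naturality_apply S.f.hom g'.op x, hx', op_comp, Functor.map_comp]
    rfl

end Groth.Agent.Lib.Lead.ExactB
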