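import Mathlib.CategoryTheory.Sites.Continuous
import Mathlib.CategoryTheory.Sites.CoverPreserving
import Mathlib.CategoryTheory.Sites.LocallyBijective
import Mathlib.CategoryTheory.Sites.LeftExact

/-!
# Continuous functors: local injectivity of `Φ_! R ⟶ h_{Φ U}` without smallness

For a continuous functor `Φ : C ⥤ D` between sites in the same universes and a covering sieve
`R` of `U`, two factorizations `α₁ ≫ Φ r₁ = α₂ ≫ Φ r₂` (with `r₁ r₂ ∈ R`) are locally (on the source
of the `αᵢ`) connected by a zigzag in `R`.  Consequently compatible families of separated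
presheaves are "compatible-preserved".
-/

set_option autoImplicit false

namespace Groth.Agent.Lib.Lead.ContLocInj

open CategoryTheory Opposite

universe w v u v₁ u₁ v₂ u₂

section General

variable {C : Type u₁} [Category.{v₁} C] {D : Type u₂} [Category.{v₂} D] (F : C ⥤ D)
  (J : GrothendieckTopology C) (K : GrothendieckTopology D)

/-- cover preserving functors pull separated presheaves back to separated presheaves. -/
theorem isSeparated_of_coverPreserving (h : CoverPreserving J K F) {G : Dᵒᵖ ⥤ Type w}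
    (hG : Presieve.IsSeparated K G) : Presieve.IsSeparated J (F.op ⋙ G) := by
  intro U R hR y t₁ t₂ ht₁ ht₂
  refine (hG _ (h.cover_preserve hR)).ext ?_
  rintro Z g ⟨V, r, a, hr, rfl⟩
  have e₁ : G.map (F.map r).op t₁ = y r hr := ht₁ r hr
  have e₂ : G.map (F.map r).op t₂ = y r hr := ht₂ r hr
  rw [op_comp, G.map_comp]
  show G.map a.op (G.map (F.map r).op t₁) = G.map a.op (G.map (F.map r).op t₂)
  rw [e₁, e₂]

/-- A variant of `Functor.isContinuous_of_coverPreserving` where the compatibility is only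
asked for covering sieves. -/
theorem isContinuous_of_cp
    (h₁ : ∀ (G : Sheaf K (Type (max u₁ v₁ u₂ v₂))) {U : C} (R : Sieve U) (_ : R ∈ J U)
      (x : Presieve.FamilyOfElements (F.op ⋙ G.obj) R.arrows) (_ : x.Compatible)
      {Z : D} {V₁ V₂ : C} (a₁ : Z ⟶ F.obj V₁) (a₂ : Z ⟶ F.obj V₂) {r₁ : V₁ ⟶ U} {r₂ : V₂ ⟶ U}
      (h₁ : R r₁) (h₂ : R r₂), a₁ ≫ F.map r₁ = a₂ ≫ F.map r₂ →
      G.obj.map a₁.op (x r₁ h₁) = G.obj.map a₂.op (x r₂ h₂))
    (h₂ : CoverPreserving J K F) : F.IsContinuous J K where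
  op_comp_isSheaf_of_types G := by
    intro U R hR x hx
    have hcomp : (x.functorPushforward F).Compatible := by
      rintro Z₁ Z₂ W g₁ g₂ f₁' f₂' H₁ H₂ eq
      unfold Presieve.FamilyOfElements.functorPushforward
      rcases Presieve.getFunctorPushforwardStructure H₁ with ⟨X₁, f₁, k₁, hf₁, rfl⟩
      rcases Presieve.getFunctorPushforwardStructure H₂ with ⟨X₂, f₂, k₂, hf₂, rfl⟩
      suffices G.obj.map (g₁ ≫ k₁).op (x f₁ hf₁) = G.obj.map (g₂ ≫ k₂).op (x f₂ hf₂) by
        simpa using this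
      apply h₁ G R hR x hx
      simpa using eq
    have happ : ∀ {Y : C} {f : Y ⟶ U} (hf : R f),
        x.functorPushforward F (F.map f) (Presieve.image_mem_functorPushforward F R.arrows hf) =
          x f hf := by
      intro Y f hf
      unfold Presieve.FamilyOfElements.functorPushforward
      rcases Presieve.getFunctorPushforwardStructure
        (Presieve.image_mem_functorPushforward F R.arrows hf) with ⟨X, g, f', hg, eq⟩
      simpa using h₁ G R hR x hx f' (𝟙 _) hg hf (by simp [eq])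
    apply existsUnique_of_exists_of_unique
    · have H := (isSheaf_iff_isSheaf_of_type _ _).1 G.2 _ (h₂.cover_preserve hR)
      exact ⟨H.amalgamate (x.functorPushforward F) hcomp,
        fun V f hf => (H.isAmalgamation hcomp (F.map f) _).trans (happ hf)⟩
    · intro y₁ y₂ hy₁ hy₂
      exact isSeparated_of_coverPreserving F J K h₂
        ((isSheaf_iff_isSheaf_of_type _ _).1 G.2).isSeparated R hR x y₁ y₂ hy₁ hy₂

end General

variable {C D : Type u} [Category.{v} C] [Category.{v} D] (Φ : C ⥤ D) {U : C} (R : Sieve U)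

/-- A point of `Φ_! R` over `W`. -/
structure Pt (W : D) where
  V : C
  r : V ⟶ U
  hr : R r
  α : W ⟶ Φ.obj V

variable {Φ R}

/-- restriction of points -/
def Pt.res {W W' : D} (w : W' ⟶ W) (p : Pt Φ R W) : Pt Φ R W' := ⟨p.V, p.r, p.hr, w ≫ p.α⟩

variable (Φ R)

/-- the generating relation of the colimit `Φ_! R (W)` -/
def Rel (W : D) (p q : Pt Φ R W) : Prop :=
  ∃ v : p.V ⟶ q.V, v ≫ q.r = p.r ∧ p.α ≫ Φ.map v = q.α

/-- the presheaf `Φ_! R`, by hand. -/
def Q : Dᵒᵖ ⥤ Type (max u v) where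
  obj W := Quot (Rel Φ R W.unop)
  map {W W'} w := TypeCat.ofHom (Quot.map (Pt.res w.unop) (by
    rintro p q ⟨v, h1, h2⟩
    exact ⟨v, h1, by simp [Pt.res, ← h2]⟩))
  map_id := by
    intro W
    apply ConcreteCategory.hom_ext
    rintro ⟨p⟩
    show Quot.mk _ (Pt.res (𝟙 _) p) = Quot.mk _ p
    congr 1
    cases p
    simp [Pt.res]
  map_comp := by
    intro W₁ W₂ W₃ f g
    apply ConcreteCategory.hom_ext
    rintro ⟨p⟩
    show Quot.mk _ (Pt.res (f ≫ g).unop p) = Quot.mk _ (Pt.res g.unop (Pt.res f.unop p))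
    congr 1
    cases p
    simp [Pt.res]

variable {Φ R}

theorem Q_map_mk {W W' : D} (w : W' ⟶ W) (p : Pt Φ R W) :
    (Q Φ R).map w.op (Quot.mk _ p) = Quot.mk _ (p.res w) := rfl

variable (J : GrothendieckTopology C) (K : GrothendieckTopology D)

/-- local injectivity of `Φ_! R ⟶ h_{Φ U}` for a continuous functor. -/
theorem key [Φ.IsContinuous J K] (hR : R ∈ J U) {W : D} (p q : Pt Φ R W)
    (e : p.α ≫ Φ.map p.r = q.α ≫ Φ.map q.r) :
    ∃ T : Sieve W, T ∈ K W ∧ ∀ ⦃W' : D⦄ (w : W' ⟶ W), T w →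
      Quot.mk (Rel Φ R W') (p.res w) = Quot.mk (Rel Φ R W') (q.res w) := by
  let A : Sheaf K (Type (max u v)) := (presheafToSheaf K _).obj (Q Φ R)
  let η : Q Φ R ⟶ A.obj := toSheafify K (Q Φ R)
  have hsh : Presieve.IsSheaf J (Φ.op ⋙ A.obj) := Φ.op_comp_isSheaf_of_types J K A
  let z : Presieve.FamilyOfElements (Φ.op ⋙ A.obj) R.arrows :=
    fun V r hr => η.app (op (Φ.obj V)) (Quot.mk _ ⟨V, r, hr, 𝟙 _⟩)
  have hz : z.Compatible := by
    rw [Presieve.compatible_iff_sieveCompatible]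
    intro Y Z f g hf
    show η.app (op (Φ.obj Z)) (Quot.mk _ ⟨Z, g ≫ f, _, 𝟙 _⟩) =
      A.obj.map (Φ.map g).op (η.app (op (Φ.obj Y)) (Quot.mk _ ⟨Y, f, hf, 𝟙 _⟩))
    have n := NatTrans.naturality_apply η (Φ.map g).op (Quot.mk _ ⟨Y, f, hf, 𝟙 _⟩)
    rw [← n, Q_map_mk]
    congr 1
    apply Quot.sound
    exact ⟨g, rfl, by simp [Pt.res]⟩
  obtain ⟨s, hs, -⟩ := hsh R hR z hz
  have hη : ∀ (p : Pt Φ R W), η.app (op W) (Quot.mk _ p) =
      A.obj.map (p.α ≫ Φ.map p.r).op s := by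
    intro p
    have e1 : (Quot.mk _ p : Quot (Rel Φ R W)) =
        (Q Φ R).map p.α.op (Quot.mk _ ⟨p.V, p.r, p.hr, 𝟙 _⟩) := by
      rw [Q_map_mk]
      congr 1
      cases p
      simp [Pt.res]
    have n := NatTrans.naturality_apply η p.α.op (Quot.mk _ ⟨p.V, p.r, p.hr, 𝟙 _⟩)
    have e2 : A.obj.map (Φ.map p.r).op s = z p.r p.hr := hs p.r p.hr
    rw [e1, n, op_comp, A.obj.map_comp]
    show A.obj.map p.α.op (z p.r p.hr) = A.obj.map p.α.op (A.obj.map (Φ.map p.r).op s)
    rw [e2]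
  have hpq : η.app (op W) (Quot.mk _ p) = η.app (op W) (Quot.mk _ q) := by
    rw [hη p, hη q, e]
  refine ⟨_, Presheaf.equalizerSieve_mem K η (X := op W) _ _ hpq, ?_⟩
  intro W' w hw
  exact hw

/-- compatible families of a separated presheaf are "compatible-preserved" along a continuous
functor, for covering sieves. -/
theorem compat [Φ.IsContinuous J K] {G' : Dᵒᵖ ⥤ Type w} (hG' : Presieve.IsSeparated K G')
    (hR : R ∈ J U) (y : Presieve.FamilyOfElements (Φ.op ⋙ G') R.arrows) (hy : y.Compatible)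
    {W : D} (p q : Pt Φ R W) (e : p.α ≫ Φ.map p.r = q.α ≫ Φ.map q.r) :
    G'.map p.α.op (y p.r p.hr) = G'.map q.α.op (y q.r q.hr) := by
  rw [Presieve.compatible_iff_sieveCompatible] at hy
  have hΨ : ∀ (W' : D) (p q : Pt Φ R W'), Rel Φ R W' p q →
      G'.map p.α.op (y p.r p.hr) = G'.map q.α.op (y q.r q.hr) := by
    rintro W' ⟨V, r, hr, α⟩ ⟨V', r', hr', α'⟩ ⟨v, h1, h2⟩
    have h1' : v ≫ r' = r := h1
    have h2' : α ≫ Φ.map v = α' := h2
    have aux : ∀ (r₀ : V ⟶ U) (hr₀ : R r₀), v ≫ r' = r₀ →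
        y r₀ hr₀ = G'.map (Φ.map v).op (y r' hr') := by
      intro r₀ hr₀ h
      subst h
      exact hy r' v hr'
    show G'.map α.op (y r hr) = G'.map α'.op (y r' hr')
    rw [aux r hr h1', ← h2', op_comp, G'.map_comp]
    rfl
  let Ψ : ∀ W' : D, Quot (Rel Φ R W') → G'.obj (op W') := fun W' =>
    Quot.lift (fun p => G'.map p.α.op (y p.r p.hr)) (hΨ W')
  obtain ⟨T, hT, h⟩ := key J K hR p q e
  refine (hG' T hT).ext ?_
  intro W' w hw
  have := congrArg (Ψ W') (h w hw)
  have e1 : ∀ p : Pt Φ R W, G'.map w.op (G'.map p.α.op (y p.r p.hr)) =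
      Ψ W' (Quot.mk _ (p.res w)) := by
    intro p
    show _ = G'.map (w ≫ p.α).op (y p.r p.hr)
    rw [op_comp, G'.map_comp]
    rfl
  rw [e1 p, e1 q, this]

end Groth.Agent.Lib.Lead.ContLocInj
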