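import Groth.Prelude.Def_FibSite
import Groth.Agent.Lib.Lead.ContLocInj
import Mathlib.CategoryTheory.Sites.Coverage
import Mathlib.CategoryTheory.Sites.InducedTopology

/-!
# Fibred sites: the total topology (SGA 4 VI 7.4)
-/

set_option autoImplicit false
set_option backward.isDefEq.respectTransparency false
set_option backward.isDefEq.respectTransparency.types false

namespace Groth.Agent.Lib.Lead.FibSite1

open CategoryTheory Opposite Pseudofunctor Pseudofunctor.CoGrothendieck FibSite Bicategory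

universe w v₁ u₁ v₂ u₂ v₃ u₃

section General

variable {C : Type u₁} [Category.{v₁} C] {D : Type u₂} [Category.{v₂} D]

theorem isSheafFor_functorPushforward (F : C ⥤ D) (G : Dᵒᵖ ⥤ Type w) {U : C} (R : Sieve U)
    (h : Presieve.IsSheafFor (F.op ⋙ G) R.arrows) :
    Presieve.IsSheafFor G (R.functorPushforward F).arrows := by
  intro x hx
  let x₀ : Presieve.FamilyOfElements (F.op ⋙ G) R.arrows :=
    fun V r hr => x (F.map r) (Sieve.image_mem_functorPushforward F R hr)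
  have hx₀ : x₀.Compatible := by
    intro V₁ V₂ W g₁ g₂ r₁ r₂ h₁ h₂ e
    exact hx (F.map g₁) (F.map g₂) _ _ (by rw [← F.map_comp, ← F.map_comp, e])
  obtain ⟨t, ht, huniq⟩ := h x₀ hx₀
  refine ⟨t, ?_, ?_⟩
  · rintro Z g ⟨V, r, a, hr, rfl⟩
    have e1 : G.map (F.map r).op t = x₀ r hr := ht r hr
    have hx' := (Presieve.compatible_iff_sieveCompatible _).1 hx
    rw [op_comp, G.map_comp]
    show G.map a.op (G.map (F.map r).op t) = _
    rw [e1]
    exact (hx' (F.map r) a (Sieve.image_mem_functorPushforward F R hr)).symm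
  · intro t' ht'
    apply huniq
    intro V r hr
    exact ht' (F.map r) _

end General

variable {𝒮 : Type u₁} [Category.{v₁} 𝒮] {F : Pseudofunctor (LocallyDiscrete 𝒮ᵒᵖ) Cat.{v₂, u₂}}

/-- a vertical map followed by a map -/
def vcomp {T : 𝒮} {W W' : F.obj ⟨op T⟩} (w : W ⟶ W') {X : ∫ᶜ F}
    (h : (⟨T, W'⟩ : ∫ᶜ F) ⟶ X) : (⟨T, W⟩ : ∫ᶜ F) ⟶ X := ⟨h.base, w ≫ h.fiber⟩

theorem ι_map_comp_aux {T : 𝒮} {W W' : F.obj ⟨op T⟩} (w : W ⟶ W') {X : ∫ᶜ F}
    (h : (⟨T, W'⟩ : ∫ᶜ F) ⟶ X) :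
    (ι F T).map w ≫ h = vcomp w (𝟙 _ ≫ h) :=
  congrArg (Hom.mk _) (Category.assoc _ _ _)

theorem ι_map_comp {T : 𝒮} {W W' : F.obj ⟨op T⟩} (w : W ⟶ W') {X : ∫ᶜ F}
    (h : (⟨T, W'⟩ : ∫ᶜ F) ⟶ X) :
    (ι F T).map w ≫ h = vcomp w h := by
  rw [ι_map_comp_aux, Category.id_comp]

/-- a map followed by a vertical map -/
def hcomp {Z : ∫ᶜ F} {S : 𝒮} {V V' : F.obj ⟨op S⟩}
    (a : Z ⟶ (⟨S, V⟩ : ∫ᶜ F)) (r : V ⟶ V') : Z ⟶ (⟨S, V'⟩ : ∫ᶜ F) :=
  ⟨a.base, a.fiber ≫ (invImage F a.base).map r⟩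

theorem comp_ι_map_aux {Z : ∫ᶜ F} {S : 𝒮} {V V' : F.obj ⟨op S⟩}
    (a : Z ⟶ (⟨S, V⟩ : ∫ᶜ F)) (r : V ⟶ V') :
    a ≫ (ι F S).map r = hcomp a r ≫ 𝟙 _ := by
  refine congrArg (Hom.mk _) ?_
  simp [hcomp]
  rfl

theorem comp_ι_map {Z : ∫ᶜ F} {S : 𝒮} {V V' : F.obj ⟨op S⟩}
    (a : Z ⟶ (⟨S, V⟩ : ∫ᶜ F)) (r : V ⟶ V') :
    a ≫ (ι F S).map r = hcomp a r := by
  rw [comp_ι_map_aux, Category.comp_id]

/-- vertical morphisms come from the fibre -/
theorem exists_ι_map {S : 𝒮} {V V' : F.obj ⟨op S⟩} (a : (⟨S, V⟩ : ∫ᶜ F) ⟶ ⟨S, V'⟩)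
    (ha : a.base = 𝟙 S) : ∃ a' : V ⟶ V', a = (ι F S).map a' := by
  obtain ⟨b, φ⟩ := a
  change b = 𝟙 S at ha
  subst ha
  refine ⟨φ ≫ (F.mapId ⟨op S⟩).hom.toNatTrans.app V', ?_⟩
  refine congrArg (Hom.mk _) ?_
  simp [← Cat.Hom₂.comp_app]

instance faithful_ι (S : 𝒮) : (ι F S).Faithful where
  map_injective {a b} f g h := by
    have h' : (⟨𝟙 S, f ≫ (F.mapId ⟨op S⟩).inv.toNatTrans.app b⟩ : (⟨S, a⟩ : ∫ᶜ F) ⟶ ⟨S, b⟩) =
        ⟨𝟙 S, g ≫ (F.mapId ⟨op S⟩).inv.toNatTrans.app b⟩ := h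
    have h2 := eq_of_heq (Hom.mk.inj h').2
    have := congrArg (fun k => k ≫ (F.mapId ⟨op S⟩).hom.toNatTrans.app b) h2
    simpa [← Cat.Hom₂.comp_app] using this

/-- the chosen cartesian lift -/
def cart {T S : 𝒮} (f : T ⟶ S) (V : F.obj ⟨op S⟩) :
    (⟨T, (invImage F f).obj V⟩ : ∫ᶜ F) ⟶ ⟨S, V⟩ := ⟨f, 𝟙 _⟩

theorem cart_naturality {T S : 𝒮} (f : T ⟶ S) {V V' : F.obj ⟨op S⟩} (g : V ⟶ V') :
    cart f V ≫ (ι F S).map g = (ι F T).map ((invImage F f).map g) ≫ cart f V' := by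
  rw [comp_ι_map, ι_map_comp]
  refine congrArg (Hom.mk _) ?_
  exact (Category.id_comp _).trans (Category.comp_id _).symm

theorem ι_map_comp_cart {T S : 𝒮} (f : T ⟶ S) {V : F.obj ⟨op S⟩} {W : F.obj ⟨op T⟩}
    (α : W ⟶ (invImage F f).obj V) :
    (ι F T).map α ≫ cart f V = (⟨f, α⟩ : (⟨T, W⟩ : ∫ᶜ F) ⟶ ⟨S, V⟩) := by
  rw [ι_map_comp]
  exact congrArg (Hom.mk _) (Category.comp_id _)

variable (J : Topologies F)

theorem exists_pullback (hF : IsPreFibSite F J) {T S : 𝒮} {W : F.obj ⟨op T⟩} {U : F.obj ⟨op S⟩}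
    (h : (⟨T, W⟩ : ∫ᶜ F) ⟶ ⟨S, U⟩) {R : Sieve U} (hR : R ∈ J S U) :
    ∃ R' : Sieve W, R' ∈ J T W ∧
      R'.functorPushforward (ι F T) ≤ (R.functorPushforward (ι F S)).pullback h := by
  have := hF h.base
  refine ⟨(R.functorPushforward (invImage F h.base)).pullback h.fiber,
    (J T).pullback_stable _
      ((CoverPreserving.of_isContinuous (invImage F h.base) (J S) (J T)).cover_preserve hR), ?_⟩
  rintro Z g ⟨W', w, a, ⟨V, r, b, hr, e⟩, rfl⟩
  refine ⟨V, r, a ≫ (⟨h.base, b⟩ : (⟨T, W'⟩ : ∫ᶜ F) ⟶ ⟨S, V⟩), hr, ?_⟩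
  rw [Category.assoc, Category.assoc, ι_map_comp, comp_ι_map]
  congr 1
  exact congrArg (Hom.mk _) e

/-- the coverage generating the total topology -/
def cov (hF : IsPreFibSite F J) : Coverage (∫ᶜ F) where
  coverings X := {P | ∃ R : Sieve X.fiber, R ∈ J X.base X.fiber ∧
    P = (R.functorPushforward (ι F X.base)).arrows}
  pullback := by
    rintro X Y h _ ⟨R, hR, rfl⟩
    obtain ⟨R', hR', hle⟩ := exists_pullback J hF h hR
    refine ⟨_, ⟨R', hR', rfl⟩, ?_⟩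
    intro Z g hg
    exact ⟨_, 𝟙 _, g ≫ h, hle _ hg, by simp⟩

theorem totalTopology_eq (hF : IsPreFibSite F J) :
    totalTopology F J = (cov J hF).toGrothendieck := by
  apply le_antisymm
  · apply totalTopology_le
    intro S U R hR
    rw [← Sieve.generate_sieve (R.functorPushforward (ι F S))]
    exact Coverage.Saturate.of _ _ ⟨R, hR, rfl⟩
  · rw [Coverage.toGrothendieck_eq_sInf]
    apply sInf_le
    rintro X _ ⟨R, hR, rfl⟩
    refine (GrothendieckTopology.mem_toCoverage_iff _).2 ?_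
    rw [Sieve.generate_sieve]
    exact functorPushforward_mem_totalTopology hR

theorem mem_totalTopology_iff (hF : IsPreFibSite F J) (X : ∫ᶜ F) (S : Sieve X) :
    S ∈ totalTopology F J X ↔
      ∃ R ∈ J X.base X.fiber, Sieve.functorPushforward (ι F X.base) R ≤ S := by
  constructor
  · rw [totalTopology_eq J hF]
    intro h
    induction h with
    | of X P hP =>
      obtain ⟨R, hR, rfl⟩ := hP
      exact ⟨R, hR, fun Z g hg => ⟨_, 𝟙 _, g, hg, Category.id_comp _⟩⟩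
    | top X => exact ⟨⊤, (J _).top_mem _, le_top⟩
    | transitive X R S _ _ ih1 ih2 =>
      obtain ⟨R₀, hR₀, hle⟩ := ih1
      have hex : ∀ ⦃V : F.obj ⟨op X.base⟩⦄ (r : V ⟶ X.fiber) (_ : R₀ r),
          ∃ R' : Sieve V, R' ∈ J X.base V ∧
            R'.functorPushforward (ι F X.base) ≤ S.pullback ((ι F X.base).map r) :=
        fun V r hr => ih2 (hle _ (Sieve.image_mem_functorPushforward _ _ hr))
      choose R' hR' hle' using hex
      refine ⟨Sieve.bind R₀ (fun V r hr => R' r hr),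
        (J _).bind_covering hR₀ (fun V r hr => hR' r hr), ?_⟩
      rintro Z g ⟨W, w, a, ⟨V, w', r, hr, hw', rfl⟩, rfl⟩
      rw [Functor.map_comp]
      exact S.downward_closed (hle' r hr _ (Sieve.image_mem_functorPushforward _ _ hw')) a
  · rintro ⟨R, hR, hle⟩
    exact (totalTopology F J).superset_covering hle (functorPushforward_mem_totalTopology hR)

theorem coverPreserving_ι (S : 𝒮) : CoverPreserving (J S) (totalTopology F J) (ι F S) :=
  ⟨fun hR => functorPushforward_mem_totalTopology hR⟩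

/-- a morphism of the total category from its two components -/
abbrev mkHom {T S : 𝒮} {W : F.obj ⟨op T⟩} {V : F.obj ⟨op S⟩} (f : T ⟶ S)
    (α : W ⟶ (invImage F f).obj V) : (⟨T, W⟩ : ∫ᶜ F) ⟶ ⟨S, V⟩ := ⟨f, α⟩

theorem key_compat_core (hF : IsPreFibSite F J) {G : (∫ᶜ F)ᵒᵖ ⥤ Type w}
    (hG : Presieve.IsSeparated (totalTopology F J) G) {S : 𝒮} {U : F.obj ⟨op S⟩} (R : Sieve U)
    (hR : R ∈ J S U) (x : Presieve.FamilyOfElements ((ι F S).op ⋙ G) R.arrows)
    (hx : x.Compatible) {T : 𝒮} {W : F.obj ⟨op T⟩} {V₁ V₂ : F.obj ⟨op S⟩} (f : T ⟶ S)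
    (α₁ : W ⟶ (invImage F f).obj V₁) (α₂ : W ⟶ (invImage F f).obj V₂)
    {r₁ : V₁ ⟶ U} {r₂ : V₂ ⟶ U} (h₁ : R r₁) (h₂ : R r₂)
    (e : α₁ ≫ (invImage F f).map r₁ = α₂ ≫ (invImage F f).map r₂) :
    G.map (mkHom f α₁).op (x r₁ h₁) = G.map (mkHom f α₂).op (x r₂ h₂) := by
  have := hF f
  have hG' : Presieve.IsSeparated (J T) ((ι F T).op ⋙ G) :=
    ContLocInj.isSeparated_of_coverPreserving _ _ _ (coverPreserving_ι J T) hG
  let y : Presieve.FamilyOfElements ((invImage F f).op ⋙ (ι F T).op ⋙ G) R.arrows :=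
    fun V r hr => G.map (cart f V).op (x r hr)
  have hy : y.Compatible := by
    rw [Presieve.compatible_iff_sieveCompatible] at hx ⊢
    intro V V' r g hr
    show G.map (cart f V').op (x (g ≫ r) _) =
      G.map ((ι F T).map ((invImage F f).map g)).op (G.map (cart f V).op (x r hr))
    rw [hx r g hr]
    show G.map (cart f V').op (G.map ((ι F S).map g).op (x r hr)) = _
    have n := cart_naturality f g
    have e1 : G.map (cart f V').op (G.map ((ι F S).map g).op (x r hr)) =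
        G.map (cart f V' ≫ (ι F S).map g).op (x r hr) := by
      rw [op_comp, G.map_comp]; rfl
    have e2 : G.map ((ι F T).map ((invImage F f).map g)).op (G.map (cart f V).op (x r hr)) =
        G.map ((ι F T).map ((invImage F f).map g) ≫ cart f V).op (x r hr) := by
      rw [op_comp, G.map_comp]; rfl
    rw [e1, e2]
    exact congrArg (fun k => G.map (Quiver.Hom.op k) (x r hr)) n
  have key := ContLocInj.compat (Φ := invImage F f) (J S) (J T) hG' hR y hy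
    ⟨V₁, r₁, h₁, α₁⟩ ⟨V₂, r₂, h₂, α₂⟩ e
  have c1 : (ι F T).map α₁ ≫ cart f V₁ = mkHom f α₁ := ι_map_comp_cart f α₁
  have c2 : (ι F T).map α₂ ≫ cart f V₂ = mkHom f α₂ := ι_map_comp_cart f α₂
  rw [← c1, ← c2, op_comp, op_comp, G.map_comp, G.map_comp]
  exact key

theorem key_compat (hF : IsPreFibSite F J) {G : (∫ᶜ F)ᵒᵖ ⥤ Type w}
    (hG : Presieve.IsSeparated (totalTopology F J) G) {S : 𝒮} {U : F.obj ⟨op S⟩} (R : Sieve U)
    (hR : R ∈ J S U) (x : Presieve.FamilyOfElements ((ι F S).op ⋙ G) R.arrows)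
    (hx : x.Compatible) {Z : ∫ᶜ F} {V₁ V₂ : F.obj ⟨op S⟩} (a₁ : Z ⟶ (ι F S).obj V₁)
    (a₂ : Z ⟶ (ι F S).obj V₂) {r₁ : V₁ ⟶ U} {r₂ : V₂ ⟶ U} (h₁ : R r₁) (h₂ : R r₂)
    (e : a₁ ≫ (ι F S).map r₁ = a₂ ≫ (ι F S).map r₂) :
    G.map a₁.op (x r₁ h₁) = G.map a₂.op (x r₂ h₂) := by
  obtain ⟨T, W⟩ := Z
  obtain ⟨f₁, α₁⟩ := a₁
  obtain ⟨f₂, α₂⟩ := a₂
  rw [comp_ι_map, comp_ι_map] at e
  have e' : (⟨f₁, α₁ ≫ (invImage F f₁).map r₁⟩ : (⟨T, W⟩ : ∫ᶜ F) ⟶ ⟨S, U⟩) =
      ⟨f₂, α₂ ≫ (invImage F f₂).map r₂⟩ := e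
  obtain ⟨hb, hf⟩ := Hom.mk.inj e'
  subst hb
  exact key_compat_core J hF hG R hR x hx f₁ α₁ α₂ h₁ h₂ (eq_of_heq hf)

theorem isContinuous_ι (hF : IsPreFibSite F J) (S : 𝒮) :
    (ι F S).IsContinuous (J S) (totalTopology F J) :=
  ContLocInj.isContinuous_of_cp _ _ _
    (fun G _ R hR x hx _ _ _ a₁ a₂ _ _ h₁ h₂ e =>
      key_compat J hF ((isSheaf_iff_isSheaf_of_type _ _).1 G.2).isSeparated R hR x hx a₁ a₂ h₁ h₂ e)
    (coverPreserving_ι J S)

theorem isCocontinuous_ι (hF : IsPreFibSite F J) (S : 𝒮) :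
    (ι F S).IsCocontinuous (J S) (totalTopology F J) where
  cover_lift {U} {T} hT := by
    obtain ⟨R, hR, hle⟩ : ∃ R ∈ J S U, Sieve.functorPushforward (ι F S) R ≤ T :=
      (mem_totalTopology_iff J hF _ T).1 hT
    exact (J S).superset_covering
      (fun V r hr => hle _ (Sieve.image_mem_functorPushforward _ _ hr)) hR

theorem inducedTopology_ι (hF : IsPreFibSite F J) (S : 𝒮) :
    (ι F S).inducedTopology (totalTopology F J) = J S := by
  apply le_antisymm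
  · intro U R hR
    have hcov := (CoverPreserving.of_isContinuous (ι F S)
      ((ι F S).inducedTopology (totalTopology F J)) (totalTopology F J)).cover_preserve hR
    obtain ⟨R', hR', hle⟩ : ∃ R' ∈ J S U,
        Sieve.functorPushforward (ι F S) R' ≤ R.functorPushforward (ι F S) :=
      (mem_totalTopology_iff J hF _ _).1 hcov
    refine (J S).superset_covering ?_ hR'
    intro V r' hr'
    obtain ⟨V', r, a, hr, e⟩ := hle _ (Sieve.image_mem_functorPushforward _ _ hr')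
    have hb : a.base = 𝟙 S := by
      have h1 : 𝟙 S = a.base ≫ 𝟙 S := congrArg (fun k => k.base) e
      exact (Category.comp_id a.base).symm.trans h1.symm
    obtain ⟨a', rfl⟩ := exists_ι_map a hb
    rw [← Functor.map_comp] at e
    have := (ι F S).map_injective e
    rw [this]
    exact R.downward_closed hr a'
  · rw [Functor.le_inducedTopology_iff]
    exact isContinuous_ι J hF S

theorem isSheaf_iff (hF : IsPreFibSite F J) {A : Type u₃} [Category.{v₃} A]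
    (P : (∫ᶜ F)ᵒᵖ ⥤ A) :
    Presheaf.IsSheaf (totalTopology F J) P ↔
      ∀ S : 𝒮, Presheaf.IsSheaf (J S) ((ι F S).op ⋙ P) := by
  constructor
  · intro h S
    have := isContinuous_ι J hF S
    exact Functor.op_comp_isSheaf_of_isSheaf (ι F S) (J S) (totalTopology F J) P h
  · intro h E
    rw [totalTopology_eq J hF, Presieve.isSheaf_coverage]
    rintro X _ ⟨R, hR, rfl⟩
    exact isSheafFor_functorPushforward (ι F X.base) _ R (h X.base E R hR)

theorem isContinuous_iff (hF : IsPreFibSite F J) {D : Type u₃} [Category.{v₃} D]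
    (K : GrothendieckTopology D) (m : ∫ᶜ F ⥤ D) :
    m.IsContinuous (totalTopology F J) K ↔
      ∀ S : 𝒮, (ι F S ⋙ m).IsContinuous (J S) K := by
  constructor
  · intro h S
    have := isContinuous_ι J hF S
    exact Functor.isContinuous_comp (ι F S) m (J S) (totalTopology F J) K
  · intro h
    refine ⟨fun G => ?_⟩
    rw [← isSheaf_iff_isSheaf_of_type, isSheaf_iff J hF]
    intro S
    rw [isSheaf_iff_isSheaf_of_type]
    have := h S
    exact (ι F S ⋙ m).op_comp_isSheaf_of_types (J S) K G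

end Groth.Agent.Lib.Lead.FibSite1
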