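import Groth.Prelude.Def_HTop2
import Mathlib

/-!
# Seminormal rings: localization and local-to-global
-/

set_option autoImplicit false

universe u

namespace Groth.Agent.Lib.Lead.Seminormal

open HTop

variable {A : Type u} [CommRing A]

/-- An element killed by a power of each member of a finite generating set of the unit ideal
is zero. -/
theorem eq_zero_of_forall_pow_mul_eq_zero (s : Finset A) (hs : Ideal.span (s : Set A) = ⊤) (z : A)
    (h : ∀ g ∈ s, ∃ n : ℕ, g ^ n * z = 0) : z = 0 := by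
  by_contra hz
  let I : Ideal A := LinearMap.ker (LinearMap.toSpanSingleton A A z)
  have hI : I ≠ ⊤ := by
    intro htop
    have h1 : (1 : A) ∈ I := htop ▸ Submodule.mem_top
    have h1' : (1 : A) • z = 0 := h1
    exact hz (by simpa using h1')
  obtain ⟨m, hm, hIm⟩ := Ideal.exists_le_maximal I hI
  have hsub : Ideal.span (s : Set A) ≤ m := by
    rw [Ideal.span_le]
    intro g hg
    obtain ⟨n, hn⟩ := h g hg
    have hgn : g ^ n ∈ I := by
      change (g ^ n) • z = 0
      simpa using hn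
    exact hm.isPrime.mem_of_pow_mem n (hIm hgn)
  rw [hs] at hsub
  exact hm.ne_top (top_le_iff.mp hsub)

/-- Powers (with varying exponents) of a generating set of the unit ideal generate the unit
ideal. -/
theorem span_pow_image_eq_top (s : Finset A) (hs : Ideal.span (s : Set A) = ⊤) (L : A → ℕ) :
    Ideal.span ((fun g => g ^ L g) '' (s : Set A)) = ⊤ := by
  by_contra hI
  obtain ⟨m, hm, hIm⟩ := Ideal.exists_le_maximal _ hI
  have hsub : Ideal.span (s : Set A) ≤ m := by
    rw [Ideal.span_le]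
    intro g hg
    exact hm.isPrime.mem_of_pow_mem (L g) (hIm (Ideal.subset_span ⟨g, hg, rfl⟩))
  rw [hs] at hsub
  exact hm.ne_top (top_le_iff.mp hsub)

/-- In a reduced ring an element is determined by its square and cube. -/
theorem eq_of_sq_eq_of_cube_eq [IsReduced A] {a b : A} (h2 : a ^ 2 = b ^ 2) (h3 : a ^ 3 = b ^ 3) :
    a = b := by
  have hP : a ^ 2 - b ^ 2 = 0 := sub_eq_zero.mpr h2
  have hQ : a ^ 3 - b ^ 3 = 0 := sub_eq_zero.mpr h3
  have h : (a - b) ^ 3 = 0 := by linear_combination 4 * hQ - 3 * (a + b) * hP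
  exact sub_eq_zero.mp (pow_eq_zero_iff (n := 3) (by norm_num) |>.mp h)

/-- Gluing elements given on a standard cover, in the form of numerators. -/
theorem exists_glue (s : Finset A) (hs : Ideal.span (s : Set A) = ⊤) (L : A → ℕ) (b : A → A)
    (hcompat : ∀ f ∈ s, ∀ g ∈ s, b f * g ^ L g = b g * f ^ L f) :
    ∃ c : A, ∀ g ∈ s, g ^ L g * c = b g := by
  have h1 : (1 : A) ∈ Ideal.span ((fun g => g ^ L g) '' (s : Set A)) := by
    rw [span_pow_image_eq_top s hs L]; exact Submodule.mem_top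
  obtain ⟨r, hr⟩ := (Submodule.mem_span_image_finset_iff_exists_fun' A).mp h1
  refine ⟨∑ i ∈ s, r i * b i, fun g hg => ?_⟩
  calc g ^ L g * ∑ i ∈ s, r i * b i = ∑ i ∈ s, r i * (b i * g ^ L g) := by
        rw [Finset.mul_sum]; exact Finset.sum_congr rfl fun i _ => by ring
    _ = ∑ i ∈ s, r i * (b g * i ^ L i) :=
        Finset.sum_congr rfl fun i hi => by rw [hcompat i hi g hg]
    _ = b g * ∑ i ∈ s, r i • i ^ L i := by
        rw [Finset.mul_sum]; exact Finset.sum_congr rfl fun i _ => by simp only [smul_eq_mul]; ring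
    _ = b g := by rw [hr, mul_one]

theorem isReduced_of_isSeminormalRing (h : IsSeminormalRing A) : IsReduced A := by
  rw [isReduced_iff_pow_one_lt 2 (by norm_num)]
  intro z hz
  obtain ⟨a, _, ha⟩ := h 0 0 (by simp)
  have h0 : (0 : A) = a := ha 0 ⟨by simp, by simp⟩
  have hz' : z = a := ha z ⟨hz.symm, by rw [pow_succ, hz, zero_mul]⟩
  rw [hz', ← h0]

/-- Numerators: for `S` the localization of `A` away from `f`, a pair `x y : S` with `x^3 = y^2`
has numerators `a b : A` with `a^3 = b^2`. -/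
theorem exists_numerators (f : A) (S : Type*) [CommRing S] [Algebra A S] [IsLocalization.Away f S]
    (x y : S) (hxy : x ^ 3 = y ^ 2) :
    ∃ (M : ℕ) (a b : A), a ^ 3 = b ^ 2 ∧ x * (algebraMap A S f) ^ (2 * M) = algebraMap A S a ∧
      y * (algebraMap A S f) ^ (3 * M) = algebraMap A S b := by
  obtain ⟨n, a₀, ha₀⟩ := IsLocalization.Away.surj f x
  obtain ⟨m, b₀, hb₀⟩ := IsLocalization.Away.surj f y
  have ha₁ : x * (algebraMap A S f) ^ (2 * (n + m)) = algebraMap A S (a₀ * f ^ (n + 2 * m)) := by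
    rw [map_mul, map_pow, ← ha₀]; ring
  have hb₁ : y * (algebraMap A S f) ^ (3 * (n + m)) =
      algebraMap A S (b₀ * f ^ (3 * n + 2 * m)) := by
    rw [map_mul, map_pow, ← hb₀]; ring
  have heq : algebraMap A S ((a₀ * f ^ (n + 2 * m)) ^ 3) =
      algebraMap A S ((b₀ * f ^ (3 * n + 2 * m)) ^ 2) := by
    rw [map_pow, map_pow, ← ha₁, ← hb₁]
    calc (x * (algebraMap A S f) ^ (2 * (n + m))) ^ 3
        = x ^ 3 * (algebraMap A S f) ^ (6 * (n + m)) := by ring
      _ = y ^ 2 * (algebraMap A S f) ^ (6 * (n + m)) := by rw [hxy]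
      _ = (y * (algebraMap A S f) ^ (3 * (n + m))) ^ 2 := by ring
  obtain ⟨k, hk⟩ := IsLocalization.Away.exists_of_eq f heq
  refine ⟨n + m + k, f ^ (2 * k) * (a₀ * f ^ (n + 2 * m)),
    f ^ (3 * k) * (b₀ * f ^ (3 * n + 2 * m)), ?_, ?_, ?_⟩
  · linear_combination f ^ (5 * k) * hk
  · rw [map_mul, map_pow, ← ha₁]; ring
  · rw [map_mul, map_pow, ← hb₁]; ring

/-- Seminormality passes to localizations away from an element. -/
theorem isSeminormalRing_of_isLocalizationAway (f : A) (S : Type u) [CommRing S] [Algebra A S]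
    [IsLocalization.Away f S] (h : IsSeminormalRing A) : IsSeminormalRing S := by
  have hredA : IsReduced A := isReduced_of_isSeminormalRing h
  have hredS : IsReduced S := isReduced_localizationPreserves (Submonoid.powers f) S hredA
  intro x y hxy
  obtain ⟨M, a, b, hab, hxa, hyb⟩ := exists_numerators f S x y hxy
  obtain ⟨c, ⟨hc2, hc3⟩, -⟩ := h a b hab
  have hu : IsUnit (algebraMap A S f) := IsLocalization.Away.algebraMap_isUnit f
  obtain ⟨v, hv⟩ := hu.exists_right_inv
  have hx : x = (algebraMap A S c * v ^ M) ^ 2 := by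
    calc x = x * ((algebraMap A S f) * v) ^ (2 * M) := by rw [hv]; ring
      _ = (x * (algebraMap A S f) ^ (2 * M)) * v ^ (2 * M) := by ring
      _ = algebraMap A S a * v ^ (2 * M) := by rw [hxa]
      _ = (algebraMap A S c * v ^ M) ^ 2 := by rw [hc2, map_pow]; ring
  have hy : y = (algebraMap A S c * v ^ M) ^ 3 := by
    calc y = y * ((algebraMap A S f) * v) ^ (3 * M) := by rw [hv]; ring
      _ = (y * (algebraMap A S f) ^ (3 * M)) * v ^ (3 * M) := by ring
      _ = algebraMap A S b * v ^ (3 * M) := by rw [hyb]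
      _ = (algebraMap A S c * v ^ M) ^ 3 := by rw [hc3, map_pow]; ring
  refine ⟨algebraMap A S c * v ^ M, ⟨hx, hy⟩, fun d ⟨hd2, hd3⟩ => ?_⟩
  exact eq_of_sq_eq_of_cube_eq (hd2.symm.trans hx) (hd3.symm.trans hy)

/-- Seminormality is local for a finite cover by standard opens. -/
theorem isSeminormalRing_of_span (s : Finset A) (hs : Ideal.span (s : Set A) = ⊤)
    (h : ∀ f ∈ s, IsSeminormalRing (Localization.Away f)) : IsSeminormalRing A := by
  have hredA : IsReduced A := by
    rw [isReduced_iff_pow_one_lt 2 (by norm_num)]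
    intro z hz
    apply eq_zero_of_forall_pow_mul_eq_zero s hs
    intro g hg
    have hredg : IsReduced (Localization.Away g) := isReduced_of_isSeminormalRing (h g hg)
    have h0 : algebraMap A (Localization.Away g) z = 0 := by
      apply (pow_eq_zero_iff (n := 2) (by norm_num)).mp
      rw [← map_pow, hz, map_zero]
    obtain ⟨n, hn⟩ := IsLocalization.Away.exists_of_eq (S := Localization.Away g) g
      (h0.trans (map_zero _).symm)
    exact ⟨n, by simpa using hn⟩
  intro x y hxy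
  have hloc : ∀ g ∈ s, ∃ (L : ℕ) (b : A), b ^ 2 = g ^ (2 * L) * x ∧ b ^ 3 = g ^ (3 * L) * y := by
    intro g hg
    obtain ⟨c, ⟨hc2, hc3⟩, -⟩ := h g hg (algebraMap A (Localization.Away g) x)
      (algebraMap A (Localization.Away g) y) (by rw [← map_pow, ← map_pow, hxy])
    obtain ⟨n, a, ha⟩ := IsLocalization.Away.surj g c
    have e2 : algebraMap A (Localization.Away g) (a ^ 2) =
        algebraMap A (Localization.Away g) (g ^ (2 * n) * x) := by
      rw [map_pow, ← ha, map_mul, map_pow, hc2]; ring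
    have e3 : algebraMap A (Localization.Away g) (a ^ 3) =
        algebraMap A (Localization.Away g) (g ^ (3 * n) * y) := by
      rw [map_pow, ← ha, map_mul, map_pow, hc3]; ring
    obtain ⟨K1, hK1⟩ := IsLocalization.Away.exists_of_eq (S := Localization.Away g) g e2
    obtain ⟨K2, hK2⟩ := IsLocalization.Away.exists_of_eq (S := Localization.Away g) g e3
    refine ⟨K1 + K2 + n, g ^ (K1 + K2) * a, ?_, ?_⟩
    · linear_combination g ^ (K1 + 2 * K2) * hK1
    · linear_combination g ^ (3 * K1 + 2 * K2) * hK2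
  choose! L b hb using hloc
  have hcompat : ∀ f ∈ s, ∀ g ∈ s, b f * g ^ L g = b g * f ^ L f := by
    intro f hf g hg
    obtain ⟨hf2, hf3⟩ := hb f hf
    obtain ⟨hg2, hg3⟩ := hb g hg
    apply eq_of_sq_eq_of_cube_eq
    · calc (b f * g ^ L g) ^ 2 = b f ^ 2 * g ^ (2 * L g) := by ring
        _ = b g ^ 2 * f ^ (2 * L f) := by rw [hf2, hg2]; ring
        _ = (b g * f ^ L f) ^ 2 := by ring
    · calc (b f * g ^ L g) ^ 3 = b f ^ 3 * g ^ (3 * L g) := by ring
        _ = b g ^ 3 * f ^ (3 * L f) := by rw [hf3, hg3]; ring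
        _ = (b g * f ^ L f) ^ 3 := by ring
  obtain ⟨c, hc⟩ := exists_glue s hs L b hcompat
  have hx : x = c ^ 2 := by
    symm
    rw [← sub_eq_zero]
    apply eq_zero_of_forall_pow_mul_eq_zero s hs
    intro g hg
    refine ⟨2 * L g, ?_⟩
    obtain ⟨hg2, -⟩ := hb g hg
    calc g ^ (2 * L g) * (c ^ 2 - x) = (g ^ L g * c) ^ 2 - g ^ (2 * L g) * x := by ring
      _ = 0 := by rw [hc g hg, hg2, sub_self]
  have hy : y = c ^ 3 := by
    symm
    rw [← sub_eq_zero]
    apply eq_zero_of_forall_pow_mul_eq_zero s hs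
    intro g hg
    refine ⟨3 * L g, ?_⟩
    obtain ⟨-, hg3⟩ := hb g hg
    calc g ^ (3 * L g) * (c ^ 3 - y) = (g ^ L g * c) ^ 3 - g ^ (3 * L g) * y := by ring
      _ = 0 := by rw [hc g hg, hg3, sub_self]
  refine ⟨c, ⟨hx, hy⟩, fun d ⟨hd2, hd3⟩ => ?_⟩
  exact eq_of_sq_eq_of_cube_eq (hd2.symm.trans hx) (hd3.symm.trans hy)

/-! ### The `p`-condition of absolute weak normality -/

/-- The `p`-condition in the definition of absolutely weakly normal rings. -/
def PCond (A : Type u) [CommRing A] (p : ℕ) : Prop :=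
  ∀ x y : A, (p : A) ^ p * x = y ^ p → ∃! a : A, x = a ^ p ∧ y = (p : A) * a

theorem isAWNRing_iff : IsAWNRing A ↔ IsSeminormalRing A ∧ ∀ p : ℕ, p.Prime → PCond A p := Iff.rfl

/-- In a reduced ring, an element is determined by its `p`-th power and its `p`-fold multiple. -/
theorem eq_of_pow_eq_of_mul_eq [IsReduced A] {p : ℕ} (hp : p.Prime) {a b : A}
    (h1 : a ^ p = b ^ p) (h2 : (p : A) * a = p * b) : a = b := by
  have hpd : (p : A) * (a - b) = 0 := by rw [mul_sub, h2, sub_self]
  have key : (b + (a - b)) ^ p = b ^ p + (a - b) ^ p := by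
    rw [add_pow_prime_eq hp b (a - b)]
    have : (p : A) * b * (a - b) = 0 := by
      calc (p : A) * b * (a - b) = b * ((p : A) * (a - b)) := by ring
        _ = 0 := by rw [hpd, mul_zero]
    rw [this, zero_mul, add_zero]
  have hd : (a - b) ^ p = 0 := by
    have : b + (a - b) = a := by ring
    rw [this, h1] at key
    exact (add_eq_left.mp key.symm)
  exact sub_eq_zero.mp ((pow_eq_zero_iff hp.ne_zero).mp hd)

theorem exists_numerators_p (f : A) (S : Type*) [CommRing S] [Algebra A S] [IsLocalization.Away f S]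
    (q : ℕ) (x y : S) (hxy : ((q + 1 : ℕ) : S) ^ (q + 1) * x = y ^ (q + 1)) :
    ∃ (M : ℕ) (a b : A), ((q + 1 : ℕ) : A) ^ (q + 1) * a = b ^ (q + 1) ∧
      x * (algebraMap A S f) ^ ((q + 1) * M) = algebraMap A S a ∧
      y * (algebraMap A S f) ^ M = algebraMap A S b := by
  obtain ⟨n, a₀, ha₀⟩ := IsLocalization.Away.surj f x
  obtain ⟨m, b₀, hb₀⟩ := IsLocalization.Away.surj f y
  have ha₁ : x * (algebraMap A S f) ^ ((q + 1) * (n + m)) =
      algebraMap A S (a₀ * f ^ (q * n + (q + 1) * m)) := by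
    rw [map_mul, map_pow, ← ha₀]; ring
  have hb₁ : y * (algebraMap A S f) ^ (n + m) = algebraMap A S (b₀ * f ^ n) := by
    rw [map_mul, map_pow, ← hb₀]; ring
  have heq : algebraMap A S (((q + 1 : ℕ) : A) ^ (q + 1) * (a₀ * f ^ (q * n + (q + 1) * m))) =
      algebraMap A S ((b₀ * f ^ n) ^ (q + 1)) := by
    rw [map_mul, map_pow, map_pow, map_natCast, ← ha₁, ← hb₁]
    calc ((q + 1 : ℕ) : S) ^ (q + 1) * (x * (algebraMap A S f) ^ ((q + 1) * (n + m)))
        = (((q + 1 : ℕ) : S) ^ (q + 1) * x) * (algebraMap A S f) ^ ((q + 1) * (n + m)) := by ring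
      _ = y ^ (q + 1) * (algebraMap A S f) ^ ((q + 1) * (n + m)) := by rw [hxy]
      _ = (y * (algebraMap A S f) ^ (n + m)) ^ (q + 1) := by ring
  obtain ⟨k, hk⟩ := IsLocalization.Away.exists_of_eq f heq
  refine ⟨n + m + k, f ^ ((q + 1) * k) * (a₀ * f ^ (q * n + (q + 1) * m)),
    f ^ k * (b₀ * f ^ n), ?_, ?_, ?_⟩
  · linear_combination f ^ (q * k) * hk
  · rw [map_mul, map_pow, ← ha₁]; ring
  · rw [map_mul, map_pow, ← hb₁]; ring

theorem pCond_of_isLocalizationAway [IsReduced A] (f : A) (S : Type u) [CommRing S] [Algebra A S]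
    [IsLocalization.Away f S] {p : ℕ} (hp : p.Prime) (h : PCond A p) : PCond S p := by
  have hredS : IsReduced S := isReduced_localizationPreserves (Submonoid.powers f) S ‹_›
  obtain ⟨q, rfl⟩ : ∃ q, p = q + 1 := ⟨p - 1, (Nat.succ_pred_eq_of_pos hp.pos).symm⟩
  intro x y hxy
  obtain ⟨M, a, b, hab, hxa, hyb⟩ := exists_numerators_p f S q x y hxy
  obtain ⟨c, ⟨hc1, hc2⟩, -⟩ := h a b hab
  have hu : IsUnit (algebraMap A S f) := IsLocalization.Away.algebraMap_isUnit f
  obtain ⟨v, hv⟩ := hu.exists_right_inv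
  have hx : x = (algebraMap A S c * v ^ M) ^ (q + 1) := by
    calc x = x * ((algebraMap A S f) * v) ^ ((q + 1) * M) := by rw [hv]; ring
      _ = (x * (algebraMap A S f) ^ ((q + 1) * M)) * v ^ ((q + 1) * M) := by ring
      _ = algebraMap A S a * v ^ ((q + 1) * M) := by rw [hxa]
      _ = (algebraMap A S c * v ^ M) ^ (q + 1) := by rw [hc1, map_pow]; ring
  have hy : y = ((q + 1 : ℕ) : S) * (algebraMap A S c * v ^ M) := by
    calc y = y * ((algebraMap A S f) * v) ^ M := by rw [hv]; ring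
      _ = (y * (algebraMap A S f) ^ M) * v ^ M := by ring
      _ = algebraMap A S b * v ^ M := by rw [hyb]
      _ = ((q + 1 : ℕ) : S) * (algebraMap A S c * v ^ M) := by
          rw [hc2, map_mul, map_natCast]; ring
  refine ⟨algebraMap A S c * v ^ M, ⟨hx, hy⟩, fun d ⟨hd1, hd2⟩ => ?_⟩
  exact eq_of_pow_eq_of_mul_eq hp (hd1.symm.trans hx) (hd2.symm.trans hy)

theorem pCond_of_span [IsReduced A] (s : Finset A) (hs : Ideal.span (s : Set A) = ⊤) {p : ℕ}
    (hp : p.Prime) (h : ∀ f ∈ s, PCond (Localization.Away f) p) : PCond A p := by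
  obtain ⟨q, rfl⟩ : ∃ q, p = q + 1 := ⟨p - 1, (Nat.succ_pred_eq_of_pos hp.pos).symm⟩
  intro x y hxy
  have hloc : ∀ g ∈ s, ∃ (L : ℕ) (b : A), b ^ (q + 1) = g ^ ((q + 1) * L) * x ∧
      ((q + 1 : ℕ) : A) * b = g ^ L * y := by
    intro g hg
    obtain ⟨c, ⟨hc1, hc2⟩, -⟩ := h g hg (algebraMap A (Localization.Away g) x)
      (algebraMap A (Localization.Away g) y) (by
        rw [← map_pow, ← hxy, map_mul, map_pow, map_natCast])
    obtain ⟨n, a, ha⟩ := IsLocalization.Away.surj g c
    have e1 : algebraMap A (Localization.Away g) (a ^ (q + 1)) =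
        algebraMap A (Localization.Away g) (g ^ ((q + 1) * n) * x) := by
      rw [map_pow, ← ha, map_mul, map_pow, hc1]; ring
    have e2 : algebraMap A (Localization.Away g) (((q + 1 : ℕ) : A) * a) =
        algebraMap A (Localization.Away g) (g ^ n * y) := by
      rw [map_mul, map_natCast, ← ha, map_mul, map_pow, hc2]; ring
    obtain ⟨K1, hK1⟩ := IsLocalization.Away.exists_of_eq (S := Localization.Away g) g e1
    obtain ⟨K2, hK2⟩ := IsLocalization.Away.exists_of_eq (S := Localization.Away g) g e2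
    refine ⟨K1 + K2 + n, g ^ (K1 + K2) * a, ?_, ?_⟩
    · linear_combination g ^ (q * K1 + (q + 1) * K2) * hK1
    · linear_combination g ^ K1 * hK2
  choose! L b hb using hloc
  have hcompat : ∀ f ∈ s, ∀ g ∈ s, b f * g ^ L g = b g * f ^ L f := by
    intro f hf g hg
    obtain ⟨hf1, hf2⟩ := hb f hf
    obtain ⟨hg1, hg2⟩ := hb g hg
    apply eq_of_pow_eq_of_mul_eq hp
    · calc (b f * g ^ L g) ^ (q + 1) = b f ^ (q + 1) * g ^ ((q + 1) * L g) := by ring
        _ = b g ^ (q + 1) * f ^ ((q + 1) * L f) := by rw [hf1, hg1]; ring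
        _ = (b g * f ^ L f) ^ (q + 1) := by ring
    · calc ((q + 1 : ℕ) : A) * (b f * g ^ L g) = (((q + 1 : ℕ) : A) * b f) * g ^ L g := by ring
        _ = (((q + 1 : ℕ) : A) * b g) * f ^ L f := by rw [hf2, hg2]; ring
        _ = ((q + 1 : ℕ) : A) * (b g * f ^ L f) := by ring
  obtain ⟨c, hc⟩ := exists_glue s hs L b hcompat
  have hx : x = c ^ (q + 1) := by
    symm
    rw [← sub_eq_zero]
    apply eq_zero_of_forall_pow_mul_eq_zero s hs
    intro g hg
    refine ⟨(q + 1) * L g, ?_⟩
    obtain ⟨hg1, -⟩ := hb g hg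
    calc g ^ ((q + 1) * L g) * (c ^ (q + 1) - x)
        = (g ^ L g * c) ^ (q + 1) - g ^ ((q + 1) * L g) * x := by ring
      _ = 0 := by rw [hc g hg, hg1, sub_self]
  have hy : y = ((q + 1 : ℕ) : A) * c := by
    symm
    rw [← sub_eq_zero]
    apply eq_zero_of_forall_pow_mul_eq_zero s hs
    intro g hg
    refine ⟨L g, ?_⟩
    obtain ⟨-, hg2⟩ := hb g hg
    calc g ^ L g * (((q + 1 : ℕ) : A) * c - y)
        = ((q + 1 : ℕ) : A) * (g ^ L g * c) - g ^ L g * y := by ring
      _ = 0 := by rw [hc g hg, hg2, sub_self]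
  refine ⟨c, ⟨hx, hy⟩, fun d ⟨hd1, hd2⟩ => ?_⟩
  exact eq_of_pow_eq_of_mul_eq hp (hd1.symm.trans hx) (hd2.symm.trans hy)

theorem isAWNRing_of_isLocalizationAway (f : A) (S : Type u) [CommRing S] [Algebra A S]
    [IsLocalization.Away f S] (h : IsAWNRing A) : IsAWNRing S := by
  have hred : IsReduced A := isReduced_of_isSeminormalRing h.1
  exact ⟨isSeminormalRing_of_isLocalizationAway f S h.1, fun p hp =>
    pCond_of_isLocalizationAway f S hp (h.2 p hp)⟩

theorem isAWNRing_of_span (s : Finset A) (hs : Ideal.span (s : Set A) = ⊤)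
    (h : ∀ f ∈ s, IsAWNRing (Localization.Away f)) : IsAWNRing A := by
  have hsn : IsSeminormalRing A := isSeminormalRing_of_span s hs fun f hf => (h f hf).1
  have hred : IsReduced A := isReduced_of_isSeminormalRing hsn
  exact ⟨hsn, fun p hp => pCond_of_span s hs hp fun f hf => (h f hf).2 p hp⟩

/-! ### Invariance under ring isomorphisms, and arbitrary models of the localizations -/

theorem isSeminormalRing_of_ringEquiv {B : Type u} [CommRing B] (e : A ≃+* B)
    (h : IsSeminormalRing A) : IsSeminormalRing B := by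
  intro x y hxy
  obtain ⟨a, ⟨ha2, ha3⟩, hu⟩ := h (e.symm x) (e.symm y) (by rw [← map_pow, ← map_pow, hxy])
  refine ⟨e a, ⟨?_, ?_⟩, fun d ⟨hd2, hd3⟩ => ?_⟩
  · rw [← map_pow, ← ha2, e.apply_symm_apply]
  · rw [← map_pow, ← ha3, e.apply_symm_apply]
  · have := hu (e.symm d) ⟨by rw [← map_pow, ← hd2], by rw [← map_pow, ← hd3]⟩
    rw [← this, e.apply_symm_apply]

theorem pCond_of_ringEquiv {B : Type u} [CommRing B] (e : A ≃+* B) {p : ℕ}
    (h : PCond A p) : PCond B p := by
  intro x y hxy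
  obtain ⟨a, ⟨ha1, ha2⟩, hu⟩ := h (e.symm x) (e.symm y) (by
    rw [← map_pow, ← hxy, map_mul, map_pow, map_natCast])
  refine ⟨e a, ⟨?_, ?_⟩, fun d ⟨hd1, hd2⟩ => ?_⟩
  · rw [← map_pow, ← ha1, e.apply_symm_apply]
  · have : e (e.symm y) = e ((p : A) * a) := by rw [ha2]
    rw [e.apply_symm_apply, map_mul, map_natCast] at this
    exact this
  · have := hu (e.symm d) ⟨by rw [← map_pow, ← hd1], by rw [hd2, map_mul, map_natCast]⟩
    rw [← this, e.apply_symm_apply]

theorem isAWNRing_of_ringEquiv {B : Type u} [CommRing B] (e : A ≃+* B)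
    (h : IsAWNRing A) : IsAWNRing B :=
  ⟨isSeminormalRing_of_ringEquiv e h.1, fun p hp => pCond_of_ringEquiv e (h.2 p hp)⟩

/-- Local-to-global for seminormality with arbitrary models of the localizations. -/
theorem isSeminormalRing_of_span' (s : Finset A) (hs : Ideal.span (s : Set A) = ⊤)
    (S : A → Type u) [∀ f, CommRing (S f)] [∀ f, Algebra A (S f)]
    (hS : ∀ f ∈ s, IsLocalization.Away f (S f))
    (h : ∀ f ∈ s, IsSeminormalRing (S f)) : IsSeminormalRing A := by
  refine isSeminormalRing_of_span s hs fun f hf => ?_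
  have := hS f hf
  exact isSeminormalRing_of_ringEquiv
    (IsLocalization.algEquiv (Submonoid.powers f) (S f) (Localization.Away f)).toRingEquiv (h f hf)

theorem isAWNRing_of_span' (s : Finset A) (hs : Ideal.span (s : Set A) = ⊤)
    (S : A → Type u) [∀ f, CommRing (S f)] [∀ f, Algebra A (S f)]
    (hS : ∀ f ∈ s, IsLocalization.Away f (S f))
    (h : ∀ f ∈ s, IsAWNRing (S f)) : IsAWNRing A := by
  refine isAWNRing_of_span s hs fun f hf => ?_
  have := hS f hf
  exact isAWNRing_of_ringEquiv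
    (IsLocalization.algEquiv (Submonoid.powers f) (S f) (Localization.Away f)).toRingEquiv (h f hf)

end Groth.Agent.Lib.Lead.Seminormal
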