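import Groth.Prelude.Def_Adeq
import Mathlib.Algebra.Homology.ShortComplex.ModuleCat
import Mathlib.Algebra.Homology.ShortComplex.Exact
import Mathlib.CategoryTheory.Limits.Preserves.Shapes.Kernels
import Mathlib.RingTheory.TensorProduct.Free

/-!
# Basic API for module-valued functors and adequate functors

* `IsKerPt ι g`: `ι` is pointwise a kernel of `g` (in `MVF A`); equivalent to being a kernel.
* element-level API for `underline`.
* `underline` is full.
-/

universe u

open CategoryTheory Limits Opposite TensorProduct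

namespace Groth.Agent.Lib.Lead.AdeqBasic

open Adeq

noncomputable section

section General

universe v v₁ u₁

variable {C : Type u₁} [Category.{v₁} C] {R : Cᵒᵖ ⥤ RingCat.{u}}

lemma comp_app_apply {F G H : PresheafOfModules.{v} R} (f : F ⟶ G) (g : G ⟶ H) (X : Cᵒᵖ)
    (z : F.obj X) : (f ≫ g).app X z = g.app X (f.app X z) := rfl

lemma iso_hom_inv_apply {F G : PresheafOfModules.{v} R} (e : F ≅ G) (X : Cᵒᵖ) (z : G.obj X) :
    e.hom.app X (e.inv.app X z) = z := by
  rw [← comp_app_apply, e.inv_hom_id]; rfl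

lemma iso_inv_hom_apply {F G : PresheafOfModules.{v} R} (e : F ≅ G) (X : Cᵒᵖ) (z : F.obj X) :
    e.inv.app X (e.hom.app X z) = z := by
  rw [← comp_app_apply, e.hom_inv_id]; rfl

/-- `ι` is pointwise a kernel of `g`. -/
structure IsKerPt {F G H : PresheafOfModules.{v} R} (ι : F ⟶ G) (g : G ⟶ H) : Prop where
  w : ι ≫ g = 0
  inj : ∀ X, Function.Injective (ι.app X)
  surj : ∀ X (y : G.obj X), g.app X y = 0 → ∃ x : F.obj X, ι.app X x = y

theorem isKerPt_kernel {G H : PresheafOfModules.{v} R} (g : G ⟶ H) : IsKerPt (kernel.ι g) g where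
  w := kernel.condition g
  inj X := PresheafOfModules.injective_of_mono _ X
  surj X y hy := by
    let c := KernelFork.ofι (kernel.ι g) (kernel.condition g)
    have hc : IsLimit c := kernelIsKernel g
    have hc' := KernelFork.mapIsLimit c hc (PresheafOfModules.evaluation.{v} R X)
    let S : ShortComplex (ModuleCat.{v} (R.obj X)) :=
      ShortComplex.mk ((kernel.ι g).app X) (g.app X) (by
        rw [← PresheafOfModules.comp_app, kernel.condition]; rfl)
    have hS : S.Exact := S.exact_of_f_is_kernel hc'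
    exact (ShortComplex.moduleCat_exact_iff S).1 hS y hy

section

variable {F G H : PresheafOfModules.{v} R} {ι : F ⟶ G} {g : G ⟶ H}

theorem IsKerPt.isIso_lift (h : IsKerPt ι g) : IsIso (kernel.lift g ι h.w) := by
  have hk := isKerPt_kernel g
  have e : ∀ X (z : F.obj X),
      (kernel.ι g).app X ((kernel.lift g ι h.w).app X z) = ι.app X z := fun X z => by
    rw [← comp_app_apply, kernel.lift_ι]
  have hm : Mono (kernel.lift g ι h.w) := PresheafOfModules.mono_of_injective (fun X a b hab => by
    apply h.inj X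
    rw [← e X a, ← e X b, hab])
  have he : Epi (kernel.lift g ι h.w) := PresheafOfModules.epi_of_surjective (fun X z => by
    obtain ⟨x, hx⟩ := h.surj X ((kernel.ι g).app X z) (by
      rw [← comp_app_apply, kernel.condition]; rfl)
    refine ⟨x, hk.inj X ?_⟩
    rw [e X x, hx])
  exact isIso_of_mono_of_epi _

/-- The isomorphism with the categorical kernel. -/
def IsKerPt.iso (h : IsKerPt ι g) : F ≅ kernel g :=
  haveI := h.isIso_lift
  asIso (kernel.lift g ι h.w)

lemma IsKerPt.iso_hom_ι (h : IsKerPt ι g) : h.iso.hom ≫ kernel.ι g = ι :=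
  kernel.lift_ι _ _ _

lemma IsKerPt.iso_inv_ι (h : IsKerPt ι g) : h.iso.inv ≫ ι = kernel.ι g := by
  rw [Iso.inv_comp_eq, h.iso_hom_ι]

/-- Lift a morphism killed by `g` through a pointwise kernel. -/
def IsKerPt.lift (h : IsKerPt ι g) {K : PresheafOfModules.{v} R} (k : K ⟶ G) (hk : k ≫ g = 0) :
    K ⟶ F :=
  kernel.lift g k hk ≫ h.iso.inv

lemma IsKerPt.lift_ι (h : IsKerPt ι g) {K : PresheafOfModules.{v} R} (k : K ⟶ G)
    (hk : k ≫ g = 0) : h.lift k hk ≫ ι = k := by
  unfold IsKerPt.lift
  rw [Category.assoc, h.iso_inv_ι, kernel.lift_ι]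

lemma IsKerPt.lift_ι_apply (h : IsKerPt ι g) {K : PresheafOfModules.{v} R} (k : K ⟶ G)
    (hk : k ≫ g = 0) (X : Cᵒᵖ) (z : K.obj X) :
    ι.app X ((h.lift k hk).app X z) = k.app X z := by
  rw [← comp_app_apply, h.lift_ι]

lemma IsKerPt.w_apply (h : IsKerPt ι g) (X : Cᵒᵖ) (z : F.obj X) :
    g.app X (ι.app X z) = 0 := by
  rw [← comp_app_apply, h.w]; rfl

theorem IsKerPt.of_iso_comp {F' : PresheafOfModules.{v} R} (e : F' ≅ F) (h : IsKerPt ι g) :
    IsKerPt (e.hom ≫ ι) g where
  w := by rw [Category.assoc, h.w, comp_zero]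
  inj X a b hab := by
    have h1 : e.hom.app X a = e.hom.app X b := h.inj X hab
    have h2 := congrArg (e.inv.app X) h1
    rwa [iso_inv_hom_apply, iso_inv_hom_apply] at h2
  surj X y hy := by
    obtain ⟨x, hx⟩ := h.surj X y hy
    refine ⟨e.inv.app X x, ?_⟩
    rw [comp_app_apply, iso_hom_inv_apply, hx]

end

theorem cokernel_π_surjective {F G : PresheafOfModules.{v} R} (φ : F ⟶ G) (X : Cᵒᵖ) :
    Function.Surjective ((cokernel.π φ).app X) :=
  PresheafOfModules.surjective_of_epi _ X

theorem cokernel_π_exact {F G : PresheafOfModules.{v} R} (φ : F ⟶ G) (X : Cᵒᵖ) (y : G.obj X)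
    (hy : (cokernel.π φ).app X y = 0) : ∃ x : F.obj X, φ.app X x = y := by
  let c := CokernelCofork.ofπ (cokernel.π φ) (cokernel.condition φ)
  have hc : IsColimit c := cokernelIsCokernel φ
  have hc' := CokernelCofork.mapIsColimit c hc (PresheafOfModules.evaluation.{v} R X)
  let S : ShortComplex (ModuleCat.{v} (R.obj X)) :=
    ShortComplex.mk (φ.app X) ((cokernel.π φ).app X) (by
      rw [← PresheafOfModules.comp_app, cokernel.condition]; rfl)
  have hS : S.Exact := S.exact_of_g_is_cokernel hc'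
  exact (ShortComplex.moduleCat_exact_iff S).1 hS y hy

end General

variable {A : Type u} [CommRing A]

theorem adequate_of_isKerPt {F : MVF A} {M N : ModuleCat.{u + 1} A} (φ : M ⟶ N)
    (ι : F ⟶ (underline A).obj M) (h : IsKerPt ι ((underline A).map φ)) : adequate A F :=
  ⟨M, N, φ, ⟨h.iso⟩⟩

theorem exists_isKerPt_of_adequate {F : MVF A} (hF : adequate A F) :
    ∃ (M N : ModuleCat.{u + 1} A) (φ : M ⟶ N) (ι : F ⟶ (underline A).obj M),
      IsKerPt ι ((underline A).map φ) := by
  obtain ⟨M, N, φ, ⟨e⟩⟩ := hF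
  exact ⟨M, N, φ, e.hom ≫ kernel.ι _, (isKerPt_kernel _).of_iso_comp e⟩

/-! ### Elements of `underline` -/

/-- The module-valued functor `underline M`. -/
abbrev U (M : ModuleCat.{u + 1} A) : MVF A := (underline A).obj M

/-- View an element of `underline M (B)` as a tensor. -/
def toT {M : ModuleCat.{u + 1} A} {B : Alg A} (x : (U M).obj (pt B)) :
    (B : Type u) ⊗[A] (M : Type (u + 1)) := x

/-- View a tensor as an element of `underline M (B)`. -/
def ofT {M : ModuleCat.{u + 1} A} {B : Alg A} (x : (B : Type u) ⊗[A] (M : Type (u + 1))) :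
    (U M).obj (pt B) := x

@[simp] lemma toT_ofT {M : ModuleCat.{u + 1} A} {B : Alg A}
    (x : (B : Type u) ⊗[A] (M : Type (u + 1))) : toT (ofT (B := B) x) = x := rfl

@[simp] lemma ofT_toT {M : ModuleCat.{u + 1} A} {B : Alg A} (x : (U M).obj (pt B)) :
    ofT (toT x) = x := rfl

lemma toT_injective {M : ModuleCat.{u + 1} A} {B : Alg A} :
    Function.Injective (toT (M := M) (B := B)) := fun _ _ h => h

lemma toT_add {M : ModuleCat.{u + 1} A} {B : Alg A} (x y : (U M).obj (pt B)) :
    toT (x + y) = toT x + toT y := rfl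

lemma toT_zero {M : ModuleCat.{u + 1} A} {B : Alg A} :
    toT (0 : (U M).obj (pt B)) = 0 := rfl

lemma toT_smul {M : ModuleCat.{u + 1} A} {B : Alg A} (b : B) (x : (U M).obj (pt B)) :
    toT (b • x) = b • toT x := rfl

lemma toT_map_app {M N : ModuleCat.{u + 1} A} (g : M ⟶ N) (B : Alg A) (x : (U M).obj (pt B)) :
    toT (((underline A).map g).app (pt B) x) = g.hom.baseChange B (toT x) := rfl

lemma toT_map {M : ModuleCat.{u + 1} A} {B B' : Alg A} (f : B ⟶ B') (x : (U M).obj (pt B)) :
    toT (show (U M).obj (pt B') from (U M).map (ptHom f) x) =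
      f.hom.toLinearMap.rTensor M (toT x) := rfl

/-! ### Transition maps as plain functions -/

/-- The transition map of a module-valued functor as a plain function. -/
def tr (F : MVF A) {B B' : Alg A} (f : B ⟶ B') (x : F.obj (pt B)) : F.obj (pt B') :=
  F.map (ptHom f) x

lemma tr_add (F : MVF A) {B B' : Alg A} (f : B ⟶ B') (x y : F.obj (pt B)) :
    tr F f (x + y) = tr F f x + tr F f y := by
  unfold tr; rw [map_add]; rfl

lemma tr_smul (F : MVF A) {B B' : Alg A} (f : B ⟶ B') (b : B) (x : F.obj (pt B)) :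
    tr F f (b • x) = (f.hom b) • tr F f x := by
  unfold tr
  exact F.map_smul (ptHom f) b x

lemma app_tr {F G : MVF A} (η : F ⟶ G) {B B' : Alg A} (f : B ⟶ B') (x : F.obj (pt B)) :
    η.app (pt B') (tr F f x) = tr G f (η.app (pt B) x) :=
  PresheafOfModules.naturality_apply η (ptHom f) x

lemma toT_tr {M : ModuleCat.{u + 1} A} {B B' : Alg A} (f : B ⟶ B') (x : (U M).obj (pt B)) :
    toT (tr (U M) f x) = f.hom.toLinearMap.rTensor M (toT x) := rfl

lemma app_smul {F G : MVF A} (η : F ⟶ G) {B : Alg A} (b : B) (x : F.obj (pt B)) :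
    η.app (pt B) (b • x) = b • η.app (pt B) x :=
  (η.app (pt B)).hom.map_smul b x

lemma app_add {F G : MVF A} (η : F ⟶ G) {B : Alg A} (x y : F.obj (pt B)) :
    η.app (pt B) (x + y) = η.app (pt B) x + η.app (pt B) y :=
  (η.app (pt B)).hom.map_add x y

lemma toT_sum {M : ModuleCat.{u + 1} A} {B : Alg A} {ι : Type*} (s : Finset ι)
    (f : ι → (U M).obj (pt B)) : toT (∑ i ∈ s, f i) = ∑ i ∈ s, toT (f i) := by
  classical
  induction s using Finset.induction_on with
  | empty => simp [toT_zero]
  | insert a s ha ih => rw [Finset.sum_insert ha, Finset.sum_insert ha, toT_add, ih]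

lemma app_sum {F G : MVF A} (η : F ⟶ G) {B : Alg A} {ι : Type*} (s : Finset ι)
    (f : ι → F.obj (pt B)) : η.app (pt B) (∑ i ∈ s, f i) = ∑ i ∈ s, η.app (pt B) (f i) :=
  map_sum (η.app (pt B)).hom f s

lemma bc_eq_lTensor {M N : Type (u + 1)} [AddCommGroup M] [Module A M] [AddCommGroup N]
    [Module A N] (f : M →ₗ[A] N) (B : Type u) [CommRing B] [Algebra A B] (x : B ⊗[A] M) :
    f.baseChange B x = f.lTensor B x := rfl

/-- Morphisms into `underline M` are determined by their values as tensors. -/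
lemma hom_ext_toT {F : MVF A} {M : ModuleCat.{u + 1} A} {f g : F ⟶ U M}
    (h : ∀ (B : Alg A) (x : F.obj (pt B)), toT (f.app (pt B) x) = toT (g.app (pt B) x)) :
    f = g := by
  apply PresheafOfModules.hom_ext
  intro X
  apply ModuleCat.hom_ext
  apply LinearMap.ext
  intro x
  exact h X.unop.unop x

/-- `underline` is full. -/
theorem exists_underline_map_eq {M N : ModuleCat.{u + 1} A} (η : U M ⟶ U N) :
    ∃ g : M ⟶ N, (underline A).map g = η := by
  let A₀ : Alg A := algOf A A
  let g₀ : M →ₗ[A] N :=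
    { toFun := fun m => TensorProduct.lid A N (toT (η.app (pt A₀) (ofT ((1 : A) ⊗ₜ[A] m))))
      map_add' := fun m m' => by
        have : ofT (B := A₀) ((1 : A) ⊗ₜ[A] (m + m')) =
            ofT (B := A₀) ((1 : A) ⊗ₜ[A] m) + ofT (B := A₀) ((1 : A) ⊗ₜ[A] m') := by
          apply toT_injective
          rw [toT_add, toT_ofT, toT_ofT, toT_ofT, TensorProduct.tmul_add]
        rw [this, app_add, toT_add, map_add]
      map_smul' := fun a m => by
        have : ofT (B := A₀) ((1 : A) ⊗ₜ[A] (a • m)) =
            (a : A₀) • ofT (B := A₀) ((1 : A) ⊗ₜ[A] m) := by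
          apply toT_injective
          rw [toT_smul, toT_ofT, toT_ofT, TensorProduct.tmul_smul]
        rw [this, app_smul, toT_smul, RingHom.id_apply]
        exact (TensorProduct.lid A N).map_smul a _ }
  refine ⟨ModuleCat.ofHom g₀, ?_⟩
  apply hom_ext_toT
  intro B x
  rw [toT_map_app]
  have key : ∀ t : (B : Type u) ⊗[A] (M : Type (u + 1)),
      g₀.baseChange B t = toT (η.app (pt B) (ofT t)) := by
    intro t
    induction t using TensorProduct.induction_on with
    | zero =>
      have : ofT (M := M) (B := B) 0 = 0 := rfl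
      rw [map_zero, this, map_zero]; rfl
    | tmul b m =>
      let f : A₀ ⟶ B := CommAlgCat.ofHom (Algebra.ofId A B)
      have h1 : ofT (M := M) (B := B) (b ⊗ₜ[A] m) =
          b • tr (U M) f (ofT (B := A₀) ((1 : A) ⊗ₜ[A] m)) := by
        apply toT_injective
        rw [toT_smul, toT_tr, toT_ofT, toT_ofT, LinearMap.rTensor_tmul, TensorProduct.smul_tmul']
        simp [f]
      rw [h1, app_smul, app_tr, toT_smul, toT_tr, LinearMap.baseChange_tmul]
      set w := toT (η.app (pt A₀) (ofT ((1 : A) ⊗ₜ[A] m))) with hw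
      have h2 : w = (1 : A) ⊗ₜ[A] (TensorProduct.lid A N w) := by
        have := (TensorProduct.lid A N).symm_apply_apply w
        rw [TensorProduct.lid_symm_apply] at this
        exact this.symm
      rw [h2, LinearMap.rTensor_tmul, TensorProduct.smul_tmul']
      simp [f, g₀, hw]
    | add x y hx hy =>
      have : ofT (M := M) (B := B) (x + y) = ofT x + ofT y := rfl
      rw [map_add, hx, hy, this, app_add, toT_add]
  exact key (toT x)

end

end Groth.Agent.Lib.Lead.AdeqBasic
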