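import Mathlib.LinearAlgebra.TensorProduct.RightExactness
import Mathlib.Algebra.DirectSum.Module
import Mathlib.LinearAlgebra.Quotient.Basic
import Mathlib.LinearAlgebra.Prod

/-!
# Linear algebra for the cokernel of a map of adequate functors
-/

open TensorProduct DirectSum

namespace Groth.Agent.Lib.Lead.AdeqCokerAlg

noncomputable section

variable {A : Type*} [CommRing A]

variable {I : Type*} [DecidableEq I] {P P' : I → Type*} [∀ i, AddCommGroup (P i)]
  [∀ i, Module A (P i)] [∀ i, AddCommGroup (P' i)] [∀ i, Module A (P' i)]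
  {M N : Type*} [AddCommGroup M] [Module A M] [AddCommGroup N] [Module A N]
  (δ : ∀ i, P i →ₗ[A] P' i) (g : ∀ i, P i →ₗ[A] M) (ψ : M →ₗ[A] N)

/-- The map `p ↦ (g p, - δ p)`. -/
def Gam (i : I) : P i →ₗ[A] M × (⨁ i, P' i) :=
  LinearMap.prod (g i) (-(DirectSum.lof A I P' i ∘ₗ δ i))

/-- The submodule generated by the images of the `Gam i`. -/
def W : Submodule A (M × (⨁ i, P' i)) := ⨆ i, LinearMap.range (Gam δ g i)

/-- Its image in `N × ⨁ P'`. -/
def W' : Submodule A (N × (⨁ i, P' i)) := (W δ g).map (ψ.prodMap LinearMap.id)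

/-- The module `M₁`. -/
abbrev M1 : Type _ := (M × (⨁ i, P' i)) ⧸ W δ g

/-- The module `N₁`. -/
abbrev N1 : Type _ := (N × (⨁ i, P' i)) ⧸ W' δ g ψ

/-- The map `M₁ → N₁`. -/
def psi1 : M1 δ g →ₗ[A] N1 δ g ψ :=
  (W δ g).mapQ (W' δ g ψ) (ψ.prodMap LinearMap.id) (Submodule.le_comap_map _ _)

/-- The map `M → M₁`. -/
def in1 : M →ₗ[A] M1 δ g := (W δ g).mkQ ∘ₗ LinearMap.inl A M (⨁ i, P' i)

/-- The map `N → N₁`. -/
def in1' : N →ₗ[A] N1 δ g ψ := (W' δ g ψ).mkQ ∘ₗ LinearMap.inl A N (⨁ i, P' i)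

lemma psi1_comp_in1 : psi1 δ g ψ ∘ₗ in1 δ g = in1' δ g ψ ∘ₗ ψ := by
  apply LinearMap.ext
  intro x
  simp [psi1, in1, in1', Submodule.mapQ_apply]

lemma mkQ_comp_Gam (i : I) : (W δ g).mkQ ∘ₗ Gam δ g i = 0 := by
  apply LinearMap.ext
  intro x
  rw [LinearMap.comp_apply, LinearMap.zero_apply, Submodule.mkQ_apply,
    Submodule.Quotient.mk_eq_zero]
  exact Submodule.mem_iSup_of_mem i ⟨x, rfl⟩

variable (B : Type*) [AddCommGroup B] [Module A B]

lemma exists_rep_of_mem_T (v : B ⊗[A] (M × (⨁ i, P' i)))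
    (hv : v ∈ ⨆ i, LinearMap.range ((Gam δ g i).lTensor B)) :
    ∃ (s : Finset I) (d : ∀ i, B ⊗[A] P i), v = ∑ i ∈ s, (Gam δ g i).lTensor B (d i) := by
  classical
  induction hv using Submodule.iSup_induction' with
  | mem i x hx =>
    obtain ⟨y, rfl⟩ := hx
    refine ⟨{i}, fun j => if h : j = i then h ▸ y else 0, ?_⟩
    rw [Finset.sum_singleton]
    simp
  | zero => exact ⟨∅, fun _ => 0, by simp⟩
  | add x y _ _ hx hy =>
    obtain ⟨s, d, rfl⟩ := hx
    obtain ⟨s', d', rfl⟩ := hy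
    refine ⟨s ∪ s', fun i => (if i ∈ s then d i else 0) + (if i ∈ s' then d' i else 0), ?_⟩
    simp only [map_add, Finset.sum_add_distrib]
    congr 1
    · rw [← Finset.sum_subset Finset.subset_union_left]
      · refine Finset.sum_congr rfl (fun i hi => ?_)
        rw [if_pos hi]
      · intro i _ hi
        rw [if_neg hi, map_zero]
    · rw [← Finset.sum_subset Finset.subset_union_right]
      · refine Finset.sum_congr rfl (fun i hi => ?_)
        rw [if_pos hi]
      · intro i _ hi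
        rw [if_neg hi, map_zero]

lemma exists_rep_of_lTensor_mkQ_eq_zero (v : B ⊗[A] (M × (⨁ i, P' i)))
    (hv : (W δ g).mkQ.lTensor B v = 0) :
    ∃ (s : Finset I) (d : ∀ i, B ⊗[A] P i), v = ∑ i ∈ s, (Gam δ g i).lTensor B (d i) := by
  apply exists_rep_of_mem_T
  have hex := lTensor_exact B (LinearMap.exact_subtype_mkQ (W δ g)) (Submodule.mkQ_surjective _)
  obtain ⟨v', rfl⟩ := (hex v).1 hv
  clear hv
  induction v' using TensorProduct.induction_on with
  | zero => simp
  | tmul b w =>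
    rw [LinearMap.lTensor_tmul]
    obtain ⟨w, hw⟩ := w
    show b ⊗ₜ[A] w ∈ _
    unfold W at hw
    induction hw using Submodule.iSup_induction' with
    | mem i x hx =>
      obtain ⟨y, rfl⟩ := hx
      exact Submodule.mem_iSup_of_mem i ⟨b ⊗ₜ[A] y, by rw [LinearMap.lTensor_tmul]⟩
    | zero => rw [TensorProduct.tmul_zero]; exact Submodule.zero_mem _
    | add x y _ _ hx hy => rw [TensorProduct.tmul_add]; exact Submodule.add_mem _ hx hy
  | add x y hx hy => rw [map_add]; exact Submodule.add_mem _ hx hy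

lemma lTensor_decomp (z : B ⊗[A] (M × (⨁ i, P' i))) :
    z = (LinearMap.inl A M (⨁ i, P' i)).lTensor B ((LinearMap.fst A M (⨁ i, P' i)).lTensor B z) +
      (LinearMap.inr A M (⨁ i, P' i)).lTensor B ((LinearMap.snd A M (⨁ i, P' i)).lTensor B z) := by
  rw [← LinearMap.lTensor_comp_apply, ← LinearMap.lTensor_comp_apply, ← LinearMap.add_apply,
    ← LinearMap.lTensor_add]
  have : LinearMap.inl A M (⨁ i, P' i) ∘ₗ LinearMap.fst A M (⨁ i, P' i) +
      LinearMap.inr A M (⨁ i, P' i) ∘ₗ LinearMap.snd A M (⨁ i, P' i) = LinearMap.id := by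
    apply LinearMap.ext
    intro x
    simp
  rw [this, LinearMap.lTensor_id, LinearMap.id_apply]

/-- (ZERO) -/
lemma lTensor_in1_g_eq_zero (i : I) (c : B ⊗[A] P i) (hc : (δ i).lTensor B c = 0) :
    (in1 δ g).lTensor B ((g i).lTensor B c) = 0 := by
  have h1 : (Gam δ g i).lTensor B c =
      (LinearMap.inl A M (⨁ i, P' i)).lTensor B ((g i).lTensor B c) := by
    have e1 : LinearMap.fst A M (⨁ i, P' i) ∘ₗ Gam δ g i = g i := by
      apply LinearMap.ext; intro x; simp [Gam]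
    have e2 : LinearMap.snd A M (⨁ i, P' i) ∘ₗ Gam δ g i =
        -(DirectSum.lof A I P' i ∘ₗ δ i) := by
      apply LinearMap.ext; intro x; simp [Gam]
    have f1 : (LinearMap.fst A M (⨁ i, P' i)).lTensor B ((Gam δ g i).lTensor B c) =
        (g i).lTensor B c := by
      rw [← LinearMap.lTensor_comp_apply, e1]
    have f2 : (LinearMap.snd A M (⨁ i, P' i)).lTensor B ((Gam δ g i).lTensor B c) = 0 := by
      rw [← LinearMap.lTensor_comp_apply, e2, LinearMap.lTensor_neg, LinearMap.neg_apply,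
        LinearMap.lTensor_comp_apply, hc, map_zero, neg_zero]
    conv_lhs => rw [lTensor_decomp B ((Gam δ g i).lTensor B c)]
    rw [f1, f2, map_zero, add_zero]
  unfold in1
  rw [LinearMap.lTensor_comp_apply, ← h1, ← LinearMap.lTensor_comp_apply, mkQ_comp_Gam,
    LinearMap.lTensor_zero, LinearMap.zero_apply]

/-- (INJ) -/
lemma exists_rep_of_lTensor_in1_eq_zero (t : B ⊗[A] M) (ht : (in1 δ g).lTensor B t = 0) :
    ∃ (s : Finset I) (d : ∀ i, B ⊗[A] P i), (∀ i ∈ s, (δ i).lTensor B (d i) = 0) ∧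
      t = ∑ i ∈ s, (g i).lTensor B (d i) := by
  classical
  unfold in1 at ht
  rw [LinearMap.lTensor_comp_apply] at ht
  obtain ⟨s, d, hd⟩ := exists_rep_of_lTensor_mkQ_eq_zero δ g B _ ht
  have e1 : ∀ i, LinearMap.fst A M (⨁ i, P' i) ∘ₗ Gam δ g i = g i := by
    intro i; apply LinearMap.ext; intro x; simp [Gam]
  have e2 : ∀ i, LinearMap.snd A M (⨁ i, P' i) ∘ₗ Gam δ g i =
      -(DirectSum.lof A I P' i ∘ₗ δ i) := by
    intro i; apply LinearMap.ext; intro x; simp [Gam]
  refine ⟨s, d, fun i₀ hi₀ => ?_, ?_⟩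
  · have h1 := congrArg ((DirectSum.component A I P' i₀ ∘ₗ
      LinearMap.snd A M (⨁ i, P' i)).lTensor B) hd
    rw [← LinearMap.lTensor_comp_apply] at h1
    have e3 : (DirectSum.component A I P' i₀ ∘ₗ LinearMap.snd A M (⨁ i, P' i)) ∘ₗ
        LinearMap.inl A M (⨁ i, P' i) = 0 := by
      apply LinearMap.ext; intro x; simp
    rw [e3, LinearMap.lTensor_zero, LinearMap.zero_apply, map_sum] at h1
    have e4 : ∀ i ∈ s, ((DirectSum.component A I P' i₀ ∘ₗ
        LinearMap.snd A M (⨁ i, P' i)).lTensor B) ((Gam δ g i).lTensor B (d i)) =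
        if i = i₀ then -((δ i₀).lTensor B (d i₀)) else 0 := by
      intro i _
      rw [← LinearMap.lTensor_comp_apply, LinearMap.comp_assoc, e2, LinearMap.comp_neg,
        ← LinearMap.comp_assoc, DirectSum.component_comp_lof]
      by_cases h : i = i₀
      · subst h
        simp
      · rw [dif_neg h, if_neg h, LinearMap.zero_comp, neg_zero, LinearMap.lTensor_zero,
          LinearMap.zero_apply]
    rw [Finset.sum_congr rfl e4, Finset.sum_ite_eq' s i₀, if_pos hi₀] at h1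
    exact neg_eq_zero.1 h1.symm
  · have h1 := congrArg ((LinearMap.fst A M (⨁ i, P' i)).lTensor B) hd
    rw [← LinearMap.lTensor_comp_apply, map_sum] at h1
    have e3 : LinearMap.fst A M (⨁ i, P' i) ∘ₗ LinearMap.inl A M (⨁ i, P' i) = LinearMap.id := by
      apply LinearMap.ext; intro x; simp
    rw [e3, LinearMap.lTensor_id, LinearMap.id_apply] at h1
    rw [h1]
    refine Finset.sum_congr rfl (fun i _ => ?_)
    rw [← LinearMap.lTensor_comp_apply, e1]

/-- (SURJ) -/
lemma exists_of_lTensor_psi1_eq_zero (y : B ⊗[A] M1 δ g) (hy : (psi1 δ g ψ).lTensor B y = 0) :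
    ∃ t : B ⊗[A] M, ψ.lTensor B t = 0 ∧ y = (in1 δ g).lTensor B t := by
  obtain ⟨z, rfl⟩ := LinearMap.lTensor_surjective B (Submodule.mkQ_surjective (W δ g)) y
  rw [← LinearMap.lTensor_comp_apply] at hy
  have e0 : psi1 δ g ψ ∘ₗ (W δ g).mkQ = (W' δ g ψ).mkQ ∘ₗ ψ.prodMap LinearMap.id := by
    apply LinearMap.ext; intro x; simp [psi1, Submodule.mapQ_apply]
  rw [e0, LinearMap.lTensor_comp_apply] at hy
  -- kernel of B ⊗ mkQ'
  have hex := lTensor_exact B (LinearMap.exact_subtype_mkQ (W' δ g ψ))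
    (Submodule.mkQ_surjective _)
  obtain ⟨v', hv'⟩ := (hex _).1 hy
  let res : W δ g →ₗ[A] W' δ g ψ :=
    (ψ.prodMap LinearMap.id).restrict (fun x hx => Submodule.mem_map_of_mem hx)
  have hres : Function.Surjective res := by
    rintro ⟨w, hw⟩
    obtain ⟨x, hx, rfl⟩ := hw
    exact ⟨⟨x, hx⟩, rfl⟩
  obtain ⟨v'', rfl⟩ := LinearMap.lTensor_surjective B hres v'
  rw [← LinearMap.lTensor_comp_apply] at hv'
  have e1 : (W' δ g ψ).subtype ∘ₗ res = ψ.prodMap LinearMap.id ∘ₗ (W δ g).subtype := by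
    apply LinearMap.ext; intro x; rfl
  rw [e1, LinearMap.lTensor_comp_apply] at hv'
  set v₀ := (W δ g).subtype.lTensor B v'' with hv₀
  have hv₀0 : (W δ g).mkQ.lTensor B v₀ = 0 := by
    rw [hv₀, ← LinearMap.lTensor_comp_apply]
    have : (W δ g).mkQ ∘ₗ (W δ g).subtype = 0 := by
      apply LinearMap.ext; intro x
      simp
    rw [this, LinearMap.lTensor_zero, LinearMap.zero_apply]
  set z' := z - v₀ with hz'
  have hz'1 : (W δ g).mkQ.lTensor B z' = (W δ g).mkQ.lTensor B z := by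
    rw [hz', map_sub, hv₀0, sub_zero]
  have hz'2 : (ψ.prodMap LinearMap.id).lTensor B z' = 0 := by
    rw [hz', map_sub, hv', sub_self]
  refine ⟨(LinearMap.fst A M (⨁ i, P' i)).lTensor B z', ?_, ?_⟩
  · rw [← LinearMap.lTensor_comp_apply]
    have : ψ ∘ₗ LinearMap.fst A M (⨁ i, P' i) =
        LinearMap.fst A N (⨁ i, P' i) ∘ₗ ψ.prodMap LinearMap.id := by
      apply LinearMap.ext; intro x; simp
    rw [this, LinearMap.lTensor_comp_apply, hz'2, map_zero]
  · have hsnd : (LinearMap.snd A M (⨁ i, P' i)).lTensor B z' = 0 := by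
      have : LinearMap.snd A M (⨁ i, P' i) =
          LinearMap.snd A N (⨁ i, P' i) ∘ₗ ψ.prodMap LinearMap.id := by
        apply LinearMap.ext; intro x; simp
      rw [this, LinearMap.lTensor_comp_apply, hz'2, map_zero]
    rw [← hz'1]
    conv_lhs => rw [lTensor_decomp B z', hsnd, map_zero, add_zero]
    unfold in1
    rw [LinearMap.lTensor_comp_apply]

end

end Groth.Agent.Lib.Lead.AdeqCokerAlg
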