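import Groth.Agent.Lib.Lead.AdeqBasic
import Mathlib.Algebra.TrivSqZeroExt.Basic
import Mathlib.Algebra.DualNumber
import Mathlib.Algebra.MvPolynomial.CommRing
import Mathlib.RingTheory.Ideal.Quotient.Operations
import Mathlib.LinearAlgebra.FreeModule.Finite.Basic

/-!
# Extension of maps from linearly adequate functors (Stacks 46.3.5)
-/

universe u

open CategoryTheory Limits Opposite TensorProduct Module

namespace Groth.Agent.Lib.Lead.AdeqExt

open Adeq Groth.Agent.Lib.Lead.AdeqBasic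

noncomputable section

variable {A : Type u} [CommRing A]

section Coord

variable {n : ℕ} {P : Type (u + 1)} [AddCommGroup P] [Module A P] (bP : Basis (Fin n) A P)
variable (C : Type u) [CommRing C] [Algebra A C]

/-- Coordinates of an element of `C ⊗ P` with respect to the base-changed basis. -/
def coord (c : C ⊗[A] P) (i : Fin n) : C := (Algebra.TensorProduct.basis C bP).repr c i

lemma sum_coord (c : C ⊗[A] P) : ∑ i, coord bP C c i ⊗ₜ[A] bP i = c := by
  have h := (Algebra.TensorProduct.basis C bP).sum_repr c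
  simp only [Algebra.TensorProduct.basis_apply, TensorProduct.smul_tmul', smul_eq_mul,
    mul_one] at h
  exact h

lemma coord_sum (c : Fin n → C) (j : Fin n) : coord bP C (∑ i, c i ⊗ₜ[A] bP i) j = c j := by
  have h := (Algebra.TensorProduct.basis C bP).repr_sum_self c
  have h2 : ∑ i, c i • (Algebra.TensorProduct.basis C bP) i = ∑ i, c i ⊗ₜ[A] bP i := by
    refine Finset.sum_congr rfl (fun i _ => ?_)
    rw [Algebra.TensorProduct.basis_apply, TensorProduct.smul_tmul', smul_eq_mul, mul_one]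
  unfold coord
  rw [← h2, h]

lemma eq_zero_of_sum_tmul_eq_zero (c : Fin n → C) (h : ∑ i, c i ⊗ₜ[A] bP i = 0) (j : Fin n) :
    c j = 0 := by
  have h1 := coord_sum bP C c j
  rw [h] at h1
  unfold coord at h1
  rw [map_zero] at h1
  exact h1.symm

lemma coord_rTensor {C' : Type u} [CommRing C'] [Algebra A C'] (f : C →ₐ[A] C') (c : C ⊗[A] P)
    (j : Fin n) : coord bP C' (f.toLinearMap.rTensor P c) j = f (coord bP C c j) := by
  conv_lhs => rw [← sum_coord bP C c]
  rw [map_sum]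
  simp only [LinearMap.rTensor_tmul, AlgHom.toLinearMap_apply]
  exact coord_sum bP C' (fun i => f (coord bP C c i)) j

end Coord

lemma baseChange_rTensor {P P' : Type (u + 1)} [AddCommGroup P] [Module A P] [AddCommGroup P']
    [Module A P'] (δ : P →ₗ[A] P') {C C' : Type u} [CommRing C] [Algebra A C] [CommRing C']
    [Algebra A C'] (f : C →ₐ[A] C') (c : C ⊗[A] P) :
    δ.baseChange C' (f.toLinearMap.rTensor P c) = f.toLinearMap.rTensor P' (δ.baseChange C c) := by
  induction c using TensorProduct.induction_on with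
  | zero => simp
  | tmul b p => simp
  | add x y hx hy => simp only [map_add, hx, hy]

section Univ

variable {n m : ℕ} {P P' : Type (u + 1)} [AddCommGroup P] [Module A P] [AddCommGroup P']
  [Module A P'] (bP : Basis (Fin n) A P) (bP' : Basis (Fin m) A P') (δ : P →ₗ[A] P')

/-- The generic element of `A[X] ⊗ P`. -/
def ξ₀ : MvPolynomial (Fin n) A ⊗[A] P := ∑ i, MvPolynomial.X i ⊗ₜ[A] bP i

/-- The linear forms cutting out the universal algebra. -/
def ell (j : Fin m) : MvPolynomial (Fin n) A :=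
  coord bP' (MvPolynomial (Fin n) A) (δ.baseChange (MvPolynomial (Fin n) A) (ξ₀ bP)) j

/-- The ideal of the universal algebra. -/
def Iu : Ideal (MvPolynomial (Fin n) A) := Ideal.span (Set.range (ell bP bP' δ))

/-- The universal algebra. -/
abbrev UB : Type u := MvPolynomial (Fin n) A ⧸ Iu bP bP' δ

/-- The quotient map to the universal algebra. -/
def q : MvPolynomial (Fin n) A →ₐ[A] UB bP bP' δ := Ideal.Quotient.mkₐ A (Iu bP bP' δ)

/-- The universal element. -/
def ξ : UB bP bP' δ ⊗[A] P := (q bP bP' δ).toLinearMap.rTensor P (ξ₀ bP)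

lemma q_ell (j : Fin m) : q bP bP' δ (ell bP bP' δ j) = 0 := by
  unfold q
  rw [Ideal.Quotient.mkₐ_eq_mk, Ideal.Quotient.eq_zero_iff_mem]
  exact Ideal.subset_span ⟨j, rfl⟩

lemma δ_ξ : δ.baseChange (UB bP bP' δ) (ξ bP bP' δ) = 0 := by
  unfold ξ
  rw [baseChange_rTensor]
  have h := sum_coord bP' (MvPolynomial (Fin n) A)
    (δ.baseChange (MvPolynomial (Fin n) A) (ξ₀ bP))
  rw [← h, map_sum]
  refine Finset.sum_eq_zero (fun j _ => ?_)
  rw [LinearMap.rTensor_tmul, AlgHom.toLinearMap_apply]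
  have : q bP bP' δ (coord bP' (MvPolynomial (Fin n) A)
      (δ.baseChange (MvPolynomial (Fin n) A) (ξ₀ bP)) j) = 0 := q_ell bP bP' δ j
  rw [this, TensorProduct.zero_tmul]

variable (C : Type u) [CommRing C] [Algebra A C]

/-- Evaluation at the coordinates of `c`. -/
def ev (c : C ⊗[A] P) : MvPolynomial (Fin n) A →ₐ[A] C := MvPolynomial.aeval (coord bP C c)

lemma rTensor_ev_ξ₀ (c : C ⊗[A] P) : (ev bP C c).toLinearMap.rTensor P (ξ₀ bP) = c := by
  unfold ξ₀ ev
  rw [map_sum]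
  simp only [LinearMap.rTensor_tmul, AlgHom.toLinearMap_apply, MvPolynomial.aeval_X]
  exact sum_coord bP C c

lemma ev_ell (c : C ⊗[A] P) (hc : δ.baseChange C c = 0) (j : Fin m) :
    ev bP C c (ell bP bP' δ j) = 0 := by
  unfold ell
  rw [← coord_rTensor bP' _ (ev bP C c), ← baseChange_rTensor, rTensor_ev_ξ₀, hc]
  unfold coord
  rw [map_zero]
  rfl

/-- The classifying map of an element of the kernel. -/
def evbar (c : C ⊗[A] P) (hc : δ.baseChange C c = 0) : UB bP bP' δ →ₐ[A] C :=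
  Ideal.Quotient.liftₐ (Iu bP bP' δ) (ev bP C c) (fun a ha => by
    have hle : Iu bP bP' δ ≤ RingHom.ker (ev bP C c).toRingHom := by
      apply Ideal.span_le.2
      rintro _ ⟨j, rfl⟩
      exact ev_ell bP bP' δ C c hc j
    exact hle ha)

lemma evbar_q (c : C ⊗[A] P) (hc : δ.baseChange C c = 0) (p : MvPolynomial (Fin n) A) :
    evbar bP bP' δ C c hc (q bP bP' δ p) = ev bP C c p := by
  unfold evbar q
  rw [Ideal.Quotient.mkₐ_eq_mk]
  rfl

lemma rTensor_evbar_ξ (c : C ⊗[A] P) (hc : δ.baseChange C c = 0) :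
    (evbar bP bP' δ C c hc).toLinearMap.rTensor P (ξ bP bP' δ) = c := by
  unfold ξ
  rw [← LinearMap.rTensor_comp_apply]
  have : (evbar bP bP' δ C c hc).toLinearMap ∘ₗ (q bP bP' δ).toLinearMap =
      (ev bP C c).toLinearMap := by
    apply LinearMap.ext
    intro p
    exact evbar_q bP bP' δ C c hc p
  rw [this, rTensor_ev_ξ₀]

lemma evbar_xbar (c : C ⊗[A] P) (hc : δ.baseChange C c = 0) (i : Fin n) :
    evbar bP bP' δ C c hc (q bP bP' δ (MvPolynomial.X i)) = coord bP C c i := by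
  rw [evbar_q]
  unfold ev
  rw [MvPolynomial.aeval_X]

end Univ

section Dual

variable (B : Type u) [CommRing B] [Algebra A B]

/-- Second projection of the dual numbers as an `A`-linear map. -/
def sndA : TrivSqZeroExt B B →ₗ[A] B where
  toFun := TrivSqZeroExt.snd
  map_add' := TrivSqZeroExt.snd_add
  map_smul' := TrivSqZeroExt.snd_smul

/-- Inclusion into the dual numbers. -/
def inlA : B →ₐ[A] TrivSqZeroExt B B := TrivSqZeroExt.inlAlgHom A B B

/-- The element `ε`. -/
def eps : TrivSqZeroExt B B := TrivSqZeroExt.inr 1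

lemma eps_mul_inl (b : B) : eps B * TrivSqZeroExt.inl b = TrivSqZeroExt.inr b := by
  ext <;> simp [eps]

lemma rTensor_snd_eps_smul (M : Type (u + 1)) [AddCommGroup M] [Module A M] (θ : B ⊗[A] M) :
    (sndA (A := A) B).rTensor M (eps B • (inlA (A := A) B).toLinearMap.rTensor M θ) = θ := by
  induction θ using TensorProduct.induction_on with
  | zero => simp
  | tmul b m =>
    rw [LinearMap.rTensor_tmul, TensorProduct.smul_tmul', LinearMap.rTensor_tmul]
    congr 1
    show TrivSqZeroExt.snd (eps B * TrivSqZeroExt.inl b) = b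
    rw [eps_mul_inl, TrivSqZeroExt.snd_inr]
  | add x y hx hy => simp only [map_add, smul_add, hx, hy]

end Dual

section Main

lemma aeval_inr (B : Type u) [CommRing B] [Algebra A B] {n : ℕ} (x : Fin n → B)
    (p : MvPolynomial (Fin n) A) :
    (∃ a₀ : A, TrivSqZeroExt.fst (MvPolynomial.aeval
      (fun i => (TrivSqZeroExt.inr (x i) : TrivSqZeroExt B B)) p) = algebraMap A B a₀) ∧
    (∃ a : Fin n → A, TrivSqZeroExt.snd (MvPolynomial.aeval
      (fun i => (TrivSqZeroExt.inr (x i) : TrivSqZeroExt B B)) p) = ∑ i, a i • x i) := by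
  induction p using MvPolynomial.induction_on with
  | C a =>
    refine ⟨⟨a, ?_⟩, ⟨0, ?_⟩⟩
    · rw [MvPolynomial.aeval_C, TrivSqZeroExt.algebraMap_eq_inl', TrivSqZeroExt.fst_inl]
    · rw [MvPolynomial.aeval_C, TrivSqZeroExt.algebraMap_eq_inl', TrivSqZeroExt.snd_inl]
      simp
  | add p q hp hq =>
    obtain ⟨⟨a₀, h0⟩, ⟨a, h1⟩⟩ := hp
    obtain ⟨⟨b₀, k0⟩, ⟨b, k1⟩⟩ := hq
    refine ⟨⟨a₀ + b₀, ?_⟩, ⟨a + b, ?_⟩⟩
    · rw [map_add, TrivSqZeroExt.fst_add, h0, k0, map_add]
    · rw [map_add, TrivSqZeroExt.snd_add, h1, k1, ← Finset.sum_add_distrib]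
      refine Finset.sum_congr rfl (fun i _ => ?_)
      rw [Pi.add_apply, add_smul]
  | mul_X p i hp =>
    obtain ⟨⟨a₀, h0⟩, _⟩ := hp
    refine ⟨⟨0, ?_⟩, ⟨Pi.single i a₀, ?_⟩⟩
    · rw [map_mul, MvPolynomial.aeval_X, TrivSqZeroExt.fst_mul, TrivSqZeroExt.fst_inr, mul_zero,
        map_zero]
    · rw [map_mul, MvPolynomial.aeval_X, TrivSqZeroExt.snd_mul, TrivSqZeroExt.snd_inr,
        TrivSqZeroExt.fst_inr, h0]
      rw [Finset.sum_eq_single i]
      · simp [Algebra.smul_def]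
      · intro j _ hj
        rw [Pi.single_eq_of_ne hj, zero_smul]
      · intro hi
        exact absurd (Finset.mem_univ i) hi

lemma exists_sum_of_rTensor {B : Type u} [CommRing B] [Algebra A B] {n : ℕ} (x : Fin n → B)
    (π : B →ₗ[A] B) (hπ : ∀ b, ∃ a : Fin n → A, π b = ∑ i, a i • x i)
    (M : Type (u + 1)) [AddCommGroup M] [Module A M] (z : B ⊗[A] M) :
    ∃ mm : Fin n → M, π.rTensor M z = ∑ i, x i ⊗ₜ[A] mm i := by
  induction z using TensorProduct.induction_on with
  | zero => exact ⟨0, by simp⟩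
  | tmul b m' =>
    obtain ⟨a, ha⟩ := hπ b
    refine ⟨fun i => a i • m', ?_⟩
    rw [LinearMap.rTensor_tmul, ha, TensorProduct.sum_tmul]
    refine Finset.sum_congr rfl (fun i _ => ?_)
    rw [TensorProduct.smul_tmul]
  | add z z' hz hz' =>
    obtain ⟨mm, h⟩ := hz
    obtain ⟨mm', h'⟩ := hz'
    refine ⟨mm + mm', ?_⟩
    rw [map_add, h, h', ← Finset.sum_add_distrib]
    refine Finset.sum_congr rfl (fun i _ => ?_)
    rw [Pi.add_apply, TensorProduct.tmul_add]

/-- Stacks 46.3.5 with chosen bases. -/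
theorem ext_main {n m : ℕ} {P P' M : ModuleCat.{u + 1} A} (bP : Basis (Fin n) A P)
    (bP' : Basis (Fin m) A P') (δ : P ⟶ P')
    (φ : kernel ((underline A).map δ) ⟶ (underline A).obj M) :
    ∃ g : P ⟶ M, kernel.ι ((underline A).map δ) ≫ (underline A).map g = φ := by
  let K := kernel ((underline A).map δ)
  let κ : K ⟶ U P := kernel.ι ((underline A).map δ)
  have hker : IsKerPt κ ((underline A).map δ) := isKerPt_kernel _
  let Bu : Type u := UB bP bP' δ.hom
  let 𝔹 : Alg A := algOf A Bu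
  have hδ : ∀ (C : Alg A) (l : K.obj (pt C)),
      δ.hom.baseChange C (toT (κ.app (pt C) l)) = 0 := by
    intro C l
    have h2 := congrArg toT (hker.w_apply (pt C) l)
    rwa [toT_map_app] at h2
  obtain ⟨l₀, hl₀⟩ := hker.surj (pt 𝔹) (ofT (ξ bP bP' δ.hom)) (by
    apply toT_injective
    rw [toT_map_app, toT_ofT, δ_ξ]
    rfl)
  let θ : Bu ⊗[A] M := toT (φ.app (pt 𝔹) l₀)
  have GP : ∀ (C : Alg A) (l : K.obj (pt C)),
      toT (φ.app (pt C) l) =
        (evbar bP bP' δ.hom C (toT (κ.app (pt C) l)) (hδ C l)).toLinearMap.rTensor M θ := by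
    intro C l
    let f : 𝔹 ⟶ C := CommAlgCat.ofHom (evbar bP bP' δ.hom C (toT (κ.app (pt C) l)) (hδ C l))
    have h1 : tr K f l₀ = l := by
      apply hker.inj (pt C)
      rw [app_tr, hl₀]
      apply toT_injective
      rw [toT_tr, toT_ofT]
      exact rTensor_evbar_ξ bP bP' δ.hom C _ (hδ C l)
    have h2 : toT (φ.app (pt C) l) = toT (φ.app (pt C) (tr K f l₀)) := by rw [h1]
    rw [h2, app_tr, toT_tr]
    rfl
  let Dn : Type u := TrivSqZeroExt Bu Bu
  let 𝔻 : Alg A := algOf A Dn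
  let inl' : 𝔹 ⟶ 𝔻 := CommAlgCat.ofHom (inlA (A := A) Bu)
  let l₁ : K.obj (pt 𝔻) := tr K inl' l₀
  let l' : K.obj (pt 𝔻) := (show (𝔻 : Type u) from eps Bu) • l₁
  have hc' : toT (κ.app (pt 𝔻) l') =
      eps Bu • (inlA (A := A) Bu).toLinearMap.rTensor P (ξ bP bP' δ.hom) := by
    show toT (κ.app (pt 𝔻) ((show (𝔻 : Type u) from eps Bu) • l₁)) = _
    rw [app_smul, toT_smul, app_tr, hl₀, toT_tr, toT_ofT]
    rfl
  have hsum : eps Bu • (inlA (A := A) Bu).toLinearMap.rTensor P (ξ bP bP' δ.hom) =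
      ∑ i, (TrivSqZeroExt.inr (q bP bP' δ.hom (MvPolynomial.X i)) : Dn) ⊗ₜ[A] bP i := by
    unfold ξ ξ₀
    rw [map_sum, map_sum, Finset.smul_sum]
    refine Finset.sum_congr rfl (fun i _ => ?_)
    rw [LinearMap.rTensor_tmul, LinearMap.rTensor_tmul, TensorProduct.smul_tmul', smul_eq_mul]
    congr 1
    exact eps_mul_inl Bu _
  have hcoord : coord bP Dn (toT (κ.app (pt 𝔻) l')) =
      fun i => (TrivSqZeroExt.inr (q bP bP' δ.hom (MvPolynomial.X i)) : Dn) := by
    funext i
    rw [hc', hsum, coord_sum]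
  let τ : Bu →ₐ[A] Dn := evbar bP bP' δ.hom Dn (toT (κ.app (pt 𝔻) l')) (hδ 𝔻 l')
  have e1 : toT (φ.app (pt 𝔻) l') = eps Bu • (inlA (A := A) Bu).toLinearMap.rTensor M θ := by
    show toT (φ.app (pt 𝔻) ((show (𝔻 : Type u) from eps Bu) • l₁)) = _
    rw [app_smul, toT_smul, app_tr, toT_tr]
    rfl
  have e2 : toT (φ.app (pt 𝔻) l') = τ.toLinearMap.rTensor M θ := GP 𝔻 l'
  have e3 : θ = (sndA (A := A) Bu ∘ₗ τ.toLinearMap).rTensor M θ := by
    rw [LinearMap.rTensor_comp_apply, ← e2, e1, rTensor_snd_eps_smul]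
  have hπ : ∀ b : Bu, ∃ a : Fin n → A, (sndA (A := A) Bu ∘ₗ τ.toLinearMap) b =
      ∑ i, a i • q bP bP' δ.hom (MvPolynomial.X i) := by
    intro b
    obtain ⟨p, rfl⟩ := Ideal.Quotient.mkₐ_surjective A (Iu bP bP' δ.hom) b
    have h1 : τ (q bP bP' δ.hom p) = MvPolynomial.aeval
        (fun i => (TrivSqZeroExt.inr (q bP bP' δ.hom (MvPolynomial.X i)) : Dn)) p := by
      show evbar bP bP' δ.hom Dn _ _ (q bP bP' δ.hom p) = _
      rw [evbar_q]
      unfold ev
      rw [hcoord]
    obtain ⟨a, ha⟩ := (aeval_inr Bu (fun i => q bP bP' δ.hom (MvPolynomial.X i)) p).2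
    refine ⟨a, ?_⟩
    show TrivSqZeroExt.snd (τ (q bP bP' δ.hom p)) = _
    rw [h1, ha]
  obtain ⟨mm, hmm⟩ := exists_sum_of_rTensor (fun i => q bP bP' δ.hom (MvPolynomial.X i))
    (sndA (A := A) Bu ∘ₗ τ.toLinearMap) hπ M θ
  rw [← e3] at hmm
  refine ⟨ModuleCat.ofHom (bP.constr A mm), ?_⟩
  apply hom_ext_toT
  intro C l
  rw [comp_app_apply, toT_map_app, GP C l, hmm, map_sum]
  conv_lhs => rw [← sum_coord bP C (toT (κ.app (pt C) l)), map_sum]
  refine Finset.sum_congr rfl (fun i _ => ?_)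
  rw [LinearMap.baseChange_tmul, LinearMap.rTensor_tmul, AlgHom.toLinearMap_apply, evbar_xbar]
  congr 1
  exact bP.constr_basis A mm i

/-- Stacks 46.3.5. -/
theorem ext_of_finite_free {P P' M : ModuleCat.{u + 1} A} [Module.Finite A P] [Module.Free A P]
    [Module.Finite A P'] [Module.Free A P'] (δ : P ⟶ P')
    (φ : kernel ((underline A).map δ) ⟶ (underline A).obj M) :
    ∃ g : P ⟶ M, kernel.ι ((underline A).map δ) ≫ (underline A).map g = φ := by
  let b := (Module.Free.chooseBasis A P).reindex (Fintype.equivFin _)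
  let b' := (Module.Free.chooseBasis A P').reindex (Fintype.equivFin _)
  exact ext_main b b' δ φ

end Main

end

end Groth.Agent.Lib.Lead.AdeqExt
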