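import Groth.Agent.Lib.Lead.AdeqBasic
import Mathlib.LinearAlgebra.TensorProduct.Vanishing
import Mathlib.RingTheory.TensorProduct.DirectLimitFG
import Mathlib.LinearAlgebra.FreeModule.Finite.Basic
import Mathlib.LinearAlgebra.StdBasis
import Mathlib.Algebra.Module.ULift

/-!
# Adequate functors are covered by linearly adequate functors (Stacks 46.3.6)
-/

universe u

open CategoryTheory Limits Opposite TensorProduct Module

namespace Groth.Agent.Lib.Lead.AdeqFam

open Adeq Groth.Agent.Lib.Lead.AdeqBasic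

noncomputable section

variable {A : Type u} [CommRing A]

/-- Equational criterion of vanishing, without a spanning hypothesis (after enlarging the family). -/
theorem exists_vanishing_data {B N : Type*} [AddCommGroup B] [Module A B] [AddCommGroup N]
    [Module A N] {n : ℕ} (b : Fin n → B) (y : Fin n → N) (h : ∑ i, b i ⊗ₜ[A] y i = 0) :
    ∃ (r k : ℕ) (c : Fin r → B) (a : Fin n → Fin k → A) (a' : Fin r → Fin k → A)
      (z : Fin k → N),
      (∀ i, y i = ∑ j, a i j • z j) ∧ (∀ i', ∑ j, a' i' j • z j = 0) ∧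
      (∀ j, ∑ i, a i j • b i + ∑ i', a' i' j • c i' = 0) := by
  classical
  let P : Submodule A B := Submodule.span A (Set.range b)
  have hP : P.FG := Submodule.fg_span (Set.finite_range b)
  let bP : Fin n → P := fun i => ⟨b i, Submodule.subset_span ⟨i, rfl⟩⟩
  let t : P ⊗[A] N := ∑ i, bP i ⊗ₜ[A] y i
  have ht : LinearMap.rTensor N P.subtype t = 0 := by
    simp only [t, map_sum, LinearMap.rTensor_tmul]
    exact h
  obtain ⟨Q, hPQ, hQ, hQt⟩ := TensorProduct.eq_zero_of_fg_of_subtype_eq_zero hP ht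
  haveI : Module.Finite A Q := Module.Finite.iff_fg.2 hQ
  obtain ⟨r, c, hc⟩ := Module.Finite.exists_fin (R := A) (M := Q)
  let bQ : Fin n → Q := fun i => Submodule.inclusion hPQ (bP i)
  let mQ : Fin n ⊕ Fin r → Q := Sum.elim bQ c
  let nQ : Fin n ⊕ Fin r → N := Sum.elim y 0
  have hspan : Submodule.span A (Set.range mQ) = ⊤ := by
    apply top_le_iff.1
    rw [← hc]
    apply Submodule.span_mono
    rintro _ ⟨i, rfl⟩
    exact ⟨Sum.inr i, rfl⟩
  have hsum : ∑ i, mQ i ⊗ₜ[A] nQ i = 0 := by
    rw [Fintype.sum_sum_type]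
    simp only [mQ, nQ, Sum.elim_inl, Sum.elim_inr, Pi.zero_apply, TensorProduct.tmul_zero,
      Finset.sum_const_zero, add_zero]
    have : LinearMap.rTensor N (Submodule.inclusion hPQ) t = ∑ i, bQ i ⊗ₜ[A] y i := by
      simp only [t, map_sum, LinearMap.rTensor_tmul]
      rfl
    rw [← this, hQt]
  obtain ⟨k, a, z, h1, h2⟩ := TensorProduct.vanishesTrivially_of_sum_tmul_eq_zero A hspan hsum
  refine ⟨r, k, fun i' => (c i' : B), fun i => a (Sum.inl i), fun i' => a (Sum.inr i'), z,
    fun i => ?_, fun i' => ?_, fun j => ?_⟩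
  · exact h1 (Sum.inl i)
  · exact (h1 (Sum.inr i')).symm
  · have h3 := congrArg Q.subtype (h2 j)
    rw [map_zero, Fintype.sum_sum_type, map_add, map_sum, map_sum] at h3
    simpa [mQ, bQ, bP] using h3

/-- Every tensor is a finite sum of pure tensors, indexed by `Fin n`. -/
lemma exists_fin_sum {B M : Type*} [AddCommGroup B] [Module A B] [AddCommGroup M] [Module A M]
    (t : B ⊗[A] M) : ∃ (n : ℕ) (b : Fin n → B) (mm : Fin n → M), t = ∑ i, b i ⊗ₜ[A] mm i := by
  induction t using TensorProduct.induction_on with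
  | zero => exact ⟨0, Fin.elim0, Fin.elim0, by simp⟩
  | tmul b m => exact ⟨1, fun _ => b, fun _ => m, by simp⟩
  | add x y hx hy =>
    obtain ⟨n, b, mm, rfl⟩ := hx
    obtain ⟨n', b', mm', rfl⟩ := hy
    refine ⟨n + n', Fin.append b b', Fin.append mm mm', ?_⟩
    rw [Fin.sum_univ_add]
    simp

/-- A finite free module in the universe of module values. -/
abbrev FF (ι : Type) [Fintype ι] [DecidableEq ι] : ModuleCat.{u + 1} A :=
  ModuleCat.of A (ULift.{u + 1} (ι → A))

/-- The standard basis of `FF ι`. -/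
def bFF (ι : Type) [Fintype ι] [DecidableEq ι] : Basis ι A (FF (A := A) ι) :=
  (Pi.basisFun A ι).map ULift.moduleEquiv.symm

instance (ι : Type) [Fintype ι] [DecidableEq ι] : Module.Free A (FF (A := A) ι) :=
  Module.Free.of_basis (bFF ι)

instance (ι : Type) [Fintype ι] [DecidableEq ι] : Module.Finite A (FF (A := A) ι) :=
  Module.Finite.of_basis (bFF ι)

/-- Stacks 46.3.6, elementwise: every section of an adequate functor is in the image of a map
from a linearly adequate functor. -/
theorem exists_family_FF {F : MVF A} (hF : adequate A F) (B : Alg A) (ξ : F.obj (pt B)) :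
    ∃ (ι κ : Type) (_ : Fintype ι) (_ : DecidableEq ι) (_ : Fintype κ) (_ : DecidableEq κ)
      (δ : FF (A := A) ι ⟶ FF (A := A) κ)
      (α : kernel ((underline A).map δ) ⟶ F) (l : (kernel ((underline A).map δ)).obj (pt B)),
      α.app (pt B) l = ξ := by
  classical
  obtain ⟨M, N, ψ, ιF, hι⟩ := exists_isKerPt_of_adequate hF
  obtain ⟨n, b, mm, ht⟩ := exists_fin_sum (A := A) (toT (ιF.app (pt B) ξ))
  have h0 : ∑ i, b i ⊗ₜ[A] ψ.hom (mm i) = 0 := by
    have h1 := congrArg toT (hι.w_apply (pt B) ξ)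
    rw [toT_map_app, ht, map_sum, toT_zero] at h1
    simpa using h1
  obtain ⟨r, k, c, a, a', z, hy, hz, hrel⟩ :=
    exists_vanishing_data (A := A) b (fun i => ψ.hom (mm i)) h0
  let ι := Fin n ⊕ Fin r
  let bb : ι → B := Sum.elim b c
  let mext : ι → M := Sum.elim mm 0
  let aa : ι → Fin k → A := Sum.elim a a'
  have hi : ∀ i : ι, ψ.hom (mext i) = ∑ j, aa i j • z j := by
    rintro (i | i')
    · exact hy i
    · simp only [mext, aa, Sum.elim_inr, Pi.zero_apply, map_zero]
      exact (hz i').symm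
  have hii : ∀ j, ∑ i, aa i j • bb i = 0 := by
    intro j
    rw [Fintype.sum_sum_type]
    exact hrel j
  let P : ModuleCat.{u + 1} A := FF ι
  let P' : ModuleCat.{u + 1} A := FF (Fin k)
  let e : Basis ι A P := bFF ι
  let e' : Basis (Fin k) A P' := bFF (Fin k)
  let δ : P ⟶ P' := ModuleCat.ofHom (e.constr A (fun i => ∑ j, aa i j • e' j))
  let gm : P ⟶ M := ModuleCat.ofHom (e.constr A mext)
  let ρ : P' ⟶ N := ModuleCat.ofHom (e'.constr A z)
  have hcomm : δ ≫ ρ = gm ≫ ψ := by
    apply ModuleCat.hom_ext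
    apply e.ext
    intro i
    show (e'.constr A z) ((e.constr A (fun i => ∑ j, aa i j • e' j)) (e i)) =
      ψ.hom ((e.constr A mext) (e i))
    rw [Basis.constr_basis, Basis.constr_basis, map_sum, hi i]
    refine Finset.sum_congr rfl (fun j _ => ?_)
    rw [map_smul, Basis.constr_basis]
  let κ := kernel.ι ((underline A).map δ)
  have hker : IsKerPt κ ((underline A).map δ) := isKerPt_kernel _
  have hw : (κ ≫ (underline A).map gm) ≫ (underline A).map ψ = 0 := by
    rw [Category.assoc, ← Functor.map_comp, ← hcomm, Functor.map_comp, ← Category.assoc,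
      kernel.condition, zero_comp]
  let α : kernel ((underline A).map δ) ⟶ F := hι.lift (κ ≫ (underline A).map gm) hw
  let β : (B : Type u) ⊗[A] (P : Type (u + 1)) := ∑ i, bb i ⊗ₜ[A] e i
  have hβ : δ.hom.baseChange B β = 0 := by
    simp only [β, map_sum, LinearMap.baseChange_tmul]
    have h1 : ∀ i, bb i ⊗ₜ[A] δ.hom (e i) = ∑ j, (aa i j • bb i) ⊗ₜ[A] e' j := by
      intro i
      have : δ.hom (e i) = ∑ j, aa i j • e' j := Basis.constr_basis e A _ i
      rw [this, TensorProduct.tmul_sum]
      refine Finset.sum_congr rfl (fun j _ => ?_)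
      rw [TensorProduct.tmul_smul, TensorProduct.smul_tmul']
    simp only [h1]
    rw [Finset.sum_comm]
    refine Finset.sum_eq_zero (fun j _ => ?_)
    rw [← TensorProduct.sum_tmul, hii j, TensorProduct.zero_tmul]
  obtain ⟨l, hl⟩ := hker.surj (pt B) (ofT β) (by
    apply toT_injective
    rw [toT_map_app, toT_ofT, hβ]
    rfl)
  refine ⟨ι, Fin k, inferInstance, inferInstance, inferInstance, inferInstance, δ, α, l, ?_⟩
  apply hι.inj (pt B)
  rw [hι.lift_ι_apply, comp_app_apply, hl]
  apply toT_injective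
  rw [toT_map_app, toT_ofT, ht]
  simp only [β, map_sum, LinearMap.baseChange_tmul]
  have : ∀ i, gm.hom (e i) = mext i := fun i => Basis.constr_basis e A _ i
  simp only [this]
  rw [Fintype.sum_sum_type]
  simp [bb, mext]

/-- Stacks 46.3.6, elementwise: every section of an adequate functor is in the image of a map
from a linearly adequate functor. -/
theorem exists_family {F : MVF A} (hF : adequate A F) (B : Alg A) (ξ : F.obj (pt B)) :
    ∃ (P P' : ModuleCat.{u + 1} A) (_ : Module.Finite A P) (_ : Module.Free A P)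
      (_ : Module.Finite A P') (_ : Module.Free A P') (δ : P ⟶ P')
      (α : kernel ((underline A).map δ) ⟶ F) (l : (kernel ((underline A).map δ)).obj (pt B)),
      α.app (pt B) l = ξ := by
  obtain ⟨ι, κ, _, _, _, _, δ, α, l, h⟩ := exists_family_FF hF B ξ
  exact ⟨FF ι, FF κ, inferInstance, inferInstance, inferInstance, inferInstance, δ, α, l, h⟩

/-- Stacks 46.3.6. -/
theorem exists_epi_cofan {F : MVF A} (hF : adequate A F) :
    ∃ (ι : Type (u + 1)) (L : ι → MVF A), (∀ i, linAdequate A (L i)) ∧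
      ∃ (c : Cofan L) (_ : IsColimit c) (π : c.pt ⟶ F), Epi π := by
  classical
  let ι : Type (u + 1) := Σ B : Alg A, F.obj (pt B)
  choose P P' h1 h2 h3 h4 δ α l hl using fun i : ι => exists_family hF i.1 i.2
  let L : ι → MVF A := fun i => kernel ((underline A).map (δ i))
  refine ⟨ι, L, fun i => ⟨P i, P' i, δ i, h1 i, h2 i, h3 i, h4 i, ⟨Iso.refl _⟩⟩, ?_⟩
  refine ⟨Cofan.mk (∐ L) (Sigma.ι L), coproductIsCoproduct L, Sigma.desc α, ?_⟩
  apply PresheafOfModules.epi_of_surjective
  intro X x
  let i : ι := ⟨X.unop.unop, x⟩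
  refine ⟨(Sigma.ι L i).app X (l i), ?_⟩
  have : (Sigma.ι L i ≫ Sigma.desc α).app X (l i) = x := by
    rw [Sigma.ι_desc]
    exact hl i
  exact this

end

end Groth.Agent.Lib.Lead.AdeqFam
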