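import Groth.Agent.Lib.Lead.AdeqBasic
import Groth.Agent.Lib.Lead.AdeqExt
import Groth.Agent.Lib.Lead.AdeqFam
import Groth.Agent.Lib.Lead.AdeqCokerAlg

/-!
# Cokernels of maps of adequate functors are adequate (Stacks 46.3.9)
-/

universe u

open CategoryTheory Limits Opposite TensorProduct Module

namespace Groth.Agent.Lib.Lead.AdeqCoker

open Adeq Groth.Agent.Lib.Lead.AdeqBasic Groth.Agent.Lib.Lead

noncomputable section

variable {A : Type u} [CommRing A]

theorem adequate_cokernel {F G : MVF A} (φ : F ⟶ G) (hF : adequate A F) (hG : adequate A G) :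
    adequate A (cokernel φ) := by
  classical
  obtain ⟨M, N, ψ, ιG, hι⟩ := exists_isKerPt_of_adequate hG
  let I : Type (u + 1) := Σ B : Alg A, F.obj (pt B)
  choose P P' h1 h2 h3 h4 δ α l hl using fun i : I => AdeqFam.exists_family hF i.1 i.2
  have hext : ∀ i, ∃ g : P i ⟶ M,
      kernel.ι ((underline A).map (δ i)) ≫ (underline A).map g = α i ≫ φ ≫ ιG := fun i => by
    haveI := h1 i; haveI := h2 i; haveI := h3 i; haveI := h4 i
    exact AdeqExt.ext_of_finite_free (δ i) _
  choose g hg using hext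
  have hkerδ : ∀ i, IsKerPt (kernel.ι ((underline A).map (δ i))) ((underline A).map (δ i)) :=
    fun i => isKerPt_kernel _
  let δ' : ∀ i, (P i : Type (u + 1)) →ₗ[A] (P' i : Type (u + 1)) := fun i => (δ i).hom
  let g' : ∀ i, (P i : Type (u + 1)) →ₗ[A] (M : Type (u + 1)) := fun i => (g i).hom
  let M₁ : ModuleCat.{u + 1} A := ModuleCat.of A (AdeqCokerAlg.M1 δ' g')
  let N₁ : ModuleCat.{u + 1} A := ModuleCat.of A (AdeqCokerAlg.N1 δ' g' ψ.hom)
  let ψ₁ : M₁ ⟶ N₁ := ModuleCat.ofHom (AdeqCokerAlg.psi1 δ' g' ψ.hom)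
  let in₁ : M ⟶ M₁ := ModuleCat.ofHom (AdeqCokerAlg.in1 δ' g')
  let in₁' : N ⟶ N₁ := ModuleCat.ofHom (AdeqCokerAlg.in1' δ' g' ψ.hom)
  have hsq : in₁ ≫ ψ₁ = ψ ≫ in₁' :=
    ModuleCat.hom_ext (AdeqCokerAlg.psi1_comp_in1 δ' g' ψ.hom)
  let κ' : G ⟶ U M₁ := ιG ≫ (underline A).map in₁
  -- key computation: ιG ∘ φ ∘ α i on elements
  have hkey : ∀ (i : I) (B : Alg A) (li : (kernel ((underline A).map (δ i))).obj (pt B)),
      toT (ιG.app (pt B) (φ.app (pt B) ((α i).app (pt B) li))) =
        (g' i).lTensor B (toT ((kernel.ι ((underline A).map (δ i))).app (pt B) li)) := by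
    intro i B li
    have h := congrArg (fun η => toT (η.app (pt B) li)) (hg i)
    have h' : toT (((underline A).map (g i)).app (pt B)
        ((kernel.ι ((underline A).map (δ i))).app (pt B) li)) =
        toT (ιG.app (pt B) (φ.app (pt B) ((α i).app (pt B) li))) := h
    rw [← h', toT_map_app]
    rfl
  have hδ0 : ∀ (i : I) (B : Alg A) (li : (kernel ((underline A).map (δ i))).obj (pt B)),
      (δ' i).lTensor B (toT ((kernel.ι ((underline A).map (δ i))).app (pt B) li)) = 0 := by
    intro i B li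
    have h2 := congrArg toT ((hkerδ i).w_apply (pt B) li)
    rw [toT_map_app, toT_zero] at h2
    exact h2
  have hzero : φ ≫ κ' = 0 := by
    apply hom_ext_toT
    intro B x
    let i : I := ⟨B, x⟩
    have hx : (α i).app (pt B) (l i) = x := hl i
    rw [comp_app_apply, comp_app_apply, toT_map_app, ← hx, hkey i B (l i)]
    show (AdeqCokerAlg.in1 δ' g').baseChange B _ = 0
    rw [bc_eq_lTensor]
    exact AdeqCokerAlg.lTensor_in1_g_eq_zero δ' g' B i _ (hδ0 i B (l i))
  let D : cokernel φ ⟶ U M₁ := cokernel.desc φ κ' hzero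
  have hD : ∀ (X : (Alg A)ᵒᵖᵒᵖ) (y : G.obj X),
      D.app X ((cokernel.π φ).app X y) = κ'.app X y := by
    intro X y
    rw [← comp_app_apply, cokernel.π_desc]
  refine adequate_of_isKerPt ψ₁ D ⟨?_, ?_, ?_⟩
  · -- w
    rw [← cancel_epi (cokernel.π φ), comp_zero, ← Category.assoc, cokernel.π_desc]
    show (ιG ≫ (underline A).map in₁) ≫ (underline A).map ψ₁ = 0
    rw [Category.assoc, ← Functor.map_comp, hsq, Functor.map_comp, ← Category.assoc, hι.w,
      zero_comp]
  · -- inj
    intro X
    rw [injective_iff_map_eq_zero (D.app X).hom]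
    intro z hz
    obtain ⟨y, rfl⟩ := cokernel_π_surjective φ X z
    let B : Alg A := X.unop.unop
    have hz' : D.app X ((cokernel.π φ).app X y) = 0 := hz
    rw [hD] at hz'
    have h3 : (AdeqCokerAlg.in1 δ' g').lTensor B (toT (ιG.app (pt B) y)) = 0 := by
      have := congrArg toT hz'
      rw [comp_app_apply, toT_map_app] at this
      exact this
    obtain ⟨s, d, hd0, hdsum⟩ :=
      AdeqCokerAlg.exists_rep_of_lTensor_in1_eq_zero δ' g' B _ h3
    have hli : ∀ i : I, ∃ li : (kernel ((underline A).map (δ i))).obj (pt B),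
        i ∈ s → toT ((kernel.ι ((underline A).map (δ i))).app (pt B) li) = d i := by
      intro i
      by_cases hi : i ∈ s
      · obtain ⟨li, hli⟩ := (hkerδ i).surj (pt B) (ofT (d i)) (by
          apply toT_injective
          rw [toT_map_app, toT_ofT, toT_zero]
          exact hd0 i hi)
        exact ⟨li, fun _ => by rw [hli, toT_ofT]⟩
      · exact ⟨0, fun h => absurd h hi⟩
    choose li hli using hli
    have hy : y = φ.app (pt B) (∑ i ∈ s, (α i).app (pt B) (li i)) := by
      apply hι.inj (pt B)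
      apply toT_injective
      rw [app_sum, app_sum, toT_sum, hdsum]
      refine Finset.sum_congr rfl (fun i hi => ?_)
      rw [hkey i B (li i), hli i hi]
    show (cokernel.π φ).app (pt B) y = 0
    rw [hy, ← comp_app_apply, cokernel.condition]
    rfl
  · -- surj
    intro X y hy
    let B : Alg A := X.unop.unop
    have h1 : (AdeqCokerAlg.psi1 δ' g' ψ.hom).lTensor B (toT (B := B) y) = 0 := by
      have := congrArg toT hy
      rw [toT_map_app] at this
      exact this
    obtain ⟨t, ht0, hty⟩ := AdeqCokerAlg.exists_of_lTensor_psi1_eq_zero δ' g' ψ.hom B _ h1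
    obtain ⟨x, hx⟩ := hι.surj (pt B) (ofT t) (by
      apply toT_injective
      rw [toT_map_app, toT_ofT, toT_zero]
      exact ht0)
    refine ⟨(cokernel.π φ).app X x, ?_⟩
    rw [hD]
    apply toT_injective (B := B)
    rw [comp_app_apply, toT_map_app]
    have hx' : ιG.app X x = ofT t := hx
    rw [hx', toT_ofT, hty]
    rfl

end

end Groth.Agent.Lib.Lead.AdeqCoker
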