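import Groth.Agent.Lib.Lead.AdeqKer
import Mathlib.CategoryTheory.Limits.Constructions.LimitsOfProductsAndEqualizers

/-!
# Colimits of adequate functors are adequate (Stacks 46.3.11)
-/

universe u

open CategoryTheory Limits Opposite TensorProduct Module DirectSum

namespace Groth.Agent.Lib.Lead.AdeqColim

open Adeq Groth.Agent.Lib.Lead.AdeqBasic Groth.Agent.Lib.Lead

noncomputable section

section General

universe v v₁ u₁ w

variable {C : Type u₁} [Category.{v₁} C] {R : Cᵒᵖ ⥤ RingCat.{u}}

/-- Sections of a coproduct of presheaves of modules are generated by the summands. -/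
theorem sigma_mem_iSup_range {J : Type w} [HasColimitsOfShape (Discrete J) AddCommGrpCat.{v}]
    (D : J → PresheafOfModules.{v} R) (X : Cᵒᵖ) (z : (∐ D).obj X) :
    z ∈ ⨆ j, LinearMap.range ((Sigma.ι D j).app X).hom := by
  set S := ⨆ j, LinearMap.range ((Sigma.ι D j).app X).hom with hS
  have hc : IsColimit ((PresheafOfModules.evaluation.{v} R X).mapCocone
      (colimit.cocone (Discrete.functor D))) :=
    isColimitOfPreserves _ (colimit.isColimit _)
  let q : (∐ D).obj X ⟶ ModuleCat.of (R.obj X) (((∐ D).obj X) ⧸ S) := ModuleCat.ofHom S.mkQ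
  have hq : q = 0 := by
    apply hc.hom_ext
    rintro ⟨j⟩
    apply ModuleCat.hom_ext
    apply LinearMap.ext
    intro x
    show S.mkQ (((Sigma.ι D j).app X).hom x) = 0
    rw [Submodule.mkQ_apply, Submodule.Quotient.mk_eq_zero]
    exact Submodule.mem_iSup_of_mem j ⟨x, rfl⟩
  have hz : S.mkQ z = 0 := by
    have := congrArg (fun f => f.hom z) hq
    exact this
  rwa [Submodule.mkQ_apply, Submodule.Quotient.mk_eq_zero] at hz

end General

/-- Finite-sum representation of elements of a supremum of ranges. -/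
lemma exists_rep_of_mem_iSup_range {R₀ : Type*} [Ring R₀] {J : Type*} {X : J → Type*}
    [∀ j, AddCommGroup (X j)] [∀ j, Module R₀ (X j)] {Y : Type*} [AddCommGroup Y] [Module R₀ Y]
    (Λ : ∀ j, X j →ₗ[R₀] Y) (v : Y) (hv : v ∈ ⨆ j, LinearMap.range (Λ j)) :
    ∃ (s : Finset J) (d : ∀ j, X j), v = ∑ j ∈ s, Λ j (d j) := by
  classical
  induction hv using Submodule.iSup_induction' with
  | mem i x hx =>
    obtain ⟨y, rfl⟩ := hx
    refine ⟨{i}, fun j => if h : j = i then h ▸ y else 0, ?_⟩
    rw [Finset.sum_singleton]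
    simp
  | zero => exact ⟨∅, fun _ => 0, by simp⟩
  | add x y _ _ hx hy =>
    obtain ⟨s, d, rfl⟩ := hx
    obtain ⟨s', d', rfl⟩ := hy
    refine ⟨s ∪ s', fun i => (if i ∈ s then d i else 0) + (if i ∈ s' then d' i else 0), ?_⟩
    simp only [map_add, Finset.sum_add_distrib]
    congr 1
    · rw [← Finset.sum_subset Finset.subset_union_left]
      · refine Finset.sum_congr rfl (fun i hi => ?_)
        rw [if_pos hi]
      · intro i _ hi
        rw [if_neg hi, map_zero]
    · rw [← Finset.sum_subset Finset.subset_union_right]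
      · refine Finset.sum_congr rfl (fun i hi => ?_)
        rw [if_pos hi]
      · intro i _ hi
        rw [if_neg hi, map_zero]

variable {A : Type u} [CommRing A]

/-- Elements of `B ⊗ ⨁ M_j` are finite sums of elements of the `B ⊗ M_j`. -/
lemma exists_rep_tensor_directSum {J : Type*} [DecidableEq J] {Mj : J → Type*}
    [∀ j, AddCommGroup (Mj j)] [∀ j, Module A (Mj j)] (B : Type*) [AddCommGroup B] [Module A B]
    (y : B ⊗[A] (⨁ j, Mj j)) :
    ∃ (s : Finset J) (d : ∀ j, B ⊗[A] Mj j), y = ∑ j ∈ s, (DirectSum.lof A J Mj j).lTensor B (d j) := by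
  apply exists_rep_of_mem_iSup_range (fun j => (DirectSum.lof A J Mj j).lTensor B)
  induction y using TensorProduct.induction_on with
  | zero => exact Submodule.zero_mem _
  | tmul b m =>
    induction m using DirectSum.induction_on with
    | zero => rw [TensorProduct.tmul_zero]; exact Submodule.zero_mem _
    | of j x =>
      exact Submodule.mem_iSup_of_mem j ⟨b ⊗ₜ[A] x, by rw [LinearMap.lTensor_tmul]; rfl⟩
    | add x y hx hy => rw [TensorProduct.tmul_add]; exact Submodule.add_mem _ hx hy
  | add x y hx hy => exact Submodule.add_mem _ hx hy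

/-- Extract a component of a finite sum in `B ⊗ ⨁ M_j`. -/
lemma component_sum_lof {J : Type*} [DecidableEq J] {Mj : J → Type*}
    [∀ j, AddCommGroup (Mj j)] [∀ j, Module A (Mj j)] (B : Type*) [AddCommGroup B] [Module A B]
    (s : Finset J) (d : ∀ j, B ⊗[A] Mj j) (j₀ : J) (hj₀ : j₀ ∈ s) :
    (DirectSum.component A J Mj j₀).lTensor B
      (∑ j ∈ s, (DirectSum.lof A J Mj j).lTensor B (d j)) = d j₀ := by
  rw [map_sum]
  have e4 : ∀ j ∈ s, (DirectSum.component A J Mj j₀).lTensor B
      ((DirectSum.lof A J Mj j).lTensor B (d j)) = if j = j₀ then d j₀ else 0 := by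
    intro j _
    rw [← LinearMap.lTensor_comp_apply, DirectSum.component_comp_lof]
    by_cases h : j = j₀
    · subst h
      simp
    · rw [dif_neg h, if_neg h, LinearMap.lTensor_zero, LinearMap.zero_apply]
  rw [Finset.sum_congr rfl e4, Finset.sum_ite_eq' s j₀, if_pos hj₀]

theorem adequate_sigma {J : Type (u + 1)} (D : J → MVF A) (hD : ∀ j, adequate A (D j)) :
    adequate A (∐ D) := by
  classical
  choose M N ψ ι hι using fun j => exists_isKerPt_of_adequate (hD j)
  let Msum : ModuleCat.{u + 1} A := ModuleCat.of A (⨁ j, M j)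
  let Nsum : ModuleCat.{u + 1} A := ModuleCat.of A (⨁ j, N j)
  let Ψ : Msum ⟶ Nsum := ModuleCat.ofHom (DirectSum.lmap (fun j => (ψ j).hom))
  let lofM : ∀ j, M j ⟶ Msum := fun j => ModuleCat.ofHom (DirectSum.lof A J (fun j => M j) j)
  let lofN : ∀ j, N j ⟶ Nsum := fun j => ModuleCat.ofHom (DirectSum.lof A J (fun j => N j) j)
  have hsq : ∀ j, lofM j ≫ Ψ = ψ j ≫ lofN j := by
    intro j
    apply ModuleCat.hom_ext
    apply LinearMap.ext
    intro x
    exact DirectSum.lmap_lof (R := A) (M := fun j => (M j : Type (u + 1))) (N := fun j => (N j : Type (u + 1))) (fun j => (ψ j).hom) j x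
  let ιS : ∐ D ⟶ U Msum := Sigma.desc (fun j => ι j ≫ (underline A).map (lofM j))
  have hιS : ∀ (j : J) (X : (Alg A)ᵒᵖᵒᵖ) (x : (D j).obj X),
      toT (B := X.unop.unop) (ιS.app X ((Sigma.ι D j).app X x)) =
        (DirectSum.lof A J (fun j => (M j : Type (u + 1))) j).lTensor X.unop.unop
          (toT (B := X.unop.unop) ((ι j).app X x)) := by
    intro j X x
    rw [← comp_app_apply, Sigma.ι_desc]
    rfl
  refine adequate_of_isKerPt Ψ ιS ⟨?_, ?_, ?_⟩
  · apply Sigma.hom_ext
    intro j
    rw [comp_zero, ← Category.assoc, Sigma.ι_desc, Category.assoc, ← Functor.map_comp, hsq,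
      Functor.map_comp, ← Category.assoc, (hι j).w, zero_comp]
  · intro X
    rw [injective_iff_map_eq_zero (ιS.app X).hom]
    intro z hz
    let B : Alg A := X.unop.unop
    obtain ⟨s, x, rfl⟩ := exists_rep_of_mem_iSup_range
      (fun j => ((Sigma.ι D j).app X).hom) z (sigma_mem_iSup_range D X z)
    have hz' : toT (B := B) (ιS.app X (∑ j ∈ s, (Sigma.ι D j).app X (x j))) = 0 :=
      congrArg (toT (B := B)) hz
    rw [app_sum (B := B), toT_sum] at hz'
    rw [Finset.sum_congr rfl (fun j _ => hιS j X (x j))] at hz'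
    refine Finset.sum_eq_zero (fun j₀ hj₀ => ?_)
    have h1 := component_sum_lof (A := A) B s
      (fun j => toT (B := B) ((ι j).app X (x j))) j₀ hj₀
    rw [hz', map_zero] at h1
    have h2 : x j₀ = 0 := by
      apply (hι j₀).inj X
      apply toT_injective (B := B)
      rw [← h1, map_zero]
      rfl
    show (Sigma.ι D j₀).app X (x j₀) = 0
    rw [h2, map_zero]
  · intro X y hy
    let B : Alg A := X.unop.unop
    have hy' : (DirectSum.lmap (fun j => (ψ j).hom)).lTensor B (toT (B := B) y) = 0 := by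
      have := congrArg (toT (B := B)) hy
      rw [toT_map_app] at this
      exact this
    obtain ⟨s, d, hd⟩ := exists_rep_tensor_directSum (A := A) B (toT (B := B) y)
    have hψd : ∀ j ∈ s, (ψ j).hom.lTensor B (d j) = 0 := by
      intro j₀ hj₀
      rw [hd, map_sum] at hy'
      have e : ∀ j ∈ s, (DirectSum.lmap (fun j => (ψ j).hom)).lTensor B
          ((DirectSum.lof A J (fun j => (M j : Type (u + 1))) j).lTensor B (d j)) =
          (DirectSum.lof A J (fun j => (N j : Type (u + 1))) j).lTensor B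
            ((ψ j).hom.lTensor B (d j)) := by
        intro j _
        rw [← LinearMap.lTensor_comp_apply, ← LinearMap.lTensor_comp_apply]
        congr 2
        apply LinearMap.ext
        intro x
        exact DirectSum.lmap_lof (R := A) (M := fun j => (M j : Type (u + 1))) (N := fun j => (N j : Type (u + 1))) (fun j => (ψ j).hom) j x
      rw [Finset.sum_congr rfl e] at hy'
      have h1 := component_sum_lof (A := A) B s (fun j => (ψ j).hom.lTensor B (d j)) j₀ hj₀
      rw [hy', map_zero] at h1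
      exact h1.symm
    have hx : ∀ j, ∃ xj : (D j).obj X, j ∈ s → toT (B := B) ((ι j).app X xj) = d j := by
      intro j
      by_cases hj : j ∈ s
      · obtain ⟨xj, hxj⟩ := (hι j).surj X (ofT (B := B) (d j)) (by
          apply toT_injective (B := B)
          rw [toT_map_app, toT_ofT, toT_zero]
          exact hψd j hj)
        exact ⟨xj, fun _ => by rw [hxj, toT_ofT]⟩
      · exact ⟨0, fun h => absurd h hj⟩
    choose x hx using hx
    refine ⟨∑ j ∈ s, (Sigma.ι D j).app X (x j), ?_⟩
    apply toT_injective (B := B)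
    rw [app_sum (B := B), toT_sum, hd]
    refine Finset.sum_congr rfl (fun j hj => ?_)
    rw [hιS, hx j hj]

theorem adequate_colimit {J : Type (u + 1)} [SmallCategory J] (D : J ⥤ MVF A)
    (hD : ∀ j, adequate A (D.obj j)) : adequate A (colimit D) := by
  let T₁ : (Sigma (fun p : J × J => p.1 ⟶ p.2)) → MVF A := fun f => D.obj f.1.1
  let c₁ : Cofan T₁ := Cofan.mk (∐ T₁) (Sigma.ι T₁)
  let c₂ : Cofan D.obj := Cofan.mk (∐ D.obj) (Sigma.ι D.obj)
  let s : c₁.pt ⟶ c₂.pt := Sigma.desc (fun f => D.map f.2 ≫ Sigma.ι D.obj f.1.2)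
  let t : c₁.pt ⟶ c₂.pt := Sigma.desc (fun f => Sigma.ι D.obj f.1.1)
  have hs : ∀ f : Sigma (fun p : J × J => p.1 ⟶ p.2),
      c₁.ι.app ⟨f⟩ ≫ s = D.map f.2 ≫ c₂.ι.app ⟨f.1.2⟩ := fun f => by
    show Sigma.ι T₁ f ≫ Sigma.desc _ = _
    rw [Sigma.ι_desc]
    rfl
  have ht : ∀ f : Sigma (fun p : J × J => p.1 ⟶ p.2), c₁.ι.app ⟨f⟩ ≫ t = c₂.ι.app ⟨f.1.1⟩ := fun f => by
    show Sigma.ι T₁ f ≫ Sigma.desc _ = _
    rw [Sigma.ι_desc]
    rfl
  let ck : CokernelCofork (s - t) := CokernelCofork.ofπ (cokernel.π (s - t)) (cokernel.condition _)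
  have hck : IsColimit ck := cokernelIsCokernel (s - t)
  let i : Cofork s t := Preadditive.coforkOfCokernelCofork ck
  have hi : IsColimit i := Preadditive.isColimitCoforkOfCokernelCofork hck
  have hcol := HasColimitOfHasCoproductsOfHasCoequalizers.buildIsColimit s t hs ht
    (coproductIsCoproduct T₁) (coproductIsCoproduct D.obj) hi
  let e : colimit D ≅ cokernel (s - t) :=
    IsColimit.coconePointUniqueUpToIso (colimit.isColimit D) hcol
  have hcok : adequate A (cokernel (s - t)) :=
    AdeqCoker.adequate_cokernel (s - t) (adequate_sigma T₁ (fun f => hD f.1.1))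
      (adequate_sigma D.obj hD)
  exact (adequate A).prop_of_iso e.symm hcok

end

end Groth.Agent.Lib.Lead.AdeqColim
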