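import Groth.Agent.Lib.Lead.AdeqColim
import Mathlib.CategoryTheory.Adjunction.Comma

/-!
# The coreflector onto adequate functors (Stacks 46.4.1)
-/

universe u

open CategoryTheory Limits Opposite

namespace Groth.Agent.Lib.Lead.AdeqCorefl

open Adeq Groth.Agent.Lib.Lead.AdeqBasic Groth.Agent.Lib.Lead

noncomputable section

variable {A : Type u} [CommRing A]

/-- A small set of indices for the standard linearly adequate functors. -/
structure Idx (A : Type u) [CommRing A] : Type (u + 1) where
  ι : Type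
  κ : Type
  [fι : Fintype ι]
  [dι : DecidableEq ι]
  [fκ : Fintype κ]
  [dκ : DecidableEq κ]
  δ : AdeqFam.FF (A := A) ι ⟶ AdeqFam.FF (A := A) κ

attribute [instance] Idx.fι Idx.dι Idx.fκ Idx.dκ

/-- The standard linearly adequate functors. -/
def Lf (i : Idx A) : MVF A := kernel ((underline A).map i.δ)

lemma adequate_Lf (i : Idx A) : adequate A (Lf i) := ⟨_, _, i.δ, ⟨Iso.refl _⟩⟩

lemma exists_idx {F : MVF A} (hF : adequate A F) (B : Alg A) (ξ : F.obj (pt B)) :
    ∃ (i : Idx A) (α : Lf i ⟶ F) (l : (Lf i).obj (pt B)), α.app (pt B) l = ξ := by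
  obtain ⟨ι, κ, _, _, _, _, δ, α, l, h⟩ := AdeqFam.exists_family_FF hF B ξ
  exact ⟨⟨ι, κ, δ⟩, α, l, h⟩

/-- Index set of the canonical cover of `F`. -/
abbrev PIdx (F : MVF A) : Type (u + 1) := Σ i : Idx A, (Lf i ⟶ F)

/-- The family of the canonical cover. -/
abbrev PFam (F : MVF A) : PIdx F → MVF A := fun p => Lf p.1

/-- The canonical cover of `F` by standard linearly adequate functors. -/
abbrev Pf (F : MVF A) : MVF A := ∐ (PFam F)

/-- The canonical map `Pf F ⟶ F`. -/
def eps (F : MVF A) : Pf F ⟶ F := Sigma.desc (fun p : PIdx F => p.2)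

lemma adequate_Pf (F : MVF A) : adequate A (Pf F) :=
  AdeqColim.adequate_sigma _ (fun p => adequate_Lf p.1)

/-- Functoriality of the canonical cover. -/
def Pmap {F G : MVF A} (g : F ⟶ G) : Pf F ⟶ Pf G :=
  Sigma.desc (fun p : PIdx F => Sigma.ι (PFam G) (⟨p.1, p.2 ≫ g⟩ : PIdx G))

lemma Pmap_eps {F G : MVF A} (g : F ⟶ G) : Pmap g ≫ eps G = eps F ≫ g := by
  apply Sigma.hom_ext
  intro p
  unfold Pmap eps
  rw [Sigma.ι_desc_assoc, Sigma.ι_desc_assoc, Sigma.ι_desc]

lemma epi_eps {F : MVF A} (hF : adequate A F) : Epi (eps F) := by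
  apply PresheafOfModules.epi_of_surjective
  intro X x
  obtain ⟨i, α, l, h⟩ := exists_idx hF X.unop.unop x
  refine ⟨(Sigma.ι (PFam F) (⟨i, α⟩ : PIdx F)).app X l, ?_⟩
  have : (Sigma.ι (PFam F) (⟨i, α⟩ : PIdx F) ≫ eps F).app X l = x := by
    unfold eps
    rw [Sigma.ι_desc]
    exact h
  exact this

/-- The kernel of the canonical cover. -/
abbrev Kf (F : MVF A) : MVF A := kernel (eps F)

/-- The relations. -/
def dF (F : MVF A) : Pf (Kf F) ⟶ Pf F := eps (Kf F) ≫ kernel.ι (eps F)

lemma dF_eps (F : MVF A) : dF F ≫ eps F = 0 := by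
  unfold dF
  rw [Category.assoc, kernel.condition, comp_zero]

/-- The coreflection. -/
def Qf (F : MVF A) : MVF A := cokernel (dF F)

/-- The counit. -/
def qF (F : MVF A) : Qf F ⟶ F := cokernel.desc (dF F) (eps F) (dF_eps F)

/-- The projection `Pf F ⟶ Qf F`. -/
def piF (F : MVF A) : Pf F ⟶ Qf F := cokernel.π (dF F)

instance (F : MVF A) : Epi (piF F) := by
  unfold piF
  exact coequalizer.π_epi

lemma piF_qF (F : MVF A) : piF F ≫ qF F = eps F := cokernel.π_desc _ _ _

lemma dF_piF (F : MVF A) : dF F ≫ piF F = 0 := cokernel.condition _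

lemma adequate_Qf (F : MVF A) : adequate A (Qf F) :=
  AdeqCoker.adequate_cokernel _ (adequate_Pf _) (adequate_Pf _)

/-- Morphisms from adequate functors into `Pf F` killed by `eps F` die in `Qf F`. -/
lemma comp_piF_eq_zero {F G : MVF A} (hG : adequate A G) (k : G ⟶ Pf F) (hk : k ≫ eps F = 0) :
    k ≫ piF F = 0 := by
  haveI := epi_eps hG
  let k' : G ⟶ Kf F := kernel.lift (eps F) k hk
  have hk' : k' ≫ kernel.ι (eps F) = k := kernel.lift_ι _ _ _
  rw [← cancel_epi (eps G), comp_zero, ← hk', ← Category.assoc, ← Category.assoc, ← Pmap_eps,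
    Category.assoc, Category.assoc]
  have : eps (Kf F) ≫ kernel.ι (eps F) ≫ piF F = 0 := by
    rw [← Category.assoc]
    exact dF_piF F
  rw [this, comp_zero]

/-- The lift of a morphism from an adequate functor through the coreflection. -/
def lift {F G : MVF A} (hG : adequate A G) (g : G ⟶ F) : G ⟶ Qf F :=
  haveI := epi_eps hG
  Abelian.epiDesc (eps G) (Pmap g ≫ piF F) (by
    rw [← Category.assoc]
    apply comp_piF_eq_zero (AdeqKer.adequate_kernel _ (adequate_Pf G) hG)
    rw [Category.assoc, Pmap_eps, ← Category.assoc, kernel.condition, zero_comp])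

lemma eps_lift {F G : MVF A} (hG : adequate A G) (g : G ⟶ F) :
    eps G ≫ lift hG g = Pmap g ≫ piF F := by
  haveI := epi_eps hG
  exact Abelian.comp_epiDesc _ _ _

lemma lift_qF {F G : MVF A} (hG : adequate A G) (g : G ⟶ F) : lift hG g ≫ qF F = g := by
  haveI := epi_eps hG
  rw [← cancel_epi (eps G), ← Category.assoc, eps_lift, Category.assoc, piF_qF, Pmap_eps]

/-- Binary biproducts of adequate functors are adequate. -/
lemma adequate_biprod {G H : MVF A} (hG : adequate A G) (hH : adequate A H) :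
    adequate A (G ⊞ H) := by
  let e : Discrete (ULift.{u + 1} WalkingPair) ≌ Discrete WalkingPair :=
    Discrete.equivalence Equiv.ulift
  have h1 : adequate A (colimit (e.functor ⋙ pair G H)) := by
    apply AdeqColim.adequate_colimit
    rintro ⟨⟨j⟩⟩
    cases j
    · exact hG
    · exact hH
  let i1 : colimit (e.functor ⋙ pair G H) ≅ colimit (pair G H) :=
    HasColimit.isoOfEquivalence e (Iso.refl _)
  let i2 : G ⊞ H ≅ G ⨿ H := biprod.isoCoprod G H
  exact (adequate A).prop_of_iso (i1 ≪≫ i2.symm) h1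

/-- Pullbacks of adequate functors are adequate. -/
lemma adequate_pullback {G H K : MVF A} (f : G ⟶ K) (g : H ⟶ K) (hG : adequate A G)
    (hH : adequate A H) (hK : adequate A K) : adequate A (pullback f g) := by
  have h1 : adequate A (kernel (biprod.desc f (-g))) :=
    AdeqKer.adequate_kernel _ (adequate_biprod hG hH) hK
  let i : pullback f g ≅ kernel (biprod.desc f (-g)) :=
    IsLimit.conePointUniqueUpToIso
      (Abelian.PullbackToBiproductIsKernel.isLimitPullbackToBiproduct f g)
      (limit.isLimit _)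
  exact (adequate A).prop_of_iso i.symm h1

/-- Uniqueness of lifts. -/
lemma eq_zero_of_comp_qF {F G : MVF A} (hG : adequate A G) (h : G ⟶ Qf F)
    (hh : h ≫ qF F = 0) : h = 0 := by
  have hpb : adequate A (pullback h (piF F)) :=
    adequate_pullback h (piF F) hG (adequate_Pf F) (adequate_Qf F)
  haveI : Epi (pullback.fst h (piF F)) := Abelian.epi_pullback_of_epi_g h (piF F)
  have h1 : pullback.snd h (piF F) ≫ eps F = 0 := by
    rw [← piF_qF, ← Category.assoc, ← pullback.condition, Category.assoc, hh, comp_zero]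
  have h2 := comp_piF_eq_zero hpb _ h1
  rw [← pullback.condition] at h2
  rw [← cancel_epi (pullback.fst h (piF F)), h2, comp_zero]

lemma lift_unique {F G : MVF A} (hG : adequate A G) (g : G ⟶ F) (h : G ⟶ Qf F)
    (hh : h ≫ qF F = g) : h = lift hG g := by
  rw [← sub_eq_zero]
  apply eq_zero_of_comp_qF hG
  rw [Preadditive.sub_comp, hh, lift_qF, sub_self]

theorem isLeftAdjoint_ι : (adequate A).ι.IsLeftAdjoint := by
  haveI : ∀ F : MVF A, HasTerminal (CostructuredArrow (adequate A).ι F) := by
    intro F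
    let T : CostructuredArrow (adequate A).ι F :=
      CostructuredArrow.mk (Y := (⟨Qf F, adequate_Qf F⟩ : Adequate A)) (qF F)
    have hT : IsTerminal T := by
      refine IsTerminal.ofUniqueHom
        (fun Y => CostructuredArrow.homMk (ObjectProperty.homMk (lift Y.left.2 Y.hom))
          (lift_qF Y.left.2 Y.hom)) ?_
      intro Y m
      apply CostructuredArrow.hom_ext
      apply ObjectProperty.hom_ext
      exact lift_unique Y.left.2 Y.hom m.left.hom (CostructuredArrow.w m)
    exact hT.hasTerminal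
  exact isLeftAdjoint_of_costructuredArrowTerminals _

end

end Groth.Agent.Lib.Lead.AdeqCorefl
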