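import Groth.Agent.Lib.Lead.AdeqPush

/-!
# Adequacy descends along `A → A'` given the equalizer condition (Stacks 46.3.19-ish)
-/

universe u

open CategoryTheory Limits Opposite TensorProduct

namespace Groth.Agent.Lib.Lead.AdeqDescent

open Adeq Groth.Agent.Lib.Lead.AdeqBasic Groth.Agent.Lib.Lead.AdeqRestr
  Groth.Agent.Lib.Lead.AdeqPush

noncomputable section

variable {A : Type u} [CommRing A] (A' : Type u) [CommRing A'] [Algebra A A']

lemma unit_naturality {B D : Alg A} (f : B ⟶ D) :
    f ≫ Alg.unit A A' D =
      Alg.unit A A' B ≫ (Alg.restr A A').map ((Alg.baseChange A A').map f) := by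
  apply CommAlgCat.hom_ext
  apply DFunLike.ext
  intro b
  show (1 : A') ⊗ₜ[A] f.hom b = Algebra.TensorProduct.map (AlgHom.id A' A') f.hom ((1 : A') ⊗ₜ[A] b)
  rw [Algebra.TensorProduct.map_tmul]
  rfl

/-- The functor `F ↦ (B ↦ F(A' ⊗ B))`. -/
abbrev T (F : MVF A) : MVF A := (push A A').obj ((restr A A').obj F)

/-- The unit `F ⟶ T F`, with components `F(B) → F(A' ⊗ B)`. -/
def eta (F : MVF A) : F ⟶ T A' F where
  app X := show F.obj X ⟶ (T A' F).obj X from F.map (ptHom (Alg.unit A A' X.unop.unop))
  naturality {X Y} f := by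
    apply ModuleCat.hom_ext
    apply LinearMap.ext
    intro x
    show F.map (ptHom (Alg.unit A A' Y.unop.unop)) (F.map (ptHom f.unop.unop) x) =
      F.map (ptHom ((Alg.restr A A').map ((Alg.baseChange A A').map f.unop.unop)))
        (F.map (ptHom (Alg.unit A A' X.unop.unop)) x)
    have e : ptHom f.unop.unop ≫ ptHom (Alg.unit A A' Y.unop.unop) =
        ptHom (Alg.unit A A' X.unop.unop) ≫
          ptHom ((Alg.restr A A').map ((Alg.baseChange A A').map f.unop.unop)) :=
      congrArg ptHom (unit_naturality A' f.unop.unop)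
    rw [← F.map_comp_apply, ← F.map_comp_apply, F.congr_map_apply e]

lemma eta_app_apply (F : MVF A) (B : Alg A) (x : F.obj (pt B)) :
    (eta A' F).app (pt B) x = F.map (ptHom (Alg.unit A A' B)) x := rfl

theorem adequate_of_restr_adequate_of_exact
    (F : MVF A) (h₁ : adequate A' ((restr A A').obj F))
    (h₂ : ∀ B : Alg A, Function.Injective (F.map (ptHom (Alg.unit A A' B))) ∧
      ∀ y : F.obj (pt ((Alg.restr A A').obj ((Alg.baseChange A A').obj B))),
        F.map (ptHom (Alg.unit A A' ((Alg.restr A A').obj ((Alg.baseChange A A').obj B)))) y =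
          F.map (ptHom ((Alg.restr A A').map ((Alg.baseChange A A').map (Alg.unit A A' B)))) y →
        y ∈ Set.range (F.map (ptHom (Alg.unit A A' B)))) :
    adequate A F := by
  have hT : adequate A (T A' F) := adequate_push A' _ h₁
  have hTT : adequate A (T A' (T A' F)) := adequate_push A' _ (adequate_restr A' _ hT)
  let g : T A' F ⟶ T A' (T A' F) :=
    eta A' (T A' F) - (push A A').map ((restr A A').map (eta A' F))
  have hg : ∀ (B : Alg A) (y : (T A' F).obj (pt B)),
      g.app (pt B) y =
        tr F ((Alg.restr A A').map ((Alg.baseChange A A').map (Alg.unit A A' B))) y -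
        tr F (Alg.unit A A' ((Alg.restr A A').obj ((Alg.baseChange A A').obj B))) y :=
    fun B y => rfl
  have hker : IsKerPt (eta A' F) g := by
    refine ⟨?_, ?_, ?_⟩
    · apply PresheafOfModules.hom_ext
      intro X
      apply ModuleCat.hom_ext
      apply LinearMap.ext
      intro x
      let B : Alg A := X.unop.unop
      have e : ptHom (Alg.unit A A' B) ≫
          ptHom (Alg.unit A A' ((Alg.restr A A').obj ((Alg.baseChange A A').obj B))) =
          ptHom (Alg.unit A A' B) ≫
            ptHom ((Alg.restr A A').map ((Alg.baseChange A A').map (Alg.unit A A' B))) :=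
        congrArg ptHom (unit_naturality A' (Alg.unit A A' B))
      have key : tr F ((Alg.restr A A').map ((Alg.baseChange A A').map (Alg.unit A A' B)))
            (tr F (Alg.unit A A' B) x) =
          tr F (Alg.unit A A' ((Alg.restr A A').obj ((Alg.baseChange A A').obj B)))
            (tr F (Alg.unit A A' B) x) := by
        unfold tr
        rw [← F.map_comp_apply, ← F.map_comp_apply, F.congr_map_apply e]
      exact (hg B _).trans (sub_eq_zero.mpr key)
    · intro X
      exact (h₂ X.unop.unop).1
    · intro X y hy
      let B : Alg A := X.unop.unop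
      let y' : F.obj (pt ((Alg.restr A A').obj ((Alg.baseChange A A').obj B))) := y
      have hy' : tr F ((Alg.restr A A').map ((Alg.baseChange A A').map (Alg.unit A A' B))) y' -
          tr F (Alg.unit A A' ((Alg.restr A A').obj ((Alg.baseChange A A').obj B))) y' = 0 :=
        (hg B y).symm.trans hy
      have hy'' := sub_eq_zero.mp hy'
      obtain ⟨x, hx⟩ := (h₂ B).2 y' hy''.symm
      exact ⟨x, hx⟩
  exact (adequate A).prop_of_iso hker.iso.symm (AdeqKer.adequate_kernel g hT hTT)

end

end Groth.Agent.Lib.Lead.AdeqDescent
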