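import Mathlib.RingTheory.Flat.FaithfullyFlat.Basic
import Mathlib.RingTheory.Flat.FaithfullyFlat.Algebra

/-!
# A faithfully flat descent lemma for exactness
-/

set_option autoImplicit false

universe v u

open TensorProduct

namespace Groth.Agent.Lib.Lead.DescentCore

variable {R : Type u} [CommRing R] {B : Type u} [CommRing B] [Algebra R B]
  [Module.FaithfullyFlat R B]
  {N₀ N₁ : Type v} [AddCommGroup N₀] [Module R N₀] [AddCommGroup N₁] [Module R N₁]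
  {N₀' N₁' : Type v} [AddCommGroup N₀'] [AddCommGroup N₁']

theorem descent_core (δ : N₀ →ₗ[R] N₁) (δ' : N₀' →+ N₁')
    (Θ₀ : B ⊗[R] N₀ →+ N₀') (Θ₁ : B ⊗[R] N₁ →+ N₁')
    (h₀ : Function.Surjective Θ₀) (h₁ : Function.Injective Θ₁)
    (hcomm : ∀ z, δ' (Θ₀ z) = Θ₁ (δ.lTensor B z))
    (x : N₁) (hx : ∃ y', δ' y' = Θ₁ ((1 : B) ⊗ₜ[R] x)) : ∃ y, δ y = x := by
  obtain ⟨y', hy'⟩ := hx
  obtain ⟨z, rfl⟩ := h₀ y'
  rw [hcomm] at hy'
  have hz : δ.lTensor B z = (1 : B) ⊗ₜ[R] x := h₁ hy'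
  let q : N₁ →ₗ[R] N₁ ⧸ LinearMap.range δ := (LinearMap.range δ).mkQ
  have hqδ : q ∘ₗ δ = 0 := by
    apply LinearMap.ext
    intro n
    show (LinearMap.range δ).mkQ (δ n) = 0
    rw [Submodule.mkQ_apply, Submodule.Quotient.mk_eq_zero]
    exact ⟨n, rfl⟩
  have h2 : q.lTensor B ((1 : B) ⊗ₜ[R] x) = 0 := by
    rw [← hz, ← LinearMap.comp_apply, ← LinearMap.lTensor_comp, hqδ, LinearMap.lTensor_zero,
      LinearMap.zero_apply]
  rw [LinearMap.lTensor_tmul] at h2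
  have h3 : q x = 0 :=
    (Module.FaithfullyFlat.one_tmul_eq_zero_iff R (N₁ ⧸ LinearMap.range δ) (A := B) (q x)).mp h2
  have h4 : x ∈ LinearMap.range δ := by
    rw [← Submodule.Quotient.mk_eq_zero]
    exact h3
  exact h4

end Groth.Agent.Lib.Lead.DescentCore
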