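import Groth.Agent.Lib.Lead.AdeqFBC
import Groth.Agent.Lib.Lead.DescentCore

/-!
# Faithfully flat descent of exactness for adequate functors
-/

universe u

open CategoryTheory Limits Opposite TensorProduct

namespace Groth.Agent.Lib.Lead.AdeqDescentMVF

open Adeq Groth.Agent.Lib.Lead.AdeqBasic Groth.Agent.Lib.Lead.AdeqFlat
  Groth.Agent.Lib.Lead.AdeqFBC

noncomputable section

variable {A : Type u} [CommRing A] (F : MVF A)

lemma tr_comp {T T' T'' : Alg A} (f : T ⟶ T') (g : T' ⟶ T'') (x : F.obj (pt T)) :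
    tr F (f ≫ g) x = tr F g (tr F f x) := by
  unfold tr
  have h : ptHom (f ≫ g) = ptHom f ≫ ptHom g := rfl
  rw [h, F.map_comp]
  rfl

lemma tr_zero {T T' : Alg A} (f : T ⟶ T') : tr F f (0 : F.obj (pt T)) = 0 := by
  unfold tr; exact map_zero _

/-- `tr` as an additive map. -/
def trHom {T T' : Alg A} (f : T ⟶ T') : F.obj (pt T) →+ F.obj (pt T') where
  toFun := tr F f
  map_zero' := tr_zero F f
  map_add' := tr_add F f

variable (B : Type u) [CommRing B] [Algebra A B]

/-- `φ ⊗ id`. -/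
abbrev tmap {T T' : Alg A} (φ : T ⟶ T') : TB T B ⟶ TB T' B :=
  CommAlgCat.ofHom (Algebra.TensorProduct.map φ.hom (AlgHom.id A B))

lemma il_tmap {T T' : Alg A} (φ : T ⟶ T') : il T B ≫ tmap B φ = φ ≫ il T' B := by
  apply CommAlgCat.hom_ext
  exact Algebra.TensorProduct.map_comp_includeLeft _ _

/-- `tr F φ` is `A`-linear. -/
def trLin {T T' : Alg A} (φ : T ⟶ T') :
    letI := modA F T
    letI := modA F T'
    (F.obj (pt T) : Type (u + 1)) →ₗ[A] (F.obj (pt T') : Type (u + 1)) :=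
  letI := modA F T
  letI := modA F T'
  { toFun := tr F φ
    map_add' := tr_add F φ
    map_smul' := fun a n => by
      show tr F φ (algebraMap A T a • n) = algebraMap A T' a • tr F φ n
      rw [tr_smul, AlgHom.commutes] }

variable {m : ℕ} (c : Fin m → ℤ) {T₀ T₁ : Alg A} (φ : Fin m → (T₀ ⟶ T₁))

/-- `δ = Σ c_k F(φ_k)`. -/
def delta : letI := modA F T₀
    letI := modA F T₁
    (F.obj (pt T₀) : Type (u + 1)) →ₗ[A] (F.obj (pt T₁) : Type (u + 1)) :=
  letI := modA F T₀
  letI := modA F T₁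
  ∑ k, c k • trLin F (φ k)

lemma delta_apply (n : F.obj (pt T₀)) : delta F c φ n = ∑ k, c k • tr F (φ k) n := by
  letI := modA F T₀
  letI := modA F T₁
  unfold delta
  rw [LinearMap.sum_apply]
  rfl

/-- `δ' = Σ c_k F(φ_k ⊗ id)`. -/
def delta' : F.obj (pt (TB T₀ B)) →+ F.obj (pt (TB T₁ B)) :=
  ∑ k, c k • trHom F (tmap B (φ k))

lemma delta'_apply (n : F.obj (pt (TB T₀ B))) :
    delta' F B c φ n = ∑ k, c k • tr F (tmap B (φ k)) n := by
  unfold delta'
  rw [AddMonoidHom.finset_sum_apply]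
  rfl

lemma hcomm (z : letI := modA F T₀; B ⊗[A] (F.obj (pt T₀) : Type (u + 1))) :
    letI := modA F T₀
    letI := modA F T₁
    delta' F B c φ (Theta F T₀ B z) = Theta F T₁ B ((delta F c φ).lTensor B z) := by
  letI := modA F T₀
  letI := modA F T₁
  induction z using TensorProduct.induction_on with
  | zero => rw [map_zero, map_zero, map_zero, map_zero]
  | tmul b n =>
    rw [LinearMap.lTensor_tmul, Theta_tmul, Theta_tmul, delta'_apply, delta_apply]
    have hs : tr F (il T₁ B) (∑ k, c k • tr F (φ k) n) =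
        ∑ k, c k • tr F (il T₁ B) (tr F (φ k) n) := by
      show trHom F (il T₁ B) (∑ k, c k • tr F (φ k) n) = _
      rw [map_sum]
      refine Finset.sum_congr rfl fun k _ => ?_
      rw [map_zsmul]
      rfl
    rw [hs, Finset.smul_sum]
    refine Finset.sum_congr rfl fun k _ => ?_
    rw [smul_comm]
    congr 1
    show tr F (tmap B (φ k)) ((((1 : T₀) ⊗ₜ[A] b : (T₀ : Type u) ⊗[A] B)) • tr F (il T₀ B) n) =
      (((1 : T₁) ⊗ₜ[A] b : (T₁ : Type u) ⊗[A] B)) • tr F (il T₁ B) (tr F (φ k) n)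
    rw [tr_smul, ← tr_comp, ← tr_comp, il_tmap]
    congr 1
    show Algebra.TensorProduct.map (φ k).hom (AlgHom.id A B) ((1 : T₀) ⊗ₜ[A] b) = _
    rw [Algebra.TensorProduct.map_tmul, map_one]
    rfl
  | add x y hx hy => rw [map_add, map_add, map_add, map_add, hx, hy]

theorem descent [Module.FaithfullyFlat A B] (hF : adequate A F) (x : F.obj (pt T₁))
    (hx : ∃ y', delta' F B c φ y' = tr F (il T₁ B) x) : ∃ y, delta F c φ y = x := by
  letI := modA F T₀
  letI := modA F T₁
  refine DescentCore.descent_core (R := A) (B := B) (delta F c φ) (delta' F B c φ)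
    (Theta F T₀ B) (Theta F T₁ B) (Theta_bijective F T₀ B hF).2 (Theta_bijective F T₁ B hF).1
    (hcomm F B c φ) x ?_
  obtain ⟨y', hy'⟩ := hx
  refine ⟨y', ?_⟩
  rw [hy', Theta_tmul]
  have h1 : (((1 : T₁) ⊗ₜ[A] (1 : B) : (T₁ : Type u) ⊗[A] B)) = 1 := rfl
  rw [h1, one_smul]

end

end Groth.Agent.Lib.Lead.AdeqDescentMVF
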