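import Groth.Agent.Lib.Lead.AdeqSplit
import Groth.Agent.Lib.Lead.AdeqCorefl

/-!
# Extensions of adequate functors are adequate (Stacks 46.3.16)
-/

universe u

open CategoryTheory Limits Opposite

namespace Groth.Agent.Lib.Lead.AdeqExtn

open Adeq Groth.Agent.Lib.Lead.AdeqBasic Groth.Agent.Lib.Lead.AdeqCoeff
  Groth.Agent.Lib.Lead.AdeqSplit Groth.Agent.Lib.Lead.AdeqCorefl Groth.Agent.Lib.Lead

noncomputable section

variable {A : Type u} [CommRing A]

theorem adequate_of_shortExact (S : ShortComplex (MVF A)) (hS : S.ShortExact)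
    (h₁ : adequate A S.X₁) (h₃ : adequate A S.X₃) : adequate A S.X₂ := by
  haveI := hS.mono_f
  haveI := hS.epi_g
  have hk : IsKerPt S.f S.g := isKerPt_of_isLimit S.f S.g S.zero hS.fIsKernel
  have hsurj : ∀ X, Function.Surjective (S.g.app X) :=
    fun X => PresheafOfModules.surjective_of_epi S.g X
  have hH := bc_bijective_of_adequate h₃
  have hG : ∀ ⦃B B' : Alg A⦄ (f : B ⟶ B'), f.hom.toRingHom.Flat →
      Function.Bijective (S.X₂.bc f) := fun B B' f hf =>
    bc_bijective_of_isKerPt hk hsurj f hf (bc_bijective_of_adequate h₁ f hf) (hH f hf)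
  -- lifts of the canonical cover of `S.X₃`
  have hσ : ∀ p : PIdx S.X₃, ∃ σ : Lf p.1 ⟶ S.X₂, σ ≫ S.g = p.2 := fun p =>
    exists_lift ((AdeqFam.bFF p.1.ι).reindex (Fintype.equivFin p.1.ι))
      ((AdeqFam.bFF p.1.κ).reindex (Fintype.equivFin p.1.κ)) p.1.δ S.g hsurj hG hH p.2
  choose σ hσ using hσ
  let Sg : Pf S.X₃ ⟶ S.X₂ := Sigma.desc σ
  have hSg : Sg ≫ S.g = eps S.X₃ := by
    apply Sigma.hom_ext
    intro p
    rw [Sigma.ι_desc_assoc, hσ]
    unfold eps
    rw [Sigma.ι_desc]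
  let Φ : S.X₁ ⊞ Pf S.X₃ ⟶ S.X₂ := biprod.desc S.f Sg
  have hΦg : Φ ≫ S.g = biprod.snd ≫ eps S.X₃ := by
    apply biprod.hom_ext'
    · rw [biprod.inl_desc_assoc, S.zero, biprod.inl_snd_assoc, zero_comp]
    · rw [biprod.inr_desc_assoc, hSg, biprod.inr_snd_assoc]
  have hΦ : Φ = biprod.fst ≫ S.f + biprod.snd ≫ Sg := biprod.desc_eq
  haveI : Epi (eps S.X₃) := epi_eps h₃
  haveI : Epi Φ := by
    apply Preadditive.epi_of_cancel_zero
    intro T t ht
    have h1 : S.f ≫ t = 0 := by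
      have := congrArg (fun k => biprod.inl ≫ k) ht
      simpa [Φ] using this
    have h2 : Sg ≫ t = 0 := by
      have := congrArg (fun k => biprod.inr ≫ k) ht
      simpa [Φ] using this
    let t' : S.X₃ ⟶ T := hS.exact.desc t h1
    have ht' : S.g ≫ t' = t := hS.exact.g_desc t h1
    have h3 : eps S.X₃ ≫ t' = 0 := by rw [← hSg, Category.assoc, ht', h2]
    have h4 : t' = 0 := by
      rw [← cancel_epi (eps S.X₃), h3, comp_zero]
    rw [← ht', h4, comp_zero]
  let κ := kernel.ι (eps S.X₃)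
  have hKH : adequate A (kernel (eps S.X₃)) :=
    AdeqKer.adequate_kernel _ (adequate_Pf S.X₃) h₃
  let lam : kernel (eps S.X₃) ⟶ S.X₁ := hS.exact.lift (κ ≫ Sg) (by
    rw [Category.assoc, hSg, kernel.condition])
  have hlam : lam ≫ S.f = κ ≫ Sg := hS.exact.lift_f _ _
  let θ : kernel (eps S.X₃) ⟶ S.X₁ ⊞ Pf S.X₃ := biprod.lift (-lam) κ
  have hθΦ : θ ≫ Φ = 0 := by
    rw [biprod.lift_desc, Preadditive.neg_comp, hlam, neg_add_cancel]
  let a : kernel (eps S.X₃) ⟶ kernel Φ := kernel.lift Φ θ hθΦ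
  let b : kernel Φ ⟶ kernel (eps S.X₃) := kernel.lift (eps S.X₃) (kernel.ι Φ ≫ biprod.snd) (by
    rw [Category.assoc, ← hΦg, ← Category.assoc, kernel.condition, zero_comp])
  have hab : b ≫ a = 𝟙 _ := by
    rw [← cancel_mono (kernel.ι Φ), Category.assoc, kernel.lift_ι, Category.id_comp]
    apply biprod.hom_ext
    · rw [Category.assoc, biprod.lift_fst, ← cancel_mono S.f]
      have h0 : kernel.ι Φ ≫ (biprod.fst ≫ S.f + biprod.snd ≫ Sg) = 0 := by
        rw [← hΦ, kernel.condition]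
      rw [Preadditive.comp_add] at h0
      rw [Preadditive.comp_neg, Preadditive.neg_comp, Category.assoc, hlam, ← Category.assoc,
        kernel.lift_ι, Category.assoc, Category.assoc]
      exact (eq_neg_of_add_eq_zero_left h0).symm
    · rw [Category.assoc, biprod.lift_snd, kernel.lift_ι]
  have hba : a ≫ b = 𝟙 _ := by
    rw [← cancel_mono κ, Category.assoc, kernel.lift_ι, ← Category.assoc, kernel.lift_ι,
      biprod.lift_snd, Category.id_comp]
  have hKΦ : adequate A (kernel Φ) := (adequate A).prop_of_iso ⟨a, b, hba, hab⟩ hKH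
  have hcok : adequate A (cokernel (kernel.ι Φ)) :=
    AdeqCoker.adequate_cokernel _ hKΦ (adequate_biprod h₁ (adequate_Pf S.X₃))
  let i : cokernel (kernel.ι Φ) ≅ S.X₂ :=
    IsColimit.coconePointUniqueUpToIso (colimit.isColimit _)
      (Abelian.epiIsCokernelOfKernel _ (limit.isLimit (parallelPair Φ 0)))
  exact (adequate A).prop_of_iso i hcok

end

end Groth.Agent.Lib.Lead.AdeqExtn
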