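import Groth.Agent.Lib.Lead.AdeqFlat

/-!
# Flat base change for adequate functors, in the form `B ⊗[A] F(T) ≃ F(T ⊗[A] B)`
-/

universe u

open CategoryTheory Limits Opposite TensorProduct

namespace Groth.Agent.Lib.Lead.AdeqFBC

open Adeq Groth.Agent.Lib.Lead.AdeqBasic Groth.Agent.Lib.Lead.AdeqFlat

noncomputable section

lemma tmul_balance {R : Type*} [CommSemiring R] {M N : Type*} [AddCommMonoid M] [AddCommMonoid N]
    [iM : Module R M] [iN : Module R N] (r : R) (m : M) (n : N) :
    (r • m) ⊗ₜ[R] n = m ⊗ₜ[R] (r • n) :=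
  Quotient.sound' <| AddConGen.Rel.of _ _ <| TensorProduct.Eqv.of_smul _ _ _

variable {A : Type u} [CommRing A] (F : MVF A) (T : Alg A)
  (B : Type u) [CommRing B] [Algebra A B]

/-- The `A`-module structure on `F(T)` by restriction of scalars. -/
@[reducible] def modA : Module A (F.obj (pt T)) := Module.compHom _ (algebraMap A T)

/-- `T ⊗[A] B` as an object of `Alg A`. -/
abbrev TB : Alg A := algOf A ((T : Type u) ⊗[A] B)

/-- `t ↦ t ⊗ 1`. -/
abbrev il : T ⟶ TB T B :=
  CommAlgCat.ofHom (Algebra.TensorProduct.includeLeft : (T : Type u) →ₐ[A] (T : Type u) ⊗[A] B)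

section psi

/-- `b ↦ n ↦ (1 ⊗ b) ⊗ n`. -/
def psiAux : B →+ F.obj (pt T) →+
    (letI := modOf (il T B); ((TB T B : Alg A) : Type u) ⊗[(T : Type u)] (F.obj (pt T) : Type (u + 1))) :=
  letI := modOf (il T B)
  { toFun := fun b =>
      { toFun := fun n => (((1 : T) ⊗ₜ[A] b : (T : Type u) ⊗[A] B)) ⊗ₜ[(T : Type u)] n
        map_zero' := TensorProduct.tmul_zero _ _
        map_add' := fun n n' => TensorProduct.tmul_add _ _ _ }
    map_zero' := by
      ext n
      show (((1 : T) ⊗ₜ[A] (0 : B) : (T : Type u) ⊗[A] B)) ⊗ₜ[(T : Type u)] n = 0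
      rw [TensorProduct.tmul_zero, TensorProduct.zero_tmul]
    map_add' := fun b b' => by
      ext n
      show (((1 : T) ⊗ₜ[A] (b + b') : (T : Type u) ⊗[A] B)) ⊗ₜ[(T : Type u)] n =
        (((1 : T) ⊗ₜ[A] b : (T : Type u) ⊗[A] B)) ⊗ₜ[(T : Type u)] n +
          (((1 : T) ⊗ₜ[A] b' : (T : Type u) ⊗[A] B)) ⊗ₜ[(T : Type u)] n
      rw [TensorProduct.tmul_add, TensorProduct.add_tmul] }

/-- `ψ : B ⊗[A] F(T) → (T ⊗ B) ⊗[T] F(T)`. -/
def psi : (letI := modA F T; B ⊗[A] (F.obj (pt T) : Type (u + 1))) →+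
    (letI := modOf (il T B); ((TB T B : Alg A) : Type u) ⊗[(T : Type u)] (F.obj (pt T) : Type (u + 1))) :=
  letI := modA F T
  letI := modOf (il T B)
  TensorProduct.liftAddHom (psiAux F T B) (by
    intro a b n
    show (((1 : T) ⊗ₜ[A] (a • b) : (T : Type u) ⊗[A] B)) ⊗ₜ[(T : Type u)] n =
      (((1 : T) ⊗ₜ[A] b : (T : Type u) ⊗[A] B)) ⊗ₜ[(T : Type u)] (algebraMap A T a • n)
    refine Eq.trans ?_ (tmul_balance (R := (T : Type u))
      (algebraMap A T a) ((1 : T) ⊗ₜ[A] b : (T : Type u) ⊗[A] B) n)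
    congr 1
    show (1 : T) ⊗ₜ[A] (a • b) =
      ((algebraMap A T a) ⊗ₜ[A] (1 : B)) * ((1 : T) ⊗ₜ[A] b)
    rw [Algebra.TensorProduct.tmul_mul_tmul, mul_one, one_mul, TensorProduct.tmul_smul,
      Algebra.algebraMap_eq_smul_one, TensorProduct.smul_tmul'])

lemma psi_tmul (b : B) (n : F.obj (pt T)) :
    letI := modA F T
    letI := modOf (il T B)
    psi F T B (b ⊗ₜ[A] n) = (((1 : T) ⊗ₜ[A] b : (T : Type u) ⊗[A] B)) ⊗ₜ[(T : Type u)] n := rfl

end psi

section chi

/-- `t ⊗ b ↦ b ⊗ (t • n)`. -/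
def g₁ (n : F.obj (pt T)) :
    letI := modA F T
    ((T : Type u) ⊗[A] B) →ₗ[A] (B ⊗[A] (F.obj (pt T) : Type (u + 1))) :=
  letI := modA F T
  TensorProduct.lift (LinearMap.mk₂ A (fun (t : T) (b : B) => b ⊗ₜ[A] (t • n))
    (fun t t' b => by rw [add_smul, TensorProduct.tmul_add])
    (fun a t b => by
      have h : (a • t) • n = a • (t • n) := by
        show (a • t) • n = algebraMap A T a • (t • n)
        rw [Algebra.smul_def, mul_smul]
      rw [h, TensorProduct.tmul_smul])
    (fun t b b' => TensorProduct.add_tmul _ _ _)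
    (fun a t b => (TensorProduct.smul_tmul' a b (t • n)).symm))

lemma g₁_tmul (n : F.obj (pt T)) (t : T) (b : B) :
    letI := modA F T
    g₁ F T B n (t ⊗ₜ[A] b) = b ⊗ₜ[A] (t • n) := by
  letI := modA F T
  unfold g₁
  rw [TensorProduct.lift.tmul]
  rfl

lemma g₁_add (n n' : F.obj (pt T)) : g₁ F T B (n + n') = g₁ F T B n + g₁ F T B n' := by
  letI := modA F T
  apply TensorProduct.ext'
  intro t b
  rw [LinearMap.add_apply, g₁_tmul, g₁_tmul, g₁_tmul, smul_add, TensorProduct.tmul_add]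

lemma g₁_zero : g₁ F T B (0 : F.obj (pt T)) = 0 := by
  letI := modA F T
  apply TensorProduct.ext'
  intro t b
  rw [LinearMap.zero_apply, g₁_tmul, smul_zero, TensorProduct.tmul_zero]

lemma g₁_balanced (c : T) (n : F.obj (pt T)) (x : (T : Type u) ⊗[A] B) :
    g₁ F T B n ((c ⊗ₜ[A] (1 : B)) * x) = g₁ F T B (c • n) x := by
  letI := modA F T
  induction x using TensorProduct.induction_on with
  | zero => rw [mul_zero, map_zero, map_zero]
  | tmul t b =>
    rw [Algebra.TensorProduct.tmul_mul_tmul, one_mul, g₁_tmul, g₁_tmul, mul_comm, mul_smul]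
  | add x y hx hy => rw [mul_add, map_add, map_add, hx, hy]

/-- `χ : (T ⊗ B) ⊗[T] F(T) → B ⊗[A] F(T)`. -/
def chi : (letI := modOf (il T B); ((TB T B : Alg A) : Type u) ⊗[(T : Type u)] (F.obj (pt T) : Type (u + 1))) →+
    (letI := modA F T; B ⊗[A] (F.obj (pt T) : Type (u + 1))) :=
  letI := modA F T
  letI := modOf (il T B)
  TensorProduct.liftAddHom
    { toFun := fun x =>
        { toFun := fun n => g₁ F T B n x
          map_zero' := by rw [g₁_zero]; rfl
          map_add' := fun n n' => by rw [g₁_add]; rfl }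
      map_zero' := by
        ext n
        exact map_zero (g₁ F T B n)
      map_add' := fun x y => by
        ext n
        exact map_add (g₁ F T B n) x y }
    (fun c x n => g₁_balanced F T B c n x)

lemma chi_tmul (x : (T : Type u) ⊗[A] B) (n : F.obj (pt T)) :
    letI := modA F T
    letI := modOf (il T B)
    chi F T B (x ⊗ₜ[(T : Type u)] n) = g₁ F T B n x := rfl

lemma chi_psi (z : letI := modA F T; B ⊗[A] (F.obj (pt T) : Type (u + 1))) :
    chi F T B (psi F T B z) = z := by
  letI := modA F T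
  letI := modOf (il T B)
  induction z using TensorProduct.induction_on with
  | zero => rw [map_zero, map_zero]
  | tmul b n => rw [psi_tmul, chi_tmul, g₁_tmul, one_smul]
  | add x y hx hy => rw [map_add, map_add, hx, hy]

lemma psi_chi (w : letI := modOf (il T B);
      ((TB T B : Alg A) : Type u) ⊗[(T : Type u)] (F.obj (pt T) : Type (u + 1))) :
    psi F T B (chi F T B w) = w := by
  letI := modA F T
  letI := modOf (il T B)
  induction w using TensorProduct.induction_on with
  | zero => rw [map_zero, map_zero]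
  | tmul x n =>
    rw [chi_tmul]
    induction x using TensorProduct.induction_on with
    | zero => rw [map_zero, map_zero, TensorProduct.zero_tmul]
    | tmul t b =>
      rw [g₁_tmul, psi_tmul]
      refine (tmul_balance (R := (T : Type u)) t ((1 : T) ⊗ₜ[A] b : (T : Type u) ⊗[A] B) n).symm.trans ?_
      congr 1
      show ((t ⊗ₜ[A] (1 : B)) * ((1 : T) ⊗ₜ[A] b) : (T : Type u) ⊗[A] B) = t ⊗ₜ[A] b
      rw [Algebra.TensorProduct.tmul_mul_tmul, mul_one, one_mul]
    | add x y hx hy => rw [map_add, map_add, hx, hy, TensorProduct.add_tmul]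
  | add x y hx hy => rw [map_add, map_add, hx, hy]

lemma psi_bijective : Function.Bijective (psi F T B) :=
  ⟨Function.LeftInverse.injective (chi_psi F T B), Function.RightInverse.surjective (psi_chi F T B)⟩

end chi

section theta

/-- `Θ : B ⊗[A] F(T) → F(T ⊗ B)`, `b ⊗ n ↦ (1 ⊗ b) • F(t ↦ t ⊗ 1)(n)`. -/
def Theta : (letI := modA F T; B ⊗[A] (F.obj (pt T) : Type (u + 1))) →+ F.obj (pt (TB T B)) :=
  (F.bc (il T B)).hom.toAddMonoidHom.comp (psi F T B)

lemma Theta_tmul (b : B) (n : F.obj (pt T)) :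
    letI := modA F T
    Theta F T B (b ⊗ₜ[A] n) =
      (((1 : T) ⊗ₜ[A] b : (T : Type u) ⊗[A] B)) • tr F (il T B) n := by
  letI := modA F T
  letI := modOf (il T B)
  show F.bc (il T B) (ofE (il T B) _ (psi F T B (b ⊗ₜ[A] n))) = _
  rw [psi_tmul]
  exact bc_tmul (il T B) F _ n

lemma il_flat [Module.Flat A B] : (il T B).hom.toRingHom.Flat := by
  have h : (il T B).hom.toRingHom = algebraMap (T : Type u) ((T : Type u) ⊗[A] B) := by
    ext t
    rfl
  rw [h, RingHom.flat_algebraMap_iff]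
  infer_instance

theorem Theta_bijective (hF : adequate A F) [Module.Flat A B] :
    Function.Bijective (Theta F T B) := by
  haveI := isIso_bc_of_adequate_flat F hF (il T B) (il_flat T B)
  have hb : Function.Bijective (F.bc (il T B)) :=
    (ConcreteCategory.isIso_iff_bijective _).mp inferInstance
  exact hb.comp (psi_bijective F T B)

end theta

end

end Groth.Agent.Lib.Lead.AdeqFBC
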