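import Groth.Agent.Lib.Lead.AdeqBasic
import Mathlib.RingTheory.Flat.FaithfullyFlat.Basic
import Mathlib.RingTheory.Flat.FaithfullyFlat.Algebra

/-!
# Adequate functors and faithfully flat maps: exactness of `0 → F(A) → F(B) ⇉ F(B ⊗ B)`
-/

universe v u

open CategoryTheory Limits Opposite TensorProduct

namespace Groth.Agent.Lib.Lead.AdeqFF

open Adeq Groth.Agent.Lib.Lead.AdeqBasic

noncomputable section

section Mod

variable (A : Type u) [CommRing A] (B : Type u) [CommRing B] [Algebra A B]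
  (M : Type v) [AddCommGroup M] [Module A M]

/-- `m ↦ 1 ⊗ m`. -/
def iotaM : M →ₗ[A] B ⊗[A] M := TensorProduct.mk A B M 1

/-- `b ⊗ m ↦ (b ⊗ 1) ⊗ m - (1 ⊗ b) ⊗ m`. -/
def dM : B ⊗[A] M →ₗ[A] (B ⊗[A] B) ⊗[A] M :=
  (Algebra.TensorProduct.includeLeft : B →ₐ[A] B ⊗[A] B).toLinearMap.rTensor M -
    (Algebra.TensorProduct.includeRight : B →ₐ[A] B ⊗[A] B).toLinearMap.rTensor M

/-- `b ⊗ (b' ⊗ m) ↦ (b b') ⊗ m`. -/
def sM : B ⊗[A] (B ⊗[A] M) →ₗ[A] B ⊗[A] M :=
  ((Algebra.TensorProduct.lmul' A : B ⊗[A] B →ₐ[A] B).toLinearMap.rTensor M) ∘ₗ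
    (TensorProduct.assoc A B B M).symm.toLinearMap

/-- `b ⊗ ((b' ⊗ b'') ⊗ m) ↦ (b b') ⊗ (b'' ⊗ m)`. -/
def tM : B ⊗[A] ((B ⊗[A] B) ⊗[A] M) →ₗ[A] B ⊗[A] (B ⊗[A] M) :=
  sM A B (B ⊗[A] M) ∘ₗ ((TensorProduct.assoc A B B M).toLinearMap.lTensor B)

lemma sM_tmul (b b' : B) (m : M) : sM A B M (b ⊗ₜ[A] (b' ⊗ₜ[A] m)) = (b * b') ⊗ₜ[A] m := by
  simp [sM]

lemma tM_tmul (b b' b'' : B) (m : M) :
    tM A B M (b ⊗ₜ[A] ((b' ⊗ₜ[A] b'') ⊗ₜ[A] m)) = (b * b') ⊗ₜ[A] (b'' ⊗ₜ[A] m) := by
  simp [tM, sM_tmul]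

lemma dM_tmul (b : B) (m : M) :
    dM A B M (b ⊗ₜ[A] m) = (b ⊗ₜ[A] (1 : B)) ⊗ₜ[A] m - ((1 : B) ⊗ₜ[A] b) ⊗ₜ[A] m := by
  simp [dM]

lemma key (z : B ⊗[A] (B ⊗[A] M)) :
    tM A B M ((dM A B M).lTensor B z) = (iotaM A B M).lTensor B (sM A B M z) - z := by
  induction z using TensorProduct.induction_on with
  | zero => simp
  | tmul b w =>
    induction w using TensorProduct.induction_on with
    | zero => simp
    | tmul b' m =>
      rw [LinearMap.lTensor_tmul, dM_tmul, TensorProduct.tmul_sub, map_sub, tM_tmul, tM_tmul,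
        sM_tmul, LinearMap.lTensor_tmul, mul_one]
      rfl
    | add x y hx hy =>
      rw [TensorProduct.tmul_add, map_add, map_add, hx, hy, map_add, map_add]
      abel
  | add x y hx hy =>
    rw [map_add, map_add, hx, hy, map_add, map_add]
    abel

lemma dM_iotaM : dM A B M ∘ₗ iotaM A B M = 0 := by
  apply LinearMap.ext
  intro m
  show dM A B M ((1 : B) ⊗ₜ[A] m) = 0
  rw [dM_tmul, sub_self]

theorem exact_iota_d [Module.FaithfullyFlat A B] :
    Function.Exact (iotaM A B M) (dM A B M) := by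
  apply Module.FaithfullyFlat.lTensor_reflects_exact A B
  intro z
  constructor
  · intro hz
    refine ⟨sM A B M z, ?_⟩
    have h := key A B M z
    rw [hz, map_zero] at h
    exact sub_eq_zero.mp h.symm
  · rintro ⟨w, rfl⟩
    rw [← LinearMap.comp_apply, ← LinearMap.lTensor_comp, dM_iotaM, LinearMap.lTensor_zero,
      LinearMap.zero_apply]

lemma iotaM_injective [Module.FaithfullyFlat A B] : Function.Injective (iotaM A B M) := by
  rw [injective_iff_map_eq_zero]
  intro m hm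
  exact (Module.FaithfullyFlat.one_tmul_eq_zero_iff A M (A := B) m).mp hm

lemma rTensor_ofId (x : A ⊗[A] M) :
    (Algebra.ofId A B).toLinearMap.rTensor M x = iotaM A B M (TensorProduct.lid A M x) := by
  induction x using TensorProduct.induction_on with
  | zero => simp
  | tmul a m =>
    rw [LinearMap.rTensor_tmul, TensorProduct.lid_tmul]
    show (algebraMap A B a) ⊗ₜ[A] m = (1 : B) ⊗ₜ[A] (a • m)
    rw [Algebra.algebraMap_eq_smul_one, TensorProduct.smul_tmul]
  | add x y hx hy => rw [map_add, map_add, map_add, hx, hy]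

end Mod

variable {A : Type u} [CommRing A]

theorem ff_exact (F : MVF A) (hF : adequate A F) (B : Type u) [CommRing B] [Algebra A B]
    [Module.FaithfullyFlat A B] :
    Function.Injective (F.map
        (ptHom (CommAlgCat.ofHom (Algebra.ofId A B) : algOf A A ⟶ algOf A B))) ∧
      ∀ y : F.obj (pt (algOf A B)),
        F.map (ptHom (CommAlgCat.ofHom
            (Algebra.TensorProduct.includeLeft : B →ₐ[A] B ⊗[A] B) :
              algOf A B ⟶ algOf A (B ⊗[A] B))) y =
          F.map (ptHom (CommAlgCat.ofHom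
            (Algebra.TensorProduct.includeRight : B →ₐ[A] B ⊗[A] B) :
              algOf A B ⟶ algOf A (B ⊗[A] B))) y →
        y ∈ Set.range (F.map
          (ptHom (CommAlgCat.ofHom (Algebra.ofId A B) : algOf A A ⟶ algOf A B))) := by
  obtain ⟨M, N, ψ, ι, hι⟩ := exists_isKerPt_of_adequate hF
  let e : algOf A A ⟶ algOf A B := CommAlgCat.ofHom (Algebra.ofId A B)
  let l : algOf A B ⟶ algOf A (B ⊗[A] B) :=
    CommAlgCat.ofHom (Algebra.TensorProduct.includeLeft : B →ₐ[A] B ⊗[A] B)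
  let r : algOf A B ⟶ algOf A (B ⊗[A] B) :=
    CommAlgCat.ofHom (Algebra.TensorProduct.includeRight : B →ₐ[A] B ⊗[A] B)
  have he : ∀ x : F.obj (pt (algOf A A)),
      toT (ι.app (pt (algOf A B)) (tr F e x)) =
        iotaM A B M (TensorProduct.lid A M (toT (ι.app (pt (algOf A A)) x))) := by
    intro x
    rw [app_tr, toT_tr]
    exact rTensor_ofId A B M _
  refine ⟨?_, ?_⟩
  · intro x x' hxx'
    apply hι.inj
    apply toT_injective
    apply (TensorProduct.lid A M).injective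
    apply iotaM_injective A B M
    rw [← he, ← he]
    exact congrArg (fun t => toT (ι.app (pt (algOf A B)) t)) hxx'
  · intro y hy
    let z : B ⊗[A] M := toT (ι.app (pt (algOf A B)) y)
    have hz : dM A B M z = 0 := by
      have h1 : toT (ι.app (pt (algOf A (B ⊗[A] B))) (tr F l y)) =
          toT (ι.app (pt (algOf A (B ⊗[A] B))) (tr F r y)) :=
        congrArg (fun t => toT (ι.app (pt (algOf A (B ⊗[A] B))) t)) hy
      rw [app_tr, app_tr, toT_tr, toT_tr] at h1
      show (Algebra.TensorProduct.includeLeft : B →ₐ[A] B ⊗[A] B).toLinearMap.rTensor M z -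
        (Algebra.TensorProduct.includeRight : B →ₐ[A] B ⊗[A] B).toLinearMap.rTensor M z = 0
      exact sub_eq_zero.mpr h1
    obtain ⟨m, hm⟩ := (exact_iota_d A B M z).mp hz
    have hψ : ψ.hom m = 0 := by
      have h2 : toT (((underline A).map ψ).app (pt (algOf A B)) (ι.app (pt (algOf A B)) y)) = 0 := by
        rw [hι.w_apply]; rfl
      rw [toT_map_app] at h2
      have h3 : ψ.hom.baseChange B z = (1 : B) ⊗ₜ[A] ψ.hom m := by
        show ψ.hom.baseChange B z = _
        rw [← hm]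
        rfl
      rw [h3] at h2
      exact (Module.FaithfullyFlat.one_tmul_eq_zero_iff A N (A := B) (ψ.hom m)).mp h2
    let w : (U M).obj (pt (algOf A A)) := ofT ((1 : A) ⊗ₜ[A] m)
    have hw : ((underline A).map ψ).app (pt (algOf A A)) w = 0 := by
      apply toT_injective
      rw [toT_map_app, toT_zero]
      show ψ.hom.baseChange A ((1 : A) ⊗ₜ[A] m) = 0
      rw [LinearMap.baseChange_tmul, hψ, TensorProduct.tmul_zero]
    obtain ⟨x, hx⟩ := hι.surj _ w hw
    refine ⟨x, ?_⟩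
    show tr F e x = y
    apply hι.inj (pt (algOf A B))
    apply toT_injective
    show toT (ι.app (pt (algOf A B)) (tr F e x)) = z
    rw [he, hx, ← hm]
    show iotaM A B M (TensorProduct.lid A M ((1 : A) ⊗ₜ[A] m)) = iotaM A B M m
    rw [TensorProduct.lid_tmul, one_smul]

end

end Groth.Agent.Lib.Lead.AdeqFF
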