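import Groth.Agent.Lib.Lead.AdeqCoker

/-!
# Kernels of maps of adequate functors are adequate (Stacks 46.3.10)
-/

universe u

open CategoryTheory Limits Opposite TensorProduct Module

namespace Groth.Agent.Lib.Lead.AdeqKer

open Adeq Groth.Agent.Lib.Lead.AdeqBasic Groth.Agent.Lib.Lead

noncomputable section

variable {A : Type u} [CommRing A]

theorem adequate_underline (M : ModuleCat.{u + 1} A) : adequate A (U M) :=
  adequate_of_isKerPt (0 : M ⟶ M) (𝟙 _)
    ⟨by rw [Functor.map_zero, comp_zero], fun _ _ _ h => h, fun _ y _ => ⟨y, rfl⟩⟩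

theorem adequate_kernel {F G : MVF A} (φ : F ⟶ G) (hF : adequate A F) (hG : adequate A G) :
    adequate A (kernel φ) := by
  obtain ⟨MF, NF, ψF, ιF, hF'⟩ := exists_isKerPt_of_adequate hF
  obtain ⟨MG, NG, ψG, ιG, hG'⟩ := exists_isKerPt_of_adequate hG
  let M₂ : ModuleCat.{u + 1} A := ModuleCat.of A (MF × MG)
  let inl : MF ⟶ M₂ := ModuleCat.ofHom (LinearMap.inl A MF MG)
  let inr : MG ⟶ M₂ := ModuleCat.ofHom (LinearMap.inr A MF MG)
  let j : F ⟶ U M₂ := ιF ≫ (underline A).map inl + φ ≫ ιG ≫ (underline A).map inr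
  have hQ : adequate A (cokernel j) :=
    AdeqCoker.adequate_cokernel j hF (adequate_underline M₂)
  obtain ⟨K', N', ψQ, ιQ, hQ'⟩ := exists_isKerPt_of_adequate hQ
  obtain ⟨κ, hκ⟩ := exists_underline_map_eq (cokernel.π j ≫ ιQ)
  have hkφ := isKerPt_kernel φ
  refine adequate_of_isKerPt (inl ≫ κ) (kernel.ι φ ≫ ιF) ⟨?_, ?_, ?_⟩
  · rw [Functor.map_comp, hκ]
    have e1 : kernel.ι φ ≫ j = kernel.ι φ ≫ ιF ≫ (underline A).map inl := by
      simp only [j, Preadditive.comp_add]
      rw [← Category.assoc (kernel.ι φ) φ, kernel.condition, zero_comp, add_zero]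
    calc (kernel.ι φ ≫ ιF) ≫ (underline A).map inl ≫ cokernel.π j ≫ ιQ
        = (kernel.ι φ ≫ ιF ≫ (underline A).map inl) ≫ cokernel.π j ≫ ιQ := by
          simp only [Category.assoc]
      _ = (kernel.ι φ ≫ j) ≫ cokernel.π j ≫ ιQ := by rw [e1]
      _ = kernel.ι φ ≫ (j ≫ cokernel.π j) ≫ ιQ := by simp only [Category.assoc]
      _ = 0 := by rw [cokernel.condition, zero_comp, comp_zero]
  · intro X a b h
    exact hkφ.inj X (hF'.inj X h)
  · intro X x hx
    let B : Alg A := X.unop.unop
    -- π (u inl x) = 0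
    have h1 : (cokernel.π j).app X (((underline A).map inl).app X x) = 0 := by
      apply hQ'.inj X
      have h2 : (cokernel.π j ≫ ιQ).app X (((underline A).map inl).app X x) = 0 := by
        rw [← hκ, ← comp_app_apply, ← Functor.map_comp]
        exact hx
      rw [map_zero]
      exact h2
    obtain ⟨f, hf⟩ := cokernel_π_exact j X _ h1
    have hjf : toT (B := B) (j.app X f) =
        (LinearMap.inl A MF MG).lTensor B (toT (B := B) (ιF.app X f)) +
          (LinearMap.inr A MF MG).lTensor B (toT (B := B) (ιG.app X (φ.app X f))) := rfl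
    have hux : toT (B := B) (((underline A).map inl).app X x) =
        (LinearMap.inl A MF MG).lTensor B (toT (B := B) x) := rfl
    have h3 := congrArg (toT (B := B)) hf
    rw [hjf, hux] at h3
    have h4 := congrArg ((LinearMap.fst A MF MG).lTensor B) h3
    have h5 := congrArg ((LinearMap.snd A MF MG).lTensor B) h3
    simp only [map_add, ← LinearMap.lTensor_comp_apply, LinearMap.fst_comp_inl,
      LinearMap.fst_comp_inr, LinearMap.snd_comp_inl, LinearMap.snd_comp_inr,
      LinearMap.lTensor_id, LinearMap.id_apply, LinearMap.lTensor_zero, LinearMap.zero_apply,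
      add_zero, zero_add] at h4 h5
    have h6 : φ.app X f = 0 := by
      apply hG'.inj X
      apply toT_injective (B := B)
      rw [h5, map_zero]
      rfl
    obtain ⟨k, hk⟩ := hkφ.surj X f h6
    refine ⟨k, ?_⟩
    rw [comp_app_apply, hk]
    exact toT_injective (B := B) h4

end

end Groth.Agent.Lib.Lead.AdeqKer
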