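import Groth.Agent.Lib.Lead.AdeqDescent
import Groth.Agent.Lib.Lead.AdeqColim
import Groth.Agent.Lib.Lead.AdeqKer

/-!
# Descent of adequacy along a finite family `A → A' j`
-/

universe w v v₁ u₁ u

open CategoryTheory Limits Opposite TensorProduct

namespace Groth.Agent.Lib.Lead.AdeqFamDescent

open Adeq Groth.Agent.Lib.Lead.AdeqBasic Groth.Agent.Lib.Lead.AdeqRestr
  Groth.Agent.Lib.Lead.AdeqPush Groth.Agent.Lib.Lead.AdeqDescent

noncomputable section

attribute [local instance] Abelian.hasFiniteBiproducts

section General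

variable {C : Type u₁} [Category.{v₁} C] {R : Cᵒᵖ ⥤ RingCat.{u}}

lemma biproduct_apply_eq_sum {J : Type} [Fintype J] (f : J → PresheafOfModules.{v} R) (X : Cᵒᵖ)
    (z : (⨁ f).obj X) :
    z = ∑ j, (biproduct.ι f j).app X ((biproduct.π f j).app X z) := by
  have h1 : (PresheafOfModules.evaluation R X).map (∑ j, biproduct.π f j ≫ biproduct.ι f j) =
      (PresheafOfModules.evaluation R X).map (𝟙 _) := congrArg _ biproduct.total
  rw [Functor.map_sum, CategoryTheory.Functor.map_id] at h1
  have h2 := congrArg (fun φ => φ.hom z) h1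
  simp only [ModuleCat.hom_sum, LinearMap.sum_apply] at h2
  exact h2.symm

lemma biproduct_ext_apply {J : Type} [Fintype J] (f : J → PresheafOfModules.{v} R) (X : Cᵒᵖ)
    (z z' : (⨁ f).obj X)
    (h : ∀ j, (biproduct.π f j).app X z = (biproduct.π f j).app X z') : z = z' := by
  rw [biproduct_apply_eq_sum f X z, biproduct_apply_eq_sum f X z']
  exact Finset.sum_congr rfl (fun j _ => by rw [h j])

end General

variable {A : Type u} [CommRing A]

/-- Finite biproducts of adequate functors are adequate. -/
theorem adequate_biproduct {J : Type w} [Finite J] (f : J → MVF A)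
    (hf : ∀ j, adequate A (f j)) : adequate A (⨁ f) := by
  classical
  obtain ⟨n, ⟨e⟩⟩ := Finite.exists_equiv_fin J
  let e' : ULift.{u + 1} (Fin n) ≃ J := Equiv.ulift.trans e.symm
  have h1 : adequate A (∐ (f ∘ e')) := AdeqColim.adequate_sigma _ (fun j => hf _)
  let i1 : ∐ (f ∘ e') ≅ ∐ f := Sigma.reindex e' f
  let i2 : ⨁ f ≅ ∐ f := biproduct.isoCoproduct f
  exact (adequate A).prop_of_iso (i1 ≪≫ i2.symm) h1

/-- Naturality of `eta` in the functor. -/
lemma eta_naturality (A'' : Type u) [CommRing A''] [Algebra A A''] {F G : MVF A} (φ : F ⟶ G) :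
    φ ≫ eta A'' G = eta A'' F ≫ (push A A'').map ((restr A A'').map φ) := by
  apply PresheafOfModules.hom_ext
  intro X
  apply ModuleCat.hom_ext
  apply LinearMap.ext
  intro x
  show tr G (Alg.unit A A'' X.unop.unop) (φ.app X x) =
    φ.app (pt ((Alg.restr A A'').obj ((Alg.baseChange A A'').obj X.unop.unop)))
      (tr F (Alg.unit A A'' X.unop.unop) x)
  exact (app_tr φ _ x).symm

variable {J : Type} [Fintype J] (A' : J → Type u) [∀ j, CommRing (A' j)]
  [∀ j, Algebra A (A' j)]

theorem adequate_of_family (F : MVF A)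
    (h₁ : ∀ j, adequate (A' j) ((restr A (A' j)).obj F))
    (hinj : ∀ (B : Alg A) (x : F.obj (pt B)),
      (∀ j, F.map (ptHom (Alg.unit A (A' j) B)) x = 0) → x = 0)
    (hglue : ∀ (B : Alg A)
      (y : ∀ j, F.obj (pt ((Alg.restr A (A' j)).obj ((Alg.baseChange A (A' j)).obj B)))),
      (∀ j k, F.map (ptHom (Alg.unit A (A' k)
            ((Alg.restr A (A' j)).obj ((Alg.baseChange A (A' j)).obj B)))) (y j) =
          F.map (ptHom ((Alg.restr A (A' k)).map
            ((Alg.baseChange A (A' k)).map (Alg.unit A (A' j) B)))) (y k)) →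
      ∃ x : F.obj (pt B), ∀ j, F.map (ptHom (Alg.unit A (A' j) B)) x = y j) :
    adequate A F := by
  classical
  let P : J → MVF A := fun j => T (A' j) F
  let Q : J × J → MVF A := fun p => T (A' p.2) (T (A' p.1) F)
  have hP : adequate A (⨁ P) :=
    adequate_biproduct P (fun j => adequate_push (A' j) _ (h₁ j))
  have hQ : adequate A (⨁ Q) := adequate_biproduct Q (fun p =>
    adequate_push (A' p.2) _ (adequate_restr (A' p.2) _ (adequate_push (A' p.1) _ (h₁ p.1))))
  let η : F ⟶ ⨁ P := biproduct.lift (fun j => eta (A' j) F)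
  let g : ⨁ P ⟶ ⨁ Q := biproduct.lift (fun p =>
    biproduct.π P p.1 ≫ eta (A' p.2) (T (A' p.1) F) -
      biproduct.π P p.2 ≫ (push A (A' p.2)).map ((restr A (A' p.2)).map (eta (A' p.1) F)))
  have hgπ : ∀ p : J × J, g ≫ biproduct.π Q p =
      biproduct.π P p.1 ≫ eta (A' p.2) (T (A' p.1) F) -
      biproduct.π P p.2 ≫ (push A (A' p.2)).map ((restr A (A' p.2)).map (eta (A' p.1) F)) :=
    fun p => biproduct.lift_π _ _
  have hηπ : ∀ j, η ≫ biproduct.π P j = eta (A' j) F := fun j => biproduct.lift_π _ _
  have hker : IsKerPt η g := by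
    refine ⟨?_, ?_, ?_⟩
    · apply biproduct.hom_ext
      intro p
      rw [Category.assoc, hgπ, zero_comp, Preadditive.comp_sub, ← Category.assoc,
        ← Category.assoc, hηπ, hηπ, sub_eq_zero]
      exact eta_naturality (A' p.2) (eta (A' p.1) F)
    · intro X x x' hxx'
      have hd : η.app X (x - x') = 0 := by
        rw [map_sub, hxx', sub_self]
      have h0 : x - x' = 0 := by
        apply hinj X.unop.unop
        intro j
        have h2 : (η ≫ biproduct.π P j).app X (x - x') = 0 := by
          rw [comp_app_apply, hd, map_zero]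
        rw [hηπ] at h2
        exact h2
      exact sub_eq_zero.mp h0
    · intro X y hy
      let B : Alg A := X.unop.unop
      let yj : ∀ j, F.obj (pt ((Alg.restr A (A' j)).obj ((Alg.baseChange A (A' j)).obj B))) :=
        fun j => (biproduct.π P j).app X y
      have hcompat : ∀ j k, F.map (ptHom (Alg.unit A (A' k)
            ((Alg.restr A (A' j)).obj ((Alg.baseChange A (A' j)).obj B)))) (yj j) =
          F.map (ptHom ((Alg.restr A (A' k)).map
            ((Alg.baseChange A (A' k)).map (Alg.unit A (A' j) B)))) (yj k) := by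
        intro j k
        have h1 : (g ≫ biproduct.π Q (k, j)).app X y = 0 := by
          rw [comp_app_apply, hy, map_zero]
        rw [hgπ] at h1
        have h1' : (biproduct.π P k ≫ eta (A' j) (T (A' k) F)).app X y -
            (biproduct.π P j ≫ (push A (A' j)).map ((restr A (A' j)).map (eta (A' k) F))).app X y
              = 0 := h1
        have h2 : tr F ((Alg.restr A (A' k)).map
              ((Alg.baseChange A (A' k)).map (Alg.unit A (A' j) B))) (yj k) -
            tr F (Alg.unit A (A' k)
              ((Alg.restr A (A' j)).obj ((Alg.baseChange A (A' j)).obj B))) (yj j) = 0 := h1'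
        exact (sub_eq_zero.mp h2).symm
      obtain ⟨x, hx⟩ := hglue B yj hcompat
      refine ⟨x, ?_⟩
      apply biproduct_ext_apply P X
      intro j
      have h3 : (η ≫ biproduct.π P j).app X x = (biproduct.π P j).app X y := by
        rw [hηπ]
        exact hx j
      exact h3
  exact (adequate A).prop_of_iso hker.iso.symm (AdeqKer.adequate_kernel g hP hQ)

end

end Groth.Agent.Lib.Lead.AdeqFamDescent
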