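import Groth.Agent.Lib.Lead.AdeqFam
import Groth.Agent.Lib.Lead.AdeqExt
import Mathlib.Algebra.Category.Ring.FilteredColimits
import Mathlib.CategoryTheory.Filtered.Connected
import Mathlib.CategoryTheory.Limits.Constructions.Over.Connected
import Mathlib.CategoryTheory.Limits.Types.Filtered

/-!
# Adequate functors commute with filtered colimits (Stacks 46.3.4)
-/

universe u

open CategoryTheory Limits Opposite TensorProduct

namespace Groth.Agent.Lib.Lead.AdeqFilt

open Adeq Groth.Agent.Lib.Lead.AdeqBasic Groth.Agent.Lib.Lead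

noncomputable section

variable {A : Type u} [CommRing A]

/-- The underlying-set functor on algebras, through `Under`. -/
def Φ (A : Type u) [CommRing A] : Alg A ⥤ Type u :=
  (commAlgCatEquivUnder (CommRingCat.of A)).functor ⋙ Under.forget _ ⋙ forget CommRingCat.{u}

section Stage

variable {J : Type u} [SmallCategory J] [IsFiltered J] {D : J ⥤ Alg A} {c : Cocone D}
  (hc : IsColimit c)

include hc

def isColimit_Φ : IsColimit ((Φ A).mapCocone c) := by
  haveI : IsConnected J := IsFiltered.isConnected J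
  haveI : PreservesColimitsOfShape J (forget CommRingCat.{u}) :=
    PreservesFilteredColimitsOfSize.preserves_filtered_colimits J
  haveI : PreservesColimitsOfShape J (Φ A) := by
    unfold Φ
    infer_instance
  exact isColimitOfPreserves (Φ A) hc

lemma exists_rep (x : c.pt) : ∃ (j : J) (y : D.obj j), (c.ι.app j).hom y = x :=
  Types.jointly_surjective_of_isColimit (isColimit_Φ hc) x

lemma exists_eq_of_eq {j : J} (y y' : D.obj j) (h : (c.ι.app j).hom y = (c.ι.app j).hom y') :
    ∃ (k : J) (f : j ⟶ k), (D.map f).hom y = (D.map f).hom y' :=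
  (Types.FilteredColimit.isColimit_eq_iff' (F := D ⋙ Φ A) (isColimit_Φ hc) y y').mp h

lemma ι_map {j k : J} (f : j ⟶ k) (y : D.obj j) :
    (c.ι.app k).hom ((D.map f).hom y) = (c.ι.app j).hom y := by
  have := c.w f
  rw [← this]
  rfl

omit hc in
lemma map_comp_apply {j k l : J} (f : j ⟶ k) (g : k ⟶ l) (y : D.obj j) :
    (D.map (f ≫ g)).hom y = (D.map g).hom ((D.map f).hom y) := by
  rw [D.map_comp]
  rfl

/-- Finitely many elements of the colimit come from a common stage. -/
lemma exists_common : ∀ (n : ℕ) (x : Fin n → c.pt),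
    ∃ (k : J) (y : Fin n → D.obj k), ∀ i, (c.ι.app k).hom (y i) = x i := by
  intro n
  induction n with
  | zero => exact fun x => ⟨IsFiltered.nonempty.some, Fin.elim0, fun i => i.elim0⟩
  | succ n ih =>
    intro x
    obtain ⟨k₁, y₁, h₁⟩ := ih (fun i => x i.castSucc)
    obtain ⟨k₂, y₂, h₂⟩ := exists_rep hc (x (Fin.last n))
    refine ⟨IsFiltered.max k₁ k₂,
      Fin.lastCases ((D.map (IsFiltered.rightToMax k₁ k₂)).hom y₂)
        (fun i => (D.map (IsFiltered.leftToMax k₁ k₂)).hom (y₁ i)), ?_⟩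
    intro i
    refine Fin.lastCases ?_ (fun i => ?_) i
    · dsimp only
      rw [Fin.lastCases_last, ι_map hc, h₂]
    · dsimp only
      rw [Fin.lastCases_castSucc, ι_map hc, h₁]

/-- Finitely many equalities in the colimit hold at a common later stage. -/
lemma exists_common_eq : ∀ (n : ℕ) (j : J) (v w : Fin n → D.obj j),
    (∀ i, (c.ι.app j).hom (v i) = (c.ι.app j).hom (w i)) →
    ∃ (k : J) (f : j ⟶ k), ∀ i, (D.map f).hom (v i) = (D.map f).hom (w i) := by
  intro n
  induction n with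
  | zero => exact fun j v w _ => ⟨j, 𝟙 j, fun i => i.elim0⟩
  | succ n ih =>
    intro j v w h
    obtain ⟨k₁, f₁, h₁⟩ := ih j (fun i => v i.castSucc) (fun i => w i.castSucc)
      (fun i => h i.castSucc)
    obtain ⟨k₂, f₂, h₂⟩ := exists_eq_of_eq hc ((D.map f₁).hom (v (Fin.last n)))
      ((D.map f₁).hom (w (Fin.last n))) (by rw [ι_map hc, ι_map hc, h])
    refine ⟨k₂, f₁ ≫ f₂, fun i => ?_⟩
    refine Fin.lastCases ?_ (fun i => ?_) i
    · rw [map_comp_apply, map_comp_apply, h₂]
    · rw [map_comp_apply, map_comp_apply, h₁]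

end Stage

/-- Converse of the equational criterion of vanishing. -/
lemma sum_tmul_eq_zero_of_data {B N : Type*} [AddCommGroup B] [Module A B] [AddCommGroup N]
    [Module A N] {n r k : ℕ} (b : Fin n → B) (c : Fin r → B) (y : Fin n → N)
    (a : Fin n → Fin k → A) (a' : Fin r → Fin k → A) (z : Fin k → N)
    (hy : ∀ i, y i = ∑ j, a i j • z j) (hz : ∀ i', ∑ j, a' i' j • z j = 0)
    (hrel : ∀ j, ∑ i, a i j • b i + ∑ i', a' i' j • c i' = 0) :
    ∑ i, b i ⊗ₜ[A] y i = 0 := by
  have h1 : ∑ j, (∑ i, a i j • b i + ∑ i', a' i' j • c i') ⊗ₜ[A] z j = 0 := by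
    refine Finset.sum_eq_zero (fun j _ => ?_)
    rw [hrel j, TensorProduct.zero_tmul]
  have h2 : ∑ j, (∑ i, a i j • b i + ∑ i', a' i' j • c i') ⊗ₜ[A] z j =
      ∑ i, b i ⊗ₜ[A] y i + ∑ i', c i' ⊗ₜ[A] (∑ j, a' i' j • z j) := by
    simp only [TensorProduct.add_tmul, TensorProduct.sum_tmul, Finset.sum_add_distrib]
    congr 1
    · rw [Finset.sum_comm]
      refine Finset.sum_congr rfl (fun i _ => ?_)
      rw [hy i, TensorProduct.tmul_sum]
      refine Finset.sum_congr rfl (fun j _ => ?_)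
      rw [TensorProduct.tmul_smul, TensorProduct.smul_tmul']
    · rw [Finset.sum_comm]
      refine Finset.sum_congr rfl (fun i' _ => ?_)
      rw [TensorProduct.tmul_sum]
      refine Finset.sum_congr rfl (fun j _ => ?_)
      rw [TensorProduct.tmul_smul, TensorProduct.smul_tmul']
  rw [h2] at h1
  have h3 : ∑ i', c i' ⊗ₜ[A] (∑ j, a' i' j • z j) = 0 := by
    refine Finset.sum_eq_zero (fun i' _ => ?_)
    rw [hz i', TensorProduct.tmul_zero]
  rwa [h3, add_zero] at h1

section Tensor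

variable {J : Type u} [SmallCategory J] [IsFiltered J] {D : J ⥤ Alg A} {c : Cocone D}
  (hc : IsColimit c) (M : Type (u + 1)) [AddCommGroup M] [Module A M]

include hc

lemma exists_rep_tensor (t : (c.pt : Type u) ⊗[A] M) :
    ∃ (j : J) (s : (D.obj j : Type u) ⊗[A] M),
      (c.ι.app j).hom.toLinearMap.rTensor M s = t := by
  obtain ⟨n, x, mm, rfl⟩ := AdeqFam.exists_fin_sum (A := A) t
  obtain ⟨k, y, hy⟩ := exists_common hc n x
  refine ⟨k, ∑ i, y i ⊗ₜ[A] mm i, ?_⟩
  rw [map_sum]
  refine Finset.sum_congr rfl (fun i _ => ?_)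
  rw [LinearMap.rTensor_tmul, AlgHom.toLinearMap_apply, hy]

lemma exists_eq_zero_tensor {j : J} (s : (D.obj j : Type u) ⊗[A] M)
    (h : (c.ι.app j).hom.toLinearMap.rTensor M s = 0) :
    ∃ (k : J) (f : j ⟶ k), (D.map f).hom.toLinearMap.rTensor M s = 0 := by
  obtain ⟨n, d, mm, rfl⟩ := AdeqFam.exists_fin_sum (A := A) s
  have h' : ∑ i, (c.ι.app j).hom (d i) ⊗ₜ[A] mm i = 0 := by
    rw [map_sum] at h
    simpa only [LinearMap.rTensor_tmul, AlgHom.toLinearMap_apply] using h
  obtain ⟨r, kk, cc, a, a', z, hy, hz, hrel⟩ :=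
    AdeqFam.exists_vanishing_data (A := A) (fun i => (c.ι.app j).hom (d i)) mm h'
  obtain ⟨k₁, e, he⟩ := exists_common hc r cc
  let k₂ := IsFiltered.max j k₁
  let fL : j ⟶ k₂ := IsFiltered.leftToMax j k₁
  let fR : k₁ ⟶ k₂ := IsFiltered.rightToMax j k₁
  let R : Fin kk → D.obj k₂ := fun jj =>
    ∑ i, a i jj • (D.map fL).hom (d i) + ∑ i', a' i' jj • (D.map fR).hom (e i')
  have hR : ∀ jj, (c.ι.app k₂).hom (R jj) = (c.ι.app k₂).hom ((fun _ => 0) jj) := by
    intro jj
    simp only [R, map_add, map_sum, map_smul, map_zero, ι_map hc, he]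
    exact hrel jj
  obtain ⟨k₃, f, hf⟩ := exists_common_eq hc kk k₂ R (fun _ => 0) hR
  refine ⟨k₃, fL ≫ f, ?_⟩
  rw [map_sum]
  simp only [LinearMap.rTensor_tmul, AlgHom.toLinearMap_apply]
  refine sum_tmul_eq_zero_of_data (A := A) (fun i => (D.map (fL ≫ f)).hom (d i))
    (fun i' => (D.map (fR ≫ f)).hom (e i')) mm a a' z hy hz (fun jj => ?_)
  have := hf jj
  simp only [R, map_add, map_sum, map_smul, map_zero] at this
  simp only [map_comp_apply]
  exact this

end Tensor

section Functor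

variable {J : Type u} [SmallCategory J] [IsFiltered J] {D : J ⥤ Alg A} {c : Cocone D}
  (hc : IsColimit c) {F : MVF A} (hF : adequate A F)

include hc hF

lemma exists_rep_F (x : F.obj (pt c.pt)) :
    ∃ (j : J) (y : F.obj (pt (D.obj j))), tr F (c.ι.app j) y = x := by
  obtain ⟨M, N, ψ, ι, hι⟩ := exists_isKerPt_of_adequate hF
  obtain ⟨j, s, hs⟩ := exists_rep_tensor hc M (toT (ι.app (pt c.pt) x))
  have h0 : (c.ι.app j).hom.toLinearMap.rTensor N (ψ.hom.baseChange (D.obj j) s) = 0 := by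
    rw [← AdeqExt.baseChange_rTensor, hs]
    have := congrArg toT (hι.w_apply (pt c.pt) x)
    rwa [toT_map_app] at this
  obtain ⟨k, f, hf⟩ := exists_eq_zero_tensor hc N _ h0
  have h1 : ψ.hom.baseChange (D.obj k) ((D.map f).hom.toLinearMap.rTensor M s) = 0 := by
    rw [AdeqExt.baseChange_rTensor]
    exact hf
  obtain ⟨y, hy⟩ := hι.surj (pt (D.obj k)) (ofT ((D.map f).hom.toLinearMap.rTensor M s)) (by
    apply toT_injective
    rw [toT_map_app, toT_ofT, h1]
    rfl)
  refine ⟨k, y, ?_⟩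
  apply hι.inj (pt c.pt)
  rw [app_tr, hy]
  apply toT_injective
  rw [toT_tr, toT_ofT, ← hs, ← LinearMap.rTensor_comp_apply]
  congr 2
  apply LinearMap.ext
  intro b
  exact ι_map hc f b

lemma exists_eq_zero_F {j : J} (y : F.obj (pt (D.obj j))) (h : tr F (c.ι.app j) y = 0) :
    ∃ (k : J) (f : j ⟶ k), tr F (D.map f) y = 0 := by
  obtain ⟨M, N, ψ, ι, hι⟩ := exists_isKerPt_of_adequate hF
  have h0 : (c.ι.app j).hom.toLinearMap.rTensor M (toT (ι.app (pt (D.obj j)) y)) = 0 := by
    rw [← toT_tr, ← app_tr, h, map_zero]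
    rfl
  obtain ⟨k, f, hf⟩ := exists_eq_zero_tensor hc M _ h0
  refine ⟨k, f, ?_⟩
  apply hι.inj (pt (D.obj k))
  rw [app_tr, map_zero]
  apply toT_injective
  rw [toT_tr, hf]
  rfl

end Functor

section Colim

variable {J : Type u} [SmallCategory J] [IsFiltered J] {D : J ⥤ Alg A} {c : Cocone D}
  (hc : IsColimit c) {F : MVF A} (hF : adequate A F)

lemma tr_comp' (F : MVF A) {B B' B'' : Alg A} (f : B ⟶ B') (g : B' ⟶ B'') (x : F.obj (pt B)) :
    tr F (f ≫ g) x = tr F g (tr F f x) := by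
  unfold tr
  exact F.map_comp_apply (ptHom f) (ptHom g) x

lemma tr_sub' (F : MVF A) {B B' : Alg A} (f : B ⟶ B') (x y : F.obj (pt B)) :
    tr F f (x - y) = tr F f x - tr F f y := by
  unfold tr; rw [map_sub]; rfl

omit [IsFiltered J] in
lemma tr_ι_map {j k : J} (f : j ⟶ k) (y : F.obj (pt (D.obj j))) :
    tr F (c.ι.app k) (tr F (D.map f) y) = tr F (c.ι.app j) y := by
  rw [← tr_comp', c.w]

omit [IsFiltered J] in
lemma cocone_w_apply (s : Cocone (D ⋙ F.toAb)) {j k : J} (f : j ⟶ k)
    (y : F.obj (pt (D.obj j))) :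
    s.ι.app k (tr F (D.map f) y) = s.ι.app j y :=
  ConcreteCategory.congr_hom (s.w f) y

omit [IsFiltered J] in
lemma cocone_add (s : Cocone (D ⋙ F.toAb)) (k : J) (a b : F.obj (pt (D.obj k))) :
    (show s.pt from s.ι.app k (a + b)) =
      (show s.pt from s.ι.app k a) + (show s.pt from s.ι.app k b) :=
  (s.ι.app k).hom.map_add a b

include hc hF

lemma wd (s : Cocone (D ⋙ F.toAb)) {j j' : J} (y : F.obj (pt (D.obj j)))
    (y' : F.obj (pt (D.obj j'))) (h : tr F (c.ι.app j) y = tr F (c.ι.app j') y') :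
    s.ι.app j y = s.ι.app j' y' := by
  let k := IsFiltered.max j j'
  let y₁ := tr F (D.map (IsFiltered.leftToMax j j')) y
  let y₁' := tr F (D.map (IsFiltered.rightToMax j j')) y'
  have h0 : tr F (c.ι.app k) (y₁ - y₁') = 0 := by
    rw [tr_sub', tr_ι_map, tr_ι_map, h, sub_self]
  obtain ⟨k', f, hf⟩ := exists_eq_zero_F hc hF _ h0
  rw [tr_sub', sub_eq_zero] at hf
  rw [← cocone_w_apply s (IsFiltered.leftToMax j j') y,
    ← cocone_w_apply s (IsFiltered.rightToMax j j') y',
    ← cocone_w_apply s f, ← cocone_w_apply s f (tr F (D.map (IsFiltered.rightToMax j j')) y')]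
  exact congrArg _ hf

/-- The descent map on elements. -/
def descFun (s : Cocone (D ⋙ F.toAb)) (x : F.obj (pt c.pt)) : s.pt :=
  s.ι.app (exists_rep_F hc hF x).choose (exists_rep_F hc hF x).choose_spec.choose

lemma descFun_tr (s : Cocone (D ⋙ F.toAb)) {j : J} (y : F.obj (pt (D.obj j))) :
    descFun hc hF s (tr F (c.ι.app j) y) = s.ι.app j y :=
  wd hc hF s _ _ (exists_rep_F hc hF (tr F (c.ι.app j) y)).choose_spec.choose_spec

lemma descFun_add (s : Cocone (D ⋙ F.toAb)) (x x' : F.obj (pt c.pt)) :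
    descFun hc hF s (x + x') = descFun hc hF s x + descFun hc hF s x' := by
  obtain ⟨j, y, rfl⟩ := exists_rep_F hc hF x
  obtain ⟨j', y', rfl⟩ := exists_rep_F hc hF x'
  let k := IsFiltered.max j j'
  let y₁ := tr F (D.map (IsFiltered.leftToMax j j')) y
  let y₁' := tr F (D.map (IsFiltered.rightToMax j j')) y'
  have e : (show F.obj (pt c.pt) from tr F (c.ι.app j) y) +
      (show F.obj (pt c.pt) from tr F (c.ι.app j') y') = tr F (c.ι.app k) (y₁ + y₁') := by
    rw [tr_add, tr_ι_map, tr_ι_map]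
  have e1 := descFun_tr hc hF s y
  have e2 := descFun_tr hc hF s y'
  have e3 := descFun_tr hc hF s (y₁ + y₁')
  have e4 : s.ι.app k (y₁ + y₁') =
      (show s.pt from s.ι.app j y) + (show s.pt from s.ι.app j' y') := by
    refine (cocone_add s k y₁ y₁').trans ?_
    congr 1
    · exact cocone_w_apply s _ y
    · exact cocone_w_apply s _ y'
  exact (congrArg (descFun hc hF s) e).trans (e3.trans (e4.trans (by rw [← e1, ← e2])))

/-- Adequate functors commute with filtered colimits. -/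
def isColimitMapCocone : IsColimit (F.toAb.mapCocone c) where
  desc s := AddCommGrpCat.ofHom (AddMonoidHom.mk' (descFun hc hF s) (descFun_add hc hF s))
  fac s j := by
    ext y
    exact descFun_tr hc hF s y
  uniq s m hm := by
    ext x
    obtain ⟨j, y, rfl⟩ := exists_rep_F hc hF x
    have h1 : (AddMonoidHom.mk' (descFun hc hF s) (descFun_add hc hF s))
        (tr F (c.ι.app j) y) = s.ι.app j y := descFun_tr hc hF s y
    refine Eq.trans ?_ h1.symm
    exact ConcreteCategory.congr_hom (hm j) y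

end Colim

end

end Groth.Agent.Lib.Lead.AdeqFilt
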