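import Groth.Agent.Lib.Lead.AdeqBasic
import Mathlib.RingTheory.Flat.Basic
import Mathlib.RingTheory.RingHom.Flat
import Mathlib.RingTheory.TensorProduct.IsBaseChangePi

/-!
# Flat base change for adequate functors (Stacks 46.3.5)
-/

universe u

open CategoryTheory Limits Opposite TensorProduct

namespace Groth.Agent.Lib.Lead.AdeqFlat

open Adeq Groth.Agent.Lib.Lead.AdeqBasic

noncomputable section

variable {A : Type u} [CommRing A]

/-- Naturality of the base change map `bc` in the functor. -/
lemma bc_naturality {F G : MVF A} (η : F ⟶ G) {B B' : Alg A} (f : B ⟶ B') :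
    (ModuleCat.extendScalars.{u, u, u + 1} f.hom.toRingHom).map (η.app (pt B)) ≫ G.bc f =
      F.bc f ≫ η.app (pt B') := by
  unfold MVF.bc
  rw [← Adjunction.homEquiv_naturality_left_symm, ← Adjunction.homEquiv_naturality_right_symm]
  congr 1
  exact (η.naturality (ptHom f)).symm

lemma bc_naturality_apply {F G : MVF A} (η : F ⟶ G) {B B' : Alg A} (f : B ⟶ B')
    (z : (ModuleCat.extendScalars.{u, u, u + 1} f.hom.toRingHom).obj (F.obj (pt B))) :
    G.bc f ((ModuleCat.extendScalars.{u, u, u + 1} f.hom.toRingHom).map (η.app (pt B)) z) =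
      η.app (pt B') (F.bc f z) := by
  have h := congrArg (fun k => k.hom z) (bc_naturality η f)
  exact h

section

variable {B B' : Alg A} (f : B ⟶ B')

/-- `B'` as a `B`-module through `f`. -/
@[reducible] def modOf : Module (B : Type u) (B' : Type u) := Module.compHom B' f.hom.toRingHom

/-- Build an element of the extension of scalars from a tensor. -/
def ofE (X : ModuleCat.{u + 1} B) (z : letI := modOf f; (B' : Type u) ⊗[(B : Type u)] (X : Type (u + 1))) :
    (ModuleCat.extendScalars.{u, u, u + 1} f.hom.toRingHom).obj X := z

/-- View an element of the extension of scalars as a tensor. -/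
def toE (X : ModuleCat.{u + 1} B)
    (z : (ModuleCat.extendScalars.{u, u, u + 1} f.hom.toRingHom).obj X) :
    letI := modOf f; (B' : Type u) ⊗[(B : Type u)] (X : Type (u + 1)) := z

lemma bc_tmul (F : MVF A) (b' : B') (x : F.obj (pt B)) :
    letI := modOf f
    F.bc f (ofE f _ (b' ⊗ₜ[(B : Type u)] x)) = b' • tr F f x := rfl

lemma bc_add (F : MVF A) (z z' : (ModuleCat.extendScalars.{u, u, u + 1} f.hom.toRingHom).obj (F.obj (pt B))) :
    F.bc f (z + z') = F.bc f z + F.bc f z' := map_add _ _ _

lemma bc_zero (F : MVF A) : F.bc f 0 = 0 := map_zero _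

end

/-- The base change map of `underline M` is bijective. -/
lemma bc_underline_bijective (M : ModuleCat.{u + 1} A) {B B' : Alg A} (f : B ⟶ B') :
    Function.Bijective ((U M).bc f) := by
  letI : Algebra (B : Type u) (B' : Type u) := f.hom.toRingHom.toAlgebra
  haveI : IsScalarTower A (B : Type u) (B' : Type u) :=
    IsScalarTower.of_algebraMap_eq (fun a => (f.hom.commutes a).symm)
  let e := TensorProduct.AlgebraTensorModule.cancelBaseChange A (B : Type u) (B' : Type u)
    (B' : Type u) (M : Type (u + 1))
  have key : ∀ z : (B' : Type u) ⊗[(B : Type u)] ((B : Type u) ⊗[A] (M : Type (u + 1))),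
      toT ((U M).bc f (ofE f _ z)) = e z := by
    intro z
    induction z using TensorProduct.induction_on with
    | zero =>
      rw [map_zero]
      exact congrArg toT (bc_zero f (U M))
    | tmul b' x =>
      induction x using TensorProduct.induction_on with
      | zero =>
        rw [TensorProduct.tmul_zero, map_zero]
        exact congrArg toT (bc_zero f (U M))
      | tmul b m =>
        rw [TensorProduct.AlgebraTensorModule.cancelBaseChange_tmul]
        show toT (b' • tr (U M) f (ofT (b ⊗ₜ[A] m))) = _
        rw [toT_smul, toT_tr, toT_ofT, LinearMap.rTensor_tmul, TensorProduct.smul_tmul']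
        congr 1
        show b' * f.hom b = f.hom b * b'
        exact mul_comm _ _
      | add x y hx hy =>
        rw [TensorProduct.tmul_add, map_add, ← hx, ← hy]
        exact congrArg toT (bc_add f (U M) _ _)
    | add x y hx hy =>
      rw [map_add, ← hx, ← hy]
      exact congrArg toT (bc_add f (U M) _ _)
  constructor
  · intro z z' h
    have h1 := key (toE f _ z)
    have h2 := key (toE f _ z')
    apply e.injective
    show e (toE f _ z) = e (toE f _ z')
    rw [← h1, ← h2]
    exact congrArg toT h
  · intro y
    refine ⟨ofE f _ (e.symm (toT y)), ?_⟩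
    apply toT_injective
    rw [key, LinearEquiv.apply_symm_apply]

theorem isIso_bc_of_adequate_flat (F : MVF A) (hF : adequate A F) {B B' : Alg A} (f : B ⟶ B')
    (hf : f.hom.toRingHom.Flat) : IsIso (F.bc f) := by
  obtain ⟨M, N, ψ, ι, hι⟩ := exists_isKerPt_of_adequate hF
  letI mB : Module (B : Type u) (B' : Type u) := modOf f
  haveI hflat : Module.Flat (B : Type u) (B' : Type u) := hf
  have hM := bc_underline_bijective M f
  have hN := bc_underline_bijective N f
  have hinj : Function.Injective
      ((ModuleCat.extendScalars.{u, u, u + 1} f.hom.toRingHom).map (ι.app (pt B))) :=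
    Module.Flat.lTensor_preserves_injective_linearMap (M := (B' : Type u))
      (ι.app (pt B)).hom (hι.inj (pt B))
  have hex : Function.Exact
      ((ModuleCat.extendScalars.{u, u, u + 1} f.hom.toRingHom).map (ι.app (pt B)))
      ((ModuleCat.extendScalars.{u, u, u + 1} f.hom.toRingHom).map
        (((underline A).map ψ).app (pt B))) := by
    refine Module.Flat.lTensor_exact (B' : Type u) (f := (ι.app (pt B)).hom)
      (g := (((underline A).map ψ).app (pt B)).hom) ?_
    intro y
    constructor
    · intro hy
      exact hι.surj (pt B) y hy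
    · rintro ⟨x, rfl⟩
      exact hι.w_apply (pt B) x
  rw [ConcreteCategory.isIso_iff_bijective]
  constructor
  · intro z z' hzz'
    apply hinj
    apply hM.1
    rw [bc_naturality_apply, bc_naturality_apply]
    exact congrArg _ hzz'
  · intro y
    obtain ⟨w, hw⟩ := hM.2 (ι.app (pt B') y)
    have hw0 : (ModuleCat.extendScalars.{u, u, u + 1} f.hom.toRingHom).map
        (((underline A).map ψ).app (pt B)) w = 0 := by
      apply hN.1
      rw [bc_naturality_apply, hw, hι.w_apply]
      exact (bc_zero f (U N)).symm
    obtain ⟨z, hz⟩ := (hex w).mp hw0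
    refine ⟨z, ?_⟩
    apply hι.inj (pt B')
    rw [← bc_naturality_apply, hz, hw]

end

end Groth.Agent.Lib.Lead.AdeqFlat
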