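import Groth.Agent.Lib.Lead.AdeqModInst
import Groth.Agent.Lib.Lead.AdeqFF
import Groth.Agent.Lib.Lead.FpqcOver

/-!
# Adequate modules are fpqc sheaves
-/

universe u

open CategoryTheory Limits Opposite TensorProduct AlgebraicGeometry

namespace Groth.Agent.Lib.Lead.AdeqFpqc

open Adeq Groth.Agent.Lib.Lead.AdeqBasic Groth.Agent.Lib.Lead.AdeqModBase
  Groth.Agent.Lib.Lead.AdeqModMain

noncomputable section

variable (K : Precoverage Scheme.{u}) [BigSite.OSh K] {S : Scheme.{u}} (M : BigSite.Mod K S)
  {R : CommRingCat.{u}} (t : Spec R ⟶ S) (B : Type u) [CommRing B] [Algebra R B]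

/-- `Spec R → S` is isomorphic to the affine object attached to the `R`-algebra `R`. -/
def αIso : Over.mk t ≅ (specOver t).obj (op (algOf R R)) := by
  refine Over.isoMk ?_ ?_
  · show Spec R ≅ Spec (CommRingCat.of R)
    exact Iso.refl _
  · show 𝟙 (Spec R) ≫ (Spec.map (CommRingCat.ofHom (algebraMap R R)) ≫ t) = t
    rw [Category.id_comp]
    have h : Spec.map (CommRingCat.ofHom (algebraMap R R)) = 𝟙 (Spec R) := Spec.map_id R
    exact (congrArg (· ≫ t) h).trans (Category.id_comp t)

/-- The structure map as a morphism of algebras. -/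
abbrev eHom : algOf R R ⟶ algOf R B := CommAlgCat.ofHom (Algebra.ofId R B)

/-- `b ↦ b ⊗ 1`. -/
abbrev lHom : algOf R B ⟶ algOf R (B ⊗[R] B) :=
  CommAlgCat.ofHom (Algebra.TensorProduct.includeLeft : B →ₐ[R] B ⊗[R] B)

/-- `b ↦ 1 ⊗ b`. -/
abbrev rHom : algOf R B ⟶ algOf R (B ⊗[R] B) :=
  CommAlgCat.ofHom (Algebra.TensorProduct.includeRight : B →ₐ[R] B ⊗[R] B)

lemma e_l_eq_e_r : eHom (R := R) B ≫ lHom B = eHom B ≫ rHom B := by
  apply CommAlgCat.hom_ext
  exact Subsingleton.elim _ _

/-- The arrow `Spec B → Spec R` over `S`. -/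
def uB : (specOver t).obj (op (algOf R B)) ⟶ Over.mk t :=
  (specOver t).map (eHom B).op ≫ (αIso t).inv

lemma uB_comp_hom : uB t B ≫ (αIso t).hom = (specOver t).map (eHom B).op := by
  unfold uB
  rw [Category.assoc, Iso.inv_hom_id, Category.comp_id]

lemma l_comp_uB : (specOver t).map (lHom B).op ≫ uB t B = (specOver t).map (rHom B).op ≫ uB t B := by
  unfold uB
  rw [← Category.assoc, ← Category.assoc, ← Functor.map_comp, ← Functor.map_comp, ← op_comp,
    ← op_comp, e_l_eq_e_r]

/-- The sheaf condition for the single arrow `Spec B → Spec R` over `S`, `B` faithfully flat. -/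
theorem core (hF : adequate R ((toMVF K t).obj M)) [Module.FaithfullyFlat R B] :
    Presieve.IsSheafFor (M.val.presheaf ⋙ forget AddCommGrpCat.{u + 1})
      (Presieve.ofArrows (fun _ : PUnit.{1} => (specOver t).obj (op (algOf R B)))
        (fun _ => uB t B)) := by
  rw [Presieve.isSheafFor_arrows_iff]
  intro x hx
  obtain ⟨hinj, hglue⟩ := AdeqFF.ff_exact ((toMVF K t).obj M) hF B
  have hcompat := hx PUnit.unit PUnit.unit _ ((specOver t).map (lHom B).op)
    ((specOver t).map (rHom B).op) (l_comp_uB t B)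
  have hcompat' : M.val.presheaf.map ((specOver t).map (lHom B).op).op (x PUnit.unit) =
      M.val.presheaf.map ((specOver t).map (rHom B).op).op (x PUnit.unit) := hcompat
  obtain ⟨z, hz⟩ := hglue (x PUnit.unit) hcompat'
  have hz' : M.val.presheaf.map ((specOver t).map (eHom B).op).op z = x PUnit.unit := hz
  refine ⟨M.val.presheaf.map (αIso t).hom.op z, ?_, ?_⟩
  · rintro ⟨⟩
    show M.val.presheaf.map (uB t B).op (M.val.presheaf.map (αIso t).hom.op z) = x PUnit.unit
    rw [← map_comp_apply', uB_comp_hom]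
    exact hz'
  · intro t₁ ht₁
    have h1 : M.val.presheaf.map (uB t B).op t₁ = x PUnit.unit := ht₁ PUnit.unit
    have h2 : M.val.presheaf.map ((specOver t).map (eHom B).op).op
        (M.val.presheaf.map (αIso t).inv.op t₁) = x PUnit.unit := by
      rw [← map_comp_apply']
      exact h1
    have h3 : M.val.presheaf.map (αIso t).inv.op t₁ = z := by
      apply hinj
      exact h2.trans hz'.symm
    show t₁ = M.val.presheaf.map (αIso t).hom.op z
    rw [← h3, ← map_comp_apply', Iso.hom_inv_id, op_id, M.val.presheaf.map_id]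
    rfl

theorem isSheafFor_aff
    (hF : ∀ {R : CommRingCat.{u}} (t : Spec R ⟶ S), adequate R ((toMVF K t).obj M))
    {R A : CommRingCat.{u}} (f : R ⟶ A) (hf : Flat (Spec.map f)) (hs : Surjective (Spec.map f))
    (t : Spec R ⟶ S) :
    Presieve.IsSheafFor (M.val.presheaf ⋙ forget AddCommGrpCat.{u + 1})
      ((Sieve.overEquiv (Over.mk t)).symm
        (Sieve.generate (Presieve.singleton (Spec.map f)))).arrows := by
  letI : Algebra R A := f.hom.toAlgebra
  haveI : Module.FaithfullyFlat R A := (flat_and_surjective_SpecMap_iff f).mp ⟨hf, hs⟩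
  have h := core K M t A (hF t)
  rw [Presieve.isSheafFor_iff_generate] at h
  have e : (Sieve.overEquiv (Over.mk t)).symm (Sieve.generate (Presieve.singleton (Spec.map f))) =
      Sieve.generate (Presieve.ofArrows (fun _ : PUnit.{1} => (specOver t).obj (op (algOf R A)))
        (fun _ => uB t A)) := by
    rw [OrderIso.symm_apply_eq]
    have h1 := Sieve.overEquiv_ofArrows (Y := Over.mk t)
      (fun _ : PUnit.{1} => (specOver t).obj (op (algOf R A))) (fun _ => uB t A)
    refine Eq.trans ?_ h1.symm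
    show _ = Sieve.generate (Presieve.ofArrows _ _)
    rw [Presieve.ofArrows_pUnit]
    have h2 : (uB t A).left = Spec.map f := by
      unfold uB
      rw [Over.comp_left]
      show Spec.map (CommRingCat.ofHom (eHom (R := R) A).hom.toRingHom) ≫ 𝟙 _ = Spec.map f
      rw [Category.comp_id]
      rfl
    rw [h2]
    rfl
  rw [e]
  exact h

theorem isSheaf_fpqc [K.IsStableUnderBaseChange] (href : HasAffineRefinements K)
    (hzar : Scheme.zariskiPrecoverage ≤ K) (hM : adequateMod K S M) :
    Presheaf.IsSheaf (QuotSh.J Scheme.fpqcPrecoverage S)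
      ((BigSite.toAbMod K S).obj M).obj := by
  rw [Presheaf.isSheaf_iff_isSheaf_forget _ _ (forget AddCommGrpCat.{u + 1}),
    isSheaf_iff_isSheaf_of_type]
  apply FpqcOver.isSheaf_fpqc_over
  · have hM' : Presheaf.IsSheaf (QuotSh.J K S) M.val.presheaf := M.isSheaf
    rw [Presheaf.isSheaf_iff_isSheaf_forget _ _ (forget AddCommGrpCat.{u + 1}),
      isSheaf_iff_isSheaf_of_type] at hM'
    refine Presieve.isSheaf_of_le _ ?_ hM'
    intro Y R hR
    exact Precoverage.toGrothendieck_mono hzar _ hR
  · intro R A f hf hs t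
    exact isSheafFor_aff K M (fun t => adequate_toMVF K href M hM _ t) f hf hs t

end

end Groth.Agent.Lib.Lead.AdeqFpqc
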