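import Groth.Agent.Lib.Lead.AdeqDescentMVF

/-!
# Vanishing of the first Amitsur cohomology of an adequate functor along a faithfully flat algebra
-/

universe u

open CategoryTheory Limits Opposite TensorProduct

namespace Groth.Agent.Lib.Lead.AdeqH1

open Adeq Groth.Agent.Lib.Lead.AdeqBasic Groth.Agent.Lib.Lead.AdeqFlat
  Groth.Agent.Lib.Lead.AdeqFBC Groth.Agent.Lib.Lead.AdeqDescentMVF

noncomputable section

variable {A : Type u} [CommRing A] (F : MVF A) (B : Type u) [CommRing B] [Algebra A B]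

/-- `b ↦ 1 ⊗ b`. -/
abbrev ir (T : Alg A) : algOf A B ⟶ TB T B :=
  CommAlgCat.ofHom (Algebra.TensorProduct.includeRight : B →ₐ[A] (T : Type u) ⊗[A] B)

lemma tr_neg {T T' : Alg A} (f : T ⟶ T') (x : F.obj (pt T)) : tr F f (-x) = - tr F f x :=
  map_neg (trHom F f) x

lemma tr_sub {T T' : Alg A} (f : T ⟶ T') (x y : F.obj (pt T)) :
    tr F f (x - y) = tr F f x - tr F f y :=
  map_sub (trHom F f) x y

theorem h1 [Module.FaithfullyFlat A B] (hF : adequate A F)
    (c : F.obj (pt (TB (algOf A B) B)))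
    (hc : tr F (tmap B (ir B (algOf A B))) c - tr F (tmap B (il (algOf A B) B)) c +
      tr F (il (TB (algOf A B) B) B) c = 0) :
    ∃ b : F.obj (pt (algOf A B)),
      tr F (ir B (algOf A B)) b - tr F (il (algOf A B) B) b = c := by
  obtain ⟨y, hy⟩ := descent F B ![1, -1] ![ir B (algOf A B), il (algOf A B) B] hF c
    ⟨-c, by
      rw [delta'_apply, Fin.sum_univ_two]
      simp only [Matrix.cons_val_zero, Matrix.cons_val_one, one_smul, neg_smul, tr_neg]
      rw [neg_neg]
      have h := eq_neg_of_add_eq_zero_right hc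
      rw [h]
      abel⟩
  refine ⟨y, ?_⟩
  rw [delta_apply, Fin.sum_univ_two] at hy
  simp only [Matrix.cons_val_zero, Matrix.cons_val_one, one_smul, neg_smul] at hy
  rw [← hy]
  abel

end

end Groth.Agent.Lib.Lead.AdeqH1
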