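import Mathlib
import Groth.Prelude.Def_Adeq2
import Groth.Agent.Lib.Lead.AdeqFamDescent

/-!
# Adequate modules on big sites: descent of adequacy along a finite affine covering
-/

universe u

open CategoryTheory Limits Opposite TensorProduct AlgebraicGeometry

namespace Groth.Agent.Lib.Lead.AdeqModBase

open Adeq Groth.Agent.Lib.Lead.AdeqBasic

noncomputable section

section Site

universe v₁ u₁ w

variable {𝒞 : Type u₁} [Category.{v₁} 𝒞] (J : GrothendieckTopology 𝒞)
  (G : 𝒞ᵒᵖ ⥤ AddCommGrpCat.{max u₁ v₁}) (hG : Presheaf.IsSheaf J G)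

lemma map_comp_apply' {X Y Z : 𝒞} (g : X ⟶ Y) (f : Y ⟶ Z) (z : G.obj (op Z)) :
    G.map (g ≫ f).op z = G.map g.op (G.map f.op z) := by
  rw [op_comp, G.map_comp]; rfl

include hG

theorem sheaf_sep {Y : 𝒞} {I : Type*} (X : I → 𝒞) (u : ∀ i, X i ⟶ Y)
    (hcov : Sieve.ofArrows X u ∈ J Y) (x x' : G.obj (op Y))
    (h : ∀ i, G.map (u i).op x = G.map (u i).op x') : x = x' := by
  have hG' : Presieve.IsSheaf J (G ⋙ forget AddCommGrpCat) :=
    (isSheaf_iff_isSheaf_of_type J _).1
      ((Presheaf.isSheaf_iff_isSheaf_forget J G (forget AddCommGrpCat)).1 hG)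
  have hsep := (hG' _ hcov).isSeparatedFor
  apply hsep.ext
  rintro Z f ⟨W, g, _, ⟨i⟩, rfl⟩
  show G.map (g ≫ u i).op x = G.map (g ≫ u i).op x'
  rw [map_comp_apply', map_comp_apply', h i]

theorem sheaf_sep_zero {Y : 𝒞} {I : Type*} (X : I → 𝒞) (u : ∀ i, X i ⟶ Y)
    (hcov : Sieve.ofArrows X u ∈ J Y) (x : G.obj (op Y))
    (h : ∀ i, G.map (u i).op x = 0) : x = 0 := by
  apply sheaf_sep J G hG X u hcov
  intro i
  rw [h i]
  exact ((G.map (u i).op).hom.map_zero).symm

theorem sheaf_glue {Y : 𝒞} {I : Type*} (X : I → 𝒞) (u : ∀ i, X i ⟶ Y)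
    (hcov : Sieve.ofArrows X u ∈ J Y) (X₂ : I → I → 𝒞) (p : ∀ i j, X₂ i j ⟶ X i)
    (q : ∀ i j, X₂ i j ⟶ X j)
    (hpb : ∀ i j (W : 𝒞) (g₁ : W ⟶ X i) (g₂ : W ⟶ X j), g₁ ≫ u i = g₂ ≫ u j →
      ∃ k : W ⟶ X₂ i j, k ≫ p i j = g₁ ∧ k ≫ q i j = g₂)
    (y : ∀ i, G.obj (op (X i)))
    (hy : ∀ i j, G.map (p i j).op (y i) = G.map (q i j).op (y j)) :
    ∃ x : G.obj (op Y), ∀ i, G.map (u i).op x = y i := by
  have hG' : Presieve.IsSheaf J (G ⋙ forget AddCommGrpCat) :=
    (isSheaf_iff_isSheaf_of_type J _).1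
      ((Presheaf.isSheaf_iff_isSheaf_forget J G (forget AddCommGrpCat)).1 hG)
  have h1 : Presieve.IsSheafFor (G ⋙ forget AddCommGrpCat) (Presieve.ofArrows X u) :=
    (Presieve.isSheafFor_iff_generate _).2 (hG' _ hcov)
  rw [Presieve.isSheafFor_arrows_iff] at h1
  have hc : Presieve.Arrows.Compatible (G ⋙ forget AddCommGrpCat) u y := by
    intro i j Z gi gj hgg
    obtain ⟨k, hk1, hk2⟩ := hpb i j Z gi gj hgg
    subst hk1 hk2
    show G.map (k ≫ p i j).op (y i) = G.map (k ≫ q i j).op (y j)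
    rw [map_comp_apply', map_comp_apply', hy]
  obtain ⟨x, hx, _⟩ := h1 y hc
  exact ⟨x, hx⟩

end Site

lemma over_weak_pullback {C : Type*} [Category C] {S : C} {Y X₁ X₂ X₁₂ : Over S}
    (u₁ : X₁ ⟶ Y) (u₂ : X₂ ⟶ Y) (p : X₁₂ ⟶ X₁) (q : X₁₂ ⟶ X₂)
    (h : IsPullback p.left q.left u₁.left u₂.left)
    (W : Over S) (g₁ : W ⟶ X₁) (g₂ : W ⟶ X₂) (hg : g₁ ≫ u₁ = g₂ ≫ u₂) :
    ∃ k : W ⟶ X₁₂, k ≫ p = g₁ ∧ k ≫ q = g₂ := by
  have hg' : g₁.left ≫ u₁.left = g₂.left ≫ u₂.left := by
    have := congrArg CommaMorphism.left hg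
    simpa using this
  refine ⟨Over.homMk (h.lift g₁.left g₂.left hg') ?_, ?_, ?_⟩
  · rw [← Over.w p, ← Category.assoc, h.lift_fst, Over.w]
  · ext
    simp
  · ext
    simp

section Rings

variable {R : Type u} [CommRing R]

/-- The underlying map of commutative rings of a map of algebras. -/
abbrev rh {D D' : Alg R} (f : D ⟶ D') : CommRingCat.of D ⟶ CommRingCat.of D' :=
  CommRingCat.ofHom f.hom.toRingHom

variable (A₁ A₂ : Type u) [CommRing A₁] [Algebra R A₁] [CommRing A₂] [Algebra R A₂] (C : Alg R)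

lemma isPushout_unit :
    IsPushout (CommRingCat.ofHom (algebraMap R C)) (CommRingCat.ofHom (algebraMap R A₁))
      (rh (Alg.unit R A₁ C))
      (CommRingCat.ofHom (Algebra.TensorProduct.includeLeftRingHom : A₁ →+* A₁ ⊗[R] C)) :=
  (CommRingCat.isPushout_tensorProduct R A₁ C).flip

lemma isPushout_units_aux {C X : Alg R} (f : C ⟶ X) :
    IsPushout (rh f) (rh (Alg.unit R A₂ C)) (rh (Alg.unit R A₂ X))
      (rh ((Alg.restr R A₂).map ((Alg.baseChange R A₂).map f))) := by
  have t := CommRingCat.isPushout_tensorProduct R A₂ C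
  have s := CommRingCat.isPushout_tensorProduct R A₂ X
  have e1 : CommRingCat.ofHom (algebraMap R X) =
      CommRingCat.ofHom (algebraMap R C) ≫ rh f := by
    ext r
    exact (f.hom.commutes r).symm
  have e2 : CommRingCat.ofHom
        (Algebra.TensorProduct.includeLeftRingHom : A₂ →+* A₂ ⊗[R] X) =
      CommRingCat.ofHom (Algebra.TensorProduct.includeLeftRingHom : A₂ →+* A₂ ⊗[R] C) ≫
        rh ((Alg.restr R A₂).map ((Alg.baseChange R A₂).map f)) := by
    ext b
    show b ⊗ₜ[R] (1 : X) =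
      Algebra.TensorProduct.map (AlgHom.id A₂ A₂) f.hom (b ⊗ₜ[R] (1 : C))
    rw [Algebra.TensorProduct.map_tmul, map_one]
    rfl
  rw [e1, e2] at s
  have p : CommRingCat.ofHom (Algebra.TensorProduct.includeRight.toRingHom : C →+* A₂ ⊗[R] C) ≫
      rh ((Alg.restr R A₂).map ((Alg.baseChange R A₂).map f)) =
      rh f ≫
        CommRingCat.ofHom (Algebra.TensorProduct.includeRight.toRingHom : X →+* A₂ ⊗[R] X) := by
    ext c
    show Algebra.TensorProduct.map (AlgHom.id A₂ A₂) f.hom ((1 : A₂) ⊗ₜ[R] c) =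
      (1 : A₂) ⊗ₜ[R] (f.hom c)
    rw [Algebra.TensorProduct.map_tmul]
    rfl
  exact (IsPushout.of_top s p t).flip

lemma isPushout_units :
    IsPushout (rh (Alg.unit R A₁ C)) (rh (Alg.unit R A₂ C))
      (rh (Alg.unit R A₂ ((Alg.restr R A₁).obj ((Alg.baseChange R A₁).obj C))))
      (rh ((Alg.restr R A₂).map ((Alg.baseChange R A₂).map (Alg.unit R A₁ C)))) :=
  isPushout_units_aux A₂ (Alg.unit R A₁ C)

end Rings

section Geom

variable (K : Precoverage Scheme.{u}) {S : Scheme.{u}} {R : CommRingCat.{u}} (a : Spec R ⟶ S)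

lemma isPullback_unit (A₁ : Type u) [CommRing A₁] [Algebra R A₁] (C : Alg R) :
    IsPullback (Spec.map (rh (Alg.unit R A₁ C)))
      (Spec.map (CommRingCat.ofHom
        (Algebra.TensorProduct.includeLeftRingHom : A₁ →+* A₁ ⊗[R] C)))
      (Spec.map (CommRingCat.ofHom (algebraMap R C)))
      (Spec.map (CommRingCat.ofHom (algebraMap R A₁))) :=
  isPullback_SpecMap_of_isPushout _ _ _ _ (isPushout_unit A₁ C)

variable {n : ℕ} (A' : Fin n → Type u) [∀ j, CommRing (A' j)] [∀ j, Algebra R (A' j)]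

theorem cover_mem [K.IsStableUnderBaseChange]
    (hcov : Presieve.ofArrows (fun j => Spec (CommRingCat.of (A' j)))
      (fun j => Spec.map (CommRingCat.ofHom (algebraMap R (A' j)))) ∈ K.coverings (Spec R))
    (C : Alg R) :
    Sieve.ofArrows
      (fun j => (specOver a).obj (op ((Alg.restr R (A' j)).obj ((Alg.baseChange R (A' j)).obj C))))
      (fun j => (specOver a).map (Alg.unit R (A' j) C).op) ∈
        QuotSh.J K S ((specOver a).obj (op C)) := by
  rw [GrothendieckTopology.mem_over_iff, Sieve.overEquiv_ofArrows]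
  apply Precoverage.generate_mem_toGrothendieck
  exact Precoverage.mem_coverings_of_isPullback
    (fun j => Spec.map (CommRingCat.ofHom (algebraMap R (A' j)))) hcov
    (Spec.map (CommRingCat.ofHom (algebraMap R C))) _
    (fun j => Spec.map (CommRingCat.ofHom
      (Algebra.TensorProduct.includeLeftRingHom : A' j →+* A' j ⊗[R] C)))
    (fun j => isPullback_unit (A' j) C)

variable [BigSite.OSh K] (M : BigSite.Mod K S)

lemma toMVF_map_apply {D D' : Alg R} (f : D ⟶ D') (x : ((toMVF K a).obj M).obj (pt D)) :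
    ((toMVF K a).obj M).map (ptHom f) x = M.val.presheaf.map ((specOver a).map f.op).op x := rfl

theorem adequate_of_cover [K.IsStableUnderBaseChange]
    (hcov : Presieve.ofArrows (fun j => Spec (CommRingCat.of (A' j)))
      (fun j => Spec.map (CommRingCat.ofHom (algebraMap R (A' j)))) ∈ K.coverings (Spec R))
    (hB : ∀ j, adequate (A' j) ((restr R (A' j)).obj ((toMVF K a).obj M))) :
    adequate R ((toMVF K a).obj M) := by
  apply AdeqFamDescent.adequate_of_family A' _ hB
  · intro C x hx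
    exact sheaf_sep_zero (QuotSh.J K S) M.val.presheaf M.isSheaf
      (fun j => (specOver a).obj (op ((Alg.restr R (A' j)).obj ((Alg.baseChange R (A' j)).obj C))))
      (fun j => (specOver a).map (Alg.unit R (A' j) C).op) (cover_mem K a A' hcov C) x
      (fun j => hx j)
  · intro C y hy
    exact sheaf_glue (QuotSh.J K S) M.val.presheaf M.isSheaf
      (fun j => (specOver a).obj (op ((Alg.restr R (A' j)).obj ((Alg.baseChange R (A' j)).obj C))))
      (fun j => (specOver a).map (Alg.unit R (A' j) C).op) (cover_mem K a A' hcov C)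
      (fun j k => (specOver a).obj (op ((Alg.restr R (A' k)).obj ((Alg.baseChange R (A' k)).obj
        ((Alg.restr R (A' j)).obj ((Alg.baseChange R (A' j)).obj C))))))
      (fun j k => (specOver a).map (Alg.unit R (A' k)
        ((Alg.restr R (A' j)).obj ((Alg.baseChange R (A' j)).obj C))).op)
      (fun j k => (specOver a).map ((Alg.restr R (A' k)).map
        ((Alg.baseChange R (A' k)).map (Alg.unit R (A' j) C))).op)
      (fun j k W g₁ g₂ hg => over_weak_pullback _ _ _ _
        (isPullback_SpecMap_of_isPushout _ _ _ _ (isPushout_units (A' j) (A' k) C)) W g₁ g₂ hg)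
      y hy

end Geom

end

end Groth.Agent.Lib.Lead.AdeqModBase
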