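import Groth.Agent.Lib.Lead.AdeqSheafify2
import Groth.Agent.Lib.Lead.AdeqColim
import Groth.Agent.Lib.Lead.AdeqCoker

/-!
# Colimits and cokernels of adequate modules on the big fppf site
-/

universe w' w u

open CategoryTheory Limits Opposite TensorProduct AlgebraicGeometry

namespace Groth.Agent.Lib.Lead.AdeqModColim

open Adeq Groth.Agent.Lib.Lead.AdeqBasic Groth.Agent.Lib.Lead.AdeqModBase
  Groth.Agent.Lib.Lead.AdeqModMain Groth.Agent.Lib.Lead.AdeqSheafify

noncomputable section

section Preserves

variable (K : Precoverage Scheme.{u}) [BigSite.OSh K] {S : Scheme.{u}} {R : CommRingCat.{u}}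
  (a : Spec R ⟶ S)

/-- Evaluating `F_{P,R}` at `B` is evaluating `P` at `Spec B → S` and restricting scalars. -/
def evalIso (X : (Alg R)ᵒᵖᵒᵖ) :
    toMVFPre K a ⋙ PresheafOfModules.evaluation (ringOf R) X ≅
      PresheafOfModules.evaluation (BigSite.ORing K S).obj
          (op ((specOver a).obj (op X.unop.unop))) ⋙
        ModuleCat.restrictScalars (toSect K a X.unop.unop) :=
  NatIso.ofComponents (fun P => Iso.refl _) (by intros; rfl)

variable {J : Type w} [Category.{w'} J] [HasColimitsOfShape J AddCommGrpCat.{u + 1}]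

instance preservesColimit_toMVFPre
    (D' : J ⥤ PresheafOfModules.{u + 1} (BigSite.ORing K S).obj) :
    PreservesColimit D' (toMVFPre K a) := by
  apply preservesColimit_of_preserves_colimit_cocone (colimit.isColimit D')
  apply PresheafOfModules.evaluationJointlyReflectsColimits
  intro X
  have h1 : IsColimit ((PresheafOfModules.evaluation (BigSite.ORing K S).obj
      (op ((specOver a).obj (op X.unop.unop))) ⋙
        ModuleCat.restrictScalars (toSect K a X.unop.unop)).mapCocone (colimit.cocone D')) :=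
    isColimitOfPreserves _ (colimit.isColimit D')
  have h2 := IsColimit.mapCoconeEquiv (evalIso K a X).symm h1
  exact h2.ofIsoColimit (Functor.mapCoconeMapCocone _).symm

end Preserves

section Main

variable {S : Scheme.{u}}

/-- Sheafification. -/
abbrev Lf : PresheafOfModules.{u + 1} (BigSite.ORing Scheme.fppfPrecoverage S).obj ⥤
    BigSite.Mod Scheme.fppfPrecoverage S :=
  PresheafOfModules.sheafification (𝟙 (BigSite.ORing Scheme.fppfPrecoverage S).obj)

/-- The forgetful functor to presheaves of modules. -/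
abbrev Gf : BigSite.Mod Scheme.fppfPrecoverage S ⥤
    PresheafOfModules.{u + 1} (BigSite.ORing Scheme.fppfPrecoverage S).obj :=
  SheafOfModules.forget (BigSite.ORing Scheme.fppfPrecoverage S) ⋙
    PresheafOfModules.restrictScalars (𝟙 (BigSite.ORing Scheme.fppfPrecoverage S).obj)

/-- The sheafification adjunction. -/
abbrev adjf : Lf (S := S) ⊣ Gf :=
  PresheafOfModules.sheafificationAdjunction (𝟙 (BigSite.ORing Scheme.fppfPrecoverage S).obj)

lemma adequate_Gf (M : BigSite.Mod Scheme.fppfPrecoverage S)
    (hM : adequateMod Scheme.fppfPrecoverage S M) (R : CommRingCat.{u}) (a : Spec R ⟶ S) :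
    adequate R ((toMVFPre Scheme.fppfPrecoverage a).obj (Gf.obj M)) :=
  adequate_toMVF Scheme.fppfPrecoverage AdeqModInst.hasAffineRefinements_fppf M hM R a

theorem adequateMod_colimit {J : Type (u + 1)} [SmallCategory J]
    (D : J ⥤ BigSite.Mod Scheme.fppfPrecoverage S)
    (hD : ∀ j, adequateMod Scheme.fppfPrecoverage S (D.obj j)) :
    adequateMod Scheme.fppfPrecoverage S (colimit D) := by
  have hP : ∀ (R : CommRingCat.{u}) (a : Spec R ⟶ S),
      adequate R ((toMVFPre Scheme.fppfPrecoverage a).obj (colimit (D ⋙ Gf))) := by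
    intro R a
    apply (adequate R).prop_of_iso
      (preservesColimitIso (toMVFPre Scheme.fppfPrecoverage a) (D ⋙ Gf)).symm
    apply AdeqColim.adequate_colimit
    intro j
    exact adequate_Gf (D.obj j) (hD j) R a
  have h1 := adequate_sheafification (colimit (D ⋙ Gf)) hP
  haveI : PreservesColimit (D ⋙ Gf) (Lf (S := S)) := (adjf (S := S)).leftAdjoint_preservesColimits.preservesColimitsOfShape.preservesColimit
  let e1 : Lf.obj (colimit (D ⋙ Gf)) ≅ colimit ((D ⋙ Gf) ⋙ Lf) := preservesColimitIso Lf (D ⋙ Gf)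
  let e2 : (D ⋙ Gf) ⋙ Lf ≅ D :=
    Functor.associator _ _ _ ≪≫ Functor.isoWhiskerLeft D (asIso (adjf (S := S)).counit) ≪≫
      Functor.rightUnitor D
  let e3 : colimit ((D ⋙ Gf) ⋙ Lf) ≅ colimit D := HasColimit.isoOfNatIso e2
  exact (adequateMod Scheme.fppfPrecoverage S).prop_of_iso (e1 ≪≫ e3) h1

theorem adequateMod_cokernel {M N : BigSite.Mod Scheme.fppfPrecoverage S} (φ : M ⟶ N)
    (hM : adequateMod Scheme.fppfPrecoverage S M) (hN : adequateMod Scheme.fppfPrecoverage S N) :
    adequateMod Scheme.fppfPrecoverage S (cokernel φ) := by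
  have hP : ∀ (R : CommRingCat.{u}) (a : Spec R ⟶ S),
      adequate R ((toMVFPre Scheme.fppfPrecoverage a).obj (cokernel (Gf.map φ))) := by
    intro R a
    apply (adequate R).prop_of_iso
      (PreservesCokernel.iso (toMVFPre Scheme.fppfPrecoverage a) (Gf.map φ)).symm
    exact AdeqCoker.adequate_cokernel _ (adequate_Gf M hM R a) (adequate_Gf N hN R a)
  have h1 := adequate_sheafification (cokernel (Gf.map φ)) hP
  haveI : PreservesColimit (parallelPair (Gf.map φ) 0) (Lf (S := S)) :=
    (adjf (S := S)).leftAdjoint_preservesColimits.preservesColimitsOfShape.preservesColimit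
  haveI : (Lf (S := S)).PreservesZeroMorphisms :=
    Functor.preservesZeroMorphisms_of_isLeftAdjoint _
  let e1 : Lf.obj (cokernel (Gf.map φ)) ≅ cokernel (Lf.map (Gf.map φ)) :=
    PreservesCokernel.iso Lf (Gf.map φ)
  let e2 : cokernel (Lf.map (Gf.map φ)) ≅ cokernel φ :=
    cokernel.mapIso _ _ (asIso ((adjf (S := S)).counit.app M)) (asIso ((adjf (S := S)).counit.app N))
      ((adjf (S := S)).counit.naturality φ)
  exact (adequateMod Scheme.fppfPrecoverage S).prop_of_iso (e1 ≪≫ e2) h1

end Main

end

end Groth.Agent.Lib.Lead.AdeqModColim
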