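import Groth.Agent.Lib.Lead.AdeqModInst

/-!
# Adequate modules: pullback, locality, kernels
-/

universe u

open CategoryTheory Limits Opposite TensorProduct AlgebraicGeometry

namespace Groth.Agent.Lib.Lead.AdeqModPull

open Adeq Groth.Agent.Lib.Lead.AdeqBasic Groth.Agent.Lib.Lead.AdeqModBase
  Groth.Agent.Lib.Lead.AdeqModMain

noncomputable section

section General

universe v v₁ u₁ u₀

variable {C : Type u₁} [Category.{v₁} C] {R : Cᵒᵖ ⥤ RingCat.{u₀}}

lemma isKerPt_of_isLimit' {F G H : PresheafOfModules.{v} R} (f : F ⟶ G) (g : G ⟶ H)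
    (w : f ≫ g = 0) (h : IsLimit (KernelFork.ofι f w)) : IsKerPt f g := by
  let i := IsLimit.conePointUniqueUpToIso h (limit.isLimit (parallelPair g 0))
  have hi : i.hom ≫ kernel.ι g = f :=
    IsLimit.conePointUniqueUpToIso_hom_comp h (limit.isLimit _) WalkingParallelPair.zero
  rw [← hi]
  exact (isKerPt_kernel g).of_iso_comp i

end General

section Ker

variable (K : Precoverage Scheme.{u}) [BigSite.OSh K] {S : Scheme.{u}}
  {R : CommRingCat.{u}} (a : Spec R ⟶ S)

lemma toMVFPre_isKerPt {P Q Q' : PresheafOfModules.{u + 1} (BigSite.ORing K S).obj}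
    {ι : P ⟶ Q} {g : Q ⟶ Q'} (h : IsKerPt ι g) :
    IsKerPt ((toMVFPre K a).map ι) ((toMVFPre K a).map g) where
  w := by
    rw [← Functor.map_comp, h.w, Functor.map_zero]
  inj X := h.inj (op ((specOver a).obj (op X.unop.unop)))
  surj X y hy := h.surj (op ((specOver a).obj (op X.unop.unop))) y hy

lemma toMVF_isKerPt_kernel {M N : BigSite.Mod K S} (φ : M ⟶ N) :
    IsKerPt ((toMVF K a).map (kernel.ι φ)) ((toMVF K a).map φ) := by
  apply toMVFPre_isKerPt K a
  let c := KernelFork.ofι (kernel.ι φ) (kernel.condition φ)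
  have hc : IsLimit c := kernelIsKernel φ
  have hc' := KernelFork.mapIsLimit c hc (SheafOfModules.forget (BigSite.ORing K S))
  have w : (SheafOfModules.forget (BigSite.ORing K S)).map (kernel.ι φ) ≫
      (SheafOfModules.forget (BigSite.ORing K S)).map φ = 0 := by
    rw [← Functor.map_comp, kernel.condition, Functor.map_zero]
  exact isKerPt_of_isLimit' _ _ w hc'

end Ker

section Pull

variable (K : Precoverage Scheme.{u}) [BigSite.OSh K] {S T : Scheme.{u}} (f : T ⟶ S)
  (M : BigSite.Mod K S) {R : CommRingCat.{u}} (b : Spec R ⟶ T)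

/-- The two objects of the big site of `S` attached to an `R`-algebra. -/
def pIso (C : Alg R) :
    (specOver (b ≫ f)).obj (op C) ≅ (Over.map f).obj ((specOver b).obj (op C)) := by
  refine Over.isoMk ?_ ?_
  · show Spec (CommRingCat.of C) ≅ Spec (CommRingCat.of C)
    exact Iso.refl _
  · show 𝟙 (Spec (CommRingCat.of C)) ≫
        ((Spec.map (CommRingCat.ofHom (algebraMap R C)) ≫ b) ≫ f) =
      Spec.map (CommRingCat.ofHom (algebraMap R C)) ≫ b ≫ f
    rw [Category.id_comp, Category.assoc]

@[simp] lemma pIso_hom_left (C : Alg R) :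
    (pIso f b C).hom.left = 𝟙 (Spec (CommRingCat.of C)) := rfl

lemma pIso_naturality {C C' : Alg R} (g : C ⟶ C') :
    (pIso f b C').hom ≫ (Over.map f).map ((specOver b).map g.op) =
      (specOver (b ≫ f)).map g.op ≫ (pIso f b C).hom := by
  apply Over.OverMorphism.ext
  rw [Over.comp_left, Over.comp_left, pIso_hom_left, pIso_hom_left]
  show 𝟙 (Spec (CommRingCat.of C')) ≫ Spec.map (CommRingCat.ofHom g.hom.toRingHom) =
    Spec.map (CommRingCat.ofHom g.hom.toRingHom) ≫ 𝟙 (Spec (CommRingCat.of C))
  rw [Category.id_comp, Category.comp_id]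

/-- The comparison `F_{f^*M,R} ⟶ F_{M,R}`. -/
def pullHom : (toMVF K b).obj ((BigSite.pullMod K f).obj M) ⟶ (toMVF K (b ≫ f)).obj M where
  app X := ModuleCat.ofHom (X := ((toMVF K b).obj ((BigSite.pullMod K f).obj M)).obj X)
    (Y := ((toMVF K (b ≫ f)).obj M).obj X)
    { toFun := fun x => M.val.presheaf.map (pIso f b X.unop.unop).hom.op x
      map_add' := fun x y => (M.val.presheaf.map (pIso f b X.unop.unop).hom.op).hom.map_add x y
      map_smul' := fun c x => by
        have h := M.val.map_smul (pIso f b X.unop.unop).hom.op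
          (show (BigSite.ORing K S).obj.obj
              (op ((Over.map f).obj ((specOver b).obj (op X.unop.unop)))) from
            toSect K b X.unop.unop c) x
        refine h.trans ?_
        show (BigSite.ORing K S).obj.map (pIso f b X.unop.unop).hom.op
            (show (BigSite.ORing K S).obj.obj
              (op ((Over.map f).obj ((specOver b).obj (op X.unop.unop)))) from
            toSect K b X.unop.unop c) •
            M.val.map (pIso f b X.unop.unop).hom.op x =
          toSect K (b ≫ f) X.unop.unop c • M.val.map (pIso f b X.unop.unop).hom.op x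
        congr 1 }
  naturality {X Y} g := by
    apply ModuleCat.hom_ext
    apply LinearMap.ext
    intro x
    show M.val.presheaf.map (pIso f b Y.unop.unop).hom.op
        (M.val.presheaf.map ((Over.map f).map ((specOver b).map g.unop.unop.op)).op x) =
      M.val.presheaf.map ((specOver (b ≫ f)).map g.unop.unop.op).op
        (M.val.presheaf.map (pIso f b X.unop.unop).hom.op x)
    rw [← map_comp_apply', ← map_comp_apply', pIso_naturality]

lemma pullHom_bijective (X : (Alg R)ᵒᵖᵒᵖ) :
    Function.Bijective ((pullHom K f M b).app X) := by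
  rw [Function.bijective_iff_has_inverse]
  refine ⟨fun y => M.val.presheaf.map (pIso f b X.unop.unop).inv.op y, ?_, ?_⟩
  · intro x
    show M.val.presheaf.map (pIso f b X.unop.unop).inv.op
      (M.val.presheaf.map (pIso f b X.unop.unop).hom.op x) = x
    rw [← map_comp_apply', Iso.inv_hom_id, op_id, M.val.presheaf.map_id]
    rfl
  · intro y
    show M.val.presheaf.map (pIso f b X.unop.unop).hom.op
      (M.val.presheaf.map (pIso f b X.unop.unop).inv.op y) = y
    rw [← map_comp_apply', Iso.hom_inv_id, op_id, M.val.presheaf.map_id]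
    rfl

/-- `F_{f^*M,R} ≅ F_{M,R}`. -/
def pullIso : (toMVF K b).obj ((BigSite.pullMod K f).obj M) ≅ (toMVF K (b ≫ f)).obj M :=
  haveI : IsIso (pullHom K f M b) :=
    AdeqRestr.isIso_of_bijective _ (pullHom_bijective K f M b)
  asIso (pullHom K f M b)

end Pull


section Thms

variable (K : Precoverage Scheme.{u}) [BigSite.OSh K]

theorem exists_affine_cover (hzar : Scheme.zariskiPrecoverage ≤ K) (T : Scheme.{u}) :
    ∃ (ι : Type u) (R : ι → CommRingCat.{u}) (a : ∀ i, Spec (R i) ⟶ T),
      Presieve.ofArrows (fun i => Spec (R i)) a ∈ K.coverings T :=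
  ⟨T.affineOpenCover.I₀, T.affineOpenCover.X, T.affineOpenCover.f,
    hzar T T.affineOpenCover.cover.mem₀⟩

theorem adequateMod_pull [K.IsStableUnderBaseChange] (hzar : Scheme.zariskiPrecoverage ≤ K)
    (href : HasAffineRefinements K) {S T : Scheme.{u}} (f : T ⟶ S) (M : BigSite.Mod K S)
    (hM : adequateMod K S M) : adequateMod K T ((BigSite.pullMod K f).obj M) := by
  obtain ⟨ι, R, a, hcov⟩ := exists_affine_cover K hzar T
  exact ⟨ι, R, a, hcov, fun i => (adequate (R i)).prop_of_iso (pullIso K f M (a i)).symm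
    (adequate_toMVF K href M hM (R i) (a i ≫ f))⟩

theorem adequateMod_of_cover [K.IsStableUnderComposition] {S : Scheme.{u}} (M : BigSite.Mod K S)
    (ι : Type u) (T : ι → Scheme.{u}) (f : ∀ i, T i ⟶ S)
    (hcov : Presieve.ofArrows T f ∈ K.coverings S)
    (h : ∀ i, adequateMod K (T i) ((BigSite.pullMod K (f i)).obj M)) : adequateMod K S M := by
  choose κ R a hc hadq using h
  refine ⟨Σ i, κ i, fun p => R p.1 p.2, fun p => a p.1 p.2 ≫ f p.1, ?_, fun p => ?_⟩
  · exact Precoverage.comp_mem_coverings f hcov (fun i j => a i j) (fun i => hc i)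
  · exact (adequate _).prop_of_iso (pullIso K (f p.1) M (a p.1 p.2)) (hadq p.1 p.2)

theorem adequateMod_kernel [K.IsStableUnderBaseChange] (href : HasAffineRefinements K)
    {S : Scheme.{u}} {M N : BigSite.Mod K S} (φ : M ⟶ N)
    (hM : adequateMod K S M) (hN : adequateMod K S N) : adequateMod K S (kernel φ) := by
  obtain ⟨ι, Ri, ai, hcov, hadq⟩ := hM
  refine ⟨ι, Ri, ai, hcov, fun i => ?_⟩
  have hN' := adequate_toMVF K href N hN (Ri i) (ai i)
  have hk := toMVF_isKerPt_kernel K (ai i) φ
  exact (adequate (Ri i)).prop_of_iso hk.iso.symm (AdeqKer.adequate_kernel _ (hadq i) hN')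

end Thms

end

end Groth.Agent.Lib.Lead.AdeqModPull
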