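import Groth.Agent.Lib.Lead.AdeqSheafProd
import Groth.Agent.Lib.Lead.AdeqH1
import Groth.Agent.Lib.Lead.AdeqExtn
import Groth.Agent.Lib.Lead.AdeqModPull
import Groth.Agent.Lib.Helper26.Parasitic

/-!
# Extensions of adequate modules on the big fppf site are adequate
-/

universe u

open CategoryTheory Limits Opposite TensorProduct AlgebraicGeometry

namespace Groth.Agent.Lib.Lead.AdeqModExtn

open Adeq Groth.Agent.Lib.Lead.AdeqBasic Groth.Agent.Lib.Lead.AdeqModBase
  Groth.Agent.Lib.Lead.AdeqModMain Groth.Agent.Lib.Lead.AdeqFpqc Groth.Agent.Lib.Lead.AdeqProd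
  Groth.Agent.Lib.Lead.AdeqProdFF Groth.Agent.Lib.Lead.AdeqSheafify
  Groth.Agent.Lib.Lead.AdeqSheafProd Groth.Agent.Lib.Lead.AdeqFBC
  Groth.Agent.Lib.Lead.AdeqDescentMVF Groth.Agent.Lib.Lead.AdeqModPull

noncomputable section

section MVFLevel

variable {A : Type u} [CommRing A]

lemma shortExact_of_isKerPt (S : ShortComplex (MVF A)) (hk : IsKerPt S.f S.g)
    (hs : ∀ X, Function.Surjective (S.g.app X)) : S.ShortExact := by
  haveI : Mono S.f := by
    rw [← hk.iso_hom_ι]
    infer_instance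
  haveI : Epi S.g := PresheafOfModules.epi_of_surjective (fun X => hs X)
  have hex : S.Exact := by
    apply ShortComplex.exact_of_f_is_kernel
    refine IsLimit.ofIsoLimit (kernelIsKernel S.g) ?_
    exact (Fork.ext hk.iso (by
      show hk.iso.hom ≫ kernel.ι S.g = S.f
      exact hk.iso_hom_ι)).symm
  exact ShortComplex.ShortExact.mk' hex inferInstance inferInstance

end MVFLevel

variable {S : Scheme.{u}}

/-- The abelian presheaf underlying a module. -/
abbrev Gk (M : BigSite.Mod Scheme.fppfPrecoverage S) : (Over S)ᵒᵖ ⥤ AddCommGrpCat.{u + 1} :=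
  ((BigSite.toAbMod Scheme.fppfPrecoverage S).obj M).obj

lemma Gk_isSheaf (M : BigSite.Mod Scheme.fppfPrecoverage S) :
    Presheaf.IsSheaf (QuotSh.J Scheme.fppfPrecoverage S) (Gk M) :=
  ((BigSite.toAbMod Scheme.fppfPrecoverage S).obj M).property

/-- The map of abelian presheaves underlying a map of modules. -/
abbrev gk {M N : BigSite.Mod Scheme.fppfPrecoverage S} (f : M ⟶ N) : Gk M ⟶ Gk N :=
  ((BigSite.toAbMod Scheme.fppfPrecoverage S).map f).hom

variable (C : ShortComplex (BigSite.Mod Scheme.fppfPrecoverage S)) (hC : C.ShortExact)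

include hC in
lemma isKerPt_forget :
    IsKerPt ((SheafOfModules.forget (BigSite.ORing Scheme.fppfPrecoverage S)).map C.f)
      ((SheafOfModules.forget (BigSite.ORing Scheme.fppfPrecoverage S)).map C.g) := by
  have w : (SheafOfModules.forget (BigSite.ORing Scheme.fppfPrecoverage S)).map C.f ≫
      (SheafOfModules.forget (BigSite.ORing Scheme.fppfPrecoverage S)).map C.g = 0 := by
    rw [← Functor.map_comp, C.zero, Functor.map_zero]
  exact isKerPt_of_isLimit' _ _ w
    (KernelFork.mapIsLimit _ hC.fIsKernel (SheafOfModules.forget _))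

include hC in
lemma gk_f_injective (X : (Over S)ᵒᵖ) : Function.Injective ((gk C.f).app X) :=
  (isKerPt_forget C hC).inj X

include hC in
lemma gk_exact (X : (Over S)ᵒᵖ) (y : (Gk C.X₂).obj X) (hy : (gk C.g).app X y = 0) :
    ∃ x : (Gk C.X₁).obj X, (gk C.f).app X x = y :=
  (isKerPt_forget C hC).surj X y hy

lemma gk_zero (X : (Over S)ᵒᵖ) (x : (Gk C.X₁).obj X) :
    (gk C.g).app X ((gk C.f).app X x) = 0 := by
  have h : gk C.f ≫ gk C.g = 0 := by
    have h0 : (BigSite.toAbMod Scheme.fppfPrecoverage S).map C.f ≫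
        (BigSite.toAbMod Scheme.fppfPrecoverage S).map C.g = 0 := by
      rw [← Functor.map_comp, C.zero, Functor.map_zero]
    exact congrArg (fun k => k.hom) h0
  have h2 := congrArg (fun k => k.app X x) h
  exact h2

include hC in
lemma gk_g_locallySurjective :
    Presheaf.IsLocallySurjective (QuotSh.J Scheme.fppfPrecoverage S) (gk C.g) := by
  haveI := Groth.Agent.Lib.Helper26.Parasitic.toSheaf_preservesFiniteColimits
    Scheme.fppfPrecoverage S
  haveI : Epi C.g := hC.epi_g
  haveI : Epi ((BigSite.toAbMod Scheme.fppfPrecoverage S).map C.g) := inferInstance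
  exact (Sheaf.isLocallySurjective_iff_epi' (A := AddCommGrpCat.{u + 1})
    ((BigSite.toAbMod Scheme.fppfPrecoverage S).map C.g)).2 inferInstance

section Sp

variable {D : CommRingCat.{u}} (t : Spec D ⟶ S) (G : (Over S)ᵒᵖ ⥤ AddCommGrpCat.{u + 1})

lemma map_sp_comp {T T' T'' : Alg D} (f : T ⟶ T') (g : T' ⟶ T'')
    (z : G.obj (op ((specOver t).obj (op T)))) :
    G.map ((specOver t).map g.op).op (G.map ((specOver t).map f.op).op z) =
      G.map ((specOver t).map (f ≫ g).op).op z := by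
  rw [op_comp, Functor.map_comp, map_comp_apply']

lemma map_sub' {X Y : Over S} (f : X ⟶ Y) (a b : G.obj (op Y)) :
    G.map f.op (a - b) = G.map f.op a - G.map f.op b := (G.map f.op).hom.map_sub a b

end Sp

section Ids

variable {D : CommRingCat.{u}} (E : Type u) [CommRing E] [Algebra D E]

lemma id1 : rHom (R := D) E ≫ tmap E (rHom E) = rHom E ≫ tmap E (lHom E) := by
  apply CommAlgCat.hom_ext
  apply AlgHom.ext
  intro e
  show Algebra.TensorProduct.map (Algebra.TensorProduct.includeRight : E →ₐ[D] E ⊗[D] E)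
      (AlgHom.id D E) ((1 : E) ⊗ₜ[D] e) =
    Algebra.TensorProduct.map (Algebra.TensorProduct.includeLeft : E →ₐ[D] E ⊗[D] E)
      (AlgHom.id D E) ((1 : E) ⊗ₜ[D] e)
  rw [Algebra.TensorProduct.map_tmul, Algebra.TensorProduct.map_tmul, map_one, map_one]

lemma id2 : lHom (R := D) E ≫ tmap E (rHom E) = rHom E ≫ il (algOf D (E ⊗[D] E)) E := by
  apply CommAlgCat.hom_ext
  apply AlgHom.ext
  intro e
  show Algebra.TensorProduct.map (Algebra.TensorProduct.includeRight : E →ₐ[D] E ⊗[D] E)
      (AlgHom.id D E) (e ⊗ₜ[D] (1 : E)) = ((1 : E) ⊗ₜ[D] e) ⊗ₜ[D] (1 : E)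
  rw [Algebra.TensorProduct.map_tmul]
  rfl

lemma id3 : lHom (R := D) E ≫ tmap E (lHom E) = lHom E ≫ il (algOf D (E ⊗[D] E)) E := by
  apply CommAlgCat.hom_ext
  apply AlgHom.ext
  intro e
  show Algebra.TensorProduct.map (Algebra.TensorProduct.includeLeft : E →ₐ[D] E ⊗[D] E)
      (AlgHom.id D E) (e ⊗ₜ[D] (1 : E)) = (e ⊗ₜ[D] (1 : E)) ⊗ₜ[D] (1 : E)
  rw [Algebra.TensorProduct.map_tmul]
  rfl

end Ids

/-- Vanishing of the first Amitsur cohomology, for adequate modules, in terms of sections. -/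
lemma h1_sections (M : BigSite.Mod Scheme.fppfPrecoverage S) {D : CommRingCat.{u}}
    (t : Spec D ⟶ S) (hF : adequate D ((toMVF Scheme.fppfPrecoverage t).obj M))
    (E : Type u) [CommRing E] [Algebra D E] [Module.FaithfullyFlat D E]
    (c : (Gk M).obj (op ((specOver t).obj (op (algOf D (E ⊗[D] E))))))
    (hc : (Gk M).map ((specOver t).map (tmap E (rHom E)).op).op c -
        (Gk M).map ((specOver t).map (tmap E (lHom E)).op).op c +
        (Gk M).map ((specOver t).map (il (algOf D (E ⊗[D] E)) E).op).op c = 0) :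
    ∃ b : (Gk M).obj (op ((specOver t).obj (op (algOf D E)))),
      (Gk M).map ((specOver t).map (rHom E).op).op b -
        (Gk M).map ((specOver t).map (lHom E).op).op b = c :=
  AdeqH1.h1 ((toMVF Scheme.fppfPrecoverage t).obj M) E hF c hc

include hC in
theorem sections_surjective
    (hF₁ : ∀ {D : CommRingCat.{u}} (t : Spec D ⟶ S),
      adequate D ((toMVF Scheme.fppfPrecoverage t).obj C.X₁))
    {D : CommRingCat.{u}} (t : Spec D ⟶ S) (s : (Gk C.X₃).obj (op (Over.mk t))) :
    ∃ x : (Gk C.X₂).obj (op (Over.mk t)), (gk C.g).app _ x = s := by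
  have hG₂ := Gk_isSheaf C.X₂
  have hG₃ := Gk_isSheaf C.X₃
  haveI := gk_g_locallySurjective C hC
  have hmem : Presheaf.imageSieve (gk C.g) s ∈ QuotSh.J Scheme.fppfPrecoverage S (Over.mk t) :=
    Presheaf.imageSieve_mem (QuotSh.J Scheme.fppfPrecoverage S) (gk C.g) (U := op (Over.mk t)) s
  obtain ⟨n, B, ψ, hcov, hB⟩ := exists_refinement t _ hmem
  let _ : ∀ j, Algebra D (B j) := fun j => (ψ j).hom.toAlgebra
  have hcov' : Presieve.ofArrows (fun j => Spec (CommRingCat.of (B j)))
      (fun j => Spec.map (CommRingCat.ofHom (algebraMap D (B j)))) ∈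
        Scheme.fppfPrecoverage.coverings (Spec D) := hcov
  have : Module.FaithfullyFlat D (Π j, B j) := pi_faithfullyFlat (fun j => (B j : Type u)) hcov'
  have hxj : ∀ j, ∃ xj : (Gk C.X₂).obj (op ((specOver t).obj (op (algOf D (B j))))),
      (gk C.g).app _ xj = (Gk C.X₃).map (uB t (B j)).op s := by
    intro j
    have h1 : ∃ s', (gk C.g).app _ s' = (Gk C.X₃).map (Over.homMk (Spec.map (ψ j)) rfl :
        Over.mk (Spec.map (ψ j) ≫ t) ⟶ Over.mk t).op s := hB j
    have e := uB_eq t (ψ j)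
    rw [e]
    exact h1
  choose xj hxj using hxj
  obtain ⟨x', hx'⟩ := sheaf_prod_surj (Gk C.X₂) hG₂ t (fun j => (B j : Type u)) xj
  have h5 : (gk C.g).app _ x' = (Gk C.X₃).map (uB t (Π j, B j)).op s := by
    apply sheaf_sep (QuotSh.J Scheme.fppfPrecoverage S) (Gk C.X₃) hG₃ _ _
      (cover_pi t (fun j => (B j : Type u)))
    intro j
    rw [← nat_apply, hx' j, hxj j, ← map_comp_apply', p_comp_uB]
  -- the obstruction cochain
  obtain ⟨c₁, hc₁⟩ := gk_exact C hC _
    ((Gk C.X₂).map ((specOver t).map (rHom (Π j, B j)).op).op x' -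
      (Gk C.X₂).map ((specOver t).map (lHom (Π j, B j)).op).op x') (by
    rw [app_sub, nat_apply, nat_apply, h5, ← map_comp_apply', ← map_comp_apply', l_comp_uB,
      sub_self])
  have hcoc : (Gk C.X₁).map ((specOver t).map (tmap (Π j, B j) (rHom (Π j, B j))).op).op c₁ -
      (Gk C.X₁).map ((specOver t).map (tmap (Π j, B j) (lHom (Π j, B j))).op).op c₁ +
      (Gk C.X₁).map ((specOver t).map
        (il (algOf D ((Π j, B j) ⊗[D] (Π j, B j))) (Π j, B j)).op).op c₁ = 0 := by
    apply gk_f_injective C hC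
    rw [app_zero, map_add, app_sub, nat_apply, nat_apply, nat_apply, hc₁, map_sub', map_sub',
      map_sub', map_sp_comp, map_sp_comp, map_sp_comp, map_sp_comp, map_sp_comp, map_sp_comp,
      id1, id2, id3]
    abel
  obtain ⟨b₁, hb₁⟩ := h1_sections C.X₁ t (hF₁ t) (Π j, B j) c₁ hcoc
  have hx'' : (Gk C.X₂).map ((specOver t).map (lHom (Π j, B j)).op).op
        (x' - (gk C.f).app _ b₁) =
      (Gk C.X₂).map ((specOver t).map (rHom (Π j, B j)).op).op (x' - (gk C.f).app _ b₁) := by
    rw [map_sub', map_sub', ← nat_apply, ← nat_apply]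
    have h6 := congrArg ((gk C.f).app _) hb₁
    rw [app_sub, hc₁] at h6
    have h7 : ∀ a b c d : (Gk C.X₂).obj (op ((specOver t).obj
        (op (algOf D ((Π j, B j) ⊗[D] (Π j, B j)))))), c - d = a - b → b - d = a - c := by
      intro a b c d h
      have : b - d = (a - c) - ((a - b) - (c - d)) := by abel
      rw [this, h, sub_self, sub_zero]
    exact h7 _ _ _ _ h6
  obtain ⟨z, hz⟩ := sheaf_glue_single (Gk C.X₂) hG₂ t (Π j, B j)
    (cover_uB_pi t (fun j => (B j : Type u)) hcov') _ hx''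
  refine ⟨z, ?_⟩
  apply sheaf_sep (QuotSh.J Scheme.fppfPrecoverage S) (Gk C.X₃) hG₃ _ _
    (cover_uB_pi t (fun j => (B j : Type u)) hcov')
  rintro ⟨⟩
  rw [← nat_apply, hz, app_sub, h5, gk_zero, sub_zero]

include hC in
theorem adequateMod_middle (h₁ : adequateMod Scheme.fppfPrecoverage S C.X₁)
    (h₃ : adequateMod Scheme.fppfPrecoverage S C.X₃) :
    adequateMod Scheme.fppfPrecoverage S C.X₂ := by
  have hF₁ : ∀ {D : CommRingCat.{u}} (t : Spec D ⟶ S),
      adequate D ((toMVF Scheme.fppfPrecoverage t).obj C.X₁) := fun {D} t =>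
    adequate_toMVF Scheme.fppfPrecoverage AdeqModInst.hasAffineRefinements_fppf C.X₁ h₁ D t
  have hF₃ : ∀ {D : CommRingCat.{u}} (t : Spec D ⟶ S),
      adequate D ((toMVF Scheme.fppfPrecoverage t).obj C.X₃) := fun {D} t =>
    adequate_toMVF Scheme.fppfPrecoverage AdeqModInst.hasAffineRefinements_fppf C.X₃ h₃ D t
  obtain ⟨ι, R, a, hcov, -⟩ := h₁
  refine ⟨ι, R, a, hcov, fun i => ?_⟩
  have hk : IsKerPt ((toMVF Scheme.fppfPrecoverage (a i)).map C.f)
      ((toMVF Scheme.fppfPrecoverage (a i)).map C.g) :=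
    toMVFPre_isKerPt Scheme.fppfPrecoverage (a i) (isKerPt_forget C hC)
  have hs : ∀ X, Function.Surjective
      (((toMVF Scheme.fppfPrecoverage (a i)).map C.g).app X) := by
    intro X y
    exact sections_surjective C hC hF₁
      (Spec.map (CommRingCat.ofHom (algebraMap (R i) X.unop.unop)) ≫ a i) y
  have hSC := shortExact_of_isKerPt (C.map (toMVF Scheme.fppfPrecoverage (a i))) hk hs
  exact AdeqExtn.adequate_of_shortExact _ hSC (hF₁ (a i)) (hF₃ (a i))

end

end Groth.Agent.Lib.Lead.AdeqModExtn
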