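import Groth.Agent.Lib.Lead.AdeqModBase
universe u
open CategoryTheory Limits Opposite TensorProduct AlgebraicGeometry
namespace Groth.Agent.Lib.Lead.AdeqModMain
open Adeq Groth.Agent.Lib.Lead.AdeqBasic Groth.Agent.Lib.Lead.AdeqModBase
noncomputable section
variable (K : Precoverage Scheme.{u}) [BigSite.OSh K] {S : Scheme.{u}} (M : BigSite.Mod K S)
  {R : CommRingCat.{u}} (a : Spec R ⟶ S) (A' : Type u) [CommRing A'] [Algebra R A']

abbrev bmap : Spec (CommRingCat.of A') ⟶ S :=
  Spec.map (CommRingCat.ofHom (algebraMap R A')) ≫ a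

lemma hw (D : Alg A') : Spec.map (CommRingCat.ofHom (algebraMap R ((Alg.restr R A').obj D))) ≫ a =
      Spec.map (CommRingCat.ofHom (algebraMap A' D)) ≫
        Spec.map (CommRingCat.ofHom (algebraMap R A')) ≫ a := by
  rw [← Category.assoc, ← Spec.map_comp, ← CommRingCat.ofHom_comp]

def eIso (D : Alg A') :
    (specOver (bmap a A')).obj (op D) ≅ (specOver a).obj (op ((Alg.restr R A').obj D)) := by
  refine Over.isoMk ?_ ?_
  · show Spec (CommRingCat.of D) ≅ Spec (CommRingCat.of D)
    exact Iso.refl _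
  · show 𝟙 (Spec (CommRingCat.of D)) ≫ (Spec.map (CommRingCat.ofHom (algebraMap R ((Alg.restr R A').obj D))) ≫ a) =
      Spec.map (CommRingCat.ofHom (algebraMap A' D)) ≫
        Spec.map (CommRingCat.ofHom (algebraMap R A')) ≫ a
    rw [Category.id_comp]
    exact hw a A' D

@[simp] lemma eIso_hom_left (D : Alg A') : (eIso a A' D).hom.left = 𝟙 (Spec (CommRingCat.of D)) := rfl
@[simp] lemma eIso_inv_left (D : Alg A') : (eIso a A' D).inv.left = 𝟙 (Spec (CommRingCat.of D)) := rfl

lemma eIso_naturality {D D' : Alg A'} (g : D ⟶ D') :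
    (eIso a A' D').hom ≫ (specOver a).map ((Alg.restr R A').map g).op =
      (specOver (bmap a A')).map g.op ≫ (eIso a A' D).hom := by
  apply Over.OverMorphism.ext
  rw [Over.comp_left, Over.comp_left, eIso_hom_left, eIso_hom_left]
  show 𝟙 (Spec (CommRingCat.of D')) ≫ Spec.map (CommRingCat.ofHom ((Alg.restr R A').map g).hom.toRingHom) =
    Spec.map (CommRingCat.ofHom g.hom.toRingHom) ≫ 𝟙 (Spec (CommRingCat.of D))
  rw [Category.id_comp, Category.comp_id]

/-- The comparison `restr F_{M,R} ⟶ F_{M,A'}`. -/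
def restrHom : (restr R A').obj ((toMVF K a).obj M) ⟶ (toMVF K (bmap a A')).obj M where
  app X := ModuleCat.ofHom (X := ((restr R A').obj ((toMVF K a).obj M)).obj X)
    (Y := ((toMVF K (bmap a A')).obj M).obj X)
    { toFun := fun x => M.val.presheaf.map (eIso a A' X.unop.unop).hom.op x
      map_add' := fun x y => (M.val.presheaf.map (eIso a A' X.unop.unop).hom.op).hom.map_add x y
      map_smul' := fun c x => by
        have h := M.val.map_smul (eIso a A' X.unop.unop).hom.op
          (toSect K a ((Alg.restr R A').obj X.unop.unop) c) x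
        refine h.trans ?_
        show (BigSite.ORing K S).obj.map (eIso a A' X.unop.unop).hom.op
            (toSect K a ((Alg.restr R A').obj X.unop.unop) c) •
            M.val.map (eIso a A' X.unop.unop).hom.op x =
          toSect K (bmap a A') X.unop.unop c • M.val.map (eIso a A' X.unop.unop).hom.op x
        congr 1 }
  naturality {X Y} f := by
    apply ModuleCat.hom_ext
    apply LinearMap.ext
    intro x
    show M.val.presheaf.map (eIso a A' Y.unop.unop).hom.op
        (M.val.presheaf.map ((specOver a).map ((Alg.restr R A').map f.unop.unop).op).op x) =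
      M.val.presheaf.map ((specOver (bmap a A')).map f.unop.unop.op).op
        (M.val.presheaf.map (eIso a A' X.unop.unop).hom.op x)
    rw [← map_comp_apply', ← map_comp_apply', eIso_naturality]

lemma restrHom_bijective (X : (Alg A')ᵒᵖᵒᵖ) :
    Function.Bijective ((restrHom K M a A').app X) := by
  rw [Function.bijective_iff_has_inverse]
  refine ⟨fun y => M.val.presheaf.map (eIso a A' X.unop.unop).inv.op y, ?_, ?_⟩
  · intro x
    show M.val.presheaf.map (eIso a A' X.unop.unop).inv.op
      (M.val.presheaf.map (eIso a A' X.unop.unop).hom.op x) = x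
    rw [← map_comp_apply', Iso.inv_hom_id, op_id, M.val.presheaf.map_id]
    rfl
  · intro y
    show M.val.presheaf.map (eIso a A' X.unop.unop).hom.op
      (M.val.presheaf.map (eIso a A' X.unop.unop).inv.op y) = y
    rw [← map_comp_apply', Iso.hom_inv_id, op_id, M.val.presheaf.map_id]
    rfl

/-- `restr F_{M,R} ≅ F_{M,A'}`. -/
def restrIso : (restr R A').obj ((toMVF K a).obj M) ≅ (toMVF K (bmap a A')).obj M :=
  haveI : IsIso (restrHom K M a A') :=
    AdeqRestr.isIso_of_bijective _ (restrHom_bijective K M a A')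
  asIso (restrHom K M a A')


section Main

variable (K : Precoverage Scheme.{u})

/-- Refinement property of a precoverage: coverings by affines pull back, over an affine scheme,
to something refined by a finite affine covering. -/
def HasAffineRefinements : Prop :=
  ∀ ⦃S : Scheme.{u}⦄ ⦃ι : Type u⦄ (Ri : ι → CommRingCat.{u}) (ai : ∀ i, Spec (Ri i) ⟶ S),
    Presieve.ofArrows (fun i => Spec (Ri i)) ai ∈ K.coverings S →
    ∀ ⦃R : CommRingCat.{u}⦄ (a : Spec R ⟶ S),
    ∃ (n : ℕ) (B : Fin n → CommRingCat.{u}) (φ : ∀ j, R ⟶ B j) (i : Fin n → ι)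
      (ψ : ∀ j, Ri (i j) ⟶ B j),
      Presieve.ofArrows (fun j => Spec (B j)) (fun j => Spec.map (φ j)) ∈ K.coverings (Spec R) ∧
      ∀ j, Spec.map (ψ j) ≫ ai (i j) = Spec.map (φ j) ≫ a

variable [BigSite.OSh K]

lemma adequate_congr {S : Scheme.{u}} (M : BigSite.Mod K S) {B : CommRingCat.{u}}
    {b b' : Spec B ⟶ S} (h : b = b') (hb : adequate B ((toMVF K b).obj M)) :
    adequate B ((toMVF K b').obj M) := by
  subst h
  exact hb

theorem adequate_toMVF [K.IsStableUnderBaseChange] (href : HasAffineRefinements K)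
    {S : Scheme.{u}} (M : BigSite.Mod K S)
    (hM : adequateMod K S M) (R : CommRingCat.{u}) (a : Spec R ⟶ S) :
    adequate R ((toMVF K a).obj M) := by
  obtain ⟨ι, Ri, ai, hcov, hadq⟩ := hM
  obtain ⟨n, B, φ, i, ψ, hcovB, hcomm⟩ := href Ri ai hcov a
  letI : ∀ j, Algebra R (B j) := fun j => (φ j).hom.toAlgebra
  apply adequate_of_cover K a (fun j => (B j : Type u)) M hcovB
  intro j
  apply (adequate (B j)).prop_of_iso (restrIso K M a (B j)).symm
  have key : adequate (B j) ((toMVF K (Spec.map (ψ j) ≫ ai (i j))).obj M) := by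
    letI alg2 : Algebra (Ri (i j)) (B j) := (ψ j).hom.toAlgebra
    exact (adequate (B j)).prop_of_iso (restrIso K M (ai (i j)) (B j))
      (AdeqRestr.adequate_restr (B j) _ (hadq (i j)))
  exact adequate_congr K M (hcomm j) key

theorem hasAffineRefinements_precoverage (P : MorphismProperty Scheme.{u})
    [(Scheme.precoverage P).IsStableUnderBaseChange] [P.RespectsLeft @IsOpenImmersion]
    (hopen : ∀ ⦃X Y : Scheme.{u}⦄ (f : X ⟶ Y), P f → IsOpenMap f) :
    HasAffineRefinements (Scheme.precoverage P) := by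
  intro S ι Ri ai hcov R a
  let 𝒰 : S.Cover (Scheme.precoverage P) :=
    { I₀ := ι, X := fun i => Spec (Ri i), f := ai, mem₀ := hcov }
  let 𝒰' : (Spec R).Cover (Scheme.precoverage P) := 𝒰.pullback₁ a
  haveI : QuasiCompactCover 𝒰'.toPreZeroHypercover :=
    QuasiCompactCover.of_isOpenMap (fun i => hopen _ (𝒰'.map_prop i))
  obtain ⟨𝒱, f, hfin, -⟩ : ∃ (𝒱 : Scheme.AffineCover.{u} P (Spec R)) (f : 𝒱.cover ⟶ 𝒰'),
      Finite 𝒱.I₀ ∧ ∀ j, IsOpenImmersion (f.h₀ j) := QuasiCompactCover.exists_hom 𝒰'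
  obtain ⟨n, ⟨e⟩⟩ := Finite.exists_equiv_fin 𝒱.I₀
  refine ⟨n, fun j => 𝒱.X (e.symm j), fun j => Spec.preimage (𝒱.f (e.symm j)),
    fun j => f.s₀ (e.symm j),
    fun j => Spec.preimage (f.h₀ (e.symm j) ≫ pullback.snd a (ai (f.s₀ (e.symm j)))), ?_, ?_⟩
  · rw [Scheme.ofArrows_mem_precoverage_iff]
    refine ⟨fun x => ?_, fun j => ?_⟩
    · obtain ⟨y, hy⟩ := 𝒱.covers x
      refine ⟨e (𝒱.idx x), ?_⟩
      show x ∈ Set.range (Spec.map (Spec.preimage (𝒱.f (e.symm (e (𝒱.idx x)))))).base
      rw [Spec.map_preimage]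
      have h2 : ∀ k k' (h : k = k'), x ∈ Set.range (𝒱.f k).base → x ∈ Set.range (𝒱.f k').base := by
        intro k k' h hk
        subst h
        exact hk
      exact h2 _ _ (e.symm_apply_apply _).symm ⟨y, hy⟩
    · rw [Spec.map_preimage]
      exact 𝒱.map_prop _
  · intro j
    show Spec.map (Spec.preimage (f.h₀ (e.symm j) ≫ pullback.snd a (ai (f.s₀ (e.symm j))))) ≫
        ai (f.s₀ (e.symm j)) = Spec.map (Spec.preimage (𝒱.f (e.symm j))) ≫ a
    rw [Spec.map_preimage, Spec.map_preimage]
    have h1 : f.h₀ (e.symm j) ≫ pullback.fst a (ai (f.s₀ (e.symm j))) = 𝒱.f (e.symm j) :=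
      f.w₀ (e.symm j)
    have h2 : pullback.fst a (ai (f.s₀ (e.symm j))) ≫ a =
        pullback.snd a (ai (f.s₀ (e.symm j))) ≫ ai (f.s₀ (e.symm j)) := pullback.condition
    exact (Category.assoc _ _ _).trans
      ((congrArg (fun t => f.h₀ (e.symm j) ≫ t) h2.symm).trans
        ((Category.assoc _ _ _).symm.trans (congrArg (fun t => t ≫ a) h1)))

end Main

end
end Groth.Agent.Lib.Lead.AdeqModMain
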