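import Groth.Agent.Lib.Lead.AdeqBasic
import Mathlib.LinearAlgebra.TensorProduct.Pi

/-!
# Adequate functors commute with finite products of algebras
-/

universe v u

open CategoryTheory Limits Opposite TensorProduct

namespace Groth.Agent.Lib.Lead.AdeqProd

open Adeq Groth.Agent.Lib.Lead.AdeqBasic

noncomputable section

variable {A : Type u} [CommRing A] {ι : Type} [Fintype ι] [DecidableEq ι]
  (B : ι → Type u) [∀ j, CommRing (B j)] [∀ j, Algebra A (B j)]

/-- The projection `Π B_j → B_j` as a morphism of algebras. -/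
abbrev pHom (j : ι) : algOf A (Π j, B j) ⟶ algOf A (B j) :=
  CommAlgCat.ofHom (Pi.evalAlgHom A B j)

section Mod

variable (M : Type v) [AddCommGroup M] [Module A M]

lemma piLeft_apply (z : (Π j, B j) ⊗[A] M) (j : ι) :
    TensorProduct.piLeft A M B z j = (Pi.evalAlgHom A B j).toLinearMap.rTensor M z := by
  induction z using TensorProduct.induction_on with
  | zero => simp
  | tmul f m => simp
  | add x y hx hy => rw [map_add, map_add, Pi.add_apply, hx, hy]

lemma rTensor_eval_injective (z : (Π j, B j) ⊗[A] M)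
    (h : ∀ j, (Pi.evalAlgHom A B j).toLinearMap.rTensor M z = 0) : z = 0 := by
  apply (TensorProduct.piLeft A M B).injective
  rw [map_zero]
  funext j
  rw [piLeft_apply, h j]
  rfl

lemma rTensor_eval_surjective (y : ∀ j, B j ⊗[A] M) :
    ∃ z : (Π j, B j) ⊗[A] M, ∀ j, (Pi.evalAlgHom A B j).toLinearMap.rTensor M z = y j := by
  refine ⟨(TensorProduct.piLeft A M B).symm y, fun j => ?_⟩
  rw [← piLeft_apply, LinearEquiv.apply_symm_apply]

end Mod

theorem prod_inj (F : MVF A) (hF : adequate A F) (x : F.obj (pt (algOf A (Π j, B j))))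
    (h : ∀ j, tr F (pHom B j) x = 0) : x = 0 := by
  obtain ⟨M, N, ψ, ι', hι⟩ := exists_isKerPt_of_adequate hF
  apply hι.inj
  have h0 : ι'.app (pt (algOf A (Π j, B j))) 0 = 0 := (ι'.app _).hom.map_zero
  rw [h0]
  apply toT_injective
  rw [toT_zero]
  apply rTensor_eval_injective B M
  intro j
  have h1 := toT_tr (pHom B j) (ι'.app (pt (algOf A (Π j, B j))) x)
  rw [← app_tr, h j] at h1
  have h2 : ι'.app (pt (algOf A (B j))) 0 = 0 := (ι'.app _).hom.map_zero
  rw [h2, toT_zero] at h1
  exact h1.symm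

theorem prod_surj (F : MVF A) (hF : adequate A F) (y : ∀ j, F.obj (pt (algOf A (B j)))) :
    ∃ x : F.obj (pt (algOf A (Π j, B j))), ∀ j, tr F (pHom B j) x = y j := by
  obtain ⟨M, N, ψ, ι', hι⟩ := exists_isKerPt_of_adequate hF
  obtain ⟨z, hz⟩ := rTensor_eval_surjective B M (fun j => toT (ι'.app (pt (algOf A (B j))) (y j)))
  have hz0 : ((underline A).map ψ).app (pt (algOf A (Π j, B j))) (ofT z) = 0 := by
    apply toT_injective
    rw [toT_zero]
    apply rTensor_eval_injective B N
    intro j
    have h1 := toT_tr (pHom B j) (((underline A).map ψ).app (pt (algOf A (Π j, B j))) (ofT z))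
    rw [← app_tr] at h1
    refine h1.symm.trans ?_
    have h2 : tr (U M) (pHom B j) (ofT z) = ι'.app (pt (algOf A (B j))) (y j) := by
      apply toT_injective
      rw [toT_tr, toT_ofT]
      exact hz j
    rw [h2, hι.w_apply]
    rfl
  obtain ⟨x, hx⟩ := hι.surj (pt (algOf A (Π j, B j))) (ofT (M := M) z) hz0
  refine ⟨x, fun j => ?_⟩
  apply hι.inj
  rw [app_tr, hx]
  apply toT_injective
  rw [toT_tr, toT_ofT]
  exact hz j

end

end Groth.Agent.Lib.Lead.AdeqProd
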