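import Groth.Agent.Lib.Lead.AdeqModInst

/-!
# Finite products of rings: Zariski covering of the spectrum, faithful flatness; affine refinement
of covering sieves
-/

universe u

open CategoryTheory Limits Opposite AlgebraicGeometry

namespace Groth.Agent.Lib.Lead.AdeqProdFF

section Pi

variable {ι : Type} [Finite ι] (B : ι → Type u) [∀ j, CommRing (B j)]

/-- The projections exhibit `Spec (Π B_j)` as covered by the `Spec B_j` (Zariski). -/
theorem pi_cover_mem :
    Presieve.ofArrows (fun j => Spec (CommRingCat.of (B j)))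
      (fun j => Spec.map (CommRingCat.ofHom (Pi.evalRingHom B j))) ∈
      Scheme.zariskiPrecoverage.coverings (Spec (CommRingCat.of (Π j, B j))) := by
  rw [Scheme.ofArrows_mem_precoverage_iff]
  refine ⟨fun x => ?_, fun j => inferInstance⟩
  obtain ⟨⟨j, p⟩, hp⟩ := (PrimeSpectrum.sigmaToPi_bijective B).surjective x
  refine ⟨j, p, ?_⟩
  rw [Spec.map_apply]
  exact hp

end Pi

section FF

variable {R : CommRingCat.{u}} {n : ℕ} (B : Fin n → Type u) [∀ j, CommRing (B j)]
  [∀ j, Algebra R (B j)]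

theorem pi_faithfullyFlat
    (hcov : Presieve.ofArrows (fun j => Spec (CommRingCat.of (B j)))
      (fun j => Spec.map (CommRingCat.ofHom (algebraMap R (B j)))) ∈
        Scheme.fppfPrecoverage.coverings (Spec R)) :
    Module.FaithfullyFlat R (Π j, B j) := by
  unfold Scheme.fppfPrecoverage at hcov
  rw [Scheme.ofArrows_mem_precoverage_iff] at hcov
  obtain ⟨hsurj, hP⟩ := hcov
  haveI : ∀ j, Module.Flat R (B j) := fun j => by
    have h1 : Flat (Spec.map (CommRingCat.ofHom (algebraMap R (B j)))) := (hP j).1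
    rw [Flat.SpecMap_iff] at h1
    exact RingHom.flat_algebraMap_iff.mp h1
  haveI : Module.Flat R (Π j, B j) :=
    Module.Flat.of_linearEquiv (DirectSum.linearEquivFunOnFintype R (Fin n) B).symm
  apply Module.FaithfullyFlat.of_comap_surjective
  intro p
  obtain ⟨j, q, hq⟩ := hsurj p
  rw [Spec.map_apply] at hq
  refine ⟨PrimeSpectrum.comap (Pi.evalRingHom B j) q, ?_⟩
  rw [← hq]
  rfl

end FF

section Refine

theorem exists_affine_refinement (P : MorphismProperty Scheme.{u})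
    [P.IsStableUnderBaseChange] [P.IsMultiplicative] [P.RespectsLeft @IsOpenImmersion]
    (hopen : ∀ ⦃X Y : Scheme.{u}⦄ (f : X ⟶ Y), P f → IsOpenMap f)
    {R : CommRingCat.{u}} (S₀ : Sieve (Spec R))
    (h : S₀ ∈ Scheme.grothendieckTopology P (Spec R)) :
    ∃ (n : ℕ) (B : Fin n → CommRingCat.{u}) (φ : ∀ j, R ⟶ B j),
      Presieve.ofArrows (fun j => Spec (B j)) (fun j => Spec.map (φ j)) ∈
        (Scheme.precoverage P).coverings (Spec R) ∧
      ∀ j, S₀ (Spec.map (φ j)) := by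
  rw [Scheme.mem_grothendieckTopology_iff] at h
  obtain ⟨𝒰, h𝒰⟩ := h
  haveI : QuasiCompactCover 𝒰.toPreZeroHypercover :=
    QuasiCompactCover.of_isOpenMap (fun i => hopen _ (𝒰.map_prop i))
  obtain ⟨𝒱, f, hfin, -⟩ : ∃ (𝒱 : Scheme.AffineCover.{u} P (Spec R)) (f : 𝒱.cover ⟶ 𝒰),
      Finite 𝒱.I₀ ∧ ∀ j, IsOpenImmersion (f.h₀ j) := QuasiCompactCover.exists_hom 𝒰
  obtain ⟨n, ⟨e⟩⟩ := Finite.exists_equiv_fin 𝒱.I₀
  refine ⟨n, fun j => 𝒱.X (e.symm j), fun j => Spec.preimage (𝒱.f (e.symm j)), ?_, ?_⟩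
  · rw [Scheme.ofArrows_mem_precoverage_iff]
    refine ⟨fun x => ?_, fun j => ?_⟩
    · obtain ⟨y, hy⟩ := 𝒱.covers x
      refine ⟨e (𝒱.idx x), ?_⟩
      show x ∈ Set.range (Spec.map (Spec.preimage (𝒱.f (e.symm (e (𝒱.idx x)))))).base
      rw [Spec.map_preimage]
      have h2 : ∀ k k' (h : k = k'), x ∈ Set.range (𝒱.f k).base → x ∈ Set.range (𝒱.f k').base := by
        intro k k' h hk
        subst h
        exact hk
      exact h2 _ _ (e.symm_apply_apply _).symm ⟨y, hy⟩
    · rw [Spec.map_preimage]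
      exact 𝒱.map_prop _
  · intro j
    rw [Spec.map_preimage]
    have h1 : f.h₀ (e.symm j) ≫ 𝒰.f (f.s₀ (e.symm j)) = 𝒱.f (e.symm j) := f.w₀ (e.symm j)
    rw [← h1]
    exact S₀.downward_closed (h𝒰 _ _ (Presieve.ofArrows.mk (f.s₀ (e.symm j)))) _

end Refine

end Groth.Agent.Lib.Lead.AdeqProdFF
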