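import Groth.Agent.Lib.Lead.AdeqRestr

/-!
# Pushing adequate functors along `A → A'` (Stacks 46.3.18-ish)
-/

universe u

open CategoryTheory Limits Opposite TensorProduct

namespace Groth.Agent.Lib.Lead.AdeqPush

open Adeq Groth.Agent.Lib.Lead.AdeqBasic Groth.Agent.Lib.Lead.AdeqRestr

noncomputable section

variable {A : Type u} [CommRing A] (A' : Type u) [CommRing A'] [Algebra A A']

/-- `push` preserves pointwise kernels. -/
theorem isKerPt_push {F G H : MVF A'} {ι : F ⟶ G} {g : G ⟶ H} (h : IsKerPt ι g) :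
    IsKerPt ((push A A').map ι) ((push A A').map g) where
  w := by
    rw [← Functor.map_comp, h.w]
    apply PresheafOfModules.hom_ext
    intro X
    apply ModuleCat.hom_ext
    apply LinearMap.ext
    intro x
    rfl
  inj X := h.inj _
  surj X y hy := h.surj _ y hy

section Zeta

variable {A'} (M' : ModuleCat.{u + 1} A')

/-- `M'` as an `A`-module. -/
abbrev resM : ModuleCat.{u + 1} A := (ModuleCat.restrictScalars (algebraMap A A')).obj M'

/-- The `A`-module structure on `M'`. -/
@[reducible] def modA : Module A (M' : Type (u + 1)) := Module.compHom _ (algebraMap A A')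

lemma towerA : letI := modA (A := A) M'; IsScalarTower A A' (M' : Type (u + 1)) :=
  letI := modA (A := A) M'
  IsScalarTower.of_algebraMap_smul (fun _ _ => rfl)

variable (B : Alg A)

/-- The comparison map `B ⊗[A] M' → (A' ⊗[A] B) ⊗[A'] M'`, additive version. -/
def zetaAdd : letI := modA (A := A) M'
    ((B : Type u) ⊗[A] (M' : Type (u + 1))) →+
      ((A' ⊗[A] (B : Type u)) ⊗[A'] (M' : Type (u + 1))) :=
  letI := modA (A := A) M'
  haveI := towerA (A := A) M'
  TensorProduct.liftAddHom
    (AddMonoidHom.mk' (fun b : (B : Type u) =>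
        ((TensorProduct.mk A' (A' ⊗[A] (B : Type u)) (M' : Type (u + 1)))
          ((1 : A') ⊗ₜ[A] b)).toAddMonoidHom)
      (fun b b' => by
        ext m
        show ((1 : A') ⊗ₜ[A] (b + b')) ⊗ₜ[A'] m =
          ((1 : A') ⊗ₜ[A] b) ⊗ₜ[A'] m + ((1 : A') ⊗ₜ[A] b') ⊗ₜ[A'] m
        rw [TensorProduct.tmul_add, TensorProduct.add_tmul]))
    (fun a b m => by
      show ((1 : A') ⊗ₜ[A] (a • b)) ⊗ₜ[A'] m = ((1 : A') ⊗ₜ[A] b) ⊗ₜ[A'] (a • m)
      have h1 : (1 : A') ⊗ₜ[A] (a • b) = (algebraMap A A' a) • ((1 : A') ⊗ₜ[A] b) := by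
        rw [TensorProduct.tmul_smul, TensorProduct.smul_tmul', TensorProduct.smul_tmul',
          Algebra.smul_def, smul_eq_mul]
      have h2 : (a • m : (M' : Type (u + 1))) = (algebraMap A A' a) • m := rfl
      rw [h1, h2, TensorProduct.smul_tmul])

lemma zetaAdd_tmul (b : B) (m : M') : letI := modA (A := A) M'
    zetaAdd M' B (b ⊗ₜ[A] m) = ((1 : A') ⊗ₜ[A] b) ⊗ₜ[A'] m := rfl

/-- The inverse equivalence. -/
def zetaInv : letI := modA (A := A) M'
    ((A' ⊗[A] (B : Type u)) ⊗[A'] (M' : Type (u + 1))) ≃+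
      ((B : Type u) ⊗[A] (M' : Type (u + 1))) :=
  letI := modA (A := A) M'
  haveI := towerA (A := A) M'
  (TensorProduct.comm A' (A' ⊗[A] (B : Type u)) (M' : Type (u + 1))).toAddEquiv.trans
    ((TensorProduct.AlgebraTensorModule.cancelBaseChange A A' A' (M' : Type (u + 1))
      (B : Type u)).toAddEquiv.trans
      (TensorProduct.comm A (M' : Type (u + 1)) (B : Type u)).toAddEquiv)

lemma zetaInv_zetaAdd : letI := modA (A := A) M'
    ∀ y : (B : Type u) ⊗[A] (M' : Type (u + 1)), zetaInv M' B (zetaAdd M' B y) = y := by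
  letI := modA (A := A) M'
  haveI := towerA (A := A) M'
  intro y
  induction y using TensorProduct.induction_on with
  | zero => rw [map_zero, map_zero]
  | tmul b m =>
    rw [zetaAdd_tmul]
    show (TensorProduct.comm A (M' : Type (u + 1)) (B : Type u))
      ((TensorProduct.AlgebraTensorModule.cancelBaseChange A A' A' (M' : Type (u + 1))
        (B : Type u))
        ((TensorProduct.comm A' (A' ⊗[A] (B : Type u)) (M' : Type (u + 1)))
          (((1 : A') ⊗ₜ[A] b) ⊗ₜ[A'] m))) = b ⊗ₜ[A] m
    rw [TensorProduct.comm_tmul, TensorProduct.AlgebraTensorModule.cancelBaseChange_tmul,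
      one_smul, TensorProduct.comm_tmul]
  | add x y hx hy => rw [map_add, map_add, hx, hy]

lemma zetaAdd_bijective : letI := modA (A := A) M'
    Function.Bijective (zetaAdd M' B) := by
  letI := modA (A := A) M'
  have h : ∀ y, zetaAdd M' B y = (zetaInv M' B).symm y := fun y => by
    rw [AddEquiv.eq_symm_apply]
    exact zetaInv_zetaAdd M' B y
  have : (zetaAdd M' B : _ → _) = (zetaInv M' B).symm := funext h
  rw [this]
  exact (zetaInv M' B).symm.bijective

lemma zetaAdd_smul (b₁ : B) : letI := modA (A := A) M'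
    ∀ y : (B : Type u) ⊗[A] (M' : Type (u + 1)),
      zetaAdd M' B (b₁ • y) = ((1 : A') ⊗ₜ[A] b₁) • zetaAdd M' B y := by
  letI := modA (A := A) M'
  intro y
  induction y using TensorProduct.induction_on with
  | zero => rw [smul_zero, map_zero, smul_zero]
  | tmul b m =>
    rw [TensorProduct.smul_tmul', zetaAdd_tmul, zetaAdd_tmul, TensorProduct.smul_tmul',
      smul_eq_mul, smul_eq_mul, Algebra.TensorProduct.tmul_mul_tmul, one_mul]
  | add x y hx hy => rw [smul_add, map_add, map_add, smul_add, hx, hy]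

lemma zetaAdd_natural {B D : Alg A} (f : B ⟶ D) : letI := modA (A := A) M'
    ∀ x : (B : Type u) ⊗[A] (M' : Type (u + 1)),
      zetaAdd M' D ((f.hom.toLinearMap.rTensor (M' : Type (u + 1))) x) =
        ((((Alg.baseChange A A').map f).hom.toLinearMap.rTensor (M' : Type (u + 1))))
          (zetaAdd M' B x) := by
  letI := modA (A := A) M'
  intro x
  induction x using TensorProduct.induction_on with
  | zero => simp only [map_zero]
  | tmul c m =>
    rw [LinearMap.rTensor_tmul, zetaAdd_tmul, zetaAdd_tmul, LinearMap.rTensor_tmul]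
    rfl
  | add x y hx hy => simp only [map_add, hx, hy]

end Zeta

/-- The comparison morphism `underline (M'|_A) ⟶ push (underline M')`. -/
def zeta (M' : ModuleCat.{u + 1} A') :
    U (A := A) (resM (A := A) M') ⟶ (push A A').obj (U (A := A') M') where
  app X := ModuleCat.ofHom (X := (U (A := A) (resM (A := A) M')).obj X)
    (Y := ((push A A').obj (U (A := A') M')).obj X)
    { toFun := fun x => zetaAdd M' X.unop.unop x
      map_add' := fun x y => map_add (zetaAdd M' X.unop.unop) x y
      map_smul' := fun c x => zetaAdd_smul M' X.unop.unop c x }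
  naturality {X Y} f := by
    apply ModuleCat.hom_ext
    apply LinearMap.ext
    intro x
    exact zetaAdd_natural M' f.unop.unop x

lemma zeta_bijective (M' : ModuleCat.{u + 1} A') (X : (Alg A)ᵒᵖᵒᵖ) :
    Function.Bijective ((zeta (A := A) A' M').app X) :=
  zetaAdd_bijective M' X.unop.unop

theorem adequate_push (F' : MVF A') (hF' : adequate A' F') :
    adequate A ((push A A').obj F') := by
  obtain ⟨M, N, ψ, ι, hι⟩ := exists_isKerPt_of_adequate hF'
  have h1 := isKerPt_push (A := A) A' hι
  haveI : IsIso (zeta (A := A) A' M) := isIso_of_bijective _ (zeta_bijective (A := A) A' M)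
  haveI : IsIso (zeta (A := A) A' N) := isIso_of_bijective _ (zeta_bijective (A := A) A' N)
  obtain ⟨φ', hφ'⟩ := exists_underline_map_eq
    (zeta (A := A) A' M ≫ (push A A').map ((underline A').map ψ) ≫ inv (zeta (A := A) A' N))
  have hbij : ∀ (K : ModuleCat.{u + 1} A') [IsIso (zeta (A := A) A' K)] (X : (Alg A)ᵒᵖᵒᵖ),
      Function.Bijective ((inv (zeta (A := A) A' K)).app X) := by
    intro K _ X
    constructor
    · intro a b hab
      have := congrArg ((zeta (A := A) A' K).app X) hab
      rwa [app_inv_apply, app_inv_apply] at this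
    · intro y
      exact ⟨(zeta (A := A) A' K).app X y, inv_app_apply _ _ _⟩
  have h2 := IsKerPt.transfer h1 (inv (zeta (A := A) A' M)) (inv (zeta (A := A) A' N)) ((underline A).map φ')
    (by rw [hφ', IsIso.inv_hom_id_assoc]) (hbij M) (fun X => (hbij N X).1)
  exact adequate_of_isKerPt φ' _ h2

end

end Groth.Agent.Lib.Lead.AdeqPush
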