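import Groth.Agent.Lib.Lead.AdeqSheafify

/-!
# Sheaves on the big fppf site and finite products of rings; gluing along a single affine cover
-/

universe u

open CategoryTheory Limits Opposite TensorProduct AlgebraicGeometry

namespace Groth.Agent.Lib.Lead.AdeqSheafProd

open Adeq Groth.Agent.Lib.Lead.AdeqBasic Groth.Agent.Lib.Lead.AdeqModBase
  Groth.Agent.Lib.Lead.AdeqModMain Groth.Agent.Lib.Lead.AdeqFpqc Groth.Agent.Lib.Lead.AdeqProd
  Groth.Agent.Lib.Lead.AdeqProdFF Groth.Agent.Lib.Lead.AdeqSheafify

noncomputable section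

variable {S : Scheme.{u}} (G : (Over S)ᵒᵖ ⥤ AddCommGrpCat.{u + 1})
  (hG : Presheaf.IsSheaf (QuotSh.J Scheme.fppfPrecoverage S) G)

include hG

/-- The sections of a sheaf over an empty object form a subsingleton. -/
theorem eq_of_isEmpty (Z : Over S) [IsEmpty Z.left] (x x' : G.obj (op Z)) : x = x' := by
  have hcov : Sieve.ofArrows (fun j : Fin 0 => (j.elim0 : Over S))
      (fun j : Fin 0 => (j.elim0 : (j.elim0 : Over S) ⟶ Z)) ∈
      QuotSh.J Scheme.fppfPrecoverage S Z := by
    rw [GrothendieckTopology.mem_over_iff, Sieve.overEquiv_ofArrows]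
    apply Precoverage.generate_mem_toGrothendieck
    unfold Scheme.fppfPrecoverage
    rw [Scheme.ofArrows_mem_precoverage_iff]
    exact ⟨fun x => (IsEmpty.false x).elim, fun j => j.elim0⟩
  exact sheaf_sep (QuotSh.J Scheme.fppfPrecoverage S) G hG _ _ hcov x x' (fun j => j.elim0)

variable {D : CommRingCat.{u}} (t : Spec D ⟶ S)

theorem sheaf_prod_surj {n : ℕ} (B : Fin n → Type u)
    [∀ j, CommRing (B j)] [∀ j, Algebra D (B j)]
    (y : ∀ j, G.obj (op ((specOver t).obj (op (algOf D (B j)))))) :
    ∃ x : G.obj (op ((specOver t).obj (op (algOf D (Π j, B j))))),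
      ∀ j, G.map ((specOver t).map (pHom B j).op).op x = y j := by
  have hG' : Presieve.IsSheaf (QuotSh.J Scheme.fppfPrecoverage S) (G ⋙ forget AddCommGrpCat) :=
    (isSheaf_iff_isSheaf_of_type _ _).1
      ((Presheaf.isSheaf_iff_isSheaf_forget _ G (forget AddCommGrpCat)).1 hG)
  have h1 : Presieve.IsSheafFor (G ⋙ forget AddCommGrpCat)
      (Presieve.ofArrows (fun j => (specOver t).obj (op (algOf D (B j))))
        (fun j => (specOver t).map (pHom B j).op)) :=
    (Presieve.isSheafFor_iff_generate _).2 (hG' _ (cover_pi t B))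
  rw [Presieve.isSheafFor_arrows_iff] at h1
  have hc : Presieve.Arrows.Compatible (G ⋙ forget AddCommGrpCat)
      (fun j => (specOver t).map (pHom B j).op) y := by
    intro i j Z gi gj hgg
    have hl := congrArg (fun k => k.left) hgg
    simp only [Over.comp_left] at hl
    have hl' : gi.left ≫ Spec.map (CommRingCat.ofHom (Pi.evalRingHom B i)) =
        gj.left ≫ Spec.map (CommRingCat.ofHom (Pi.evalRingHom B j)) := hl
    rcases eq_or_ne i j with rfl | hij
    · have hm : Mono (Spec.map (CommRingCat.ofHom (Pi.evalRingHom B i))) := by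
        have h0 : IsClosedImmersion (Spec.map (CommRingCat.ofHom (Pi.evalRingHom B i))) :=
          IsClosedImmersion.spec_of_surjective _ (Function.surjective_eval i)
        have h1 : IsPreimmersion (Spec.map (CommRingCat.ofHom (Pi.evalRingHom B i))) :=
          inferInstance
        infer_instance
      have : gi = gj := by
        apply Over.OverMorphism.ext
        exact hm.right_cancellation _ _ hl'
      rw [this]
    · haveI : IsEmpty Z.left := by
        refine Scheme.isEmpty_of_commSq ⟨hl'⟩ ?_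
        rw [Set.disjoint_iff]
        rintro p ⟨⟨q₁, hq₁⟩, ⟨q₂, hq₂⟩⟩
        have hq₁' : PrimeSpectrum.comap (Pi.evalRingHom B i) q₁ = p := hq₁
        have hq₂' : PrimeSpectrum.comap (Pi.evalRingHom B j) q₂ = p := hq₂
        have h2 : PrimeSpectrum.sigmaToPi B ⟨i, q₁⟩ = PrimeSpectrum.sigmaToPi B ⟨j, q₂⟩ :=
          hq₁'.trans hq₂'.symm
        have h3 := PrimeSpectrum.sigmaToPi_injective B h2
        exact hij (congrArg Sigma.fst h3)
      exact eq_of_isEmpty G hG Z _ _
  obtain ⟨x, hx, _⟩ := h1 y hc
  exact ⟨x, hx⟩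

omit hG in
/-- The single arrow `Spec (Π B_j) → Spec D` generates a covering sieve if the `Spec B_j` cover. -/
theorem cover_uB_pi {n : ℕ} (B : Fin n → Type u) [∀ j, CommRing (B j)] [∀ j, Algebra D (B j)]
    (hcov : Presieve.ofArrows (fun j => Spec (CommRingCat.of (B j)))
      (fun j => Spec.map (CommRingCat.ofHom (algebraMap D (B j)))) ∈
        Scheme.fppfPrecoverage.coverings (Spec D)) :
    Sieve.ofArrows (fun _ : PUnit.{1} => (specOver t).obj (op (algOf D (Π j, B j))))
      (fun _ => uB t (Π j, B j)) ∈ QuotSh.J Scheme.fppfPrecoverage S (Over.mk t) := by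
  apply (QuotSh.J Scheme.fppfPrecoverage S).superset_covering _ (cover_uB t B hcov)
  rw [Sieve.ofArrows, Sieve.generate_le_iff]
  rintro W f ⟨j⟩
  rw [← p_comp_uB t B j]
  exact Sieve.downward_closed _ (Sieve.ofArrows_mk _ _ PUnit.unit) _

/-- Gluing along a single affine arrow generating a covering sieve. -/
theorem sheaf_glue_single (E : Type u) [CommRing E] [Algebra D E]
    (hcov : Sieve.ofArrows (fun _ : PUnit.{1} => (specOver t).obj (op (algOf D E)))
      (fun _ => uB t E) ∈ QuotSh.J Scheme.fppfPrecoverage S (Over.mk t))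
    (y : G.obj (op ((specOver t).obj (op (algOf D E)))))
    (hy : G.map ((specOver t).map (lHom E).op).op y = G.map ((specOver t).map (rHom E).op).op y) :
    ∃ z : G.obj (op (Over.mk t)), G.map (uB t E).op z = y := by
  have hpb : IsPullback ((specOver t).map (lHom E).op).left ((specOver t).map (rHom E).op).left
      (uB t E).left (uB t E).left := by
    rw [uB_left]
    exact isPullback_SpecMap_of_isPushout _ _ _ _ (CommRingCat.isPushout_tensorProduct D E E)
  obtain ⟨z, hz⟩ := sheaf_glue (QuotSh.J Scheme.fppfPrecoverage S) G hG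
    (fun _ : PUnit.{1} => (specOver t).obj (op (algOf D E))) (fun _ => uB t E) hcov
    (fun _ _ => (specOver t).obj (op (algOf D (E ⊗[D] E))))
    (fun _ _ => (specOver t).map (lHom E).op) (fun _ _ => (specOver t).map (rHom E).op)
    (fun _ _ W g₁ g₂ hg => over_weak_pullback _ _ _ _ hpb W g₁ g₂ hg)
    (fun _ => y) (fun _ _ => hy)
  exact ⟨z, hz PUnit.unit⟩

end

end Groth.Agent.Lib.Lead.AdeqSheafProd
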