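import Groth.Agent.Lib.Lead.AdeqFpqc
import Groth.Agent.Lib.Lead.AdeqProd
import Groth.Agent.Lib.Lead.AdeqProdFF

/-!
# Sheafification of a presheaf of modules which is adequate on all affines
-/

universe u

open CategoryTheory Limits Opposite TensorProduct AlgebraicGeometry

namespace Groth.Agent.Lib.Lead.AdeqSheafify

open Adeq Groth.Agent.Lib.Lead.AdeqBasic Groth.Agent.Lib.Lead.AdeqModBase
  Groth.Agent.Lib.Lead.AdeqModMain Groth.Agent.Lib.Lead.AdeqFpqc Groth.Agent.Lib.Lead.AdeqProd
  Groth.Agent.Lib.Lead.AdeqProdFF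

noncomputable section

variable {S : Scheme.{u}}

section Geometry

variable {D : CommRingCat.{u}} (t : Spec D ⟶ S)

lemma uB_left (B : Type u) [CommRing B] [Algebra D B] :
    (uB t B).left = Spec.map (CommRingCat.ofHom (algebraMap D B)) := by
  unfold uB
  rw [Over.comp_left]
  show Spec.map (CommRingCat.ofHom (eHom (R := D) B).hom.toRingHom) ≫ 𝟙 _ = _
  rw [Category.comp_id]
  rfl

lemma uB_eq {B : CommRingCat.{u}} (φ : D ⟶ B) :
    letI : Algebra D B := φ.hom.toAlgebra
    uB t B = (Over.homMk (Spec.map φ) rfl : Over.mk (Spec.map φ ≫ t) ⟶ Over.mk t) := by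
  letI : Algebra D B := φ.hom.toAlgebra
  apply Over.OverMorphism.ext
  rw [uB_left]
  rfl

variable {n : ℕ} (B : Fin n → Type u) [∀ j, CommRing (B j)] [∀ j, Algebra D (B j)]

lemma e_p (j : Fin n) : eHom (R := D) (Π j, B j) ≫ pHom B j = eHom (B j) := by
  apply CommAlgCat.hom_ext
  exact Subsingleton.elim _ _

lemma p_comp_uB (j : Fin n) :
    (specOver t).map (pHom B j).op ≫ uB t (Π j, B j) = uB t (B j) := by
  unfold uB
  rw [← Category.assoc, ← Functor.map_comp, ← op_comp, e_p]

theorem cover_uB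
    (hcov : Presieve.ofArrows (fun j => Spec (CommRingCat.of (B j)))
      (fun j => Spec.map (CommRingCat.ofHom (algebraMap D (B j)))) ∈
        Scheme.fppfPrecoverage.coverings (Spec D)) :
    Sieve.ofArrows (fun j => (specOver t).obj (op (algOf D (B j)))) (fun j => uB t (B j)) ∈
      QuotSh.J Scheme.fppfPrecoverage S (Over.mk t) := by
  rw [GrothendieckTopology.mem_over_iff, Sieve.overEquiv_ofArrows]
  have e : (fun j => (uB t (B j)).left) =
      fun j => Spec.map (CommRingCat.ofHom (algebraMap D (B j))) := funext fun j => uB_left t (B j)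
  show Sieve.ofArrows (fun j => Spec (CommRingCat.of (B j))) (fun j => (uB t (B j)).left) ∈ _
  rw [e]
  exact Precoverage.generate_mem_toGrothendieck hcov

theorem cover_pi :
    Sieve.ofArrows (fun j => (specOver t).obj (op (algOf D (B j))))
      (fun j => (specOver t).map (pHom B j).op) ∈
      QuotSh.J Scheme.fppfPrecoverage S ((specOver t).obj (op (algOf D (Π j, B j)))) := by
  rw [GrothendieckTopology.mem_over_iff, Sieve.overEquiv_ofArrows]
  show Sieve.ofArrows (fun j => Spec (CommRingCat.of (B j)))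
    (fun j => Spec.map (CommRingCat.ofHom (Pi.evalRingHom B j))) ∈ _
  exact Precoverage.generate_mem_toGrothendieck
    (Scheme.zariskiPrecoverage_le_fppfPrecoverage _ (pi_cover_mem B))

end Geometry

/-- The exactness properties of a presheaf of abelian groups on affine objects which hold for
presheaves of modules adequate on all affines. -/
structure AffExact (G₀ : (Over S)ᵒᵖ ⥤ AddCommGrpCat.{u + 1}) : Prop where
  inj : ∀ {D : CommRingCat.{u}} (t : Spec D ⟶ S) (B : Type u) [CommRing B] [Algebra D B]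
    [Module.FaithfullyFlat D B],
    Function.Injective (G₀.map ((specOver t).map (eHom B).op).op)
  glue : ∀ {D : CommRingCat.{u}} (t : Spec D ⟶ S) (B : Type u) [CommRing B] [Algebra D B]
    [Module.FaithfullyFlat D B] (y : G₀.obj (op ((specOver t).obj (op (algOf D B))))),
    G₀.map ((specOver t).map (lHom B).op).op y = G₀.map ((specOver t).map (rHom B).op).op y →
    ∃ z, G₀.map ((specOver t).map (eHom B).op).op z = y
  prod_inj : ∀ {D : CommRingCat.{u}} (t : Spec D ⟶ S) {n : ℕ} (B : Fin n → Type u)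
    [∀ j, CommRing (B j)] [∀ j, Algebra D (B j)]
    (x : G₀.obj (op ((specOver t).obj (op (algOf D (Π j, B j)))))),
    (∀ j, G₀.map ((specOver t).map (pHom B j).op).op x = 0) → x = 0
  prod_surj : ∀ {D : CommRingCat.{u}} (t : Spec D ⟶ S) {n : ℕ} (B : Fin n → Type u)
    [∀ j, CommRing (B j)] [∀ j, Algebra D (B j)]
    (y : ∀ j, G₀.obj (op ((specOver t).obj (op (algOf D (B j)))))),
    ∃ x : G₀.obj (op ((specOver t).obj (op (algOf D (Π j, B j))))),
      ∀ j, G₀.map ((specOver t).map (pHom B j).op).op x = y j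

lemma fppf_open : ∀ ⦃X Y : Scheme.{u}⦄ (f : X ⟶ Y),
    (@Flat ⊓ @LocallyOfFinitePresentation : MorphismProperty Scheme.{u}) f → IsOpenMap f :=
  fun X Y f hf => by
    haveI : Flat f := hf.1
    haveI : LocallyOfFinitePresentation f := hf.2
    exact f.isOpenMap

set_option backward.isDefEq.respectTransparency.types false in
instance lofp_mult : MorphismProperty.IsMultiplicative
    (@LocallyOfFinitePresentation : MorphismProperty Scheme.{u}) where
  id_mem X := inferInstanceAs (LocallyOfFinitePresentation (𝟙 X))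
  comp_mem f g hf hg := by
    haveI : LocallyOfFinitePresentation f := hf
    haveI : LocallyOfFinitePresentation g := hg
    exact inferInstanceAs (LocallyOfFinitePresentation (f ≫ g))

set_option backward.isDefEq.respectTransparency.types false in
instance fppf_mult : MorphismProperty.IsMultiplicative
    (@Flat ⊓ @LocallyOfFinitePresentation : MorphismProperty Scheme.{u}) := inferInstance

set_option backward.isDefEq.respectTransparency.types false in
instance fppf_bc : MorphismProperty.IsStableUnderBaseChange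
    (@Flat ⊓ @LocallyOfFinitePresentation : MorphismProperty Scheme.{u}) := inferInstance

instance fppf_respectsLeft :
    (@Flat ⊓ @LocallyOfFinitePresentation : MorphismProperty Scheme.{u}).RespectsLeft
      @IsOpenImmersion := by
  constructor
  intro X Y Z i hi f hf
  haveI : IsOpenImmersion i := hi
  haveI : Flat f := hf.1
  haveI : LocallyOfFinitePresentation f := hf.2
  exact ⟨inferInstanceAs (Flat (i ≫ f)), inferInstanceAs (LocallyOfFinitePresentation (i ≫ f))⟩

/-- Refinement of a covering sieve of an affine object by a finite affine fppf covering. -/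
theorem exists_refinement {D : CommRingCat.{u}} (t : Spec D ⟶ S) (R₀ : Sieve (Over.mk t))
    (hR₀ : R₀ ∈ QuotSh.J Scheme.fppfPrecoverage S (Over.mk t)) :
    ∃ (n : ℕ) (B : Fin n → CommRingCat.{u}) (φ : ∀ j, D ⟶ B j),
      Presieve.ofArrows (fun j => Spec (B j)) (fun j => Spec.map (φ j)) ∈
        Scheme.fppfPrecoverage.coverings (Spec D) ∧
      ∀ j, R₀ (Over.homMk (Spec.map (φ j)) rfl : Over.mk (Spec.map (φ j) ≫ t) ⟶ Over.mk t) := by
  rw [GrothendieckTopology.mem_over_iff] at hR₀
  obtain ⟨n, B, φ, hcov, hB⟩ := exists_affine_refinement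
    (@Flat ⊓ @LocallyOfFinitePresentation) fppf_open (Sieve.overEquiv (Over.mk t) R₀) hR₀
  refine ⟨n, B, φ, hcov, fun j => ?_⟩
  have h1 := hB j
  rw [Sieve.overEquiv_iff] at h1
  exact h1

variable {G₀ G₁ : (Over S)ᵒᵖ ⥤ AddCommGrpCat.{u + 1}} (η : G₀ ⟶ G₁)

lemma nat_apply {X Y : Over S} (f : X ⟶ Y) (x : G₀.obj (op Y)) :
    η.app (op X) (G₀.map f.op x) = G₁.map f.op (η.app (op Y) x) :=
  NatTrans.naturality_apply η f.op x

lemma app_zero (X : (Over S)ᵒᵖ) : η.app X 0 = 0 := (η.app X).hom.map_zero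

lemma map_zero' (G : (Over S)ᵒᵖ ⥤ AddCommGrpCat.{u + 1}) {X Y : Over S} (f : X ⟶ Y) :
    G.map f.op 0 = 0 := (G.map f.op).hom.map_zero

theorem inj_of_affExact [Presheaf.IsLocallyInjective (QuotSh.J Scheme.fppfPrecoverage S) η]
    (h : AffExact G₀) {D : CommRingCat.{u}} (t : Spec D ⟶ S)
    (x : G₀.obj (op (Over.mk t))) (hx : η.app (op (Over.mk t)) x = 0) : x = 0 := by
  have hmem : Presheaf.equalizerSieve x 0 ∈ QuotSh.J Scheme.fppfPrecoverage S (Over.mk t) :=
    Presheaf.IsLocallyInjective.equalizerSieve_mem (φ := η) (X := op (Over.mk t)) x 0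
      (hx.trans (app_zero η _).symm)
  obtain ⟨n, B, φ, hcov, hB⟩ := exists_refinement t _ hmem
  let _ : ∀ j, Algebra D (B j) := fun j => (φ j).hom.toAlgebra
  have hcov' : Presieve.ofArrows (fun j => Spec (CommRingCat.of (B j)))
      (fun j => Spec.map (CommRingCat.ofHom (algebraMap D (B j)))) ∈
        Scheme.fppfPrecoverage.coverings (Spec D) := hcov
  have : Module.FaithfullyFlat D (Π j, B j) := pi_faithfullyFlat (fun j => (B j : Type u)) hcov'
  have hxj : ∀ j, G₀.map (uB t (B j)).op x = 0 := by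
    intro j
    have h1 : G₀.map (Over.homMk (Spec.map (φ j)) rfl :
        Over.mk (Spec.map (φ j) ≫ t) ⟶ Over.mk t).op x = G₀.map _ 0 := hB j
    have e := uB_eq t (φ j)
    rw [e]
    exact h1.trans (map_zero' G₀ _)
  have h2 : G₀.map (uB t (Π j, B j)).op x = 0 := by
    apply h.prod_inj t (fun j => (B j : Type u))
    intro j
    rw [← map_comp_apply', p_comp_uB]
    exact hxj j
  have h3 : G₀.map (αIso t).inv.op x = 0 := by
    apply h.inj t (Π j, B j)
    rw [← map_comp_apply']
    exact h2.trans (map_zero' G₀ _).symm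
  have h4 : x = G₀.map (αIso t).hom.op (G₀.map (αIso t).inv.op x) := by
    rw [← map_comp_apply', Iso.hom_inv_id, op_id, G₀.map_id]
    rfl
  rw [h4, h3]
  exact map_zero' G₀ _

lemma app_sub (X : (Over S)ᵒᵖ) (a b : G₀.obj X) : η.app X (a - b) = η.app X a - η.app X b :=
  (η.app X).hom.map_sub a b

theorem surj_of_affExact [Presheaf.IsLocallyInjective (QuotSh.J Scheme.fppfPrecoverage S) η]
    [Presheaf.IsLocallySurjective (QuotSh.J Scheme.fppfPrecoverage S) η]
    (hG₁ : Presheaf.IsSheaf (QuotSh.J Scheme.fppfPrecoverage S) G₁)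
    (h : AffExact G₀) {D : CommRingCat.{u}} (t : Spec D ⟶ S)
    (y : G₁.obj (op (Over.mk t))) : ∃ x, η.app (op (Over.mk t)) x = y := by
  have hmem : Presheaf.imageSieve η y ∈ QuotSh.J Scheme.fppfPrecoverage S (Over.mk t) :=
    Presheaf.imageSieve_mem (QuotSh.J Scheme.fppfPrecoverage S) η (U := op (Over.mk t)) y
  obtain ⟨n, B, φ, hcov, hB⟩ := exists_refinement t _ hmem
  let _ : ∀ j, Algebra D (B j) := fun j => (φ j).hom.toAlgebra
  have hcov' : Presieve.ofArrows (fun j => Spec (CommRingCat.of (B j)))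
      (fun j => Spec.map (CommRingCat.ofHom (algebraMap D (B j)))) ∈
        Scheme.fppfPrecoverage.coverings (Spec D) := hcov
  have : Module.FaithfullyFlat D (Π j, B j) := pi_faithfullyFlat (fun j => (B j : Type u)) hcov'
  have hxj : ∀ j, ∃ xj : G₀.obj (op ((specOver t).obj (op (algOf D (B j))))),
      η.app _ xj = G₁.map (uB t (B j)).op y := by
    intro j
    have h1 : ∃ s, η.app _ s = G₁.map (Over.homMk (Spec.map (φ j)) rfl :
        Over.mk (Spec.map (φ j) ≫ t) ⟶ Over.mk t).op y := hB j
    have e := uB_eq t (φ j)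
    rw [e]
    exact h1
  choose xj hxj using hxj
  obtain ⟨x', hx'⟩ := h.prod_surj t (fun j => (B j : Type u)) xj
  have h5 : η.app _ x' = G₁.map (uB t (Π j, B j)).op y := by
    apply sheaf_sep (QuotSh.J Scheme.fppfPrecoverage S) G₁ hG₁ _ _
      (cover_pi t (fun j => (B j : Type u)))
    intro j
    rw [← nat_apply, hx' j, hxj j, ← map_comp_apply', p_comp_uB]
  have h6 : G₀.map ((specOver t).map (lHom (Π j, B j)).op).op x' =
      G₀.map ((specOver t).map (rHom (Π j, B j)).op).op x' := by
    have hd : η.app _ (G₀.map ((specOver t).map (lHom (Π j, B j)).op).op x' -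
        G₀.map ((specOver t).map (rHom (Π j, B j)).op).op x') = 0 := by
      rw [app_sub, nat_apply, nat_apply, h5, ← map_comp_apply', ← map_comp_apply', l_comp_uB,
        sub_self]
    have h7 := inj_of_affExact η h
      (t := Spec.map (CommRingCat.ofHom
        (algebraMap D ((Π j, B j) ⊗[D] (Π j, B j)))) ≫ t) _ hd
    exact sub_eq_zero.mp h7
  obtain ⟨z, hz⟩ := h.glue t (Π j, B j) x' h6
  refine ⟨G₀.map (αIso t).hom.op z, ?_⟩
  apply sheaf_sep (QuotSh.J Scheme.fppfPrecoverage S) G₁ hG₁ _ _
    (cover_uB t (fun j => (B j : Type u)) hcov')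
  intro j
  rw [← nat_apply, ← map_comp_apply', uB_comp_hom]
  have h8 : G₀.map ((specOver t).map (eHom (B j)).op).op z = xj j := by
    rw [← hx' j, ← hz, ← map_comp_apply', ← Functor.map_comp, ← op_comp, e_p]
  rw [h8, hxj j]

theorem bijective_of_affExact [Presheaf.IsLocallyInjective (QuotSh.J Scheme.fppfPrecoverage S) η]
    [Presheaf.IsLocallySurjective (QuotSh.J Scheme.fppfPrecoverage S) η]
    (hG₁ : Presheaf.IsSheaf (QuotSh.J Scheme.fppfPrecoverage S) G₁)
    (h : AffExact G₀) {D : CommRingCat.{u}} (t : Spec D ⟶ S) :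
    Function.Bijective (η.app (op (Over.mk t))) := by
  refine ⟨?_, fun y => surj_of_affExact η hG₁ h t y⟩
  intro a b hab
  have h1 : η.app (op (Over.mk t)) (a - b) = 0 := by
    rw [app_sub, hab, sub_self]
  exact sub_eq_zero.mp (inj_of_affExact η h t _ h1)

end

end Groth.Agent.Lib.Lead.AdeqSheafify
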