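import Groth.Agent.Lib.Lead.AdeqSheafify
import Groth.Agent.Lib.Lead.AdeqModPull

/-!
# Sheafification of a presheaf of modules adequate on all affines is adequate
-/

universe u

open CategoryTheory Limits Opposite TensorProduct AlgebraicGeometry

namespace Groth.Agent.Lib.Lead.AdeqSheafify

open Adeq Groth.Agent.Lib.Lead.AdeqBasic Groth.Agent.Lib.Lead.AdeqModBase
  Groth.Agent.Lib.Lead.AdeqModMain Groth.Agent.Lib.Lead.AdeqFpqc Groth.Agent.Lib.Lead.AdeqProd
  Groth.Agent.Lib.Lead.AdeqProdFF

noncomputable section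

variable {S : Scheme.{u}}
  (P : PresheafOfModules.{u + 1} (BigSite.ORing Scheme.fppfPrecoverage S).obj)

lemma toMVFPre_map_apply {R : CommRingCat.{u}} (a : Spec R ⟶ S) {D D' : Alg R} (f : D ⟶ D')
    (x : ((toMVFPre Scheme.fppfPrecoverage a).obj P).obj (pt D)) :
    ((toMVFPre Scheme.fppfPrecoverage a).obj P).map (ptHom f) x =
      P.presheaf.map ((specOver a).map f.op).op x := rfl

theorem affExact_of_adequate
    (h : ∀ (R : CommRingCat.{u}) (a : Spec R ⟶ S),
      adequate R ((toMVFPre Scheme.fppfPrecoverage a).obj P)) :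
    AffExact P.presheaf where
  inj := by
    intro D t B _ _ _
    exact (AdeqFF.ff_exact ((toMVFPre Scheme.fppfPrecoverage t).obj P) (h D t) B).1
  glue := by
    intro D t B _ _ _ y hy
    exact (AdeqFF.ff_exact ((toMVFPre Scheme.fppfPrecoverage t).obj P) (h D t) B).2 y hy
  prod_inj := by
    intro D t n B _ _ x hx
    exact prod_inj B ((toMVFPre Scheme.fppfPrecoverage t).obj P) (h D t) x hx
  prod_surj := by
    intro D t n B _ _ y
    exact prod_surj B ((toMVFPre Scheme.fppfPrecoverage t).obj P) (h D t) y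

/-- The sheafification. -/
abbrev Psh : BigSite.Mod Scheme.fppfPrecoverage S :=
  (PresheafOfModules.sheafification (𝟙 (BigSite.ORing Scheme.fppfPrecoverage S).obj)).obj P

/-- The unit of the sheafification adjunction. -/
abbrev unitP : P ⟶ (PresheafOfModules.restrictScalars
    (𝟙 (BigSite.ORing Scheme.fppfPrecoverage S).obj)).obj (Psh P).val :=
  (PresheafOfModules.sheafificationAdjunction
    (𝟙 (BigSite.ORing Scheme.fppfPrecoverage S).obj)).unit.app P

theorem unit_bijective
    (h : ∀ (R : CommRingCat.{u}) (a : Spec R ⟶ S),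
      adequate R ((toMVFPre Scheme.fppfPrecoverage a).obj P))
    {R : CommRingCat.{u}} (a : Spec R ⟶ S) (X : (Alg R)ᵒᵖᵒᵖ) :
    Function.Bijective (((toMVFPre Scheme.fppfPrecoverage a).map (unitP P)).app X) := by
  have hb := bijective_of_affExact
    (CategoryTheory.toSheafify (QuotSh.J Scheme.fppfPrecoverage S) P.presheaf)
    ((presheafToSheaf (QuotSh.J Scheme.fppfPrecoverage S) AddCommGrpCat.{u + 1}).obj
      P.presheaf).property (affExact_of_adequate P h)
    (t := Spec.map (CommRingCat.ofHom (algebraMap R X.unop.unop)) ≫ a)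
  exact hb

theorem adequate_sheafification
    (h : ∀ (R : CommRingCat.{u}) (a : Spec R ⟶ S),
      adequate R ((toMVFPre Scheme.fppfPrecoverage a).obj P)) :
    adequateMod Scheme.fppfPrecoverage S (Psh P) := by
  obtain ⟨ι, R, a, hcov⟩ := AdeqModPull.exists_affine_cover Scheme.fppfPrecoverage
    Scheme.zariskiPrecoverage_le_fppfPrecoverage S
  refine ⟨ι, R, a, hcov, fun i => ?_⟩
  have hiso : IsIso ((toMVFPre Scheme.fppfPrecoverage (a i)).map (unitP P)) :=
    AdeqRestr.isIso_of_bijective _ (unit_bijective P h (a i))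
  have e : (toMVFPre Scheme.fppfPrecoverage (a i)).obj P ≅
      (toMVFPre Scheme.fppfPrecoverage (a i)).obj ((PresheafOfModules.restrictScalars
        (𝟙 (BigSite.ORing Scheme.fppfPrecoverage S).obj)).obj (Psh P).val) :=
    @asIso _ _ _ _ _ hiso
  have h1 := (adequate (R i)).prop_of_iso e (h (R i) (a i))
  exact h1

end

end Groth.Agent.Lib.Lead.AdeqSheafify
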