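import Groth.Agent.Lib.Lead.AdeqCoeff
import Groth.Agent.Lib.Lead.AdeqExt
import Mathlib.Algebra.Polynomial.Basis
import Mathlib.RingTheory.MvPolynomial.Basic
import Mathlib.RingTheory.Polynomial.Basic

/-!
# Extensions of linearly adequate functors by `underline M` split (Stacks 46.3.14/15)
-/

universe u

open CategoryTheory Limits Opposite TensorProduct Module Polynomial

namespace Groth.Agent.Lib.Lead.AdeqSplit

open Adeq Groth.Agent.Lib.Lead.AdeqBasic Groth.Agent.Lib.Lead.AdeqFlat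
  Groth.Agent.Lib.Lead.AdeqCoeff Groth.Agent.Lib.Lead.AdeqExt

noncomputable section

variable {A : Type u} [CommRing A]

/-! ### More on transition maps -/

lemma tr_zero (F : MVF A) {B B' : Alg A} (f : B ⟶ B') : tr F f (0 : F.obj (pt B)) = 0 := by
  unfold tr; rw [map_zero]; rfl

lemma tr_comp (F : MVF A) {B B' B'' : Alg A} (f : B ⟶ B') (g : B' ⟶ B'') (x : F.obj (pt B)) :
    tr F (f ≫ g) x = tr F g (tr F f x) := by
  unfold tr
  exact F.map_comp_apply (ptHom f) (ptHom g) x

/-! ### The universal element -/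

section Univ

variable {n m : ℕ} {P P' : ModuleCat.{u + 1} A} (bP : Basis (Fin n) A P)
  (bP' : Basis (Fin m) A P') (δ : P ⟶ P')

/-- The kernel functor. -/
abbrev K : MVF A := kernel ((underline A).map δ)

/-- Its inclusion. -/
abbrev κ : K δ ⟶ U P := kernel.ι ((underline A).map δ)

lemma hker : IsKerPt (κ δ) ((underline A).map δ) := isKerPt_kernel _

/-- The universal algebra as an object. -/
abbrev UA : Alg A := algOf A (UB bP bP' δ.hom)

lemma hδ (C : Alg A) (l : (K δ).obj (pt C)) :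
    δ.hom.baseChange C (toT ((κ δ).app (pt C) l)) = 0 := by
  have h2 := congrArg toT ((hker δ).w_apply (pt C) l)
  rwa [toT_map_app] at h2

lemma exists_l₀ : ∃ l₀ : (K δ).obj (pt (UA bP bP' δ)),
    (κ δ).app (pt (UA bP bP' δ)) l₀ = ofT (ξ bP bP' δ.hom) :=
  (hker δ).surj (pt (UA bP bP' δ)) (ofT (ξ bP bP' δ.hom)) (by
    apply toT_injective
    rw [toT_map_app, toT_ofT, δ_ξ]
    rfl)

/-- The universal element. -/
def l₀ : (K δ).obj (pt (UA bP bP' δ)) := (exists_l₀ bP bP' δ).choose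

lemma κ_l₀ : (κ δ).app (pt (UA bP bP' δ)) (l₀ bP bP' δ) = ofT (ξ bP bP' δ.hom) :=
  (exists_l₀ bP bP' δ).choose_spec

/-- The classifying map of a section of the kernel. -/
def cl (C : Alg A) (l : (K δ).obj (pt C)) : UA bP bP' δ ⟶ C :=
  CommAlgCat.ofHom (evbar bP bP' δ.hom C (toT ((κ δ).app (pt C) l)) (hδ δ C l))

lemma tr_cl (C : Alg A) (l : (K δ).obj (pt C)) :
    tr (K δ) (cl bP bP' δ C l) (l₀ bP bP' δ) = l := by
  apply (hker δ).inj (pt C)
  rw [app_tr, κ_l₀]
  apply toT_injective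
  rw [toT_tr, toT_ofT]
  exact rTensor_evbar_ξ bP bP' δ.hom C _ (hδ δ C l)

lemma evbar_eq_of (C : Type u) [CommRing C] [Algebra A C] (c : C ⊗[A] (P : Type (u + 1)))
    (hc : δ.hom.baseChange C c = 0) (g : UB bP bP' δ.hom →ₐ[A] C)
    (h : c = g.toLinearMap.rTensor P (ξ bP bP' δ.hom)) : evbar bP bP' δ.hom C c hc = g := by
  subst h
  apply Ideal.Quotient.algHom_ext
  apply MvPolynomial.algHom_ext
  intro i
  show evbar bP bP' δ.hom C _ hc (q bP bP' δ.hom (MvPolynomial.X i)) =
    g (q bP bP' δ.hom (MvPolynomial.X i))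
  rw [evbar_xbar]
  have : g.toLinearMap.rTensor P (ξ bP bP' δ.hom) =
      ∑ i, g (q bP bP' δ.hom (MvPolynomial.X i)) ⊗ₜ[A] bP i := by
    unfold ξ ξ₀
    rw [map_sum, map_sum]
    rfl
  rw [this, coord_sum]

lemma cl_tr (C : Alg A) (g : UA bP bP' δ ⟶ C) :
    cl bP bP' δ C (tr (K δ) g (l₀ bP bP' δ)) = g := by
  apply CommAlgCat.hom_ext
  exact evbar_eq_of bP bP' δ C _ (hδ δ C _) g.hom (by rw [app_tr, κ_l₀, toT_tr, toT_ofT])

lemma cl_comp {C C' : Alg A} (f : C ⟶ C') (l : (K δ).obj (pt C)) :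
    cl bP bP' δ C' (tr (K δ) f l) = cl bP bP' δ C l ≫ f := by
  conv_lhs => rw [← tr_cl bP bP' δ C l, ← tr_comp]
  exact cl_tr bP bP' δ C' _

end Univ

/-! ### Polynomial algebras -/

section Poly

variable (B : Alg A)

/-- `B[X]`. -/
abbrev Bx : Alg A := algOf A (Polynomial (B : Type u))

/-- `B → B[X]`. -/
def jx : B ⟶ Bx B := CommAlgCat.ofHom (IsScalarTower.toAlgHom A (B : Type u) (Polynomial (B : Type u)))

lemma jx_apply (b : B) : (jx B).hom b = (Polynomial.C b : Polynomial (B : Type u)) := rfl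

lemma jx_flat : (jx B).hom.toRingHom.Flat := by
  have : (jx B).hom.toRingHom = algebraMap (B : Type u) (Polynomial (B : Type u)) := rfl
  rw [this, RingHom.flat_algebraMap_iff]
  infer_instance

/-- The coefficient of `X`. -/
def lam1 : (Bx B : Type u) →+ (B : Type u) := (Polynomial.lcoeff (B : Type u) 1).toAddMonoidHom

lemma lam1_apply (c : Polynomial (B : Type u)) : lam1 B c = c.coeff 1 := rfl

lemma hlam1 (b : B) (c : Bx B) : lam1 B ((jx B).hom b * c) = b * lam1 B c := by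
  show (Polynomial.C b * (c : Polynomial (B : Type u))).coeff 1 = b * Polynomial.coeff c 1
  exact Polynomial.coeff_C_mul c

variable {B} in
/-- Functoriality of `B[X]`. -/
def fx {B' : Alg A} (f : B ⟶ B') : Bx B ⟶ Bx B' := CommAlgCat.ofHom (Polynomial.mapAlgHom f.hom)

variable {B} in
lemma jx_fx {B' : Alg A} (f : B ⟶ B') : jx B ≫ fx f = f ≫ jx B' := by
  apply CommAlgCat.hom_ext
  apply DFunLike.ext
  intro b
  show Polynomial.map _ (Polynomial.C b) = Polynomial.C (f.hom b)
  rw [Polynomial.map_C]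
  rfl

/-- The substitution `X ↦ βX`. -/
def tau (β : B) : Bx B ⟶ Bx B :=
  CommAlgCat.ofHom ((Polynomial.aeval (Polynomial.C β * Polynomial.X :
    Polynomial (B : Type u))).restrictScalars A)

lemma tau_apply (β : B) (c : Polynomial (B : Type u)) :
    (tau B β).hom c = Polynomial.aeval (Polynomial.C β * Polynomial.X : Polynomial (B : Type u)) c :=
  rfl

lemma jx_tau (β : B) : jx B ≫ tau B β = jx B := by
  apply CommAlgCat.hom_ext
  apply DFunLike.ext
  intro b
  show Polynomial.aeval _ (Polynomial.C b) = Polynomial.C b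
  rw [Polynomial.aeval_C]
  rfl

lemma coeff_tau (β : B) (c : Polynomial (B : Type u)) :
    ((tau B β).hom c : Polynomial (B : Type u)).coeff 1 = β * c.coeff 1 := by
  rw [tau_apply]
  have : Polynomial.aeval (Polynomial.C β * Polynomial.X : Polynomial (B : Type u)) c =
      c.comp (Polynomial.C β * Polynomial.X) := by
    rw [Polynomial.aeval_def, Polynomial.algebraMap_eq]
    rfl
  rw [this, Polynomial.comp_C_mul_X_coeff, pow_one, mul_comm]

/-- `B[s,t]`. -/
abbrev Bst : Alg A := algOf A (MvPolynomial (Fin 2) (B : Type u))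

/-- `B → B[s,t]`. -/
def j2 : B ⟶ Bst B :=
  CommAlgCat.ofHom (IsScalarTower.toAlgHom A (B : Type u) (MvPolynomial (Fin 2) (B : Type u)))

lemma j2_flat : (j2 B).hom.toRingHom.Flat := by
  have : (j2 B).hom.toRingHom =
      algebraMap (B : Type u) (MvPolynomial (Fin 2) (B : Type u)) := rfl
  rw [this, RingHom.flat_algebraMap_iff]
  infer_instance

/-- A `B`-algebra map `B[s,t] → B[X]`. -/
def sub2 (v : Fin 2 → Polynomial (B : Type u)) : Bst B ⟶ Bx B :=
  CommAlgCat.ofHom ((MvPolynomial.aeval v).restrictScalars A)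

lemma sub2_apply (v : Fin 2 → Polynomial (B : Type u)) (c : MvPolynomial (Fin 2) (B : Type u)) :
    (sub2 B v).hom c = MvPolynomial.aeval v c := rfl

lemma j2_sub2 (v : Fin 2 → Polynomial (B : Type u)) : j2 B ≫ sub2 B v = jx B := by
  apply CommAlgCat.hom_ext
  apply DFunLike.ext
  intro b
  show MvPolynomial.aeval v (MvPolynomial.C b) = Polynomial.C b
  rw [MvPolynomial.aeval_C]
  rfl

/-- The polynomial identity behind additivity. -/
lemma coeff_sub2 (c : MvPolynomial (Fin 2) (B : Type u)) :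
    (MvPolynomial.aeval (![Polynomial.X, Polynomial.X] : Fin 2 → Polynomial (B : Type u)) c).coeff 1 =
      (MvPolynomial.aeval (![Polynomial.X, 0] : Fin 2 → Polynomial (B : Type u)) c).coeff 1 +
      (MvPolynomial.aeval (![0, Polynomial.X] : Fin 2 → Polynomial (B : Type u)) c).coeff 1 := by
  suffices h : ((MvPolynomial.aeval (![Polynomial.X, Polynomial.X] : Fin 2 → Polynomial (B : Type u)) c).coeff 1 =
      (MvPolynomial.aeval (![Polynomial.X, 0] : Fin 2 → Polynomial (B : Type u)) c).coeff 1 +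
      (MvPolynomial.aeval (![0, Polynomial.X] : Fin 2 → Polynomial (B : Type u)) c).coeff 1) ∧
      ((MvPolynomial.aeval (![Polynomial.X, Polynomial.X] : Fin 2 → Polynomial (B : Type u)) c).coeff 0 =
        (MvPolynomial.aeval (![Polynomial.X, 0] : Fin 2 → Polynomial (B : Type u)) c).coeff 0) ∧
      ((MvPolynomial.aeval (![Polynomial.X, Polynomial.X] : Fin 2 → Polynomial (B : Type u)) c).coeff 0 =
        (MvPolynomial.aeval (![0, Polynomial.X] : Fin 2 → Polynomial (B : Type u)) c).coeff 0) from h.1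
  induction c using MvPolynomial.induction_on with
  | C a =>
    simp only [MvPolynomial.aeval_C, Polynomial.algebraMap_eq, Polynomial.coeff_C_succ,
      Polynomial.coeff_C_zero, add_zero, and_self]
  | add p q hp hq =>
    simp only [map_add, Polynomial.coeff_add]
    refine ⟨?_, ?_, ?_⟩
    · rw [hp.1, hq.1]; ring
    · rw [hp.2.1, hq.2.1]
    · rw [hp.2.2, hq.2.2]
  | mul_X p i hp =>
    simp only [map_mul, MvPolynomial.aeval_X]
    fin_cases i
    · simp only [Fin.zero_eta, Fin.isValue, Matrix.cons_val_zero, Polynomial.coeff_mul_X,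
        Polynomial.mul_coeff_zero, Polynomial.coeff_X_zero, mul_zero, Polynomial.coeff_zero,
        add_zero, and_self, and_true]
      exact hp.2.1
    · simp only [Fin.mk_one, Fin.isValue, Matrix.cons_val_one, Matrix.cons_val_fin_one,
        Polynomial.coeff_mul_X, Polynomial.mul_coeff_zero, Polynomial.coeff_X_zero, mul_zero,
        Polynomial.coeff_zero, zero_add, and_self, and_true]
      exact hp.2.2

end Poly

/-! ### The section -/

section Section

variable {n m : ℕ} {P P' : ModuleCat.{u + 1} A} (bP : Basis (Fin n) A P)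
  (bP' : Basis (Fin m) A P') (δ : P ⟶ P')
  (G : MVF A) (ξ' : G.obj (pt (UA bP bP' δ)))
  (hG : ∀ ⦃B B' : Alg A⦄ (f : B ⟶ B'), f.hom.toRingHom.Flat → Function.Bijective (G.bc f))

lemma hK ⦃B B' : Alg A⦄ (f : B ⟶ B') (hf : f.hom.toRingHom.Flat) :
    Function.Bijective ((K δ).bc f) := by
  haveI := isIso_bc_of_adequate_flat (K δ) ⟨_, _, δ, ⟨Iso.refl _⟩⟩ f hf
  exact (ConcreteCategory.isIso_iff_bijective _).mp inferInstance

/-- The natural set-theoretic section. -/
def Xi (C : Alg A) (l : (K δ).obj (pt C)) : G.obj (pt C) :=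
  tr G (cl bP bP' δ C l) ξ'

lemma g_Xi {H : MVF A} (g : G ⟶ H) (α : K δ ⟶ H)
    (hξ : g.app (pt (UA bP bP' δ)) ξ' = α.app (pt (UA bP bP' δ)) (l₀ bP bP' δ))
    (C : Alg A) (l : (K δ).obj (pt C)) :
    g.app (pt C) (Xi bP bP' δ G ξ' C l) = α.app (pt C) l := by
  unfold Xi
  rw [app_tr, hξ, ← app_tr, tr_cl]

lemma tr_Xi {C C' : Alg A} (f : C ⟶ C') (l : (K δ).obj (pt C)) :
    tr G f (Xi bP bP' δ G ξ' C l) = Xi bP bP' δ G ξ' C' (tr (K δ) f l) := by
  unfold Xi
  rw [← tr_comp, cl_comp]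

/-- The degree one coefficient. -/
def c1 (H : MVF A)
    (hH : ∀ ⦃B B' : Alg A⦄ (f : B ⟶ B'), f.hom.toRingHom.Flat → Function.Bijective (H.bc f))
    (B : Alg A) (z : H.obj (pt (Bx B))) : H.obj (pt B) :=
  coeffFun (jx B) H (lam1 B) (hlam1 B) (hH (jx B) (jx_flat B)) z

section c1

variable (H : MVF A)
  (hH : ∀ ⦃B B' : Alg A⦄ (f : B ⟶ B'), f.hom.toRingHom.Flat → Function.Bijective (H.bc f))

lemma c1_gen (B : Alg A) (c : Bx B) (g : H.obj (pt B)) :
    c1 H hH B (c • tr H (jx B) g) = (Polynomial.coeff (c : Polynomial (B : Type u)) 1 : B) • g :=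
  coeffFun_gen _ _ _ _ _ c g

lemma c1_add (B : Alg A) (z z' : H.obj (pt (Bx B))) :
    c1 H hH B (z + z') = c1 H hH B z + c1 H hH B z' := coeffFun_add _ _ _ _ _ z z'

lemma c1_zero (B : Alg A) : c1 H hH B 0 = 0 := coeffFun_zero _ _ _ _ _

lemma c1_nat {B B' : Alg A} (f : B ⟶ B') (z : H.obj (pt (Bx B))) :
    tr H f (c1 H hH B z) = c1 H hH B' (tr H (fx f) z) := by
  refine gen_induction (jx B) H (hH (jx B) (jx_flat B)).2
    (motive := fun z => tr H f (c1 H hH B z) = c1 H hH B' (tr H (fx f) z)) ?_ ?_ ?_ z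
  · rw [c1_zero, tr_zero, tr_zero, c1_zero]
  · intro x y hx hy
    rw [c1_add, tr_add, hx, hy, tr_add, c1_add]
  · intro c g
    rw [c1_gen, tr_smul, tr_smul, ← tr_comp, jx_fx, tr_comp, c1_gen]
    congr 1
    show f.hom (Polynomial.coeff (c : Polynomial (B : Type u)) 1) =
      Polynomial.coeff (Polynomial.map (f.hom : (B : Type u) →+* (B' : Type u))
        (c : Polynomial (B : Type u))) 1
    rw [Polynomial.coeff_map]
    rfl

lemma c1_tau (B : Alg A) (β : B) (z : H.obj (pt (Bx B))) :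
    c1 H hH B (tr H (tau B β) z) = β • c1 H hH B z := by
  refine gen_induction (jx B) H (hH (jx B) (jx_flat B)).2
    (motive := fun z => c1 H hH B (tr H (tau B β) z) = β • c1 H hH B z) ?_ ?_ ?_ z
  · rw [tr_zero, c1_zero, smul_zero]
  · intro x y hx hy
    rw [tr_add, c1_add, hx, hy, c1_add, smul_add]
  · intro c g
    rw [tr_smul, ← tr_comp, jx_tau, c1_gen, c1_gen, coeff_tau, mul_smul]

lemma c1_sub2 (B : Alg A) (Z : H.obj (pt (Bst B))) :
    c1 H hH B (tr H (sub2 B ![Polynomial.X, Polynomial.X]) Z) =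
      c1 H hH B (tr H (sub2 B ![Polynomial.X, 0]) Z) +
        c1 H hH B (tr H (sub2 B ![0, Polynomial.X]) Z) := by
  refine gen_induction (j2 B) H (hH (j2 B) (j2_flat B)).2
    (motive := fun Z => c1 H hH B (tr H (sub2 B ![Polynomial.X, Polynomial.X]) Z) =
      c1 H hH B (tr H (sub2 B ![Polynomial.X, 0]) Z) +
        c1 H hH B (tr H (sub2 B ![0, Polynomial.X]) Z)) ?_ ?_ ?_ Z
  · rw [tr_zero, tr_zero, tr_zero, c1_zero, add_zero]
  · intro x y hx hy
    rw [tr_add, tr_add, tr_add, c1_add, c1_add, c1_add, hx, hy]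
    abel
  · intro c g
    rw [tr_smul, tr_smul, tr_smul, ← tr_comp, ← tr_comp, ← tr_comp, j2_sub2, j2_sub2, j2_sub2,
      c1_gen, c1_gen, c1_gen, sub2_apply, sub2_apply, sub2_apply, coeff_sub2, add_smul]

end c1

/-- The section on sections. -/
def psi (B : Alg A) (b : (K δ).obj (pt B)) : G.obj (pt B) :=
  c1 G hG B (Xi bP bP' δ G ξ' (Bx B)
    ((show (Bx B : Type u) from (Polynomial.X : Polynomial (B : Type u))) • tr (K δ) (jx B) b))

lemma g_psi {H : MVF A} (g : G ⟶ H) (α : K δ ⟶ H)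
    (hξ : g.app (pt (UA bP bP' δ)) ξ' = α.app (pt (UA bP bP' δ)) (l₀ bP bP' δ))
    (hH : ∀ ⦃B B' : Alg A⦄ (f : B ⟶ B'), f.hom.toRingHom.Flat → Function.Bijective (H.bc f))
    (B : Alg A) (b : (K δ).obj (pt B)) :
    g.app (pt B) (psi bP bP' δ G ξ' hG B b) = α.app (pt B) b := by
  unfold psi c1
  rw [coeffFun_app (jx B) (lam1 B) (hlam1 B) g _ (hH (jx B) (jx_flat B)),
    g_Xi bP bP' δ G ξ' g α hξ, app_smul, app_tr]
  have := c1_gen H hH B (show (Bx B : Type u) from (Polynomial.X : Polynomial (B : Type u)))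
    (α.app (pt B) b)
  unfold c1 at this
  rw [this]
  show (Polynomial.coeff (Polynomial.X : Polynomial (B : Type u)) 1 : B) • α.app (pt B) b =
    α.app (pt B) b
  rw [Polynomial.coeff_X_one, one_smul]

lemma psi_nat {B B' : Alg A} (f : B ⟶ B') (b : (K δ).obj (pt B)) :
    tr G f (psi bP bP' δ G ξ' hG B b) = psi bP bP' δ G ξ' hG B' (tr (K δ) f b) := by
  unfold psi
  rw [c1_nat, tr_Xi, tr_smul, ← tr_comp, jx_fx, tr_comp]
  congr 3
  show Polynomial.map _ (Polynomial.X : Polynomial (B : Type u)) = Polynomial.X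
  exact Polynomial.map_X _

lemma psi_smul (B : Alg A) (β : B) (b : (K δ).obj (pt B)) :
    psi bP bP' δ G ξ' hG B (β • b) = β • psi bP bP' δ G ξ' hG B b := by
  have e1 : tr (K δ) (jx B) (β • b) = ((jx B).hom β) • tr (K δ) (jx B) b := tr_smul _ _ _ _
  have e2 : tr (K δ) (tau B β)
      ((show (Bx B : Type u) from (Polynomial.X : Polynomial (B : Type u))) • tr (K δ) (jx B) b) =
      ((tau B β).hom (Polynomial.X : Polynomial (B : Type u))) • tr (K δ) (jx B) b := by
    rw [tr_smul, ← tr_comp, jx_tau]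
  unfold psi
  rw [← c1_tau, tr_Xi, e1, e2, smul_smul]
  congr 3
  show (Polynomial.X : Polynomial (B : Type u)) * Polynomial.C β =
    Polynomial.aeval (Polynomial.C β * Polynomial.X : Polynomial (B : Type u)) Polynomial.X
  rw [Polynomial.aeval_X, mul_comm]

lemma psi_add (B : Alg A) (b b' : (K δ).obj (pt B)) :
    psi bP bP' δ G ξ' hG B (b + b') =
      psi bP bP' δ G ξ' hG B b + psi bP bP' δ G ξ' hG B b' := by
  let W : (K δ).obj (pt (Bst B)) :=
    (show (Bst B : Type u) from (MvPolynomial.X 0 : MvPolynomial (Fin 2) (B : Type u))) •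
      tr (K δ) (j2 B) b +
    (show (Bst B : Type u) from (MvPolynomial.X 1 : MvPolynomial (Fin 2) (B : Type u))) •
      tr (K δ) (j2 B) b'
  have hW : ∀ v : Fin 2 → Polynomial (B : Type u), tr (K δ) (sub2 B v) W =
      (show (Bx B : Type u) from v 0) • tr (K δ) (jx B) b +
        (show (Bx B : Type u) from v 1) • tr (K δ) (jx B) b' := by
    intro v
    show tr (K δ) (sub2 B v) (_ + _) = _
    rw [tr_add, tr_smul, tr_smul, ← tr_comp, ← tr_comp, j2_sub2]
    congr 2
    · show MvPolynomial.aeval v (MvPolynomial.X 0) = v 0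
      exact MvPolynomial.aeval_X v 0
    · show MvPolynomial.aeval v (MvPolynomial.X 1) = v 1
      exact MvPolynomial.aeval_X v 1
  have h := c1_sub2 G hG B (Xi bP bP' δ G ξ' (Bst B) W)
  rw [tr_Xi, tr_Xi, tr_Xi, hW, hW, hW] at h
  simp only [Matrix.cons_val_zero, Matrix.cons_val_one, Matrix.cons_val_fin_one] at h
  unfold psi
  rw [tr_add, smul_add, h]
  congr 3
  · refine Eq.trans ?_ (add_zero _)
    congr 1
    exact zero_smul (Bx B : Type u) _
  · refine Eq.trans ?_ (zero_add _)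
    congr 1
    exact zero_smul (Bx B : Type u) _

/-- The section as a morphism of module-valued functors. -/
def sec : K δ ⟶ G where
  app X := ModuleCat.ofHom
    { toFun := psi bP bP' δ G ξ' hG X.unop.unop
      map_add' := psi_add bP bP' δ G ξ' hG X.unop.unop
      map_smul' := psi_smul bP bP' δ G ξ' hG X.unop.unop }
  naturality {X Y} f := by
    apply ModuleCat.hom_ext
    apply LinearMap.ext
    intro b
    exact (psi_nat bP bP' δ G ξ' hG f.unop.unop b).symm

lemma sec_g {H : MVF A} (g : G ⟶ H) (α : K δ ⟶ H)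
    (hξ : g.app (pt (UA bP bP' δ)) ξ' = α.app (pt (UA bP bP' δ)) (l₀ bP bP' δ))
    (hH : ∀ ⦃B B' : Alg A⦄ (f : B ⟶ B'), f.hom.toRingHom.Flat → Function.Bijective (H.bc f)) :
    sec bP bP' δ G ξ' hG ≫ g = α := by
  apply PresheafOfModules.hom_ext
  intro X
  apply ModuleCat.hom_ext
  apply LinearMap.ext
  intro b
  exact g_psi bP bP' δ G ξ' hG g α hξ hH X.unop.unop b

end Section

/-- Linearly adequate functors are projective with respect to surjections between functors
satisfying flat base change. -/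
theorem exists_lift {n m : ℕ} {P P' : ModuleCat.{u + 1} A} (bP : Basis (Fin n) A P)
    (bP' : Basis (Fin m) A P') (δ : P ⟶ P') {G H : MVF A} (g : G ⟶ H) (hg : ∀ X, Function.Surjective (g.app X))
    (hG : ∀ ⦃B B' : Alg A⦄ (f : B ⟶ B'), f.hom.toRingHom.Flat → Function.Bijective (G.bc f))
    (hH : ∀ ⦃B B' : Alg A⦄ (f : B ⟶ B'), f.hom.toRingHom.Flat → Function.Bijective (H.bc f))
    (α : K δ ⟶ H) : ∃ σ : K δ ⟶ G, σ ≫ g = α := by
  obtain ⟨ξ', hξ⟩ := hg (pt (UA bP bP' δ)) (α.app (pt (UA bP bP' δ)) (l₀ bP bP' δ))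
  exact ⟨sec bP bP' δ G ξ' hG, sec_g bP bP' δ G ξ' hG g α hξ hH⟩


/-! ### The splitting theorem -/

lemma isKerPt_of_isLimit {F G H : MVF A} (f : F ⟶ G) (g : G ⟶ H) (w : f ≫ g = 0)
    (h : IsLimit (KernelFork.ofι f w)) : IsKerPt f g := by
  let i := IsLimit.conePointUniqueUpToIso h (limit.isLimit (parallelPair g 0))
  have hi : i.hom ≫ kernel.ι g = f :=
    IsLimit.conePointUniqueUpToIso_hom_comp h (limit.isLimit _) WalkingParallelPair.zero
  rw [← hi]
  exact (isKerPt_kernel g).of_iso_comp i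

lemma bc_bijective_of_adequate {F : MVF A} (hF : adequate A F) ⦃B B' : Alg A⦄ (f : B ⟶ B')
    (hf : f.hom.toRingHom.Flat) : Function.Bijective (F.bc f) := by
  haveI := isIso_bc_of_adequate_flat F hF f hf
  exact (ConcreteCategory.isIso_iff_bijective _).mp inferInstance

lemma adequate_of_linAdequate {F : MVF A} (hF : linAdequate A F) : adequate A F := by
  obtain ⟨P, P', δ, _, _, _, _, ⟨i⟩⟩ := hF
  exact ⟨P, P', δ, ⟨i⟩⟩

/-- Stacks 46.3.14/15: extensions of linearly adequate functors by `underline M` split. -/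
theorem exists_section (S : ShortComplex (MVF A)) (hS : S.ShortExact) (M : ModuleCat.{u + 1} A)
    (e : S.X₁ ≅ (underline A).obj M) (hL : linAdequate A S.X₃) :
    ∃ σ : S.X₃ ⟶ S.X₂, σ ≫ S.g = 𝟙 _ := by
  have hX₃ := adequate_of_linAdequate hL
  obtain ⟨P, P', δ, hP1, hP2, hP3, hP4, ⟨eL⟩⟩ := hL
  let bP := (Module.Free.chooseBasis A P).reindex (Fintype.equivFin _)
  let bP' := (Module.Free.chooseBasis A P').reindex (Fintype.equivFin _)
  haveI := hS.mono_f
  haveI := hS.epi_g
  have hk : IsKerPt S.f S.g := isKerPt_of_isLimit S.f S.g S.zero hS.fIsKernel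
  have hsurj : ∀ X, Function.Surjective (S.g.app X) :=
    fun X => PresheafOfModules.surjective_of_epi S.g X
  have hX₁ : adequate A S.X₁ :=
    (adequate A).prop_of_iso e.symm (AdeqKer.adequate_underline M)
  have hG : ∀ ⦃B B' : Alg A⦄ (f : B ⟶ B'), f.hom.toRingHom.Flat →
      Function.Bijective (S.X₂.bc f) := fun B B' f hf =>
    bc_bijective_of_isKerPt hk hsurj f hf (bc_bijective_of_adequate hX₁ f hf)
      (bc_bijective_of_adequate hX₃ f hf)
  let p : S.X₂ ⟶ K δ := S.g ≫ eL.hom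
  have hp : ∀ X, Function.Surjective (p.app X) := by
    intro X y
    obtain ⟨x, hx⟩ := hsurj X (eL.inv.app X y)
    refine ⟨x, ?_⟩
    show eL.hom.app X (S.g.app X x) = y
    rw [hx, iso_hom_inv_apply]
  obtain ⟨s, hs⟩ := exists_lift bP bP' δ p hp hG (hK δ) (𝟙 _)
  refine ⟨eL.hom ≫ s, ?_⟩
  have : (eL.hom ≫ s) ≫ S.g = eL.hom ≫ (s ≫ p) ≫ eL.inv := by
    simp only [p, Category.assoc, Iso.hom_inv_id, Category.comp_id]
  rw [this, hs, Category.id_comp, Iso.hom_inv_id]

end

end Groth.Agent.Lib.Lead.AdeqSplit
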