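import Groth.Agent.Lib.Lead.AdeqFlat
import Mathlib.RingTheory.AdjoinRoot
import Mathlib.RingTheory.RingHom.FaithfullyFlat
import Mathlib.RingTheory.Flat.FaithfullyFlat.Basic

/-!
# Additive maps commuting with units are linear (Stacks 46.3.7-ish)
-/

universe u

open CategoryTheory Limits Opposite TensorProduct Polynomial

namespace Groth.Agent.Lib.Lead.AdeqUnits

open Adeq Groth.Agent.Lib.Lead.AdeqBasic Groth.Agent.Lib.Lead.AdeqFlat

noncomputable section

variable {A : Type u} [CommRing A]

/-- If `bc` is an isomorphism along a faithfully flat map, the transition map is injective. -/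
lemma tr_injective_of_faithfullyFlat (G : MVF A) {B B' : Alg A} (f : B ⟶ B')
    (hff : f.hom.toRingHom.FaithfullyFlat) (hiso : IsIso (G.bc f)) :
    Function.Injective (tr G f) := by
  have hbij := (ConcreteCategory.isIso_iff_bijective _).mp hiso
  letI : Algebra (B : Type u) (B' : Type u) := f.hom.toRingHom.toAlgebra
  haveI : Module.FaithfullyFlat (B : Type u) (B' : Type u) := hff
  have h0 : ∀ y : G.obj (pt B), tr G f y = 0 → y = 0 := by
    intro y hy
    have h1 : G.bc f (ofE f _ ((1 : (B' : Type u)) ⊗ₜ[(B : Type u)] y)) = 0 := by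
      rw [bc_tmul, hy, smul_zero]
    have h2 : ofE f _ ((1 : (B' : Type u)) ⊗ₜ[(B : Type u)] y) = 0 := by
      apply hbij.1
      rw [h1]
      exact (bc_zero f G).symm
    exact (Module.FaithfullyFlat.one_tmul_eq_zero_iff (R := (B : Type u)) (A := (B' : Type u))
      (M := G.obj (pt B)) y).mp h2
  intro y y' hyy'
  have : tr G f (y - y') = 0 := by
    have e : tr G f (y - y') = tr G f y - tr G f y' := by
      unfold tr
      rw [map_sub]
      rfl
    rw [e, hyy', sub_self]
  exact sub_eq_zero.mp (h0 _ this)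

theorem smul_comm_of_additive_units_flat (F G : MVF A)
    (φ : ∀ B : Alg A, F.obj (pt B) → G.obj (pt B))
    (hnat : ∀ ⦃B B' : Alg A⦄ (f : B ⟶ B') (x : F.obj (pt B)),
      φ B' (F.map (ptHom f) x) = G.map (ptHom f) (φ B x))
    (hadd : ∀ (B : Alg A) (x y : F.obj (pt B)), φ B (x + y) = φ B x + φ B y)
    (hunit : ∀ (B : Alg A) (v : (B : Type u)ˣ) (x : F.obj (pt B)),
      φ B ((v : B) • x) = (v : B) • φ B x)
    (hG : ∀ ⦃B B' : Alg A⦄ (f : B ⟶ B'), f.hom.toRingHom.Flat → IsIso (G.bc f))
    (B : Alg A) (b : B) (x : F.obj (pt B)) : φ B (b • x) = b • φ B x := by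
  rcases subsingleton_or_nontrivial (B : Type u) with hB | hB
  · haveI := Module.subsingleton (B : Type u) (G.obj (pt B))
    exact Subsingleton.elim _ _
  let p : (B : Type u)[X] := X ^ 2 + (C (-b) * X + C 1)
  have hlt : (C (-b) * X + C 1 : (B : Type u)[X]).degree < ((2 : ℕ) : WithBot ℕ) :=
    lt_of_le_of_lt (degree_linear_le) (by norm_num)
  have hp : p.Monic := monic_X_pow_add hlt
  have hdeg : p.natDegree = 2 := by
    have h1 : (C (-b) * X + C 1 : (B : Type u)[X]).degree < ((X : (B : Type u)[X]) ^ 2).degree := by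
      rw [degree_X_pow]
      exact hlt
    have h2 := natDegree_add_eq_left_of_degree_lt h1
    rw [natDegree_X_pow] at h2
    exact h2
  haveI hfree : Module.Free (B : Type u) (AdjoinRoot p) := hp.free_adjoinRoot
  haveI hnt : Nontrivial (AdjoinRoot p) := by
    have hb := (AdjoinRoot.powerBasis' hp).basis
    have i0 : Fin p.natDegree := ⟨0, by rw [hdeg]; norm_num⟩
    exact nontrivial_of_ne _ _ (hb.ne_zero i0)
  let B' : Alg A := algOf A (AdjoinRoot p)
  let f : B ⟶ B' := CommAlgCat.ofHom (IsScalarTower.toAlgHom A (B : Type u) (AdjoinRoot p))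
  have hfeq : f.hom.toRingHom = algebraMap (B : Type u) (AdjoinRoot p) := rfl
  have hfl : f.hom.toRingHom.Flat := by
    rw [hfeq, RingHom.flat_algebraMap_iff]
    infer_instance
  have hff : f.hom.toRingHom.FaithfullyFlat := by
    rw [hfeq, RingHom.faithfullyFlat_algebraMap_iff]
    infer_instance
  have hinj := tr_injective_of_faithfullyFlat G f hff (hG f hfl)
  -- the units
  let r : AdjoinRoot p := AdjoinRoot.root p
  let fb : AdjoinRoot p := AdjoinRoot.of p b
  have hroot : r ^ 2 + (-fb * r + 1) = 0 := by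
    have h := AdjoinRoot.eval₂_root p
    simp only [p, eval₂_add, eval₂_mul, eval₂_pow, eval₂_X, eval₂_C, eval₂_neg, eval₂_one, map_neg,
      map_one] at h
    exact h
  have hmul : r * (fb - r) = 1 := by linear_combination (-1 : AdjoinRoot p) * hroot
  let u₁ : (B' : Type u)ˣ := ⟨r, fb - r, hmul, by rw [mul_comm]; exact hmul⟩
  let u₂ : (B' : Type u)ˣ := ⟨fb - r, r, by rw [mul_comm]; exact hmul, hmul⟩
  have hsum : f.hom b = (u₁ : B') + (u₂ : B') := by
    show fb = r + (fb - r)
    ring
  apply hinj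
  have hn1 : tr G f (φ B (b • x)) = φ B' (tr F f (b • x)) := (hnat f (b • x)).symm
  have hn2 : tr G f (φ B x) = φ B' (tr F f x) := (hnat f x).symm
  rw [hn1, tr_smul, tr_smul, hn2, hsum, add_smul, add_smul, hadd, hunit, hunit]

end

end Groth.Agent.Lib.Lead.AdeqUnits
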