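import Mathlib

/-!
# Concrete description of Mathlib's Čech complex of a presheaf of abelian groups

For `U : ι → C` and `P : Cᵒᵖ ⥤ AddCommGrpCat`, the complex `(cechComplexFunctor U).obj P` has in
degree `n` the product over `σ : Fin (n + 1) → ι` of `P (∏ᶜ U ∘ σ)`; we give element-level access:
projections `proj`, extensionality, construction of elements, the formula for the differential
and for functoriality in `P`, and a cocycle/coboundary criterion for vanishing of homology.
-/

set_option autoImplicit false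

universe v u u'

open CategoryTheory CategoryTheory.Limits Opposite Simplicial

namespace Groth.Agent.Lib.Lead.Cech

section general

lemma sum_zsmul_comp {A B D : AddCommGrpCat.{u}} {κ : Type} [Fintype κ] (c : κ → ℤ)
    (f : κ → (A ⟶ B)) (g : B ⟶ D) : (∑ k, c k • f k) ≫ g = ∑ k, c k • (f k ≫ g) := by
  rw [Preadditive.sum_comp]
  refine Finset.sum_congr rfl fun k _ => ?_
  rw [Preadditive.zsmul_comp]

lemma hom_sum_apply {A B : AddCommGrpCat.{u}} {κ : Type} [Fintype κ]
    (f : κ → (A ⟶ B)) (x : A) : (∑ k, f k) x = ∑ k, f k x := by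
  classical
  have : ∀ s : Finset κ, (∑ k ∈ s, f k) x = ∑ k ∈ s, f k x := by
    intro s
    induction s using Finset.induction_on with
    | empty => rfl
    | insert a s ha ih =>
      rw [Finset.sum_insert ha, Finset.sum_insert ha, AddCommGrpCat.hom_add_apply, ih]
  exact this Finset.univ

lemma sum_zsmul_apply {A B : AddCommGrpCat.{u}} {κ : Type} [Fintype κ] (c : κ → ℤ)
    (f : κ → (A ⟶ B)) (x : A) : (∑ k, c k • f k) x = ∑ k, c k • f k x := by
  rw [hom_sum_apply]
  rfl

end general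

variable {C : Type u'} [Category.{v} C] [HasFiniteProducts C] {ι : Type u} (U : ι → C)
  (P : Cᵒᵖ ⥤ AddCommGrpCat.{u})

/-- The Čech complex. -/
noncomputable abbrev CK : CochainComplex AddCommGrpCat.{u} ℕ := (cechComplexFunctor U).obj P

/-- The object `U_{σ 0} × ⋯ × U_{σ n}`. -/
noncomputable abbrev Uσ {n : ℕ} (σ : Fin (n + 1) → ι) : C := ∏ᶜ (U ∘ σ)

/-- the underlying cosimplicial object -/
noncomputable abbrev cosimp : CosimplicialObject AddCommGrpCat.{u} :=
  (FormalCoproduct.cosimplicialObjectFunctor (FormalCoproduct.mk _ U).cech).obj P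

lemma CK_d (n : ℕ) : (CK U P).d n (n + 1) =
    ∑ k : Fin (n + 2), (-1 : ℤ) ^ (k : ℕ) • (cosimp U P).δ k :=
  CochainComplex.of_d (fun n => (cosimp U P).obj ⦋n⦌)
    (AlgebraicTopology.AlternatingCofaceMapComplex.objD (cosimp U P)) n

/-- The face map `U_σ ⟶ U_{σ ∘ δ_k}`. -/
noncomputable def face {n : ℕ} (σ : Fin (n + 2) → ι) (k : Fin (n + 2)) :
    Uσ U σ ⟶ Uσ U (σ ∘ k.succAbove) :=
  Pi.lift fun j => Pi.π (U ∘ σ) (k.succAbove j)

@[reassoc (attr := simp)]
lemma face_π {n : ℕ} (σ : Fin (n + 2) → ι) (k : Fin (n + 2)) (j : Fin (n + 1)) :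
    face U σ k ≫ Pi.π (U ∘ (σ ∘ k.succAbove)) j = Pi.π (U ∘ σ) (k.succAbove j) := by
  unfold face
  exact Pi.lift_π _ _

/-- Projection to the `σ`-component. -/
noncomputable def proj (n : ℕ) (σ : Fin (n + 1) → ι) : (CK U P).X n ⟶ P.obj (op (Uσ U σ)) :=
  Pi.π (fun τ : Fin (n + 1) → ι => P.obj (op (Uσ U τ))) σ

lemma cosimp_δ_proj (n : ℕ) (k : Fin (n + 2)) (σ : Fin (n + 2) → ι) :
    (cosimp U P).δ k ≫ proj U P (n + 1) σ =
      proj U P n (σ ∘ k.succAbove) ≫ P.map (face U σ k).op := by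
  have := Pi.lift_π (fun τ : Fin (n + 2) → ι =>
    Pi.π (fun τ : Fin (n + 1) → ι => P.obj (op (Uσ U τ))) (τ ∘ k.succAbove) ≫
        P.map (face U τ k).op) σ
  exact this

lemma ext_proj' {n : ℕ} (x y : ToType (∏ᶜ fun τ : Fin (n + 1) → ι => P.obj (op (Uσ U τ))))
    (h : ∀ σ : Fin (n + 1) → ι,
      Pi.π (fun τ : Fin (n + 1) → ι => P.obj (op (Uσ U τ))) σ x =
        Pi.π (fun τ : Fin (n + 1) → ι => P.obj (op (Uσ U τ))) σ y) : x = y := by
  apply (Concrete.productEquiv (fun τ : Fin (n + 1) → ι => P.obj (op (Uσ U τ)))).injective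
  funext σ
  rw [Concrete.productEquiv_apply_apply, Concrete.productEquiv_apply_apply]
  exact h σ

lemma ext_proj {n : ℕ} (x y : (CK U P).X n)
    (h : ∀ σ : Fin (n + 1) → ι, proj U P n σ x = proj U P n σ y) : x = y :=
  ext_proj' U P x y h

/-- Build a cochain from its components. -/
noncomputable def mk {n : ℕ} (f : ∀ σ : Fin (n + 1) → ι, P.obj (op (Uσ U σ))) : (CK U P).X n :=
  (Concrete.productEquiv (fun τ : Fin (n + 1) → ι => P.obj (op (Uσ U τ)))).symm f

@[simp]
lemma proj_mk {n : ℕ} (f : ∀ σ : Fin (n + 1) → ι, P.obj (op (Uσ U σ))) (σ : Fin (n + 1) → ι) :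
    proj U P n σ (mk U P f) = f σ :=
  Concrete.productEquiv_symm_apply_π _ f σ

/-- The formula for the Čech differential, at the level of morphisms. -/
lemma d_proj {n : ℕ} (σ : Fin (n + 2) → ι) :
    (CK U P).d n (n + 1) ≫ proj U P (n + 1) σ =
      ∑ k : Fin (n + 2), (-1 : ℤ) ^ (k : ℕ) •
        (proj U P n (σ ∘ k.succAbove) ≫ P.map (face U σ k).op) := by
  rw [CK_d]
  refine (sum_zsmul_comp (A := (CK U P).X n) (B := (CK U P).X (n + 1))
    (fun k : Fin (n + 2) => (-1 : ℤ) ^ (k : ℕ))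
    (fun k => (cosimp U P).δ k) (proj U P (n + 1) σ)).trans ?_
  refine Finset.sum_congr rfl fun k _ => ?_
  exact congrArg (fun φ => (-1 : ℤ) ^ (k : ℕ) • φ) (cosimp_δ_proj U P n k σ)

/-- The formula for the Čech differential. -/
lemma proj_d {n : ℕ} (x : (CK U P).X n) (σ : Fin (n + 2) → ι) :
    proj U P (n + 1) σ ((CK U P).d n (n + 1) x) =
      ∑ k : Fin (n + 2), (-1 : ℤ) ^ (k : ℕ) •
        P.map (face U σ k).op (proj U P n (σ ∘ k.succAbove) x) := by
  have h2 := ConcreteCategory.congr_hom (d_proj U P σ) x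
  rw [ConcreteCategory.comp_apply] at h2
  rw [h2, sum_zsmul_apply]
  rfl

/-- Functoriality in the presheaf, at the level of morphisms. -/
lemma map_proj {Q : Cᵒᵖ ⥤ AddCommGrpCat.{u}} (f : P ⟶ Q) (n : ℕ) (σ : Fin (n + 1) → ι) :
    ((cechComplexFunctor U).map f).f n ≫ proj U Q n σ =
      proj U P n σ ≫ f.app (op (Uσ U σ)) :=
  Pi.map_π (fun τ : Fin (n + 1) → ι => f.app (op (Uσ U τ))) σ

/-- Functoriality in the presheaf, on elements. -/
lemma proj_map {Q : Cᵒᵖ ⥤ AddCommGrpCat.{u}} (f : P ⟶ Q) (n : ℕ) (σ : Fin (n + 1) → ι)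
    (x : (CK U P).X n) :
    proj U Q n σ (((cechComplexFunctor U).map f).f n x) =
      f.app (op (Uσ U σ)) (proj U P n σ x) := by
  have h := ConcreteCategory.congr_hom (map_proj U P f n σ) x
  rw [ConcreteCategory.comp_apply, ConcreteCategory.comp_apply] at h
  exact h

/-- The map of complexes commutes with the differential (on elements). -/
lemma map_d {Q : Cᵒᵖ ⥤ AddCommGrpCat.{u}} (f : P ⟶ Q) (n : ℕ) (x : (CK U P).X n) :
    ((cechComplexFunctor U).map f).f (n + 1) ((CK U P).d n (n + 1) x) =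
      (CK U Q).d n (n + 1) (((cechComplexFunctor U).map f).f n x) := by
  have h := ConcreteCategory.congr_hom (((cechComplexFunctor U).map f).comm n (n + 1)) x
  rw [ConcreteCategory.comp_apply, ConcreteCategory.comp_apply] at h
  exact h.symm

lemma d_d {n : ℕ} (x : (CK U P).X n) :
    (CK U P).d (n + 1) (n + 2) ((CK U P).d n (n + 1) x) = 0 := by
  have h := ConcreteCategory.congr_hom ((CK U P).d_comp_d n (n + 1) (n + 2)) x
  rw [ConcreteCategory.comp_apply] at h
  exact h

/-- Vanishing of Čech cohomology in positive degree in terms of cocycles and coboundaries. -/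
lemma isZero_homology_succ_iff (n : ℕ) :
    IsZero ((CK U P).homology (n + 1)) ↔
      ∀ x : (CK U P).X (n + 1), (CK U P).d (n + 1) (n + 2) x = 0 →
        ∃ y : (CK U P).X n, (CK U P).d n (n + 1) y = x := by
  rw [← HomologicalComplex.exactAt_iff_isZero_homology,
    HomologicalComplex.exactAt_iff' (CK U P) n (n + 1) (n + 2) (by simp) (by simp),
    ShortComplex.ab_exact_iff]
  rfl

end Groth.Agent.Lib.Lead.Cech
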