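import Mathlib
import Groth.Agent.Lib.Lead.DescentCore
import Groth.Agent.Lib.Lead.CechBridge

/-!
# Exactness of the Amitsur complex (as the alternating coface complex of the Čech conerve)
-/

set_option autoImplicit false

universe u

open CategoryTheory CategoryTheory.Limits TensorProduct Simplicial

namespace Groth.Agent.Lib.Lead.Amitsur

noncomputable section

variable (R A : Type u) [CommRing R] [CommRing A] [Algebra R A]

/-- The arrow `R → A`. -/
abbrev fA : Arrow CommRingCat.{u} := Arrow.mk (CommRingCat.ofHom (algebraMap R A))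

/-- The Čech conerve. -/
abbrev Xc : CosimplicialObject CommRingCat.{u} := (fA R A).cechConerve

/-- The `(n+1)`-fold coproduct of `A` under `R`. -/
abbrev X (n : ℕ) : CommRingCat.{u} := (Xc R A).obj ⦋n⦌

/-- The structure map `R → X n`. -/
def head (n : ℕ) : R →+* X R A n :=
  (WidePushout.head (fun _ : Fin (n + 1) => CommRingCat.ofHom (algebraMap R A))).hom

/-- The `i`-th inclusion `A → X n`. -/
def inc (n : ℕ) (i : Fin (n + 1)) : A →+* X R A n :=
  (WidePushout.ι (fun _ : Fin (n + 1) => CommRingCat.ofHom (algebraMap R A)) i).hom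

/-- The coface maps. -/
def cof (n : ℕ) (k : Fin (n + 2)) : X R A n →+* X R A (n + 1) := ((Xc R A).δ k).hom

lemma inc_algebraMap (n : ℕ) (i : Fin (n + 1)) (r : R) :
    inc R A n i (algebraMap R A r) = head R A n r := by
  have h := WidePushout.arrow_ι (fun _ : Fin (n + 1) => CommRingCat.ofHom (algebraMap R A)) i
  exact ConcreteCategory.congr_hom h r

lemma cof_head (n : ℕ) (k : Fin (n + 2)) (r : R) : cof R A n k (head R A n r) = head R A (n + 1) r := by
  have h : WidePushout.head (fun _ : Fin (n + 1) => CommRingCat.ofHom (algebraMap R A)) ≫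
      (Xc R A).δ k =
      WidePushout.head (fun _ : Fin (n + 2) => CommRingCat.ofHom (algebraMap R A)) := by
    dsimp only [CosimplicialObject.δ, Xc]
    rw [Arrow.cechConerve_map]
    apply WidePushout.head_desc
  exact ConcreteCategory.congr_hom h r

lemma cof_inc (n : ℕ) (k : Fin (n + 2)) (i : Fin (n + 1)) (a : A) :
    cof R A n k (inc R A n i a) = inc R A (n + 1) (k.succAbove i) a := by
  have h : WidePushout.ι (fun _ : Fin (n + 1) => CommRingCat.ofHom (algebraMap R A)) i ≫
      (Xc R A).δ k =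
      WidePushout.ι (fun _ : Fin (n + 2) => CommRingCat.ofHom (algebraMap R A))
        (k.succAbove i) := by
    dsimp only [CosimplicialObject.δ, Xc]
    rw [Arrow.cechConerve_map]
    apply WidePushout.ι_desc
  exact ConcreteCategory.congr_hom h a

/-- Ring homomorphisms out of `X n` are determined on the structure map and the inclusions. -/
lemma ringHom_ext (n : ℕ) {S : Type u} [CommRing S] (g₁ g₂ : X R A n →+* S)
    (hi : ∀ i a, g₁ (inc R A n i a) = g₂ (inc R A n i a))
    (hh : ∀ r, g₁ (head R A n r) = g₂ (head R A n r)) : g₁ = g₂ := by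
  have h : CommRingCat.ofHom g₁ = CommRingCat.ofHom g₂ := by
    apply WidePushout.hom_ext
    · intro j
      ext a
      exact hi j a
    · ext r
      exact hh r
  exact congrArg (fun φ => φ.hom) h

instance algX (n : ℕ) : Algebra R (X R A n) := (head R A n).toAlgebra

lemma algebraMap_X (n : ℕ) (r : R) : algebraMap R (X R A n) r = head R A n r := rfl

/-- The inclusions as algebra maps. -/
def incAlg (n : ℕ) (i : Fin (n + 1)) : A →ₐ[R] X R A n :=
  { inc R A n i with commutes' := fun r => inc_algebraMap R A n i r }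

/-- The cofaces as algebra maps. -/
def cofAlg (n : ℕ) (k : Fin (n + 2)) : X R A n →ₐ[R] X R A (n + 1) :=
  { cof R A n k with commutes' := fun r => cof_head R A n k r }

/-- `a ⊗ y ↦ ι₀(a) · δ⁰(y)`. -/
def Θ (n : ℕ) : A ⊗[R] X R A n →ₐ[R] X R A (n + 1) :=
  Algebra.TensorProduct.productMap (incAlg R A (n + 1) 0) (cofAlg R A n 0)

lemma Θ_tmul (n : ℕ) (a : A) (y : X R A n) :
    Θ R A n (a ⊗ₜ[R] y) = inc R A (n + 1) 0 a * cof R A n 0 y :=
  Algebra.TensorProduct.productMap_apply_tmul _ _ a y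

/-- The inverse of `Θ`. -/
def Ψ (n : ℕ) : X R A (n + 1) →+* A ⊗[R] X R A n :=
  (WidePushout.desc (arrows := fun _ : Fin (n + 2) => CommRingCat.ofHom (algebraMap R A))
    (X := CommRingCat.of (A ⊗[R] X R A n))
    (CommRingCat.ofHom (algebraMap R (A ⊗[R] X R A n)))
    (fun i => Fin.cases
      (CommRingCat.ofHom (Algebra.TensorProduct.includeLeftRingHom : A →+* A ⊗[R] X R A n))
      (fun j => CommRingCat.ofHom
        ((Algebra.TensorProduct.includeRight : X R A n →ₐ[R] A ⊗[R] X R A n).toRingHom.comp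
          (inc R A n j))) i)
    (fun i => by
      refine Fin.cases ?_ (fun j => ?_) i
      · ext r
        show (algebraMap R A r) ⊗ₜ[R] (1 : X R A n) = algebraMap R (A ⊗[R] X R A n) r
        rfl
      · ext r
        show (Algebra.TensorProduct.includeRight : X R A n →ₐ[R] A ⊗[R] X R A n)
          (inc R A n j (algebraMap R A r)) = algebraMap R (A ⊗[R] X R A n) r
        rw [inc_algebraMap, ← algebraMap_X, AlgHom.commutes])).hom

lemma Ψ_head (n : ℕ) (r : R) : Ψ R A n (head R A (n + 1) r) = algebraMap R _ r := by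
  have h := WidePushout.head_desc
    (arrows := fun _ : Fin (n + 2) => CommRingCat.ofHom (algebraMap R A))
    (X := CommRingCat.of (A ⊗[R] X R A n))
    (CommRingCat.ofHom (algebraMap R (A ⊗[R] X R A n)))
    (fun i => Fin.cases
      (CommRingCat.ofHom (Algebra.TensorProduct.includeLeftRingHom : A →+* A ⊗[R] X R A n))
      (fun j => CommRingCat.ofHom
        ((Algebra.TensorProduct.includeRight : X R A n →ₐ[R] A ⊗[R] X R A n).toRingHom.comp
          (inc R A n j))) i)
  exact ConcreteCategory.congr_hom (h _) r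

lemma Ψ_inc (n : ℕ) (i : Fin (n + 2)) (a : A) :
    Ψ R A n (inc R A (n + 1) i a) =
      (Fin.cases (motive := fun _ => A →+* A ⊗[R] X R A n)
        (Algebra.TensorProduct.includeLeftRingHom : A →+* A ⊗[R] X R A n)
        (fun j => (Algebra.TensorProduct.includeRight :
          X R A n →ₐ[R] A ⊗[R] X R A n).toRingHom.comp (inc R A n j)) i) a := by
  have h := WidePushout.ι_desc
    (arrows := fun _ : Fin (n + 2) => CommRingCat.ofHom (algebraMap R A))
    (X := CommRingCat.of (A ⊗[R] X R A n))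
    (CommRingCat.ofHom (algebraMap R (A ⊗[R] X R A n)))
    (fun i => Fin.cases
      (CommRingCat.ofHom (Algebra.TensorProduct.includeLeftRingHom : A →+* A ⊗[R] X R A n))
      (fun j => CommRingCat.ofHom
        ((Algebra.TensorProduct.includeRight : X R A n →ₐ[R] A ⊗[R] X R A n).toRingHom.comp
          (inc R A n j))) i)
  have h2 := ConcreteCategory.congr_hom (h (by
      intro i
      refine Fin.cases ?_ (fun j => ?_) i
      · ext r
        show (algebraMap R A r) ⊗ₜ[R] (1 : X R A n) = algebraMap R (A ⊗[R] X R A n) r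
        rfl
      · ext r
        show (Algebra.TensorProduct.includeRight : X R A n →ₐ[R] A ⊗[R] X R A n)
          (inc R A n j (algebraMap R A r)) = algebraMap R (A ⊗[R] X R A n) r
        rw [inc_algebraMap, ← algebraMap_X, AlgHom.commutes]) i) a
  refine h2.trans ?_
  refine Fin.cases ?_ (fun j => ?_) i
  · rfl
  · rfl

lemma Ψ_inc_zero (n : ℕ) (a : A) :
    Ψ R A n (inc R A (n + 1) 0 a) = a ⊗ₜ[R] (1 : X R A n) := Ψ_inc R A n 0 a

lemma Ψ_inc_succ (n : ℕ) (j : Fin (n + 1)) (a : A) :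
    Ψ R A n (inc R A (n + 1) j.succ a) = (1 : A) ⊗ₜ[R] inc R A n j a := Ψ_inc R A n j.succ a

lemma Ψ_cof_zero (n : ℕ) (y : X R A n) :
    Ψ R A n (cof R A n 0 y) = (1 : A) ⊗ₜ[R] y := by
  have h : (Ψ R A n).comp (cof R A n 0) =
      (Algebra.TensorProduct.includeRight : X R A n →ₐ[R] A ⊗[R] X R A n).toRingHom := by
    apply ringHom_ext
    · intro i a
      show Ψ R A n (cof R A n 0 (inc R A n i a)) = (1 : A) ⊗ₜ[R] inc R A n i a
      rw [cof_inc, Fin.succAbove_zero, Ψ_inc_succ]
    · intro r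
      show Ψ R A n (cof R A n 0 (head R A n r)) =
        (Algebra.TensorProduct.includeRight : X R A n →ₐ[R] A ⊗[R] X R A n) (head R A n r)
      rw [cof_head, Ψ_head, ← algebraMap_X, AlgHom.commutes]
  exact congrArg (fun φ => φ y) h

lemma Ψ_Θ (n : ℕ) (z : A ⊗[R] X R A n) : Ψ R A n (Θ R A n z) = z := by
  induction z using TensorProduct.induction_on with
  | zero => rw [map_zero, map_zero]
  | tmul a y =>
    rw [Θ_tmul, map_mul, Ψ_inc_zero, Ψ_cof_zero, Algebra.TensorProduct.tmul_mul_tmul, mul_one,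
      one_mul]
  | add x y hx hy => rw [map_add, map_add, hx, hy]

lemma Θ_Ψ (n : ℕ) (w : X R A (n + 1)) : Θ R A n (Ψ R A n w) = w := by
  have h : ((Θ R A n).toRingHom.comp (Ψ R A n)) = RingHom.id _ := by
    apply ringHom_ext
    · intro i a
      show Θ R A n (Ψ R A n (inc R A (n + 1) i a)) = inc R A (n + 1) i a
      refine Fin.cases ?_ (fun j => ?_) i
      · rw [Ψ_inc_zero, Θ_tmul, map_one, mul_one]
      · rw [Ψ_inc_succ, Θ_tmul, map_one, one_mul, cof_inc, Fin.succAbove_zero]
    · intro r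
      show Θ R A n (Ψ R A n (head R A (n + 1) r)) = head R A (n + 1) r
      rw [Ψ_head, AlgHom.commutes]
      rfl
  exact congrArg (fun φ => φ w) h

lemma Θ_bijective (n : ℕ) : Function.Bijective (Θ R A n) :=
  ⟨fun z z' h => by rw [← Ψ_Θ R A n z, ← Ψ_Θ R A n z', h], fun w => ⟨Ψ R A n w, Θ_Ψ R A n w⟩⟩

/-- The coface maps satisfy `δ⁰ ≫ δ^{j+1} = δ^j ≫ δ⁰`. -/
lemma cof_succ_cof_zero (n : ℕ) (j : Fin (n + 2)) (y : X R A n) :
    cof R A (n + 1) j.succ (cof R A n 0 y) = cof R A (n + 1) 0 (cof R A n j y) := by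
  have h := (Xc R A).δ_comp_δ (i := 0) (j := j) (Fin.zero_le j)
  rw [Fin.castSucc_zero] at h
  exact ConcreteCategory.congr_hom h y

/-- The alternating sum of the cofaces, as an `R`-linear map. -/
def dLin (n : ℕ) : X R A n →ₗ[R] X R A (n + 1) :=
  ∑ k : Fin (n + 2), (-1 : ℤ) ^ (k : ℕ) • (cofAlg R A n k).toLinearMap

lemma dLin_apply (n : ℕ) (y : X R A n) :
    dLin R A n y = ∑ k : Fin (n + 2), (-1 : ℤ) ^ (k : ℕ) • cof R A n k y := by
  unfold dLin
  rw [LinearMap.sum_apply]
  rfl

/-- The décalage differential. -/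
def dDec (n : ℕ) : X R A (n + 1) →+ X R A (n + 2) :=
  ∑ j : Fin (n + 2), (-1 : ℤ) ^ (j : ℕ) • (cof R A (n + 1) j.succ).toAddMonoidHom

lemma dDec_apply (n : ℕ) (w : X R A (n + 1)) :
    dDec R A n w = ∑ j : Fin (n + 2), (-1 : ℤ) ^ (j : ℕ) • cof R A (n + 1) j.succ w := by
  unfold dDec
  rw [AddMonoidHom.finsetSum_apply]
  rfl

lemma hcomm (n : ℕ) (z : A ⊗[R] X R A n) :
    dDec R A n (Θ R A n z) = Θ R A (n + 1) ((dLin R A n).lTensor A z) := by
  induction z using TensorProduct.induction_on with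
  | zero => rw [map_zero, map_zero, map_zero, map_zero]
  | tmul a y =>
    rw [LinearMap.lTensor_tmul, Θ_tmul, Θ_tmul, dDec_apply, dLin_apply, map_sum, Finset.mul_sum]
    refine Finset.sum_congr rfl fun j _ => ?_
    rw [map_zsmul, mul_smul_comm, map_mul, cof_inc, Fin.succ_succAbove_zero, cof_succ_cof_zero]
  | add x y hx hy => rw [map_add, map_add, map_add, map_add, hx, hy]

theorem exact_pos [Module.FaithfullyFlat R A] (n : ℕ) (x : X R A (n + 1))
    (hx : ∑ k : Fin (n + 3), (-1 : ℤ) ^ (k : ℕ) • cof R A (n + 1) k x = 0) :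
    ∃ y : X R A n, ∑ k : Fin (n + 2), (-1 : ℤ) ^ (k : ℕ) • cof R A n k y = x := by
  obtain ⟨y, hy⟩ := DescentCore.descent_core (R := R) (B := A) (dLin R A n) (dDec R A n)
    (Θ R A n : A ⊗[R] X R A n →+ X R A (n + 1)) (Θ R A (n + 1) : A ⊗[R] X R A (n + 1) →+ X R A (n + 2))
    (Θ_bijective R A n).2 (Θ_bijective R A (n + 1)).1 (hcomm R A n) x ⟨x, by
      show dDec R A n x = Θ R A (n + 1) ((1 : A) ⊗ₜ[R] x)
      rw [Θ_tmul, map_one, one_mul, dDec_apply]
      rw [Fin.sum_univ_succ] at hx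
      simp only [Fin.val_zero, pow_zero, one_smul, Fin.val_succ, pow_succ, mul_neg, mul_one,
        neg_smul, Finset.sum_neg_distrib] at hx
      exact (eq_of_sub_eq_zero (by rw [← hx]; abel)).symm⟩
  exact ⟨y, by rw [← dLin_apply]; exact hy⟩

/-- The cosimplicial abelian group underlying the Čech conerve. -/
abbrev KX : CosimplicialObject AddCommGrpCat.{u} :=
  (fA R A).cechConerve ⋙ forget₂ CommRingCat RingCat ⋙ forget₂ RingCat AddCommGrpCat

lemma KX_d (k : ℕ) : (AlgebraicTopology.AlternatingCofaceMapComplex.obj (KX R A)).d k (k + 1) =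
    ∑ i : Fin (k + 2), (-1 : ℤ) ^ (i : ℕ) • (KX R A).δ i :=
  CochainComplex.of_d (fun n => (KX R A).obj ⦋n⦌)
    (AlgebraicTopology.AlternatingCofaceMapComplex.objD (KX R A)) k

lemma KX_d_apply (k : ℕ) (w : X R A k) :
    (AlgebraicTopology.AlternatingCofaceMapComplex.obj (KX R A)).d k (k + 1) w =
      ∑ i : Fin (k + 2), (-1 : ℤ) ^ (i : ℕ) • cof R A k i w := by
  rw [KX_d]
  exact Cech.sum_zsmul_apply (A := (KX R A).obj ⦋k⦌) (B := (KX R A).obj ⦋k + 1⦌)
    (fun i : Fin (k + 2) => (-1 : ℤ) ^ (i : ℕ)) (fun i => (KX R A).δ i) w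

theorem exactAt [Module.FaithfullyFlat R A] (n : ℕ) (hn : 0 < n) :
    (AlgebraicTopology.AlternatingCofaceMapComplex.obj (KX R A)).ExactAt n := by
  obtain ⟨m, rfl⟩ : ∃ m, n = m + 1 := ⟨n - 1, by omega⟩
  rw [HomologicalComplex.exactAt_iff' _ m (m + 1) (m + 2) (by simp) (by simp),
    ShortComplex.ab_exact_iff]
  intro x hx
  have hx' : ∑ k : Fin (m + 3), (-1 : ℤ) ^ (k : ℕ) • cof R A (m + 1) k x = 0 := by
    rw [← KX_d_apply]
    exact hx
  obtain ⟨y, hy⟩ := exact_pos R A m x hx'
  refine ⟨y, ?_⟩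
  rw [← KX_d_apply] at hy
  exact hy

end

end Groth.Agent.Lib.Lead.Amitsur
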