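import Mathlib
import Groth.Prelude.Def_BMCoh4
import Groth.Agent.Lib.Lead.BMDim

/-!
# The open-system colimits of a pre-theory, evaluated at a coefficient module (lead)
-/

set_option autoImplicit false
universe u
open AlgebraicGeometry CategoryTheory CategoryTheory.Limits Opposite TopologicalSpace

noncomputable section

namespace Groth.Agent.Lib.Lead.BMColim
open WeilCoh BMCoh Groth.Agent.Lib.Lead.BMDim

variable {V : ObjectProperty Scheme.{u}} [IsConstructible V] {R : Type u} [CommRing R]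
  {A : Coefs R}

section
variable (T : PreTheory V R A) (X : Obj V) (P : X.scheme.Opens → Prop) (i n : ℤ) (M : A.Cat)

/-- the diagram of the open-system colimit -/
abbrev diag : (Idx X P)ᵒᵖ ⥤ (A.Cat ⥤ ModuleCat.{u} R) := (idxDiag X P).op ⋙ T.H i n

/-- the colimit cocone evaluated at `M` -/
def evCocone : Cocone (diag T X P i n ⋙ (evaluation _ _).obj M) :=
  ((evaluation _ _).obj M).mapCocone (colimit.cocone (diag T X P i n))

def evIsColimit : IsColimit (evCocone T X P i n M) :=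
  isColimitOfPreserves _ (colimit.isColimit _)

/-- the canonical map at `M` -/
abbrev oι (U : Idx X P) : T.gp (X.res U.1) M i n ⟶ (T.ocolim X P i n).obj M :=
  (T.ocolimι X P i n U).app M

theorem hom_ext {N : ModuleCat.{u} R} (f g : (T.ocolim X P i n).obj M ⟶ N)
    (h : ∀ U : Idx X P, oι T X P i n M U ≫ f = oι T X P i n M U ≫ g) : f = g :=
  (evIsColimit T X P i n M).hom_ext (fun U => h U.unop)

/-- restriction between members of the index family -/
abbrev tr {U' U : Idx X P} (hle : U' ≤ U) : T.gp (X.res U.1) M i n ⟶ T.gp (X.res U'.1) M i n :=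
  T.pull ((idxDiag X P).map (homOfLE hle)) M i n

theorem tr_oι {U' U : Idx X P} (hle : U' ≤ U) :
    tr T X P i n M hle ≫ oι T X P i n M U' = oι T X P i n M U :=
  (evCocone T X P i n M).w (homOfLE hle).op

theorem tr_oι_apply {U' U : Idx X P} (hle : U' ≤ U) (b : T.gp (X.res U.1) M i n) :
    (oι T X P i n M U').hom ((tr T X P i n M hle).hom b) = (oι T X P i n M U).hom b := by
  rw [← tr_oι T X P i n M hle]
  rfl

variable [IsDirected (Idx X P) (· ≥ ·)] [Nonempty (Idx X P)]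

theorem exists_rep (a : (T.ocolim X P i n).obj M) :
    ∃ (U : Idx X P) (b : T.gp (X.res U.1) M i n), (oι T X P i n M U).hom b = a := by
  obtain ⟨j, y, hy⟩ := Concrete.isColimit_exists_rep _ (evIsColimit T X P i n M) a
  exact ⟨j.unop, y, hy⟩

theorem exists_of_eq {U U' : Idx X P} (b : T.gp (X.res U.1) M i n) (b' : T.gp (X.res U'.1) M i n)
    (h : (oι T X P i n M U).hom b = (oι T X P i n M U').hom b') :
    ∃ (W : Idx X P) (h1 : W ≤ U) (h2 : W ≤ U'),
      (tr T X P i n M h1).hom b = (tr T X P i n M h2).hom b' := by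
  obtain ⟨k, f, g, hfg⟩ := Concrete.isColimit_exists_of_rep_eq _ (evIsColimit T X P i n M)
    (i := op U) (j := op U') b b' h
  exact ⟨k.unop, f.unop.le, g.unop.le, hfg⟩

theorem exists_of_eq_zero {U : Idx X P} (b : T.gp (X.res U.1) M i n)
    (h : (oι T X P i n M U).hom b = 0) :
    ∃ (W : Idx X P) (h1 : W ≤ U), (tr T X P i n M h1).hom b = 0 := by
  obtain ⟨W, h1, h2, h3⟩ := exists_of_eq T X P i n M b (0 : T.gp (X.res U.1) M i n)
    (by rw [h, map_zero])
  exact ⟨W, h1, by rw [h3, map_zero]⟩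

end

section
variable (T : PreTheory V R A) (X : Obj V) {P Q : X.scheme.Opens → Prop} (i n : ℤ) (M : A.Cat)

theorem oι_ocolimMap (h : ∀ U, P U → Q U) (U : Idx X P) :
    oι T X P i n M U ≫ (T.ocolimMap X h i n).app M = oι T X Q i n M ((idxIncl X h).obj U) := by
  show (colimit.ι ((idxIncl X h).op ⋙ (idxDiag X Q).op ⋙ T.H i n) (op U) ≫
    colimit.pre ((idxDiag X Q).op ⋙ T.H i n) (idxIncl X h).op).app M = _
  rw [colimit.ι_pre]
  rfl

theorem oι_ocolimMap_apply (h : ∀ U, P U → Q U) (U : Idx X P) (b : T.gp (X.res U.1) M i n) :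
    ((T.ocolimMap X h i n).app M).hom ((oι T X P i n M U).hom b) =
      (oι T X Q i n M ((idxIncl X h).obj U)).hom b := by
  rw [← oι_ocolimMap T X i n M h U]
  rfl

end

section Directed

instance nonempty_fjIdx (X : Obj V) (j : ℕ) : Nonempty (Idx X (ContainsFj X j)) :=
  ⟨⟨⊤, fun _ _ => trivial, dim_top X.scheme⟩⟩

instance directed_fjIdx (X : Obj V) (j : ℕ) : IsDirected (Idx X (ContainsFj X j)) (· ≥ ·) :=
  ⟨fun U U' => ⟨⟨U.1 ⊓ U'.1, fun y hy => ⟨U.2.1 y hy, U'.2.1 y hy⟩,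
    dim_opens_eq_of_containsFj X j _ (fun y hy => ⟨U.2.1 y hy, U'.2.1 y hy⟩)⟩,
    (inf_le_left : U.1 ⊓ U'.1 ≤ U.1), (inf_le_right : U.1 ⊓ U'.1 ≤ U'.1)⟩⟩

instance nonempty_ptIdx (X : Obj V) (x : X.scheme) : Nonempty (ptIdx X x) :=
  ⟨⟨⊤, Set.univ_nonempty, dim_top _⟩⟩

instance directed_ptIdx (X : Obj V) (x : X.scheme) : IsDirected (ptIdx X x) (· ≥ ·) :=
  ⟨fun W W' =>
    have hne : ((W.1 ⊓ W'.1 : (X.ptSub x).scheme.Opens) : Set (X.ptSub x).scheme).Nonempty :=
      nonempty_preirreducible_inter W.1.isOpen W'.1.isOpen W.2.1 W'.2.1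
    ⟨⟨W.1 ⊓ W'.1, hne,
      IsConstructible.dim_open (X.ptSub x).mem (irreducibleSpace_ptSub X x) _ hne⟩,
      (inf_le_left : W.1 ⊓ W'.1 ≤ W.1), (inf_le_right : W.1 ⊓ W'.1 ≤ W'.1)⟩⟩

end Directed

end Groth.Agent.Lib.Lead.BMColim
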