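import Mathlib
import Groth.Prelude.Def_BMCoh4
import Groth.Agent.Lib.Lead.BMDim
import Groth.Agent.Lib.Lead.BMColim

/-!
# Formal consequences of the axioms of a Borel–Moore theory (lead)
-/

set_option autoImplicit false
universe u
open AlgebraicGeometry CategoryTheory CategoryTheory.Limits Opposite TopologicalSpace

noncomputable section

namespace Groth.Agent.Lib.Lead.BMFormal
open WeilCoh BMCoh Groth.Agent.Lib.Lead.BMDim Groth.Agent.Lib.Lead.BMColim

variable {V : ObjectProperty Scheme.{u}} [IsConstructible V] {R : Type u} [CommRing R]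
  {A : Coefs R}

section Pre
variable (T : PreTheory V R A)

theorem pull_id (X : Obj V) (M : A.Cat) (i n : ℤ) : T.pull (𝟙 X) M i n = 𝟙 _ := by
  show ((T.H i n).map (𝟙 X).op).app M = _
  rw [op_id, CategoryTheory.Functor.map_id]
  rfl

theorem pull_comp {X Y Z : Obj V} (f : X ⟶ Y) (g : Y ⟶ Z) (M : A.Cat) (i n : ℤ) :
    T.pull (f ≫ g) M i n = T.pull g M i n ≫ T.pull f M i n := by
  show ((T.H i n).map (f ≫ g).op).app M = _
  rw [op_comp, CategoryTheory.Functor.map_comp]
  rfl

theorem pull_comp_apply {X Y Z : Obj V} (f : X ⟶ Y) (g : Y ⟶ Z) (M : A.Cat) (i n : ℤ)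
    (a : T.gp Z M i n) :
    (T.pull (f ≫ g) M i n).hom a = (T.pull f M i n).hom ((T.pull g M i n).hom a) := by
  rw [pull_comp]
  rfl

theorem pull_congr {X Y : Obj V} {f g : X ⟶ Y} (h : f = g) (M : A.Cat) (i n : ℤ) :
    T.pull f M i n = T.pull g M i n := by rw [h]

/-- the inverse of a morphism of objects whose underlying morphism is an isomorphism -/
def invHom {X Y : Obj V} (f : X ⟶ Y) [IsIso f.hom] : Y ⟶ X :=
  ⟨inv f.hom, inferInstance, f.dim_eq.symm⟩

theorem pull_bijective_of_isIso {X Y : Obj V} (f : X ⟶ Y) [IsIso f.hom] (M : A.Cat) (i n : ℤ) :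
    Function.Bijective (T.pull f M i n).hom := by
  have h1 : f ≫ invHom f = 𝟙 X := Hom.ext (IsIso.hom_inv_id f.hom)
  have h2 : invHom f ≫ f = 𝟙 Y := Hom.ext (IsIso.inv_hom_id f.hom)
  refine Function.bijective_iff_has_inverse.mpr ⟨(T.pull (invHom f) M i n).hom, ?_, ?_⟩
  · intro a
    rw [← pull_comp_apply, h2, pull_id]
    rfl
  · intro a
    rw [← pull_comp_apply, h1, pull_id]
    rfl

/-- exactness at `H^i(X)` with free indices -/
theorem exact_push_pull' {X : Obj V} (D : Decomp X) (M : A.Cat) (i n i' n' : ℤ)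
    (hi : i = i' + 2 * relCodim D.Z.scheme X.scheme) (hn : n = n' + relCodim D.Z.scheme X.scheme) :
    Function.Exact (T.push D.i M i' n' i n hi hn).hom (T.pull D.j M i n).hom := by
  obtain ⟨i₀, rfl⟩ : ∃ i₀, i = i₀ + 1 := ⟨i - 1, by ring⟩
  exact T.exact_push_pull D M i₀ n i' n' hi hn

/-- exactness at `H(Z)` with free indices -/
theorem exact_res_push' {X : Obj V} (D : Decomp X) (M : A.Cat) (i n i' n' i'' : ℤ)
    (hi : i' = i + 1 - 2 * D.codim) (hn : n' = n - D.codim)
    (hi'' : i'' = i' + 2 * relCodim D.Z.scheme X.scheme)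
    (hn'' : n = n' + relCodim D.Z.scheme X.scheme) :
    Function.Exact (T.res D M i n i' n' hi hn).hom (T.push D.i M i' n' i'' n hi'' hn'').hom := by
  obtain rfl : i'' = i + 1 := by
    rw [hi'', hi]
    unfold Decomp.codim
    ring
  exact T.exact_res_push D M i n i' n' hi hn hi'' hn''

theorem isZero_of_forall_eq_zero {N : ModuleCat.{u} R} (h : ∀ a : N, a = 0) : IsZero N := by
  haveI : Subsingleton N := ⟨fun a b => by rw [h a, h b]⟩
  exact ModuleCat.isZero_of_subsingleton N

theorem eq_zero_of_isZero {N : ModuleCat.{u} R} (h : IsZero N) (a : N) : a = 0 := by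
  haveI := ModuleCat.subsingleton_of_isZero h
  exact Subsingleton.elim _ _

theorem relCodim_self (X : Scheme.{u}) : relCodim X X = 0 := sub_self _

/-- the groups of an empty object vanish -/
theorem isZero_of_isEmpty (X : Obj V) [IsEmpty X.scheme] (M : A.Cat) (i n : ℤ) :
    IsZero (T.gp X M i n) := by
  let D : Decomp X :=
    { Z := X, U := X, i := 𝟙 X.scheme, closedImm := inferInstance, j := 𝟙 X
      range_eq := Set.ext (fun x => isEmptyElim x) }
  have hi : i = i + 2 * relCodim D.Z.scheme X.scheme := by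
    show i = i + 2 * relCodim X.scheme X.scheme
    rw [relCodim_self]; ring
  have hn : n = n + relCodim D.Z.scheme X.scheme := by
    show n = n + relCodim X.scheme X.scheme
    rw [relCodim_self]; ring
  have hex := exact_push_pull' T D M i n i n hi hn
  refine isZero_of_forall_eq_zero (fun a => ?_)
  have h1 : (T.pull D.j M i n).hom a = a := by
    show (T.pull (𝟙 X) M i n).hom a = a
    rw [pull_id]; rfl
  have h2 : T.push D.i M i n i n hi hn = 𝟙 _ := T.push_id X M i n hi hn
  have h3 : a ∈ Set.range (T.push D.i M i n i n hi hn).hom := ⟨a, by rw [h2]; rfl⟩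
  rw [← hex a] at h3
  rw [← h1, h3]

theorem pull_injective_of_isZero {X : Obj V} (D : Decomp X) (M : A.Cat) (i n i' n' : ℤ)
    (hi : i = i' + 2 * relCodim D.Z.scheme X.scheme) (hn : n = n' + relCodim D.Z.scheme X.scheme)
    (hz : IsZero (T.gp D.Z M i' n')) : Function.Injective (T.pull D.j M i n).hom := by
  rw [injective_iff_map_eq_zero]
  intro a ha
  obtain ⟨b, rfl⟩ := (exact_push_pull' T D M i n i' n' hi hn a).mp ha
  rw [eq_zero_of_isZero hz b, map_zero]

theorem pull_surjective_of_isZero {X : Obj V} (D : Decomp X) (M : A.Cat) (i n i' n' : ℤ)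
    (hi : i' = i + 1 - 2 * D.codim) (hn : n' = n - D.codim)
    (hz : IsZero (T.gp D.Z M i' n')) : Function.Surjective (T.pull D.j M i n).hom := by
  intro b
  have := (T.exact_pull_res D M i n i' n' hi hn b).mp (eq_zero_of_isZero hz _)
  exact this

/-- the decomposition of `X` into the image of a morphism of objects and the reduced complement -/
def complDecomp {X U : Obj V} (j : U ⟶ X) : Decomp X where
  Z := redSub X ⟨(Set.range j.hom)ᶜ, isClosed_compl_iff.mpr j.hom.isOpenEmbedding.isOpen_range⟩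
  U := U
  i := redSubι X _
  closedImm := inferInstance
  j := j
  range_eq := by
    rw [range_redSubι]
    simp

instance {X U : Obj V} (j : U ⟶ X) : IsReduced (complDecomp j).Z.scheme :=
  isReduced_redSub X _

theorem range_complDecomp_i {X U : Obj V} (j : U ⟶ X) :
    Set.range (complDecomp j).i = (Set.range j.hom)ᶜ := by
  show Set.range (redSubι X _) = _
  rw [range_redSubι]
  rfl

end Pre

section Geom

theorem isClosedImmersion_resLE {Y X : Scheme.{u}} (f : Y ⟶ X) [IsClosedImmersion f]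
    (U : X.Opens) (W : Y.Opens) (h : W = f ⁻¹ᵁ U) : IsClosedImmersion (f.resLE U W h.le) := by
  subst h
  rw [Scheme.Hom.resLE_eq_morphismRestrict]
  infer_instance

/-- on a reduced object, an open contained in the closure of a point is isomorphic to the
corresponding open of the reduced closure -/
theorem isIso_resLE_of_subset {X : Obj V} [IsReduced X.scheme] (x : X.scheme) (U : X.scheme.Opens)
    (hU : (U : Set X.scheme) ⊆ closure ({x} : Set X.scheme)) :
    IsIso ((X.ptSubι x).resLE U ((X.ptSubι x) ⁻¹ᵁ U) le_rfl) := by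
  haveI : IsClosedImmersion ((X.ptSubι x).resLE U ((X.ptSubι x) ⁻¹ᵁ U) le_rfl) :=
    isClosedImmersion_resLE _ _ _ rfl
  haveI : Surjective ((X.ptSubι x).resLE U ((X.ptSubι x) ⁻¹ᵁ U) le_rfl) := ⟨fun u => by
    have hu : u.1 ∈ Set.range (X.ptSubι x) := by
      rw [range_ptSubι]; exact hU u.2
    obtain ⟨z, hz⟩ := hu
    refine ⟨⟨z, by show (X.ptSubι x) z ∈ U; rw [hz]; exact u.2⟩, ?_⟩
    apply Subtype.ext
    rw [Scheme.Hom.coe_resLE_apply]
    exact hz⟩
  exact isIso_of_isClosedImmersion_of_surjective _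

/-- a nonempty open of the reduced closure of `x` contains the point over `x` -/
theorem mem_of_nonempty_ptSub (X : Obj V) (x : X.scheme) (W : (X.ptSub x).scheme.Opens)
    (hW : (W : Set (X.ptSub x).scheme).Nonempty) (x' : (X.ptSub x).scheme)
    (hx' : (X.ptSubι x) x' = x) : x' ∈ W := by
  obtain ⟨w, hw⟩ := hW
  have h1 : (X.ptSubι x) w ∈ closure ({x} : Set X.scheme) := by
    rw [← range_ptSubι]; exact ⟨w, rfl⟩
  have h2 : w ∈ closure ({x'} : Set (X.ptSub x).scheme) := by
    rw [(X.ptSubι x).isClosedEmbedding.isEmbedding.closure_eq_preimage_closure_image,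
      Set.image_singleton, hx']
    exact h1
  obtain ⟨y, hy1, hy2⟩ := mem_closure_iff.mp h2 W W.isOpen hw
  rw [Set.mem_singleton_iff] at hy2
  rwa [hy2] at hy1

theorem exists_ptSub_point (X : Obj V) (x : X.scheme) :
    ∃ x' : (X.ptSub x).scheme, (X.ptSubι x) x' = x := by
  have : x ∈ Set.range (X.ptSubι x) := by
    rw [range_ptSubι]; exact subset_closure rfl
  exact this

end Geom

/-- an open of the reduced closure of a point whose inclusion into the object is an open
immersion, as a morphism of objects -/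
def ptOpenHom (Z : Obj V) (x : Z.scheme) (W : (Z.ptSub x).scheme.Opens)
    (h1 : IsOpenImmersion (W.ι ≫ Z.ptSubι x)) (h2 : dim (W : Scheme.{u}) = dim Z.scheme) :
    (Z.ptSub x).res W ⟶ Z := ⟨W.ι ≫ Z.ptSubι x, h1, h2⟩

section Theory
variable (T : TheoryOn V R A)

theorem isZero_neg_aux (X₀ : Obj V) (M : A.Cat) :
    ∀ (C : Closeds X₀.scheme) (Z : Obj V) (ι : Z.scheme ⟶ X₀.scheme), IsClosedImmersion ι →
      IsReduced Z.scheme → Set.range ι = (C : Set X₀.scheme) → ∀ (k n : ℤ), k < 0 →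
      IsZero (T.gp Z M k n) := by
  haveI : IsNoetherian X₀.scheme := IsConstructible.isNoetherian X₀.mem
  have hns : NoetherianSpace X₀.scheme := inferInstance
  haveI : WellFoundedLT (Closeds X₀.scheme) :=
    ((noetherianSpace_TFAE X₀.scheme).out 0 1).mp hns
  intro C
  induction C using WellFoundedLT.induction with
  | ind C ih =>
  intro Z ι hι hred hrange k n hk
  by_cases hZ : IsEmpty Z.scheme
  · exact isZero_of_isEmpty T.toPreTheory Z M k n
  rw [not_isEmpty_iff] at hZ
  obtain ⟨x, hx⟩ := exists_pdim_eq_dim Z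
  haveI : IsNoetherian Z.scheme := IsConstructible.isNoetherian Z.mem
  obtain ⟨C', hC'cl, -, hxC', hcov⟩ := exists_isolating_closed (X := Z.scheme) isClosed_univ x
    (fun y _ hxy => by
      by_contra hne
      have h1 := pdim_lt_pdim Z hxy (Ne.symm hne)
      have h2 := pdim_le_dim Z y
      omega)
  let U₀ : Z.scheme.Opens := ⟨C'ᶜ, hC'cl.isOpen_compl⟩
  have hxU₀ : x ∈ U₀ := hxC'
  have hU₀ : (U₀ : Set Z.scheme) ⊆ closure ({x} : Set Z.scheme) :=
    fun p hp => (hcov (Set.mem_univ p)).resolve_left hp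
  let W₀ : (Z.ptSub x).scheme.Opens := (Z.ptSubι x) ⁻¹ᵁ U₀
  haveI hiso : IsIso ((Z.ptSubι x).resLE U₀ W₀ le_rfl) := isIso_resLE_of_subset x U₀ hU₀
  have hopen : ∀ W : (Z.ptSub x).scheme.Opens, W ≤ W₀ → IsOpenImmersion (W.ι ≫ Z.ptSubι x) := by
    intro W hW
    have : W.ι ≫ Z.ptSubι x =
        (Z.ptSub x).scheme.homOfLE hW ≫ (Z.ptSubι x).resLE U₀ W₀ le_rfl ≫ U₀.ι := by
      rw [Scheme.Hom.resLE_comp_ι, ← Category.assoc, Scheme.homOfLE_ι]
    rw [this]
    infer_instance
  obtain ⟨x', hx'⟩ := exists_ptSub_point Z x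
  have hW₀ne : (W₀ : Set (Z.ptSub x).scheme).Nonempty :=
    ⟨x', by show (Z.ptSubι x) x' ∈ U₀; rw [hx']; exact hxU₀⟩
  have hdimW : ∀ W : (Z.ptSub x).scheme.Opens, (W : Set (Z.ptSub x).scheme).Nonempty →
      dim (W : Scheme.{u}) = dim Z.scheme := fun W hW => by
    rw [IsConstructible.dim_open (Z.ptSub x).mem (irreducibleSpace_ptSub Z x) W hW, dim_ptSub, hx]
  let W₀' : ptIdx Z x := ⟨W₀, hW₀ne,
    IsConstructible.dim_open (Z.ptSub x).mem (irreducibleSpace_ptSub Z x) W₀ hW₀ne⟩
  refine isZero_of_forall_eq_zero (fun a => ?_)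
  let e := fun (W : ptIdx Z x) (hW : W.1 ≤ W₀) =>
    ptOpenHom Z x W.1 (hopen W.1 hW) (hdimW W.1 W.2.1)
  have h0 : (oι T.toPreTheory (Z.ptSub x) _ k n M W₀').hom
      ((T.pull (e W₀' le_rfl) M k n).hom a) = 0 :=
    eq_zero_of_isZero (T.pt_vanish Z x M k n hk) _
  obtain ⟨W₁, hle, h1⟩ := exists_of_eq_zero T.toPreTheory (Z.ptSub x) _ k n M _ h0
  have h2 : (T.pull (e W₁ hle) M k n).hom a = 0 := by
    rw [← h1]
    have : e W₁ hle = (idxDiag (Z.ptSub x)
        (fun U => (U : Set (Z.ptSub x).scheme).Nonempty)).map (homOfLE hle) ≫ e W₀' le_rfl := by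
      apply Hom.ext
      show W₁.1.ι ≫ Z.ptSubι x = (Z.ptSub x).scheme.homOfLE hle ≫ W₀.ι ≫ Z.ptSubι x
      rw [← Category.assoc, Scheme.homOfLE_ι]
    rw [this]
    exact pull_comp_apply T.toPreTheory _ (e W₀' le_rfl) M k n a
  let D := complDecomp (e W₁ hle)
  have hc : 0 ≤ relCodim D.Z.scheme Z.scheme := by
    unfold relCodim
    have := dim_le_of_isClosedImmersion Z D.i
    omega
  obtain ⟨b, hb⟩ := (exact_push_pull' T.toPreTheory D M k n
    (k - 2 * relCodim D.Z.scheme Z.scheme) (n - relCodim D.Z.scheme Z.scheme)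
    (by ring) (by ring) a).mp h2
  have hzero : IsZero (T.gp D.Z M (k - 2 * relCodim D.Z.scheme Z.scheme)
      (n - relCodim D.Z.scheme Z.scheme)) := by
    have hcl : IsClosed (ι '' (Set.range D.i)) :=
      hι.isClosedEmbedding.isClosedMap _ D.i.isClosedEmbedding.isClosed_range
    refine ih ⟨ι '' (Set.range D.i), hcl⟩ ?_ D.Z (D.i ≫ ι) inferInstance
      (inferInstanceAs (IsReduced (complDecomp (e W₁ hle)).Z.scheme)) ?_ _ _ (by omega)
    · rw [← SetLike.coe_ssubset_coe]
      refine ⟨?_, ?_⟩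
      · rw [← hrange]
        rintro _ ⟨z, -, rfl⟩
        exact ⟨z, rfl⟩
      · intro hsub
        obtain ⟨w, hw⟩ := W₁.2.1
        have hp : ι ((e W₁ hle).hom ⟨w, hw⟩) ∈ (C : Set X₀.scheme) := by
          rw [← hrange]; exact ⟨_, rfl⟩
        obtain ⟨z, hz, hz'⟩ := hsub hp
        have hzeq := hι.isClosedEmbedding.injective hz'
        rw [range_complDecomp_i] at hz
        exact hz ⟨⟨w, hw⟩, hzeq.symm⟩
    · show Set.range (D.i ≫ ι) = ι '' (Set.range D.i)
      ext p
      constructor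
      · rintro ⟨z, rfl⟩
        exact ⟨D.i z, ⟨z, rfl⟩, rfl⟩
      · rintro ⟨_, ⟨z, rfl⟩, rfl⟩
        exact ⟨z, rfl⟩
  rw [← hb, eq_zero_of_isZero hzero b, map_zero]

/-- negative-degree vanishing on reduced objects -/
theorem isZero_neg (Z : Obj V) [IsReduced Z.scheme] (M : A.Cat) (k n : ℤ) (hk : k < 0) :
    IsZero (T.gp Z M k n) :=
  isZero_neg_aux T Z M ⊤ Z (𝟙 Z.scheme) inferInstance inferInstance (by simp) k n hk

end Theory

end Groth.Agent.Lib.Lead.BMFormal
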