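import Mathlib
import Groth.Prelude.Def_BMCoh4
import Groth.Agent.Lib.Lead.BMDim
import Groth.Agent.Lib.Lead.BMColim
import Groth.Agent.Lib.Lead.BMFormal

/-!
# Opens of the closure of a point as closed subschemes of opens of the object (lead)
-/

set_option autoImplicit false
universe u
open AlgebraicGeometry CategoryTheory CategoryTheory.Limits Opposite TopologicalSpace

noncomputable section

namespace Groth.Agent.Lib.Lead.BMPt
open WeilCoh BMCoh Groth.Agent.Lib.Lead.BMDim Groth.Agent.Lib.Lead.BMColim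
  Groth.Agent.Lib.Lead.BMFormal

variable {V : ObjectProperty Scheme.{u}} [IsConstructible V] {R : Type u} [CommRing R]
  {A : Coefs R}

/-- the complement in `X` of the part of the closure of `x` outside `W` -/
def ptCompl (X : Obj V) (x : X.scheme) (W : (X.ptSub x).scheme.Opens) : X.scheme.Opens :=
  ⟨((X.ptSubι x) '' (W : Set (X.ptSub x).scheme)ᶜ)ᶜ,
    ((X.ptSubι x).isClosedEmbedding.isClosedMap _ W.isOpen.isClosed_compl).isOpen_compl⟩

theorem mem_ptCompl_iff (X : Obj V) (x : X.scheme) (W : (X.ptSub x).scheme.Opens)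
    (w : (X.ptSub x).scheme) : (X.ptSubι x) w ∈ ptCompl X x W ↔ w ∈ W := by
  show (X.ptSubι x) w ∈ ((X.ptSubι x) '' (W : Set (X.ptSub x).scheme)ᶜ)ᶜ ↔ _
  rw [Set.mem_compl_iff, (X.ptSubι x).isClosedEmbedding.injective.mem_set_image]
  simp

theorem preimage_ptCompl (X : Obj V) (x : X.scheme) (W : (X.ptSub x).scheme.Opens) :
    (X.ptSubι x) ⁻¹ᵁ (ptCompl X x W) = W := by
  ext w
  exact mem_ptCompl_iff X x W w

/-- a point of the closure of `x` other than `x` has larger codimension -/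
theorem codim_lt_of_mem_closure (X : Obj V) {x y : X.scheme}
    (h : y ∈ closure ({x} : Set X.scheme)) (hne : y ≠ x) :
    codim X.scheme x < codim X.scheme y := by
  have h1 := pdim_lt_pdim X h hne
  have h2 := pdim_le_dim X x
  unfold codim
  omega

theorem codim_le_of_mem_closure (X : Obj V) {x y : X.scheme}
    (h : y ∈ closure ({x} : Set X.scheme)) :
    codim X.scheme x ≤ codim X.scheme y := by
  by_cases hne : y = x
  · rw [hne]
  · exact (codim_lt_of_mem_closure X h hne).le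

theorem not_mem_ptCompl_codim (X : Obj V) (x : X.scheme) (W : (X.ptSub x).scheme.Opens)
    (hW : (W : Set (X.ptSub x).scheme).Nonempty) (y : X.scheme) (hy : y ∉ ptCompl X x W) :
    codim X.scheme x < codim X.scheme y := by
  have hy' : y ∈ (X.ptSubι x) '' (W : Set (X.ptSub x).scheme)ᶜ := by
    by_contra h; exact hy h
  obtain ⟨w, hw, rfl⟩ := hy'
  refine codim_lt_of_mem_closure X ?_ ?_
  · rw [← range_ptSubι]; exact ⟨w, rfl⟩
  · intro heq
    exact hw (mem_of_nonempty_ptSub X x W hW w heq)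

theorem containsFj_ptCompl (X : Obj V) (x : X.scheme) (W : (X.ptSub x).scheme.Opens)
    (hW : (W : Set (X.ptSub x).scheme).Nonempty) (j : ℕ) (hx : j ≤ codim X.scheme x) :
    ContainsFj X j (ptCompl X x W) := by
  intro y hy
  by_contra hmem
  have := not_mem_ptCompl_codim X x W hW y hmem
  omega

/-- the open of `X` in which `W` is closed, as a member of the index family of `F_j X` -/
def ptComplIdx (X : Obj V) (j : ℕ) (x : X.scheme) (hx : j ≤ codim X.scheme x) (W : ptIdx X x) :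
    Idx X (ContainsFj X j) :=
  ⟨ptCompl X x W.1, containsFj_ptCompl X x W.1 W.2.1 j hx,
    dim_opens_eq_of_containsFj X j _ (containsFj_ptCompl X x W.1 W.2.1 j hx)⟩

theorem relCodim_pt (X : Obj V) (x : X.scheme) (W : ptIdx X x) (U : X.scheme.Opens)
    (hU : dim (U : Scheme.{u}) = dim X.scheme) :
    relCodim ((X.ptSub x).res W.1).scheme (X.res U).scheme = (codim X.scheme x : ℤ) := by
  unfold relCodim codim
  have h1 : dim ((X.ptSub x).res W.1).scheme = pdim X.scheme x := by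
    rw [← dim_ptSub]; exact W.2.2
  have h2 : dim (X.res U).scheme = dim X.scheme := hU
  have h3 := pdim_le_dim X x
  rw [h1, h2]
  omega

/-- the closed immersion of an open `W` of the closure of `x` into an open `U` of `X` with
preimage `W` -/
def ptClosedImm (X : Obj V) (x : X.scheme) (W : (X.ptSub x).scheme.Opens) (U : X.scheme.Opens)
    (h : W = (X.ptSubι x) ⁻¹ᵁ U) : ((X.ptSub x).res W).scheme ⟶ (X.res U).scheme :=
  (X.ptSubι x).resLE U W h.le

instance (X : Obj V) (x : X.scheme) (W : (X.ptSub x).scheme.Opens) (U : X.scheme.Opens)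
    (h : W = (X.ptSubι x) ⁻¹ᵁ U) : IsClosedImmersion (ptClosedImm X x W U h) :=
  isClosedImmersion_resLE _ _ _ h

theorem ptClosedImm_ι (X : Obj V) (x : X.scheme) (W : (X.ptSub x).scheme.Opens)
    (U : X.scheme.Opens) (h : W = (X.ptSubι x) ⁻¹ᵁ U) :
    ptClosedImm X x W U h ≫ U.ι = W.ι ≫ X.ptSubι x :=
  Scheme.Hom.resLE_comp_ι _ _

theorem pushData_ext (T : PreTheory V R A) (X : Obj V) (j : ℕ) (P P' : T.PushData X j) :
    P = P' := by
  obtain ⟨c, hc⟩ := P
  obtain ⟨c', hc'⟩ := P'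
  have : c = c' := by
    funext x M i n i' n' hi hn
    refine hom_ext T (X.ptSub x.1) _ i n M _ _ (fun W => ?_)
    let U := ptComplIdx X j x.1 x.2.ge W
    have hW : W.1 = (X.ptSubι x.1) ⁻¹ᵁ U.1 := (preimage_ptCompl X x.1 W.1).symm
    have hrc := relCodim_pt X x.1 W U.1 U.2.2
    rw [x.2] at hrc
    have e1 := hc x M i n i' n' hi hn U W (ptClosedImm X x.1 W.1 U.1 hW)
      (ptClosedImm_ι X x.1 W.1 U.1 hW) (by rw [hrc]; exact hi) (by rw [hrc]; exact hn)
    have e2 := hc' x M i n i' n' hi hn U W (ptClosedImm X x.1 W.1 U.1 hW)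
      (ptClosedImm_ι X x.1 W.1 U.1 hW) (by rw [hrc]; exact hi) (by rw [hrc]; exact hn)
    exact e1.trans e2.symm
  subst this
  rfl

theorem range_ptClosedImm (X : Obj V) (x : X.scheme) (W : (X.ptSub x).scheme.Opens)
    (U : X.scheme.Opens) (h : W = (X.ptSubι x) ⁻¹ᵁ U) :
    Set.range (ptClosedImm X x W U h) = {y : U | y.1 ∈ closure ({x} : Set X.scheme)} := by
  ext y
  constructor
  · rintro ⟨w, rfl⟩
    show ((X.ptSubι x).resLE U W h.le w).1 ∈ closure ({x} : Set X.scheme)
    rw [Scheme.Hom.coe_resLE_apply, ← range_ptSubι]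
    exact ⟨w.1, rfl⟩
  · intro hy
    have hy' : y.1 ∈ Set.range (X.ptSubι x) := by rw [range_ptSubι]; exact hy
    obtain ⟨z, hz⟩ := hy'
    have hzW : z ∈ W := by
      rw [h]
      show (X.ptSubι x) z ∈ U
      rw [hz]; exact y.2
    refine ⟨⟨z, hzW⟩, ?_⟩
    apply Subtype.ext
    show ((X.ptSubι x).resLE U W h.le ⟨z, hzW⟩).1 = _
    rw [Scheme.Hom.coe_resLE_apply]
    exact hz

theorem range_homOfLE (X : Scheme.{u}) {U U' : X.Opens} (h : U ≤ U') :
    Set.range (X.homOfLE h) = {y : U' | y.1 ∈ U} := by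
  ext y
  constructor
  · rintro ⟨w, rfl⟩
    show (X.homOfLE h w).1 ∈ U
    rw [Scheme.homOfLE_apply]
    exact w.2
  · intro hy
    refine ⟨⟨y.1, hy⟩, ?_⟩
    apply Subtype.ext
    exact Scheme.homOfLE_apply h ⟨y.1, hy⟩

/-- the open complement of the closure of a point -/
def clCompl (X : Obj V) (x : X.scheme) : X.scheme.Opens :=
  ⟨(closure ({x} : Set X.scheme))ᶜ, isClosed_closure.isOpen_compl⟩

/-- The decomposition of an open `Y` of `X` into `closure {x} ∩ Y` (with the reduced structure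
of the closure of `x`) and `Y ∖ closure {x}`. -/
def ptDecomp (X : Obj V) (x : X.scheme) (Y : X.scheme.Opens)
    (hd : dim ((Y ⊓ clCompl X x : X.scheme.Opens) : Scheme.{u}) = dim (Y : Scheme.{u})) :
    Decomp (X.res Y) where
  Z := (X.ptSub x).res ((X.ptSubι x) ⁻¹ᵁ Y)
  U := X.res (Y ⊓ clCompl X x)
  i := ptClosedImm X x _ Y rfl
  closedImm := inferInstance
  j := X.resLE inf_le_left hd
  range_eq := by
    show Set.range (X.scheme.homOfLE (inf_le_left : Y ⊓ clCompl X x ≤ Y)) =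
      (Set.range (ptClosedImm X x _ Y rfl))ᶜ
    rw [range_homOfLE, range_ptClosedImm]
    ext y
    simp only [Set.mem_ofPred_eq, Set.mem_compl_iff]
    constructor
    · intro h; exact h.2
    · intro h; exact ⟨y.2, h⟩

/-- for `U ⊇ F_j X` and `x` of codimension `j + 1`: an open `Y ⊇ U` containing `x` with
`Y ∖ closure {x} ⊆ U` -/
theorem exists_open_isolating (X : Obj V) (j : ℕ) (x : X.scheme) (hx : codim X.scheme x = j + 1)
    (U : X.scheme.Opens) (hU : ContainsFj X j U) :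
    ∃ Y : X.scheme.Opens, x ∈ Y ∧ U ≤ Y ∧ ((Y : Set X.scheme) \ closure ({x} : Set X.scheme)) ⊆ U := by
  have : IsNoetherian X.scheme := IsConstructible.isNoetherian X.mem
  obtain ⟨C', hC'cl, hC'sub, hxC', hcov⟩ := exists_isolating_closed (X := X.scheme)
    (C := (U : Set X.scheme)ᶜ) U.isOpen.isClosed_compl x (fun y hy hxy => by
      by_contra hne
      have h1 := codim_lt_of_mem_closure X hxy (Ne.symm hne)
      have h2 : ¬ codim X.scheme y ≤ j := fun h => hy (hU y h)
      omega)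
  refine ⟨⟨C'ᶜ, hC'cl.isOpen_compl⟩, hxC', ?_, ?_⟩
  · intro p hp hpC'
    exact hC'sub hpC' hp
  · rintro p ⟨hpY, hpx⟩
    by_contra hpU
    rcases hcov hpU with h | h
    · exact hpY h
    · exact hpx h

theorem containsFj_inf_clCompl (X : Obj V) (j : ℕ) (x : X.scheme) (hx : j + 1 ≤ codim X.scheme x)
    (Y : X.scheme.Opens) (hY : ContainsFj X j Y) : ContainsFj X j (Y ⊓ clCompl X x) := by
  intro p hp
  refine ⟨hY p hp, ?_⟩
  intro hpx
  have := codim_le_of_mem_closure X hpx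
  omega

theorem resData_ext (T : PreTheory V R A) (X : Obj V) (j : ℕ) (Q Q' : T.ResData X j) :
    Q = Q' := by
  obtain ⟨c, hc, hf⟩ := Q
  obtain ⟨c', hc', hf'⟩ := Q'
  have : c = c' := by
    funext x M i n i' n' hi hn
    refine hom_ext T X _ i n M _ _ (fun U => ?_)
    obtain ⟨Y, hxY, hUY, hYU⟩ := exists_open_isolating X j x.1 x.2 U.1 U.2.1
    have hYF : ContainsFj X j Y := fun p hp => hUY (U.2.1 p hp)
    have hYd : dim (Y : Scheme.{u}) = dim X.scheme := dim_opens_eq_of_containsFj X j Y hYF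
    have hU''F : ContainsFj X j (Y ⊓ clCompl X x.1) :=
      containsFj_inf_clCompl X j x.1 x.2.ge Y hYF
    have hU''d : dim ((Y ⊓ clCompl X x.1 : X.scheme.Opens) : Scheme.{u}) = dim X.scheme :=
      dim_opens_eq_of_containsFj X j _ hU''F
    let U'' : Idx X (ContainsFj X j) := ⟨Y ⊓ clCompl X x.1, hU''F, hU''d⟩
    have hU''U : U'' ≤ U := fun p hp => hYU ⟨hp.1, hp.2⟩
    let D := ptDecomp X x.1 Y (hU''d.trans hYd.symm)
    obtain ⟨x', hx'⟩ := exists_ptSub_point X x.1
    have hWne : (((X.ptSubι x.1) ⁻¹ᵁ Y : (X.ptSub x.1).scheme.Opens) :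
        Set (X.ptSub x.1).scheme).Nonempty :=
      ⟨x', by show (X.ptSubι x.1) x' ∈ Y; rw [hx']; exact hxY⟩
    let W : ptIdx X x.1 := ⟨(X.ptSubι x.1) ⁻¹ᵁ Y, hWne,
      IsConstructible.dim_open (X.ptSub x.1).mem (irreducibleSpace_ptSub X x.1) _ hWne⟩
    have hrc : D.codim = (j : ℤ) + 1 := by
      have := relCodim_pt X x.1 W Y hYd
      rw [x.2] at this
      rw [show D.codim = relCodim ((X.ptSub x.1).res W.1).scheme (X.res Y).scheme from rfl, this]
      push_cast; ring
    have hg : (𝟙 ((X.ptSub x.1).res W.1) : (X.ptSub x.1).res W.1 ⟶ D.Z).hom ≫ D.i ≫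
        (X.resι Y hYd).hom = W.1.ι ≫ X.ptSubι x.1 := by
      show 𝟙 _ ≫ ptClosedImm X x.1 _ Y rfl ≫ Y.ι = _
      rw [Category.id_comp, ptClosedImm_ι]
    have hh : (𝟙 (X.res U''.1) : X.res U''.1 ⟶ D.U).hom ≫ D.j.hom ≫ (X.resι Y hYd).hom =
        U''.1.ι := by
      show 𝟙 _ ≫ X.scheme.homOfLE (inf_le_left : Y ⊓ clCompl X x.1 ≤ Y) ≫ Y.ι = _
      rw [Category.id_comp, Scheme.homOfLE_ι]
    have e1 := hc x M i n i' n' hi hn (X.resι Y hYd) D W (𝟙 _) hg U'' (𝟙 _) hh
      (by rw [hrc]; exact hi) (by rw [hrc]; exact hn)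
    have e2 := hc' x M i n i' n' hi hn (X.resι Y hYd) D W (𝟙 _) hg U'' (𝟙 _) hh
      (by rw [hrc]; exact hi) (by rw [hrc]; exact hn)
    have e3 : oι T X (ContainsFj X j) i n M U'' ≫ c x M i n i' n' hi hn =
        oι T X (ContainsFj X j) i n M U'' ≫ c' x M i n i' n' hi hn := by
      have h1 : T.pull (𝟙 (X.res U''.1)) M i n = 𝟙 _ := pull_id T _ M i n
      haveI : IsIso (T.pull (𝟙 (X.res U''.1)) M i n) := by rw [h1]; infer_instance
      exact (cancel_epi (T.pull (𝟙 (X.res U''.1)) M i n)).mp (e1.trans e2.symm)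
    rw [← tr_oι T X (ContainsFj X j) i n M hU''U, Category.assoc, Category.assoc, e3]
  subst this
  rfl

end Groth.Agent.Lib.Lead.BMPt
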