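import Mathlib
import Groth.Prelude.Def_BMCoh4
import Groth.Agent.Lib.Lead.BMDim
import Groth.Agent.Lib.Lead.BMColim
import Groth.Agent.Lib.Lead.BMFormal
import Groth.Agent.Lib.Lead.BMPt

/-!
# The pieces of the long exact sequence of the groups of `F_j X` (lead)
-/

set_option autoImplicit false
universe u
open AlgebraicGeometry CategoryTheory CategoryTheory.Limits Opposite TopologicalSpace

noncomputable section

namespace Groth.Agent.Lib.Lead.BMSeq
open WeilCoh BMCoh Groth.Agent.Lib.Lead.BMDim Groth.Agent.Lib.Lead.BMColim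
  Groth.Agent.Lib.Lead.BMFormal Groth.Agent.Lib.Lead.BMPt

variable {V : ObjectProperty Scheme.{u}} [IsConstructible V] {R : Type u} [CommRing R]
  {A : Coefs R}

section Setup
variable (X : Obj V) (j : ℕ) (x : X.scheme) (hx : codim X.scheme x = j + 1)

/-- the open `ι⁻¹ Y` of the closure of `x`, for an open `Y ∋ x` -/
@[reducible] def ptW (Y : X.scheme.Opens) (hxY : x ∈ Y) : ptIdx X x :=
  have hne : (((X.ptSubι x) ⁻¹ᵁ Y : (X.ptSub x).scheme.Opens) :
      Set (X.ptSub x).scheme).Nonempty := by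
    obtain ⟨x', hx'⟩ := exists_ptSub_point X x
    exact ⟨x', by show (X.ptSubι x) x' ∈ Y; rw [hx']; exact hxY⟩
  ⟨(X.ptSubι x) ⁻¹ᵁ Y, hne,
    IsConstructible.dim_open (X.ptSub x).mem (irreducibleSpace_ptSub X x) _ hne⟩

/-- `Y ∖ closure {x}` as a member of the index family of `F_j X` -/
@[reducible] def fjCl (Y : X.scheme.Opens) (hYF : ContainsFj X j Y) (hx : j + 1 ≤ codim X.scheme x) :
    Idx X (ContainsFj X j) :=
  ⟨Y ⊓ clCompl X x, containsFj_inf_clCompl X j x hx Y hYF,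
    dim_opens_eq_of_containsFj X j _ (containsFj_inf_clCompl X j x hx Y hYF)⟩

/-- an open containing `F_j X` as a member of the index family -/
@[reducible] def fjIdx (Y : X.scheme.Opens) (hYF : ContainsFj X j Y) : Idx X (ContainsFj X j) :=
  ⟨Y, hYF, dim_opens_eq_of_containsFj X j Y hYF⟩

/-- the decomposition `Y = (closure {x} ∩ Y) ⊔ (Y ∖ closure {x})` -/
def ptDecomp' (Y : X.scheme.Opens) (hYF : ContainsFj X j Y) (hx : j + 1 ≤ codim X.scheme x) :
    Decomp (X.res Y) :=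
  ptDecomp X x Y ((fjCl X j x Y hYF hx).2.2.trans (fjIdx X j Y hYF).2.2.symm)

theorem ptDecomp'_codim (Y : X.scheme.Opens) (hxY : x ∈ Y) (hYF : ContainsFj X j Y) :
    (ptDecomp' X j x Y hYF hx.ge).codim = (j : ℤ) + 1 := by
  have := relCodim_pt X x (ptW X x Y hxY) Y (fjIdx X j Y hYF).2.2
  rw [hx] at this
  rw [show (ptDecomp' X j x Y hYF hx.ge).codim =
    relCodim ((X.ptSub x).res (ptW X x Y hxY).1).scheme (X.res Y).scheme from rfl, this]
  push_cast; ring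

end Setup

theorem tr_tr_apply (T : PreTheory V R A) (X : Obj V) (P : X.scheme.Opens → Prop) (i n : ℤ)
    (M : A.Cat) {U'' U' U : Idx X P} (h1 : U'' ≤ U') (h2 : U' ≤ U) (b : T.gp (X.res U.1) M i n) :
    (tr T X P i n M h1).hom ((tr T X P i n M h2).hom b) = (tr T X P i n M (h1.trans h2)).hom b := by
  have := pull_comp_apply T ((idxDiag X P).map (homOfLE h1)) ((idxDiag X P).map (homOfLE h2))
    M i n b
  rw [← Functor.map_comp] at this
  exact this.symm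

section Res
variable (T : PreTheory V R A) (X : Obj V) (j : ℕ) (x : X.scheme)
  (hx : codim X.scheme x = j + 1) (M : A.Cat) (i n i' n' : ℤ)
  (hi : i' = i + 1 - 2 * ((j : ℤ) + 1)) (hn : n' = n - ((j : ℤ) + 1))

theorem fjCl_le_fjIdx (Y : X.scheme.Opens) (hYF : ContainsFj X j Y) :
    fjCl X j x Y hYF hx.ge ≤ fjIdx X j Y hYF := fun _ hp => hp.1

/-- the residue map of the decomposition `Y = (closure {x} ∩ Y) ⊔ (Y ∖ closure {x})` -/
def resD (Y : X.scheme.Opens) (hxY : x ∈ Y) (hYF : ContainsFj X j Y) :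
    T.gp (X.res (fjCl X j x Y hYF hx.ge).1) M i n ⟶
      T.gp ((X.ptSub x).res (ptW X x Y hxY).1) M i' n' :=
  T.res (ptDecomp' X j x Y hYF hx.ge) M i n i' n'
    (by rw [ptDecomp'_codim X j x hx Y hxY hYF]; exact hi)
    (by rw [ptDecomp'_codim X j x hx Y hxY hYF]; exact hn)

/-- the residue at `x` of a class on `Y ∖ closure {x}`, computed through `Y` -/
def resAt (Y : X.scheme.Opens) (hxY : x ∈ Y) (hYF : ContainsFj X j Y) :
    T.gp (X.res (fjCl X j x Y hYF hx.ge).1) M i n ⟶ T.ptGp X x M i' n' :=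
  resD T X j x hx M i n i' n' hi hn Y hxY hYF ≫ oι T (X.ptSub x) _ i' n' M (ptW X x Y hxY)

theorem resAt_apply (Y : X.scheme.Opens) (hxY : x ∈ Y) (hYF : ContainsFj X j Y)
    (c : T.gp (X.res (fjCl X j x Y hYF hx.ge).1) M i n) :
    (resAt T X j x hx M i n i' n' hi hn Y hxY hYF).hom c =
      (oι T (X.ptSub x) _ i' n' M (ptW X x Y hxY)).hom
        ((resD T X j x hx M i n i' n' hi hn Y hxY hYF).hom c) := rfl

theorem pull_id_apply (Z : Obj V) (k m : ℤ) (c : T.gp Z M k m) :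
    (T.pull (𝟙 Z) M k m).hom c = c := by
  rw [pull_id]; rfl

theorem cpt_oι_fjCl (Q : T.ResData X j) (Y : X.scheme.Opens) (hxY : x ∈ Y)
    (hYF : ContainsFj X j Y) (c : T.gp (X.res (fjCl X j x Y hYF hx.ge).1) M i n) :
    (Q.cpt ⟨x, hx⟩ M i n i' n' hi hn).hom
      ((oι T X (ContainsFj X j) i n M (fjCl X j x Y hYF hx.ge)).hom c) =
      (resAt T X j x hx M i n i' n' hi hn Y hxY hYF).hom c := by
  let D := ptDecomp' X j x Y hYF hx.ge
  let W := ptW X x Y hxY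
  let U'' := fjCl X j x Y hYF hx.ge
  have hYd := (fjIdx X j Y hYF).2.2
  have hg : (𝟙 ((X.ptSub x).res W.1) : (X.ptSub x).res W.1 ⟶ D.Z).hom ≫ D.i ≫
      (X.resι Y hYd).hom = W.1.ι ≫ X.ptSubι x := by
    show 𝟙 _ ≫ ptClosedImm X x _ Y rfl ≫ Y.ι = _
    rw [Category.id_comp, ptClosedImm_ι]
  have hh : (𝟙 (X.res U''.1) : X.res U''.1 ⟶ D.U).hom ≫ D.j.hom ≫ (X.resι Y hYd).hom =
      U''.1.ι := by
    show 𝟙 _ ≫ X.scheme.homOfLE (inf_le_left : Y ⊓ clCompl X x ≤ Y) ≫ Y.ι = _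
    rw [Category.id_comp, Scheme.homOfLE_ι]
  have hiD : i' = i + 1 - 2 * D.codim := by
    rw [ptDecomp'_codim X j x hx Y hxY hYF]; exact hi
  have hnD : n' = n - D.codim := by
    rw [ptDecomp'_codim X j x hx Y hxY hYF]; exact hn
  have e1 := Q.cpt_spec ⟨x, hx⟩ M i n i' n' hi hn (X.resι Y hYd) D W (𝟙 _) hg U'' (𝟙 _) hh
    hiD hnD
  have e3 : (Q.cpt ⟨x, hx⟩ M i n i' n' hi hn).hom ((oι T X (ContainsFj X j) i n M U'').hom
      ((T.pull (𝟙 (X.res U''.1)) M i n).hom c)) =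
      (oι T (X.ptSub x) _ i' n' M W).hom ((T.pull (𝟙 ((X.ptSub x).res W.1)) M i' n').hom
        ((resD T X j x hx M i n i' n' hi hn Y hxY hYF).hom c)) :=
    congrArg (fun f => f.hom c) e1
  rw [pull_id_apply, pull_id_apply] at e3
  exact e3

theorem resD_tr (Y : X.scheme.Opens) (hxY : x ∈ Y) (hYF : ContainsFj X j Y)
    (c : T.gp (X.res (fjIdx X j Y hYF).1) M i n) :
    (resD T X j x hx M i n i' n' hi hn Y hxY hYF).hom
      ((tr T X (ContainsFj X j) i n M (fjCl_le_fjIdx X j x hx Y hYF)).hom c) = 0 := by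
  have hiD : i' = i + 1 - 2 * (ptDecomp' X j x Y hYF hx.ge).codim := by
    rw [ptDecomp'_codim X j x hx Y hxY hYF]; exact hi
  have hnD : n' = n - (ptDecomp' X j x Y hYF hx.ge).codim := by
    rw [ptDecomp'_codim X j x hx Y hxY hYF]; exact hn
  exact (T.exact_pull_res (ptDecomp' X j x Y hYF hx.ge) M i n i' n' hiD hnD
    ((T.pull (ptDecomp' X j x Y hYF hx.ge).j M i n).hom c)).mpr ⟨c, rfl⟩

theorem resD_exact (Y : X.scheme.Opens) (hxY : x ∈ Y) (hYF : ContainsFj X j Y)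
    (c : T.gp (X.res (fjCl X j x Y hYF hx.ge).1) M i n)
    (hc : (resD T X j x hx M i n i' n' hi hn Y hxY hYF).hom c = 0) :
    ∃ c₁ : T.gp (X.res (fjIdx X j Y hYF).1) M i n,
      (tr T X (ContainsFj X j) i n M (fjCl_le_fjIdx X j x hx Y hYF)).hom c₁ = c := by
  have hiD : i' = i + 1 - 2 * (ptDecomp' X j x Y hYF hx.ge).codim := by
    rw [ptDecomp'_codim X j x hx Y hxY hYF]; exact hi
  have hnD : n' = n - (ptDecomp' X j x Y hYF hx.ge).codim := by
    rw [ptDecomp'_codim X j x hx Y hxY hYF]; exact hn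
  exact (T.exact_pull_res (ptDecomp' X j x Y hYF hx.ge) M i n i' n' hiD hnD c).mp hc

theorem ptW_mono {Y₁ Y : X.scheme.Opens} (h : Y₁ ≤ Y) (hxY₁ : x ∈ Y₁) :
    ptW X x Y₁ hxY₁ ≤ ptW X x Y (h hxY₁) := fun _ hw => h hw

theorem fjCl_mono {Y₁ Y : X.scheme.Opens} (h : Y₁ ≤ Y) (hY₁F : ContainsFj X j Y₁)
    (hYF : ContainsFj X j Y) : fjCl X j x Y₁ hY₁F hx.ge ≤ fjCl X j x Y hYF hx.ge :=
  fun _ hp => ⟨h hp.1, hp.2⟩

theorem resD_natural {Y₁ Y : X.scheme.Opens} (h : Y₁ ≤ Y) (hxY₁ : x ∈ Y₁)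
    (hY₁F : ContainsFj X j Y₁) (hYF : ContainsFj X j Y)
    (c : T.gp (X.res (fjCl X j x Y hYF hx.ge).1) M i n) :
    (resD T X j x hx M i n i' n' hi hn Y₁ hxY₁ hY₁F).hom
      ((tr T X (ContainsFj X j) i n M (fjCl_mono X j x hx h hY₁F hYF)).hom c) =
    (tr T (X.ptSub x) _ i' n' M (ptW_mono X x h hxY₁)).hom
      ((resD T X j x hx M i n i' n' hi hn Y (h hxY₁) hYF).hom c) := by
  let D := ptDecomp' X j x Y hYF hx.ge
  let D₁ := ptDecomp' X j x Y₁ hY₁F hx.ge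
  have hiD : i' = i + 1 - 2 * D.codim := by
    rw [ptDecomp'_codim X j x hx Y (h hxY₁) hYF]; exact hi
  have hnD : n' = n - D.codim := by
    rw [ptDecomp'_codim X j x hx Y (h hxY₁) hYF]; exact hn
  have hiD₁ : i' = i + 1 - 2 * D₁.codim := by
    rw [ptDecomp'_codim X j x hx Y₁ hxY₁ hY₁F]; exact hi
  have hnD₁ : n' = n - D₁.codim := by
    rw [ptDecomp'_codim X j x hx Y₁ hxY₁ hY₁F]; exact hn
  let g : X.res Y₁ ⟶ X.res Y :=
    X.resLE h ((fjIdx X j Y₁ hY₁F).2.2.trans (fjIdx X j Y hYF).2.2.symm)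
  let gZ : D₁.Z ⟶ D.Z := (idxDiag (X.ptSub x) _).map (homOfLE (ptW_mono X x h hxY₁))
  let gU : D₁.U ⟶ D.U :=
    (idxDiag X (ContainsFj X j)).map (homOfLE (fjCl_mono X j x hx h hY₁F hYF))
  have comm1 : gZ.hom ≫ D.i = D₁.i ≫ g.hom := by
    rw [← cancel_mono Y.ι]
    show ((X.ptSub x).scheme.homOfLE (ptW_mono X x h hxY₁) ≫ ptClosedImm X x _ Y rfl) ≫ Y.ι =
      (ptClosedImm X x _ Y₁ rfl ≫ X.scheme.homOfLE h) ≫ Y.ι
    rw [Category.assoc, Category.assoc, ptClosedImm_ι, Scheme.homOfLE_ι, ptClosedImm_ι,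
      ← Category.assoc, Scheme.homOfLE_ι]
  have comm2 : gU ≫ D.j = D₁.j ≫ g := by
    apply Hom.ext
    show X.scheme.homOfLE (fjCl_mono X j x hx h hY₁F hYF) ≫
        X.scheme.homOfLE (inf_le_left : Y ⊓ clCompl X x ≤ Y) =
      X.scheme.homOfLE (inf_le_left : Y₁ ⊓ clCompl X x ≤ Y₁) ≫ X.scheme.homOfLE h
    rw [Scheme.homOfLE_homOfLE, Scheme.homOfLE_homOfLE]
  have hrp := T.res_pull D D₁ g gZ gU comm1 comm2 M i n i' n' hiD hnD hiD₁ hnD₁
  exact (congrArg (fun f => f.hom c) hrp).symm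

/-- the residue at a point of `U` of a class on `U` vanishes -/
theorem cpt_eq_zero_of_mem (Q : T.ResData X j) (U : Idx X (ContainsFj X j)) (hxU : x ∈ U.1)
    (c : T.gp (X.res U.1) M i n) :
    (Q.cpt ⟨x, hx⟩ M i n i' n' hi hn).hom ((oι T X (ContainsFj X j) i n M U).hom c) = 0 := by
  have hle : fjCl X j x U.1 U.2.1 hx.ge ≤ U := fun p hp => hp.1
  rw [← tr_oι_apply T X (ContainsFj X j) i n M hle, cpt_oι_fjCl T X j x hx M i n i' n' hi hn Q U.1
    hxU U.2.1, resAt_apply]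
  have := resD_tr T X j x hx M i n i' n' hi hn U.1 hxU U.2.1 c
  rw [show (tr T X (ContainsFj X j) i n M hle).hom c =
    (tr T X (ContainsFj X j) i n M (fjCl_le_fjIdx X j x hx U.1 U.2.1)).hom c from rfl, this,
    map_zero]

/-- extension step: a class on `Y ∖ closure {x}` whose residue at `x` vanishes extends, in the
colimit, over a neighbourhood of `x` -/
theorem exists_extension (Y : X.scheme.Opens) (hxY : x ∈ Y) (hYF : ContainsFj X j Y)
    (c : T.gp (X.res (fjCl X j x Y hYF hx.ge).1) M i n)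
    (hc : (resAt T X j x hx M i n i' n' hi hn Y hxY hYF).hom c = 0) :
    ∃ (Y₁ : X.scheme.Opens) (hY₁F : ContainsFj X j Y₁), x ∈ Y₁ ∧ Y ⊓ clCompl X x ≤ Y₁ ∧
      ∃ c₁ : T.gp (X.res Y₁) M i n, (oι T X (ContainsFj X j) i n M (fjIdx X j Y₁ hY₁F)).hom c₁ =
        (oι T X (ContainsFj X j) i n M (fjCl X j x Y hYF hx.ge)).hom c := by
  rw [resAt_apply] at hc
  obtain ⟨W₁, hW₁, hz⟩ := exists_of_eq_zero T (X.ptSub x) _ i' n' M _ hc
  obtain ⟨x', hx'⟩ := exists_ptSub_point X x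
  let Y₁ : X.scheme.Opens := Y ⊓ ptCompl X x W₁.1
  have hxY₁ : x ∈ Y₁ := ⟨hxY, by
    have := (mem_ptCompl_iff X x W₁.1 x').mpr (mem_of_nonempty_ptSub X x W₁.1 W₁.2.1 x' hx')
    rwa [hx'] at this⟩
  have hY₁F : ContainsFj X j Y₁ := fun p hp =>
    ⟨hYF p hp, containsFj_ptCompl X x W₁.1 W₁.2.1 j (by omega) p hp⟩
  have hsub : Y ⊓ clCompl X x ≤ Y₁ := by
    rintro p ⟨hpY, hpx⟩
    refine ⟨hpY, ?_⟩
    rintro ⟨w, -, rfl⟩
    apply hpx
    show (X.ptSubι x) w ∈ closure ({x} : Set X.scheme)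
    rw [← range_ptSubι]; exact ⟨w, rfl⟩
  refine ⟨Y₁, hY₁F, hxY₁, hsub, ?_⟩
  have hY₁Y : Y₁ ≤ Y := inf_le_left
  have hnat := resD_natural T X j x hx M i n i' n' hi hn hY₁Y hxY₁ hY₁F hYF c
  have hW₁' : ptW X x Y₁ hxY₁ ≤ W₁ := fun w hw => (mem_ptCompl_iff X x W₁.1 w).mp hw.2
  have hzero : (resD T X j x hx M i n i' n' hi hn Y₁ hxY₁ hY₁F).hom
      ((tr T X (ContainsFj X j) i n M (fjCl_mono X j x hx hY₁Y hY₁F hYF)).hom c) = 0 := by
    rw [hnat]
    have hfac : (tr T (X.ptSub x) _ i' n' M (ptW_mono X x hY₁Y hxY₁)).hom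
        ((resD T X j x hx M i n i' n' hi hn Y hxY hYF).hom c) =
        (tr T (X.ptSub x) _ i' n' M hW₁').hom ((tr T (X.ptSub x) _ i' n' M hW₁).hom
          ((resD T X j x hx M i n i' n' hi hn Y hxY hYF).hom c)) := by
      exact (tr_tr_apply T (X.ptSub x) _ i' n' M hW₁' hW₁ _).symm
    rw [hfac, hz, map_zero]
  obtain ⟨c₁, hc₁⟩ := resD_exact T X j x hx M i n i' n' hi hn Y₁ hxY₁ hY₁F _ hzero
  refine ⟨c₁, ?_⟩
  rw [← tr_oι_apply T X (ContainsFj X j) i n M (fjCl_le_fjIdx X j x hx Y₁ hY₁F),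
    ← tr_oι_apply T X (ContainsFj X j) i n M (fjCl_mono X j x hx hY₁Y hY₁F hYF) c, hc₁]

end Res

section Ind
variable (T : PreTheory V R A) (X : Obj V) (j : ℕ) (M : A.Cat) (i n i' n' : ℤ)
  (hi : i' = i + 1 - 2 * ((j : ℤ) + 1)) (hn : n' = n - ((j : ℤ) + 1))

theorem oι_fjRes_apply {j m : ℕ} (h : j ≤ m) (U : Idx X (ContainsFj X m))
    (c : T.gp (X.res U.1) M i n) :
    ((T.fjRes X h i n).app M).hom ((oι T X (ContainsFj X m) i n M U).hom c) =
      (oι T X (ContainsFj X j) i n M ⟨U.1, containsFj_mono X h U.1 U.2.1, U.2.2⟩).hom c :=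
  oι_ocolimMap_apply T X i n M (containsFj_mono X h) U c

/-- a class all of whose residues (computed through any neighbourhood) vanish comes from
`F_{j+1} X` -/
theorem mem_range_fjRes (α : T.fjGp X j M i n)
    (hres : ∀ (x : X.scheme) (hx : codim X.scheme x = j + 1) (Y : X.scheme.Opens) (hxY : x ∈ Y)
      (hYF : ContainsFj X j Y) (c : T.gp (X.res (fjCl X j x Y hYF hx.ge).1) M i n),
      (oι T X (ContainsFj X j) i n M (fjCl X j x Y hYF hx.ge)).hom c = α →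
      (resAt T X j x hx M i n i' n' hi hn Y hxY hYF).hom c = 0) :
    α ∈ Set.range ((T.fjRes X (Nat.le_succ j) i n).app M).hom := by
  haveI : IsNoetherian X.scheme := IsConstructible.isNoetherian X.mem
  have hns : NoetherianSpace X.scheme := inferInstance
  haveI : WellFoundedLT (Closeds X.scheme) := ((noetherianSpace_TFAE X.scheme).out 0 1).mp hns
  suffices H : ∀ (C : Closeds X.scheme) (U : Idx X (ContainsFj X j)) (c : T.gp (X.res U.1) M i n),
      ((U.1 : Set X.scheme)ᶜ = (C : Set X.scheme)) → (oι T X (ContainsFj X j) i n M U).hom c = α →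
      α ∈ Set.range ((T.fjRes X (Nat.le_succ j) i n).app M).hom by
    obtain ⟨U, c, hc⟩ := exists_rep T X (ContainsFj X j) i n M α
    exact H ⟨(U.1 : Set X.scheme)ᶜ, U.1.isOpen.isClosed_compl⟩ U c rfl hc
  intro C
  induction C using WellFoundedLT.induction with
  | ind C ih =>
  intro U c hUC hc
  by_cases hF : ContainsFj X (j + 1) U.1
  · refine ⟨(oι T X (ContainsFj X (j + 1)) i n M ⟨U.1, hF, U.2.2⟩).hom c, ?_⟩
    rw [oι_fjRes_apply]
    exact hc
  · unfold ContainsFj at hF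
    push_neg at hF
    obtain ⟨x, hxc, hxU⟩ := hF
    have hx : codim X.scheme x = j + 1 := by
      by_contra hne
      exact hxU (U.2.1 x (by omega))
    obtain ⟨Y, hxY, hUY, hYU⟩ := exists_open_isolating X j x hx U.1 U.2.1
    have hYF : ContainsFj X j Y := fun p hp => hUY (U.2.1 p hp)
    have hle : fjCl X j x Y hYF hx.ge ≤ U := fun p hp => hYU ⟨hp.1, hp.2⟩
    have hc'' : (oι T X (ContainsFj X j) i n M (fjCl X j x Y hYF hx.ge)).hom
        ((tr T X (ContainsFj X j) i n M hle).hom c) = α := by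
      rw [tr_oι_apply]; exact hc
    have hr := hres x hx Y hxY hYF _ hc''
    obtain ⟨Y₁, hY₁F, hxY₁, hsub, c₁, hc₁⟩ :=
      exists_extension T X j x hx M i n i' n' hi hn Y hxY hYF _ hr
    refine ih ⟨(Y₁ : Set X.scheme)ᶜ, Y₁.isOpen.isClosed_compl⟩ ?_ (fjIdx X j Y₁ hY₁F) c₁ rfl
      (hc₁.trans hc'')
    have hUY₁ : U.1 ≤ Y₁ := by
      intro p hp
      refine hsub ⟨hUY hp, ?_⟩
      intro hpx
      apply hxU
      obtain ⟨y, hy1, hy2⟩ := mem_closure_iff.mp hpx U.1 U.1.isOpen hp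
      rw [Set.mem_singleton_iff] at hy2
      rwa [hy2] at hy1
    rw [← SetLike.coe_ssubset_coe]
    refine ⟨?_, ?_⟩
    · rw [← hUC]
      exact Set.compl_subset_compl.mpr hUY₁
    · intro hsub'
      have : x ∈ (C : Set X.scheme) := by rw [← hUC]; exact hxU
      exact (hsub' this) hxY₁

theorem exact_fjRes_resTot (Q : T.ResData X j) :
    Function.Exact ((T.fjRes X (Nat.le_succ j) i n).app M).hom (Q.tot M i n i' n' hi hn).hom := by
  intro α
  constructor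
  · intro hα
    have hcpt : ∀ x : X.cdPt (j + 1), (Q.cpt x M i n i' n' hi hn).hom α = 0 := fun x => by
      have := DFunLike.congr_fun hα x
      rw [PreTheory.ResData.tot_apply] at this
      exact this
    apply mem_range_fjRes T X j M i n i' n' hi hn α
    intro x hx Y hxY hYF c hc
    rw [← cpt_oι_fjCl T X j x hx M i n i' n' hi hn Q Y hxY hYF c, hc]
    exact hcpt ⟨x, hx⟩
  · rintro ⟨β, rfl⟩
    obtain ⟨U, c, rfl⟩ := exists_rep T X (ContainsFj X (j + 1)) i n M β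
    rw [oι_fjRes_apply]
    apply DFinsupp.ext
    intro x
    rw [PreTheory.ResData.tot_apply]
    exact cpt_eq_zero_of_mem T X j x.1 x.2 M i n i' n' hi hn Q
      ⟨U.1, containsFj_mono X (Nat.le_succ j) U.1 U.2.1, U.2.2⟩ (U.2.1 x.1 x.2.le) c

end Ind

end Groth.Agent.Lib.Lead.BMSeq
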