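import Mathlib
import Groth.Prelude.Def_BMCoh4
import Groth.Agent.Lib.Lead.BMSeq

/-!
# Exactness at `H(F_{j+1} X)` : push-forward from points, then restriction (lead)
-/

set_option autoImplicit false
universe u
open AlgebraicGeometry CategoryTheory CategoryTheory.Limits Opposite TopologicalSpace

noncomputable section

namespace Groth.Agent.Lib.Lead.BMSeq2
open WeilCoh BMCoh Groth.Agent.Lib.Lead.BMDim Groth.Agent.Lib.Lead.BMColim
  Groth.Agent.Lib.Lead.BMFormal Groth.Agent.Lib.Lead.BMPt Groth.Agent.Lib.Lead.BMSeq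

variable {V : ObjectProperty Scheme.{u}} [IsConstructible V] {R : Type u} [CommRing R]
  {A : Coefs R}

theorem isPullback_of_mono {C : Type*} [Category C] {W Y U : C} (i : W ⟶ Y) (f : W ⟶ U)
    (g : Y ⟶ U) [Mono g] (h : i ≫ g = f) : IsPullback (𝟙 W) i f g := by
  refine IsPullback.of_isLimit' ⟨by rw [Category.id_comp, h]⟩ ?_
  refine PullbackCone.IsLimit.mk _ (fun s => s.fst) (fun s => Category.comp_id _) (fun s => ?_)
    (fun s m h1 _ => ?_)
  · rw [← cancel_mono g, Category.assoc, h, s.condition]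
  · rw [← h1, Category.comp_id]

section Push
variable (T : PreTheory V R A) (X : Obj V) (k : ℕ) (x : X.scheme)
  (hx : codim X.scheme x = k) (M : A.Cat) (i n i' n' : ℤ)
  (hi : i' = i + 2 * (k : ℤ)) (hn : n' = n + (k : ℤ))

include hx in
/-- every class of the group of a point is represented on the trace of an open containing
`F_k X` -/
theorem exists_rep_ptW (a : T.ptGp X x M i n) :
    ∃ (U : X.scheme.Opens) (hUF : ContainsFj X k U) (hxU : x ∈ U)
      (b : T.gp ((X.ptSub x).res (ptW X x U hxU).1) M i n),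
      (oι T (X.ptSub x) _ i n M (ptW X x U hxU)).hom b = a := by
  obtain ⟨W₀, b₀, rfl⟩ := exists_rep T (X.ptSub x) _ i n M a
  obtain ⟨x', hx'⟩ := exists_ptSub_point X x
  have hxU : x ∈ ptCompl X x W₀.1 := by
    have := (mem_ptCompl_iff X x W₀.1 x').mpr (mem_of_nonempty_ptSub X x W₀.1 W₀.2.1 x' hx')
    rwa [hx'] at this
  have hle : ptW X x (ptCompl X x W₀.1) hxU ≤ W₀ := fun w hw => (mem_ptCompl_iff X x W₀.1 w).mp hw
  exact ⟨ptCompl X x W₀.1, containsFj_ptCompl X x W₀.1 W₀.2.1 k hx.ge, hxU,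
    (tr T (X.ptSub x) _ i n M hle).hom b₀, tr_oι_apply T (X.ptSub x) _ i n M hle b₀⟩

include hx in
theorem relCodim_ptW' (U : X.scheme.Opens) (hd : dim (U : Scheme.{u}) = dim X.scheme)
    (W : ptIdx X x) :
    relCodim ((X.ptSub x).res W.1).scheme (X.res U).scheme = (k : ℤ) := by
  rw [relCodim_pt X x W U hd, hx]

include hx in
theorem relCodim_ptW (U : X.scheme.Opens) (hUF : ContainsFj X k U) (W : ptIdx X x) :
    relCodim ((X.ptSub x).res W.1).scheme (X.res U).scheme = (k : ℤ) :=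
  relCodim_ptW' X k x hx U (dim_opens_eq_of_containsFj X k U hUF) W

/-- the push-forward data on a class represented on a closed piece -/
theorem cpt_oι_ptIdx (P : T.PushData X k) (U : X.scheme.Opens) (hUF : ContainsFj X k U)
    (W : ptIdx X x) (hW : W.1 = (X.ptSubι x) ⁻¹ᵁ U)
    (b : T.gp ((X.ptSub x).res W.1) M i n) :
    (P.cpt ⟨x, hx⟩ M i n i' n' hi hn).hom ((oι T (X.ptSub x) _ i n M W).hom b) =
      (oι T X (ContainsFj X k) i' n' M (fjIdx X k U hUF)).hom
        ((T.push (ptClosedImm X x W.1 U hW) M i n i' n'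
          (by rw [relCodim_ptW X k x hx U hUF W]; exact hi)
          (by rw [relCodim_ptW X k x hx U hUF W]; exact hn)).hom b) := by
  have e1 := P.cpt_spec ⟨x, hx⟩ M i n i' n' hi hn (fjIdx X k U hUF) W
    (ptClosedImm X x W.1 U hW) (ptClosedImm_ι X x W.1 U hW)
    (by rw [show relCodim ((X.ptSub x).res W.1).scheme (X.res U).scheme = (k : ℤ) from
      relCodim_ptW X k x hx U hUF W]; exact hi)
    (by rw [show relCodim ((X.ptSub x).res W.1).scheme (X.res U).scheme = (k : ℤ) from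
      relCodim_ptW X k x hx U hUF W]; exact hn)
  exact congrArg (fun f => f.hom b) e1

end Push

section Exact
variable (T : PreTheory V R A) (X : Obj V) (j : ℕ) (M : A.Cat) (i n i' n' : ℤ)
  (hi : i' = i + 2 * ((j + 1 : ℕ) : ℤ)) (hn : n' = n + ((j + 1 : ℕ) : ℤ))

/-- push-forward from a point of codimension `j + 1` dies in `F_j X` -/
theorem fjRes_cpt (P : T.PushData X (j + 1)) (x : X.cdPt (j + 1)) (a : T.ptGp X x.1 M i n) :
    ((T.fjRes X (Nat.le_succ j) i' n').app M).hom ((P.cpt x M i n i' n' hi hn).hom a) = 0 := by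
  obtain ⟨U, hUF, hxU, b, rfl⟩ := exists_rep_ptW T X (j + 1) x.1 x.2 M i n a
  rw [cpt_oι_ptIdx T X (j + 1) x.1 x.2 M i n i' n' hi hn P U hUF (ptW X x.1 U hxU) rfl b,
    oι_fjRes_apply]
  have hUFj : ContainsFj X j U := containsFj_mono X (Nat.le_succ j) U hUF
  have hle : fjCl X j x.1 U hUFj x.2.ge ≤
      (⟨U, hUFj, (fjIdx X (j + 1) U hUF).2.2⟩ : Idx X (ContainsFj X j)) := fun p hp => hp.1
  rw [← tr_oι_apply T X (ContainsFj X j) i' n' M hle]
  let D := ptDecomp' X j x.1 U hUFj x.2.ge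
  have hrc : relCodim D.Z.scheme (X.res U).scheme = ((j + 1 : ℕ) : ℤ) :=
    relCodim_ptW X (j + 1) x.1 x.2 U hUF (ptW X x.1 U hxU)
  have hex := exact_push_pull' T D M i' n' i n (by rw [hrc]; exact hi) (by rw [hrc]; exact hn)
  have h0 := (hex ((T.push D.i M i n i' n' (by rw [hrc]; exact hi)
    (by rw [hrc]; exact hn)).hom b)).mpr ⟨b, rfl⟩
  have h1 : (tr T X (ContainsFj X j) i' n' M hle).hom ((T.push (ptClosedImm X x.1
      (ptW X x.1 U hxU).1 U rfl) M i n i' n'
      (by rw [show relCodim ((X.ptSub x.1).res (ptW X x.1 U hxU).1).scheme (X.res U).scheme =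
        ((j + 1 : ℕ) : ℤ) from hrc]; exact hi)
      (by rw [show relCodim ((X.ptSub x.1).res (ptW X x.1 U hxU).1).scheme (X.res U).scheme =
        ((j + 1 : ℕ) : ℤ) from hrc]; exact hn)).hom b) = 0 := h0
  rw [h1, map_zero]

theorem mem_range_pushTot (P : T.PushData X (j + 1)) :
    ∀ (C : Closeds X.scheme) (U : X.scheme.Opens) (hUF : ContainsFj X (j + 1) U)
      (U₁ : X.scheme.Opens) (hU₁F : ContainsFj X j U₁)
      (hle : fjIdx X j U₁ hU₁F ≤ fjIdx X j U (containsFj_mono X (Nat.le_succ j) U hUF))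
      (c : T.gp (X.res U) M i' n'), (U₁ : Set X.scheme)ᶜ = (C : Set X.scheme) →
      (tr T X (ContainsFj X j) i' n' M hle).hom c = 0 →
      (oι T X (ContainsFj X (j + 1)) i' n' M (fjIdx X (j + 1) U hUF)).hom c ∈
        Set.range (P.tot M i n i' n' hi hn).hom := by
  classical
  haveI : IsNoetherian X.scheme := IsConstructible.isNoetherian X.mem
  have hns : NoetherianSpace X.scheme := inferInstance
  haveI : WellFoundedLT (Closeds X.scheme) := ((noetherianSpace_TFAE X.scheme).out 0 1).mp hns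
  intro C
  induction C using WellFoundedLT.induction with
  | ind C ih =>
  intro U hUF U₁ hU₁F hle c hC hc0
  by_cases hF : ContainsFj X (j + 1) U₁
  · refine ⟨0, ?_⟩
    rw [map_zero]
    symm
    have hle' : fjIdx X (j + 1) U₁ hF ≤ fjIdx X (j + 1) U hUF := hle
    rw [← tr_oι_apply T X (ContainsFj X (j + 1)) i' n' M hle']
    have : (tr T X (ContainsFj X (j + 1)) i' n' M hle').hom c = 0 := hc0
    rw [this, map_zero]
  · unfold ContainsFj at hF
    push Not at hF
    obtain ⟨x, hxc, hxU₁⟩ := hF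
    have hx : codim X.scheme x = j + 1 := by
      by_contra hne
      exact hxU₁ (hU₁F x (by omega))
    have hxU : x ∈ U := hUF x hx.le
    obtain ⟨Y₀, hxY₀, hU₁Y₀, hY₀U₁⟩ := exists_open_isolating X j x hx U₁ hU₁F
    let Y : X.scheme.Opens := Y₀ ⊓ U
    have hxY : x ∈ Y := ⟨hxY₀, hxU⟩
    have hU₁Y : U₁ ≤ Y := fun p hp => ⟨hU₁Y₀ hp, hle hp⟩
    have hYU : Y ≤ U := inf_le_right
    have hYF : ContainsFj X j Y := fun p hp => hU₁Y (hU₁F p hp)
    have hUFj : ContainsFj X j U := containsFj_mono X (Nat.le_succ j) U hUF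
    have hYU' : fjIdx X j Y hYF ≤ fjIdx X j U hUFj := hYU
    have h1 : fjCl X j x Y hYF hx.ge ≤ fjIdx X j U₁ hU₁F := fun p hp => hY₀U₁ ⟨hp.1.1, hp.2⟩
    have hcY0 : (tr T X (ContainsFj X j) i' n' M (fjCl_le_fjIdx X j x hx Y hYF)).hom
        ((tr T X (ContainsFj X j) i' n' M hYU').hom c) = 0 := by
      rw [tr_tr_apply, ← tr_tr_apply T X _ i' n' M h1 hle, hc0, map_zero]
    let D := ptDecomp' X j x Y hYF hx.ge
    let W := ptW X x Y hxY
    have hrc : relCodim D.Z.scheme (X.res Y).scheme = ((j + 1 : ℕ) : ℤ) :=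
      relCodim_ptW' X (j + 1) x hx Y (fjIdx X j Y hYF).2.2 W
    have hiD : i' = i + 2 * relCodim D.Z.scheme (X.res Y).scheme := by rw [hrc]; exact hi
    have hnD : n' = n + relCodim D.Z.scheme (X.res Y).scheme := by rw [hrc]; exact hn
    obtain ⟨z, hz⟩ := (exact_push_pull' T D M i' n' i n hiD hnD _).mp hcY0
    let Ub : X.scheme.Opens := U ⊓ ptCompl X x W.1
    have hUbF : ContainsFj X (j + 1) Ub := fun p hp =>
      ⟨hUF p hp, containsFj_ptCompl X x W.1 W.2.1 (j + 1) hx.ge p hp⟩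
    have hYUb : Y ≤ Ub := by
      intro p hp
      refine ⟨hYU hp, ?_⟩
      rintro ⟨w, hw, rfl⟩
      exact hw hp
    have hWUb : W.1 = (X.ptSubι x) ⁻¹ᵁ Ub := by
      ext w
      constructor
      · intro hw
        exact ⟨hYU hw, (mem_ptCompl_iff X x W.1 w).mpr hw⟩
      · intro hw
        exact (mem_ptCompl_iff X x W.1 w).mp hw.2
    have hrcb : relCodim ((X.ptSub x).res W.1).scheme (X.res Ub).scheme = ((j + 1 : ℕ) : ℤ) :=
      relCodim_ptW X (j + 1) x hx Ub hUbF W
    have hib : i' = i + 2 * relCodim ((X.ptSub x).res W.1).scheme (X.res Ub).scheme := by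
      rw [hrcb]; exact hi
    have hnb : n' = n + relCodim ((X.ptSub x).res W.1).scheme (X.res Ub).scheme := by
      rw [hrcb]; exact hn
    have hUbU : fjIdx X (j + 1) Ub hUbF ≤ fjIdx X (j + 1) U hUF :=
      (inf_le_left : U ⊓ ptCompl X x W.1 ≤ U)
    have hUbFj : ContainsFj X j Ub := containsFj_mono X (Nat.le_succ j) Ub hUbF
    have hYUb' : fjIdx X j Y hYF ≤ fjIdx X j Ub hUbFj := hYUb
    -- base change
    have hcomm : D.i ≫ X.scheme.homOfLE hYUb = ptClosedImm X x W.1 Ub hWUb := by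
      rw [← cancel_mono Ub.ι, Category.assoc, Scheme.homOfLE_ι]
      exact (ptClosedImm_ι X x _ Y rfl).trans (ptClosedImm_ι X x W.1 Ub hWUb).symm
    have hpb : IsPullback (𝟙 D.Z.scheme) D.i (ptClosedImm X x W.1 Ub hWUb)
        (X.scheme.homOfLE hYUb) := isPullback_of_mono _ _ _ hcomm
    have hpp := T.push_pull (X := (X.ptSub x).res W.1) (Y := X.res Ub) (X' := D.Z)
      (Y' := X.res Y) (ptClosedImm X x W.1 Ub hWUb) D.i
      ((idxDiag X (ContainsFj X j)).map (homOfLE hYUb')) (𝟙 _) hpb M i n i' n' hib hnb hiD hnD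
    have hbc : (tr T X (ContainsFj X j) i' n' M hYUb').hom
        ((T.push (ptClosedImm X x W.1 Ub hWUb) M i n i' n' hib hnb).hom z) =
        (T.push D.i M i n i' n' hiD hnD).hom z := by
      have := congrArg (fun f => f.hom z) hpp
      have e2 : (T.pull (𝟙 D.Z) M i n).hom z = z := pull_id_apply T M D.Z i n z
      calc _ = (T.push D.i M i n i' n' hiD hnD).hom ((T.pull (𝟙 D.Z) M i n).hom z) := this
        _ = _ := by rw [e2]
    let c' := (tr T X (ContainsFj X (j + 1)) i' n' M hUbU).hom c -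
      (T.push (ptClosedImm X x W.1 Ub hWUb) M i n i' n' hib hnb).hom z
    have hc'0 : (tr T X (ContainsFj X j) i' n' M hYUb').hom c' = 0 := by
      show (tr T X (ContainsFj X j) i' n' M hYUb').hom (_ - _) = 0
      rw [map_sub, hbc, hz]
      have : (tr T X (ContainsFj X j) i' n' M hYUb').hom
          ((tr T X (ContainsFj X (j + 1)) i' n' M hUbU).hom c) =
          (tr T X (ContainsFj X j) i' n' M hYU').hom c :=
        tr_tr_apply T X (ContainsFj X j) i' n' M hYUb' (show fjIdx X j Ub hUbFj ≤ fjIdx X j U hUFj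
          from (inf_le_left : U ⊓ ptCompl X x W.1 ≤ U)) c
      rw [this, sub_self]
    have hlt : (⟨(Y : Set X.scheme)ᶜ, Y.isOpen.isClosed_compl⟩ : Closeds X.scheme) < C := by
      rw [← SetLike.coe_ssubset_coe]
      refine ⟨?_, ?_⟩
      · rw [← hC]
        exact Set.compl_subset_compl.mpr hU₁Y
      · intro hsub'
        have : x ∈ (C : Set X.scheme) := by rw [← hC]; exact hxU₁
        exact (hsub' this) hxY
    obtain ⟨ξ', hξ'⟩ := ih _ hlt Ub hUbF Y hYF hYUb' c' rfl hc'0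
    refine ⟨ξ' + DirectSum.lof R (X.cdPt (j + 1)) (fun y : X.cdPt (j + 1) => T.ptGp X y.1 M i n)
      ⟨x, hx⟩ ((oι T (X.ptSub x) _ i n M W).hom z), ?_⟩
    rw [map_add, hξ', PreTheory.PushData.tot_lof,
      cpt_oι_ptIdx T X (j + 1) x hx M i n i' n' hi hn P Ub hUbF W hWUb z, ← map_add,
      ← tr_oι_apply T X (ContainsFj X (j + 1)) i' n' M hUbU]
    congr 1
    show (_ - _) + _ = _
    abel

theorem exact_pushTot_fjRes (P : T.PushData X (j + 1)) :
    Function.Exact (P.tot M i n i' n' hi hn).hom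
      ((T.fjRes X (Nat.le_succ j) i' n').app M).hom := by
  classical
  intro β
  constructor
  · intro hβ
    obtain ⟨U, c, rfl⟩ := exists_rep T X (ContainsFj X (j + 1)) i' n' M β
    rw [oι_fjRes_apply] at hβ
    obtain ⟨U₁, hle, h0⟩ := exists_of_eq_zero T X (ContainsFj X j) i' n' M
      (U := ⟨U.1, containsFj_mono X (Nat.le_succ j) U.1 U.2.1, U.2.2⟩) c hβ
    exact mem_range_pushTot T X j M i n i' n' hi hn P
      ⟨(U₁.1 : Set X.scheme)ᶜ, U₁.1.isOpen.isClosed_compl⟩ U.1 U.2.1 U₁.1 U₁.2.1 hle c rfl h0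
  · rintro ⟨ξ, rfl⟩
    induction ξ using DirectSum.induction_on with
    | zero => simp
    | of x a =>
      have := PreTheory.PushData.tot_lof P M i n i' n' hi hn x a
      rw [show (DirectSum.of (fun y : X.cdPt (j + 1) => T.ptGp X y.1 M i n) x) a =
        DirectSum.lof R (X.cdPt (j + 1)) (fun y : X.cdPt (j + 1) => T.ptGp X y.1 M i n) x a
        from rfl, this]
      exact fjRes_cpt T X j M i n i' n' hi hn P x a
    | add ξ₁ ξ₂ h₁ h₂ => rw [map_add, map_add, h₁, h₂, add_zero]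

end Exact

end Groth.Agent.Lib.Lead.BMSeq2
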