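import Mathlib
import Groth.Prelude.Def_BMCoh4
import Groth.Agent.Lib.Lead.BMSeq2

/-!
# Base change for the closed pieces; the bijectivity criterion for `H(F_{j+1}) → H(F_j)` (lead)
-/

set_option autoImplicit false
universe u
open AlgebraicGeometry CategoryTheory CategoryTheory.Limits Opposite TopologicalSpace

noncomputable section

namespace Groth.Agent.Lib.Lead.BMSeq3
open WeilCoh BMCoh Groth.Agent.Lib.Lead.BMDim Groth.Agent.Lib.Lead.BMColim
  Groth.Agent.Lib.Lead.BMFormal Groth.Agent.Lib.Lead.BMPt Groth.Agent.Lib.Lead.BMSeq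
  Groth.Agent.Lib.Lead.BMSeq2

variable {V : ObjectProperty Scheme.{u}} [IsConstructible V] {R : Type u} [CommRing R]
  {A : Coefs R}

theorem isPullback_ptClosedImm (X : Obj V) (x : X.scheme) {U₂ U : X.scheme.Opens} (hle : U₂ ≤ U)
    (W₂ W : (X.ptSub x).scheme.Opens) (hW₂ : W₂ = (X.ptSubι x) ⁻¹ᵁ U₂)
    (hW : W = (X.ptSubι x) ⁻¹ᵁ U) (hWle : W₂ ≤ W) :
    IsPullback ((X.ptSub x).scheme.homOfLE hWle) (ptClosedImm X x W₂ U₂ hW₂)
      (ptClosedImm X x W U hW) (X.scheme.homOfLE hle) := by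
  subst hW₂ hW
  have s : IsPullback (ptClosedImm X x _ U₂ rfl)
      ((X.ptSub x).scheme.homOfLE hWle ≫ ((X.ptSubι x) ⁻¹ᵁ U).ι)
      (X.scheme.homOfLE hle ≫ U.ι) (X.ptSubι x) := by
    rw [Scheme.homOfLE_ι, Scheme.homOfLE_ι]
    have := isPullback_morphismRestrict (X.ptSubι x) U₂
    rw [← Scheme.Hom.resLE_eq_morphismRestrict] at this
    exact this
  have t : IsPullback (ptClosedImm X x _ U rfl) ((X.ptSubι x) ⁻¹ᵁ U).ι U.ι (X.ptSubι x) := by
    have := isPullback_morphismRestrict (X.ptSubι x) U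
    rw [← Scheme.Hom.resLE_eq_morphismRestrict] at this
    exact this
  have p : ptClosedImm X x _ U₂ rfl ≫ X.scheme.homOfLE hle =
      (X.ptSub x).scheme.homOfLE hWle ≫ ptClosedImm X x _ U rfl := by
    rw [← cancel_mono U.ι, Category.assoc, Category.assoc, Scheme.homOfLE_ι, ptClosedImm_ι,
      ptClosedImm_ι, ← Category.assoc, Scheme.homOfLE_ι]
  exact (IsPullback.of_bot s p t).flip

section BC
variable (T : PreTheory V R A) (X : Obj V) (x : X.scheme) (M : A.Cat) (i n i' n' : ℤ)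

/-- base change of the push-forward from a closed piece along a smaller open -/
theorem pull_push_ptClosedImm {U₂ U : X.scheme.Opens} (hle : U₂ ≤ U)
    (hd : dim (U₂ : Scheme.{u}) = dim (U : Scheme.{u}))
    (W₂ W : ptIdx X x) (hW₂ : W₂.1 = (X.ptSubι x) ⁻¹ᵁ U₂)
    (hW : W.1 = (X.ptSubι x) ⁻¹ᵁ U) (hWle : W₂ ≤ W)
    (hi : i' = i + 2 * relCodim ((X.ptSub x).res W.1).scheme (X.res U).scheme)
    (hn : n' = n + relCodim ((X.ptSub x).res W.1).scheme (X.res U).scheme)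
    (hi₂ : i' = i + 2 * relCodim ((X.ptSub x).res W₂.1).scheme (X.res U₂).scheme)
    (hn₂ : n' = n + relCodim ((X.ptSub x).res W₂.1).scheme (X.res U₂).scheme)
    (z : T.gp ((X.ptSub x).res W.1) M i n) :
    (T.pull (X.resLE hle hd) M i' n').hom
      ((T.push (ptClosedImm X x W.1 U hW) M i n i' n' hi hn).hom z) =
    (T.push (ptClosedImm X x W₂.1 U₂ hW₂) M i n i' n' hi₂ hn₂).hom
      ((tr T (X.ptSub x) _ i n M hWle).hom z) := by
  have hpp := T.push_pull (X := (X.ptSub x).res W.1) (Y := X.res U) (X' := (X.ptSub x).res W₂.1)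
    (Y' := X.res U₂) (ptClosedImm X x W.1 U hW) (ptClosedImm X x W₂.1 U₂ hW₂)
    (X.resLE hle hd) ((idxDiag (X.ptSub x) _).map (homOfLE hWle))
    (isPullback_ptClosedImm X x hle W₂.1 W.1 hW₂ hW hWle) M i n i' n' hi hn hi₂ hn₂
  exact congrArg (fun f => f.hom z) hpp

end BC

section Inj
variable (T : PreTheory V R A) (X : Obj V) (j : ℕ) (M : A.Cat) (i n i' n' : ℤ)
  (hi : i' = i + 2 * ((j + 1 : ℕ) : ℤ)) (hn : n' = n + ((j + 1 : ℕ) : ℤ))

include hi hn in
theorem oι_eq_zero_of_pt_isZero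
    (h0 : ∀ x : X.scheme, codim X.scheme x = j + 1 → IsZero (T.ptGp X x M i n)) :
    ∀ (C : Closeds X.scheme) (U : X.scheme.Opens) (hUF : ContainsFj X (j + 1) U)
      (U₁ : X.scheme.Opens) (hU₁F : ContainsFj X j U₁)
      (hle : fjIdx X j U₁ hU₁F ≤ fjIdx X j U (containsFj_mono X (Nat.le_succ j) U hUF))
      (c : T.gp (X.res U) M i' n'), (U₁ : Set X.scheme)ᶜ = (C : Set X.scheme) →
      (tr T X (ContainsFj X j) i' n' M hle).hom c = 0 →
      (oι T X (ContainsFj X (j + 1)) i' n' M (fjIdx X (j + 1) U hUF)).hom c = 0 := by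
  haveI : IsNoetherian X.scheme := IsConstructible.isNoetherian X.mem
  have hns : NoetherianSpace X.scheme := inferInstance
  haveI : WellFoundedLT (Closeds X.scheme) := ((noetherianSpace_TFAE X.scheme).out 0 1).mp hns
  intro C
  induction C using WellFoundedLT.induction with
  | ind C ih =>
  intro U hUF U₁ hU₁F hle c hC hc0
  by_cases hF : ContainsFj X (j + 1) U₁
  · have hle' : fjIdx X (j + 1) U₁ hF ≤ fjIdx X (j + 1) U hUF := hle
    rw [← tr_oι_apply T X (ContainsFj X (j + 1)) i' n' M hle']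
    have : (tr T X (ContainsFj X (j + 1)) i' n' M hle').hom c = 0 := hc0
    rw [this, map_zero]
  · unfold ContainsFj at hF
    push Not at hF
    obtain ⟨x, hxc, hxU₁⟩ := hF
    have hx : codim X.scheme x = j + 1 := by
      by_contra hne
      exact hxU₁ (hU₁F x (by omega))
    have hxU : x ∈ U := hUF x hx.le
    obtain ⟨Y₀, hxY₀, hU₁Y₀, hY₀U₁⟩ := exists_open_isolating X j x hx U₁ hU₁F
    let Y : X.scheme.Opens := Y₀ ⊓ U
    have hxY : x ∈ Y := ⟨hxY₀, hxU⟩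
    have hU₁Y : U₁ ≤ Y := fun p hp => ⟨hU₁Y₀ hp, hle hp⟩
    have hYU : Y ≤ U := inf_le_right
    have hYF : ContainsFj X j Y := fun p hp => hU₁Y (hU₁F p hp)
    have hUFj : ContainsFj X j U := containsFj_mono X (Nat.le_succ j) U hUF
    have hYU' : fjIdx X j Y hYF ≤ fjIdx X j U hUFj := hYU
    have h1 : fjCl X j x Y hYF hx.ge ≤ fjIdx X j U₁ hU₁F := fun p hp => hY₀U₁ ⟨hp.1.1, hp.2⟩
    have hcY0 : (tr T X (ContainsFj X j) i' n' M (fjCl_le_fjIdx X j x hx Y hYF)).hom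
        ((tr T X (ContainsFj X j) i' n' M hYU').hom c) = 0 := by
      rw [tr_tr_apply, ← tr_tr_apply T X _ i' n' M h1 hle, hc0, map_zero]
    let D := ptDecomp' X j x Y hYF hx.ge
    let W := ptW X x Y hxY
    have hrc : relCodim D.Z.scheme (X.res Y).scheme = ((j + 1 : ℕ) : ℤ) :=
      relCodim_ptW' X (j + 1) x hx Y (fjIdx X j Y hYF).2.2 W
    have hiD : i' = i + 2 * relCodim D.Z.scheme (X.res Y).scheme := by rw [hrc]; exact hi
    have hnD : n' = n + relCodim D.Z.scheme (X.res Y).scheme := by rw [hrc]; exact hn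
    obtain ⟨z, hz⟩ : ∃ z : T.gp ((X.ptSub x).res W.1) M i n,
        (T.push D.i M i n i' n' hiD hnD).hom z =
          (tr T X (ContainsFj X j) i' n' M hYU').hom c :=
      (exact_push_pull' T D M i' n' i n hiD hnD _).mp hcY0
    have hz0 : (oι T (X.ptSub x) _ i n M W).hom z = 0 := eq_zero_of_isZero (h0 x hx) _
    obtain ⟨W₁, hW₁, hzW₁⟩ := exists_of_eq_zero T (X.ptSub x) _ i n M z hz0
    obtain ⟨x', hx'⟩ := exists_ptSub_point X x
    let Y₁ : X.scheme.Opens := Y ⊓ ptCompl X x W₁.1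
    have hxY₁ : x ∈ Y₁ := ⟨hxY, by
      have := (mem_ptCompl_iff X x W₁.1 x').mpr (mem_of_nonempty_ptSub X x W₁.1 W₁.2.1 x' hx')
      rwa [hx'] at this⟩
    have hU₁Y₁ : U₁ ≤ Y₁ := by
      intro p hp
      refine ⟨hU₁Y hp, ?_⟩
      rintro ⟨w, -, rfl⟩
      apply hxU₁
      have hpx : (X.ptSubι x) w ∈ closure ({x} : Set X.scheme) := by
        rw [← range_ptSubι]; exact ⟨w, rfl⟩
      obtain ⟨y, hy1, hy2⟩ := mem_closure_iff.mp hpx U₁ U₁.isOpen hp
      rw [Set.mem_singleton_iff] at hy2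
      rwa [hy2] at hy1
    have hY₁F : ContainsFj X j Y₁ := fun p hp => hU₁Y₁ (hU₁F p hp)
    have hY₁Y : fjIdx X j Y₁ hY₁F ≤ fjIdx X j Y hYF := (inf_le_left : Y ⊓ ptCompl X x W₁.1 ≤ Y)
    have hY₁U : fjIdx X j Y₁ hY₁F ≤ fjIdx X j U hUFj := hY₁Y.trans hYU'
    let W' := ptW X x Y₁ hxY₁
    have hW'W : W' ≤ W := ptW_mono X x (inf_le_left : Y ⊓ ptCompl X x W₁.1 ≤ Y) hxY₁
    have hW'W₁ : W' ≤ W₁ := fun w hw => (mem_ptCompl_iff X x W₁.1 w).mp hw.2
    have hrc₁ : relCodim ((X.ptSub x).res W'.1).scheme (X.res Y₁).scheme = ((j + 1 : ℕ) : ℤ) :=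
      relCodim_ptW' X (j + 1) x hx Y₁ (fjIdx X j Y₁ hY₁F).2.2 W'
    have hbc := pull_push_ptClosedImm T X x M i n i' n'
      (inf_le_left : Y ⊓ ptCompl X x W₁.1 ≤ Y)
      ((fjIdx X j Y₁ hY₁F).2.2.trans (fjIdx X j Y hYF).2.2.symm) W' W rfl rfl hW'W hiD hnD
      (by rw [hrc₁]; exact hi) (by rw [hrc₁]; exact hn) z
    have hcY₁ : (tr T X (ContainsFj X j) i' n' M hY₁U).hom c = 0 := by
      rw [← tr_tr_apply T X (ContainsFj X j) i' n' M hY₁Y hYU', ← hz]
      refine hbc.trans ?_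
      have : (tr T (X.ptSub x) _ i n M hW'W).hom z = 0 := by
        rw [← tr_tr_apply T (X.ptSub x) _ i n M hW'W₁ hW₁, hzW₁, map_zero]
      rw [this, map_zero]
    have hlt : (⟨(Y₁ : Set X.scheme)ᶜ, Y₁.isOpen.isClosed_compl⟩ : Closeds X.scheme) < C := by
      rw [← SetLike.coe_ssubset_coe]
      refine ⟨?_, ?_⟩
      · rw [← hC]
        exact Set.compl_subset_compl.mpr hU₁Y₁
      · intro hsub'
        have : x ∈ (C : Set X.scheme) := by rw [← hC]; exact hxU₁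
        exact (hsub' this) hxY₁
    exact ih _ hlt U hUF Y₁ hY₁F hY₁U c rfl hcY₁

end Inj

section Bij
variable (T : PreTheory V R A) (X : Obj V) (j : ℕ) (M : A.Cat) (i n : ℤ)

theorem fjRes_bijective
    (h0 : ∀ x : X.scheme, codim X.scheme x = j + 1 →
      IsZero (T.ptGp X x M (i - 2 * ((j : ℤ) + 1)) (n - ((j : ℤ) + 1))))
    (h1 : ∀ x : X.scheme, codim X.scheme x = j + 1 →
      IsZero (T.ptGp X x M (i + 1 - 2 * ((j : ℤ) + 1)) (n - ((j : ℤ) + 1)))) :
    Function.Bijective ((T.fjRes X (Nat.le_succ j) i n).app M).hom := by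
  constructor
  · rw [injective_iff_map_eq_zero]
    intro β hβ
    obtain ⟨U, c, rfl⟩ := exists_rep T X (ContainsFj X (j + 1)) i n M β
    rw [oι_fjRes_apply] at hβ
    obtain ⟨U₁, hle, hc0⟩ := exists_of_eq_zero T X (ContainsFj X j) i n M
      (U := ⟨U.1, containsFj_mono X (Nat.le_succ j) U.1 U.2.1, U.2.2⟩) c hβ
    exact oι_eq_zero_of_pt_isZero T X j M (i - 2 * ((j : ℤ) + 1)) (n - ((j : ℤ) + 1)) i n
      (by push_cast; ring) (by push_cast; ring) h0
      ⟨(U₁.1 : Set X.scheme)ᶜ, U₁.1.isOpen.isClosed_compl⟩ U.1 U.2.1 U₁.1 U₁.2.1 hle c rfl hc0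
  · intro α
    exact mem_range_fjRes T X j M i n (i + 1 - 2 * ((j : ℤ) + 1)) (n - ((j : ℤ) + 1)) rfl rfl α
      (fun x hx Y hxY hYF c _ => eq_zero_of_isZero (h1 x hx) _)

end Bij

end Groth.Agent.Lib.Lead.BMSeq3
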