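import Mathlib
import Groth.Prelude.Def_BMCoh4
import Groth.Agent.Lib.Lead.BMSeq3

/-!
# Additivity of a Borel–Moore theory along finite clopen covers (lead)
-/

set_option autoImplicit false
universe u
open AlgebraicGeometry CategoryTheory CategoryTheory.Limits Opposite TopologicalSpace

noncomputable section

namespace Groth.Agent.Lib.Lead.BMAdd
open WeilCoh BMCoh Groth.Agent.Lib.Lead.BMDim Groth.Agent.Lib.Lead.BMColim
  Groth.Agent.Lib.Lead.BMFormal Groth.Agent.Lib.Lead.BMPt Groth.Agent.Lib.Lead.BMSeq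
  Groth.Agent.Lib.Lead.BMSeq2 Groth.Agent.Lib.Lead.BMSeq3

variable {V : ObjectProperty Scheme.{u}} [IsConstructible V] {R : Type u} [CommRing R]
  {A : Coefs R}

/-- a closed immersion with open range into a reduced scheme is an open immersion -/
theorem isOpenImmersion_of_isClosedImmersion_of_isOpen_range {W Z : Scheme.{u}} [IsReduced Z]
    (e : W ⟶ Z) [IsClosedImmersion e] (h : IsOpen (Set.range e)) : IsOpenImmersion e := by
  let O : Z.Opens := ⟨Set.range e, h⟩
  have hr : Set.range e ⊆ Set.range O.ι := by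
    rw [Scheme.Opens.range_ι]; exact subset_rfl
  let e' : W ⟶ O := IsOpenImmersion.lift O.ι e hr
  have he' : e' ≫ O.ι = e := IsOpenImmersion.lift_fac _ _ _
  haveI : IsClosedImmersion (e' ≫ O.ι) := by rw [he']; infer_instance
  haveI : IsClosedImmersion e' := IsClosedImmersion.of_comp e' O.ι
  haveI : Surjective e' := ⟨fun o => by
    obtain ⟨w, hw⟩ : o.1 ∈ Set.range e := o.2
    refine ⟨w, ?_⟩
    apply O.ι.isOpenEmbedding.injective
    have := congrArg (fun f : W ⟶ Z => f w) he'
    simp only [Scheme.Hom.comp_apply] at this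
    rw [this, hw]
    rfl⟩
  haveI : IsIso e' := isIso_of_isClosedImmersion_of_surjective e'
  rw [← he']
  infer_instance

theorem dim_le_of_isOpenImmersion (X : Obj V) {Y : Scheme.{u}} (f : Y ⟶ X.scheme)
    [IsOpenImmersion f] : dim Y ≤ dim X.scheme := by
  rw [dim_eq_natDim_range f f.isOpenEmbedding.isEmbedding]
  exact natDim_set_le _ (fin X)

/-- a finite cover of an object by objects that are simultaneously open and closed in it -/
structure ClopenCover (Z : Obj V) (ι : Type u) where
  obj : ι → Obj V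
  e : ∀ k, obj k ⟶ Z
  closed : ∀ k, IsClosedImmersion (e k).hom
  disj : ∀ k l, k ≠ l → ∀ p, p ∈ Set.range (e k).hom → p ∉ Set.range (e l).hom
  cov : ∀ p : Z.scheme, ∃ k, p ∈ Set.range (e k).hom

namespace ClopenCover

variable {Z : Obj V} {ι : Type u} (c : ClopenCover Z ι) (T : PreTheory V R A) (M : A.Cat) (i n : ℤ)

instance (k : ι) : IsClosedImmersion (c.e k).hom := c.closed k

theorem relCodim_eq (k : ι) : relCodim (c.obj k).scheme Z.scheme = 0 := by
  unfold relCodim
  rw [(c.e k).dim_eq]
  ring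

/-- push-forward along a piece -/
def psh (k : ι) : T.gp (c.obj k) M i n ⟶ T.gp Z M i n :=
  T.push (c.e k).hom M i n i n (by rw [c.relCodim_eq k]; ring) (by rw [c.relCodim_eq k]; ring)

theorem pull_psh_self (k : ι) (z : T.gp (c.obj k) M i n) :
    (T.pull (c.e k) M i n).hom ((c.psh T M i n k).hom z) = z := by
  have hpb : IsPullback (BMCoh.Hom.hom (𝟙 (c.obj k) : c.obj k ⟶ c.obj k)) (𝟙 (c.obj k).scheme)
      (c.e k).hom (c.e k).hom :=
    IsKernelPair.id_of_mono (c.e k).hom
  have hrs : relCodim (c.obj k).scheme (c.obj k).scheme = 0 := relCodim_self _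
  have hpp := T.push_pull (c.e k).hom (𝟙 (c.obj k).scheme) (c.e k) (𝟙 (c.obj k)) hpb M i n i n
    (by rw [c.relCodim_eq k]; ring) (by rw [c.relCodim_eq k]; ring)
    (by rw [hrs]; ring) (by rw [hrs]; ring)
  have h1 := congrArg (fun f => f.hom z) hpp
  have h2 : T.push (𝟙 (c.obj k).scheme) M i n i n (by rw [hrs]; ring) (by rw [hrs]; ring) = 𝟙 _ :=
    T.push_id (c.obj k) M i n _ _
  calc _ = (T.push (𝟙 (c.obj k).scheme) M i n i n (by rw [hrs]; ring) (by rw [hrs]; ring)).hom
        ((T.pull (𝟙 (c.obj k)) M i n).hom z) := h1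
    _ = z := by rw [h2, pull_id_apply]; rfl

theorem pull_psh_ne (k l : ι) (hkl : k ≠ l) (z : T.gp (c.obj k) M i n) :
    (T.pull (c.e l) M i n).hom ((c.psh T M i n k).hom z) = 0 := by
  by_cases hl : IsEmpty (c.obj l).scheme
  · exact eq_zero_of_isZero (isZero_of_isEmpty T (c.obj l) M i n) _
  rw [not_isEmpty_iff] at hl
  let U : Z.scheme.Opens := ⟨(Set.range (c.e k).hom)ᶜ,
    (c.e k).hom.isClosedEmbedding.isClosed_range.isOpen_compl⟩
  have hrl : Set.range (c.e l).hom ⊆ Set.range U.ι := by
    rw [Scheme.Opens.range_ι]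
    intro p hp hpk
    exact c.disj k l hkl p hpk hp
  let el' : (c.obj l).scheme ⟶ (Z.res U).scheme := IsOpenImmersion.lift U.ι (c.e l).hom hrl
  have hel' : el' ≫ U.ι = (c.e l).hom := IsOpenImmersion.lift_fac _ _ _
  haveI : IsOpenImmersion (el' ≫ U.ι) := by rw [hel']; infer_instance
  haveI : IsOpenImmersion el' := IsOpenImmersion.of_comp el' U.ι
  have hd : dim (U : Scheme.{u}) = dim Z.scheme := by
    refine le_antisymm (dim_opens_le Z U) ?_
    rw [← (c.e l).dim_eq]
    exact dim_le_of_isOpenImmersion (Z.res U) el'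
  let D : Decomp Z :=
    { Z := c.obj k, U := Z.res U, i := (c.e k).hom, closedImm := c.closed k, j := Z.resι U hd
      range_eq := by
        show Set.range U.ι = _
        rw [Scheme.Opens.range_ι]
        rfl }
  have hex := exact_push_pull' T D M i n i n (by rw [c.relCodim_eq k]; ring)
    (by rw [c.relCodim_eq k]; ring)
  have h0 : (T.pull D.j M i n).hom ((c.psh T M i n k).hom z) = 0 := (hex _).mpr ⟨z, rfl⟩
  let gl : c.obj l ⟶ Z.res U := ⟨el', inferInstance, (c.e l).dim_eq.trans hd.symm⟩
  have hfac : c.e l = gl ≫ D.j := Hom.ext hel'.symm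
  rw [hfac, pull_comp_apply, h0, map_zero]

end ClopenCover

theorem eq_zero_of_pull_eq_zero (T : PreTheory V R A) (M : A.Cat) (i n : ℤ) :
    ∀ (m : ℕ) (Z : Obj V) (ι : Type u) [Finite ι], Nat.card ι = m → ∀ (c : ClopenCover Z ι)
      (z : T.gp Z M i n), (∀ k, (T.pull (c.e k) M i n).hom z = 0) → z = 0 := by
  intro m
  induction m using Nat.strong_induction_on with
  | _ m ih =>
  intro Z ι _ hcard c z hz
  by_cases hι : IsEmpty ι
  · haveI : IsEmpty Z.scheme := ⟨fun p => by
      obtain ⟨k, -⟩ := c.cov p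
      exact hι.false k⟩
    exact eq_zero_of_isZero (isZero_of_isEmpty T Z M i n) _
  rw [not_isEmpty_iff] at hι
  obtain ⟨k₀⟩ := hι
  let U : Z.scheme.Opens := ⟨(Set.range (c.e k₀).hom)ᶜ,
    (c.e k₀).hom.isClosedEmbedding.isClosed_range.isOpen_compl⟩
  by_cases hU : (U : Set Z.scheme).Nonempty
  · obtain ⟨p, hp⟩ := hU
    obtain ⟨l, hl⟩ := c.cov p
    have hlk : l ≠ k₀ := by
      rintro rfl
      exact hp hl
    have hrange : ∀ k : {k : ι // k ≠ k₀}, Set.range (c.e k.1).hom ⊆ Set.range U.ι := by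
      intro k
      rw [Scheme.Opens.range_ι]
      intro q hq hqk
      exact c.disj k₀ k.1 (Ne.symm k.2) q hqk hq
    let e' : ∀ k : {k : ι // k ≠ k₀}, (c.obj k.1).scheme ⟶ (Z.res U).scheme := fun k =>
      IsOpenImmersion.lift U.ι (c.e k.1).hom (hrange k)
    have he' : ∀ k, e' k ≫ U.ι = (c.e k.1).hom := fun k => IsOpenImmersion.lift_fac _ _ _
    have hopen : ∀ k, IsOpenImmersion (e' k) := fun k => by
      haveI : IsOpenImmersion (e' k ≫ U.ι) := by rw [he']; infer_instance
      exact IsOpenImmersion.of_comp (e' k) U.ι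
    have hclosed : ∀ k, IsClosedImmersion (e' k) := fun k => by
      haveI : IsClosedImmersion (e' k ≫ U.ι) := by rw [he']; exact c.closed k.1
      exact IsClosedImmersion.of_comp (e' k) U.ι
    have hd : dim (U : Scheme.{u}) = dim Z.scheme := by
      refine le_antisymm (dim_opens_le Z U) ?_
      rw [← (c.e l).dim_eq]
      haveI := hopen ⟨l, hlk⟩
      exact dim_le_of_isOpenImmersion (Z.res U) (e' ⟨l, hlk⟩)
    let c' : ClopenCover (Z.res U) {k : ι // k ≠ k₀} :=
      { obj := fun k => c.obj k.1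
        e := fun k => ⟨e' k, hopen k, (c.e k.1).dim_eq.trans hd.symm⟩
        closed := hclosed
        disj := by
          rintro k l hkl q ⟨a, rfl⟩ ⟨b, hb⟩
          have h1 := congrArg (fun f : (c.obj k.1).scheme ⟶ Z.scheme => f a) (he' k)
          have h2 := congrArg (fun f : (c.obj l.1).scheme ⟶ Z.scheme => f b) (he' l)
          simp only [Scheme.Hom.comp_apply] at h1 h2
          refine c.disj k.1 l.1 (fun h => hkl (Subtype.ext h)) (U.ι (e' k a)) ⟨a, h1.symm⟩ ⟨b, ?_⟩
          rw [← h2]
          exact congrArg U.ι hb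
        cov := by
          intro q
          obtain ⟨k, a, ha⟩ := c.cov q.1
          have hk : k ≠ k₀ := by
            rintro rfl
            exact q.2 ⟨a, ha⟩
          refine ⟨⟨k, hk⟩, a, ?_⟩
          apply U.ι.isOpenEmbedding.injective
          have h1 := congrArg (fun f : (c.obj k).scheme ⟶ Z.scheme => f a) (he' ⟨k, hk⟩)
          simp only [Scheme.Hom.comp_apply] at h1
          exact h1.trans ha }
    let D : Decomp Z :=
      { Z := c.obj k₀, U := Z.res U, i := (c.e k₀).hom, closedImm := c.closed k₀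
        j := Z.resι U hd
        range_eq := by
          show Set.range U.ι = _
          rw [Scheme.Opens.range_ι]
          rfl }
    have hz' : (T.pull D.j M i n).hom z = 0 := by
      refine ih (Nat.card {k : ι // k ≠ k₀}) ?_ (Z.res U) {k : ι // k ≠ k₀} rfl c' _ ?_
      · rw [← hcard]
        exact Finite.card_subtype_lt (x := k₀) (fun h => h rfl)
      · intro k
        have hfac : c.e k.1 = c'.e k ≫ D.j := Hom.ext (he' k).symm
        rw [← pull_comp_apply, ← hfac]
        exact hz k.1
    have hex := exact_push_pull' T D M i n i n (by rw [c.relCodim_eq k₀]; ring)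
      (by rw [c.relCodim_eq k₀]; ring)
    obtain ⟨b, hb⟩ := (hex z).mp hz'
    have hb' : (c.psh T M i n k₀).hom b = z := hb
    have hb0 : b = 0 := by
      rw [← c.pull_psh_self T M i n k₀ b, hb', hz k₀]
    rw [← hb', hb0, map_zero]
  · have hsurj : Function.Surjective (c.e k₀).hom := by
      intro p
      by_contra hp
      exact hU ⟨p, hp⟩
    haveI : Epi (c.e k₀).hom.base := (TopCat.epi_iff_surjective _).mpr hsurj
    haveI : IsIso (c.e k₀).hom := IsOpenImmersion.isIso _
    exact (injective_iff_map_eq_zero _).mp (pull_bijective_of_isIso T (c.e k₀) M i n).1 z (hz k₀)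

theorem ClopenCover.eq_sum {Z : Obj V} {ι : Type u} [Fintype ι] [DecidableEq ι]
    (c : ClopenCover Z ι) (T : PreTheory V R A) (M : A.Cat) (i n : ℤ) (z : T.gp Z M i n) :
    z = ∑ k, (c.psh T M i n k).hom ((T.pull (c.e k) M i n).hom z) := by
  rw [← sub_eq_zero]
  refine eq_zero_of_pull_eq_zero T M i n _ Z ι rfl c _ (fun l => ?_)
  rw [map_sub, map_sum, Finset.sum_eq_single l, c.pull_psh_self, sub_self]
  · intro k _ hkl
    exact c.pull_psh_ne T M i n k l hkl _
  · intro h
    exact absurd (Finset.mem_univ l) h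

end Groth.Agent.Lib.Lead.BMAdd
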