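import Mathlib
import Groth.Prelude.Def_BMCoh4
import Groth.Agent.Lib.Lead.BMSeq
import Groth.Agent.Lib.Helper5.TopDim

/-!
# Uniqueness of push-forward data between groups of points (lead)
-/

set_option autoImplicit false
universe u
open AlgebraicGeometry CategoryTheory CategoryTheory.Limits Opposite TopologicalSpace

noncomputable section

namespace Groth.Agent.Lib.Lead.BMPtPush
open WeilCoh BMCoh Groth.Agent.Lib.Lead.BMDim Groth.Agent.Lib.Lead.BMColim
  Groth.Agent.Lib.Lead.BMFormal Groth.Agent.Lib.Lead.BMPt Groth.Agent.Lib.Lead.BMSeq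

variable {V : ObjectProperty Scheme.{u}} [IsConstructible V] {R : Type u} [CommRing R]
  {A : Coefs R}

/-- the lift of a morphism from a reduced scheme through the reduced closure of a point -/
def liftPt {W : Scheme.{u}} [IsReduced W] (X : Obj V) (x : X.scheme) (g : W ⟶ X.scheme)
    (h : Set.range g ⊆ closure ({x} : Set X.scheme)) : W ⟶ (X.ptSub x).scheme :=
  IsClosedImmersion.lift (X.ptSubι x) g (by
    rw [Scheme.IdealSheafData.ker_subschemeι,
      Groth.Agent.Lib.Helper16.ker_eq_vanishingIdeal_of_isReduced]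
    exact Scheme.IdealSheafData.vanishingIdeal_antimono
      (show (⟨closure (Set.range g), isClosed_closure⟩ : Closeds X.scheme) ≤
        ⟨closure ({x} : Set X.scheme), isClosed_closure⟩ from
        closure_minimal h isClosed_closure))

theorem liftPt_fac {W : Scheme.{u}} [IsReduced W] (X : Obj V) (x : X.scheme) (g : W ⟶ X.scheme)
    (h : Set.range g ⊆ closure ({x} : Set X.scheme)) : liftPt X x g h ≫ X.ptSubι x = g :=
  IsClosedImmersion.lift_fac _ _ _

instance isReduced_ptSub (X : Obj V) (x : X.scheme) : IsReduced (X.ptSub x).scheme :=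
  Groth.Agent.Lib.Helper16.isReduced_subscheme_vanishingIdeal _

theorem range_comp_subset {Y X : Obj V} (φ : Y.scheme ⟶ X.scheme) (y : Y.scheme) (x : X.scheme)
    (hm : φ y = x) : Set.range (Y.ptSubι y ≫ φ) ⊆ closure ({x} : Set X.scheme) := by
  rintro _ ⟨w, rfl⟩
  have h1 : (Y.ptSubι y) w ∈ closure ({y} : Set Y.scheme) := by
    rw [← range_ptSubι]; exact ⟨w, rfl⟩
  have h2 : φ ((Y.ptSubι y) w) ∈ closure (φ '' ({y} : Set Y.scheme)) :=
    image_closure_subset_closure_image φ.continuous (Set.mem_image_of_mem φ h1)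
  rw [Set.image_singleton, hm] at h2
  exact h2

/-- the morphism induced by `φ` between the reduced closures of `y` and of `φ y` -/
def ptMap {Y X : Obj V} (φ : Y.scheme ⟶ X.scheme) (y : Y.scheme) (x : X.scheme) (hm : φ y = x) :
    (Y.ptSub y).scheme ⟶ (X.ptSub x).scheme :=
  liftPt X x (Y.ptSubι y ≫ φ) (range_comp_subset φ y x hm)

theorem ptMap_fac {Y X : Obj V} (φ : Y.scheme ⟶ X.scheme) (y : Y.scheme) (x : X.scheme)
    (hm : φ y = x) : ptMap φ y x hm ≫ X.ptSubι x = Y.ptSubι y ≫ φ := liftPt_fac _ _ _ _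

instance {Y X : Obj V} (φ : Y.scheme ⟶ X.scheme) [IsProper φ] (y : Y.scheme) (x : X.scheme)
    (hm : φ y = x) : IsProper (ptMap φ y x hm) := by
  haveI : IsProper (ptMap φ y x hm ≫ X.ptSubι x) := by rw [ptMap_fac]; infer_instance
  exact IsProper.of_comp (ptMap φ y x hm) (X.ptSubι x)

theorem ptMap_point {Y X : Obj V} (φ : Y.scheme ⟶ X.scheme) (y : Y.scheme) (x : X.scheme)
    (hm : φ y = x) (y' : (Y.ptSub y).scheme) (hy' : (Y.ptSubι y) y' = y)
    (x' : (X.ptSub x).scheme) (hx' : (X.ptSubι x) x' = x) : ptMap φ y x hm y' = x' := by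
  apply (X.ptSubι x).isClosedEmbedding.injective
  have := congrArg (fun f : (Y.ptSub y).scheme ⟶ X.scheme => f y') (ptMap_fac φ y x hm)
  simp only [Scheme.Hom.comp_apply] at this
  rw [this, hy', hm, hx']

theorem ptMap_surjective {Y X : Obj V} (φ : Y.scheme ⟶ X.scheme) [IsProper φ] (y : Y.scheme)
    (x : X.scheme) (hm : φ y = x) : Function.Surjective (ptMap φ y x hm) := by
  obtain ⟨y', hy'⟩ := exists_ptSub_point Y y
  obtain ⟨x', hx'⟩ := exists_ptSub_point X x
  have hcl : IsClosed (Set.range (ptMap φ y x hm)) := (ptMap φ y x hm).isClosedMap.isClosed_range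
  intro q
  have h1 : (X.ptSubι x) q ∈ closure ({x} : Set X.scheme) := by
    rw [← range_ptSubι]; exact ⟨q, rfl⟩
  have h2 : q ∈ closure ({x'} : Set (X.ptSub x).scheme) := by
    rw [(X.ptSubι x).isClosedEmbedding.isEmbedding.closure_eq_preimage_closure_image,
      Set.image_singleton, hx']
    exact h1
  have h3 : x' ∈ Set.range (ptMap φ y x hm) := ⟨y', ptMap_point φ y x hm y' hy' x' hx'⟩
  exact closure_minimal (Set.singleton_subset_iff.mpr h3) hcl h2

theorem pdim_le_of_proper {Y X : Obj V} (φ : Y.scheme ⟶ X.scheme) [IsProper φ] (p : Y.scheme) :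
    pdim X.scheme (φ p) ≤ pdim Y.scheme p := by
  rw [← dim_ptSub, ← dim_ptSub]
  refine natDim_le_of_le ?_ (fin (Y.ptSub p))
  exact Groth.Agent.Lib.Helper5.topologicalKrullDim_le_of_specializingMap (ptMap φ p (φ p) rfl)
    (ptMap φ p (φ p) rfl).isClosedMap.specializingMap (ptMap_surjective φ p (φ p) rfl)

theorem ptPush_ext (T : PreTheory V R A) {Y X : Obj V} (φ : Y.scheme ⟶ X.scheme) [IsProper φ]
    (y : Y.scheme) (x : X.scheme) (L L' : T.PtPush φ y x) : L = L' := by
  obtain ⟨hm, hcd, c, hc⟩ := L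
  obtain ⟨-, -, c', hc'⟩ := L'
  have : c = c' := by
    funext M i n
    refine hom_ext T (Y.ptSub y) _ i n M _ _ (fun W => ?_)
    let ψ := ptMap φ y x hm
    obtain ⟨y', hy'⟩ := exists_ptSub_point Y y
    obtain ⟨x', hx'⟩ := exists_ptSub_point X x
    have hdimeq : pdim X.scheme x = pdim Y.scheme y := by
      have h1 := dim_ptSub X x
      have h2 := dim_ptSub Y y
      unfold relCodim at hcd
      omega
    have hClosed : IsClosed (ψ '' (W.1 : Set (Y.ptSub y).scheme)ᶜ) :=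
      ψ.isClosedMap _ W.1.isOpen.isClosed_compl
    have hx'not : x' ∉ ψ '' (W.1 : Set (Y.ptSub y).scheme)ᶜ := by
      rintro ⟨c₀, hc₀, hc₀x⟩
      have hp1 : (Y.ptSubι y) c₀ ∈ closure ({y} : Set Y.scheme) := by
        rw [← range_ptSubι]; exact ⟨c₀, rfl⟩
      have hp2 : (Y.ptSubι y) c₀ ≠ y := fun h =>
        hc₀ (mem_of_nonempty_ptSub Y y W.1 W.2.1 c₀ h)
      have hp3 : φ ((Y.ptSubι y) c₀) = x := by
        have := congrArg (fun f : (Y.ptSub y).scheme ⟶ X.scheme => f c₀) (ptMap_fac φ y x hm)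
        simp only [Scheme.Hom.comp_apply] at this
        rw [← this]
        show (X.ptSubι x) (ψ c₀) = x
        rw [hc₀x, hx']
      have h4 := pdim_lt_pdim Y hp1 hp2
      have h5 := pdim_le_of_proper φ ((Y.ptSubι y) c₀)
      rw [hp3] at h5
      omega
    let W'o : (X.ptSub x).scheme.Opens := ⟨(ψ '' (W.1 : Set (Y.ptSub y).scheme)ᶜ)ᶜ,
      hClosed.isOpen_compl⟩
    have hW'ne : (W'o : Set (X.ptSub x).scheme).Nonempty := ⟨x', hx'not⟩
    let W' : ptIdx X x := ⟨W'o, hW'ne,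
      IsConstructible.dim_open (X.ptSub x).mem (irreducibleSpace_ptSub X x) _ hW'ne⟩
    have hψy' : ψ y' = x' := ptMap_point φ y x hm y' hy' x' hx'
    have hW₁ne : ((ψ ⁻¹ᵁ W'o : (Y.ptSub y).scheme.Opens) : Set (Y.ptSub y).scheme).Nonempty :=
      ⟨y', by show ψ y' ∈ W'o; rw [hψy']; exact hx'not⟩
    let W₁ : ptIdx Y y := ⟨ψ ⁻¹ᵁ W'o, hW₁ne,
      IsConstructible.dim_open (Y.ptSub y).mem (irreducibleSpace_ptSub Y y) _ hW₁ne⟩
    have hW₁W : W₁ ≤ W := by
      intro w hw
      by_contra hwW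
      exact hw ⟨w, hwW, rfl⟩
    have hcompat : (ψ ∣_ W'o) ≫ W'o.ι ≫ X.ptSubι x = (ψ ⁻¹ᵁ W'o).ι ≫ Y.ptSubι y ≫ φ := by
      rw [← Category.assoc, morphismRestrict_ι, Category.assoc, ptMap_fac]
    have hrc : relCodim ((Y.ptSub y).res W₁.1).scheme ((X.ptSub x).res W'.1).scheme = 0 := by
      have h1 : dim ((Y.ptSub y).res W₁.1).scheme = dim (Y.ptSub y).scheme := W₁.2.2
      have h2 : dim ((X.ptSub x).res W'.1).scheme = dim (X.ptSub x).scheme := W'.2.2
      unfold relCodim at hcd ⊢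
      rw [h1, h2]
      exact hcd
    have e1 := hc M i n W₁ W' (ψ ∣_ W'o) hcompat (by rw [hrc]; ring) (by rw [hrc]; ring)
    have e2 := hc' M i n W₁ W' (ψ ∣_ W'o) hcompat (by rw [hrc]; ring) (by rw [hrc]; ring)
    rw [← tr_oι T (Y.ptSub y) _ i n M hW₁W, Category.assoc, Category.assoc]
    exact congrArg _ (e1.trans e2.symm)
  subst this
  rfl

end Groth.Agent.Lib.Lead.BMPtPush
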