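import Mathlib
import Groth.Prelude.Def_BMCoh4
import Groth.Agent.Lib.Lead.BMAdd
import Groth.Agent.Lib.Lead.BMPtPush

/-!
# Opens in good position with respect to a closed subset (lead)

For a closed subset `C` of an object `X` all of whose points have codimension at least `m`, an
open `Y ⊇ F_m X` is in good position when every point of `Y ∩ C` lies in the closure of exactly one
point of `C` of codimension `m`. Then `Y ∩ C` (reduced) is the finite disjoint union of the clopen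
pieces `closure {x} ∩ Y`.
-/

set_option autoImplicit false
universe u
open AlgebraicGeometry CategoryTheory CategoryTheory.Limits Opposite TopologicalSpace

noncomputable section

namespace Groth.Agent.Lib.Lead.BMGood
open WeilCoh BMCoh Groth.Agent.Lib.Lead.BMDim Groth.Agent.Lib.Lead.BMColim
  Groth.Agent.Lib.Lead.BMFormal Groth.Agent.Lib.Lead.BMPt Groth.Agent.Lib.Lead.BMSeq
  Groth.Agent.Lib.Lead.BMSeq2 Groth.Agent.Lib.Lead.BMSeq3 Groth.Agent.Lib.Lead.BMAdd
  Groth.Agent.Lib.Lead.BMPtPush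

variable {V : ObjectProperty Scheme.{u}} [IsConstructible V] {R : Type u} [CommRing R]
  {A : Coefs R}

theorem eq_of_mem_closure_of_codim_le (X : Obj V) {p x : X.scheme}
    (h : p ∈ closure ({x} : Set X.scheme)) (hc : codim X.scheme p ≤ codim X.scheme x) : p = x := by
  by_contra hne
  have := codim_lt_of_mem_closure X h hne
  omega

/-- the points of codimension `m` lying in `C` -/
abbrev CPt (X : Obj V) (m : ℕ) (C : Set X.scheme) : Type u := {x : X.cdPt m // x.1 ∈ C}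

theorem exists_good_open (X : Obj V) (m : ℕ) (C : Set X.scheme) (hC : IsClosed C)
    (hCm : ∀ p ∈ C, m ≤ codim X.scheme p) :
    Finite (CPt X m C) ∧ ∃ Y : X.scheme.Opens, ContainsFj X m Y ∧ Cᶜ ⊆ (Y : Set X.scheme) ∧
      ∀ p ∈ Y, p ∈ C → ∃! x : CPt X m C, p ∈ closure ({x.1.1} : Set X.scheme) := by
  haveI : IsNoetherian X.scheme := IsConstructible.isNoetherian X.mem
  obtain ⟨S, hSf, hSc, hSi, hSU⟩ := NoetherianSpace.exists_finite_set_isClosed_irreducible hC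
  haveI : Finite ↥S := hSf.to_subtype
  choose g hg using fun t : ↥S => QuasiSober.sober (hSi t.1 t.2) (hSc t.1 t.2)
  have htC : ∀ t : ↥S, t.1 ⊆ C := fun t => by rw [hSU]; exact Set.subset_sUnion_of_mem t.2
  have hgt : ∀ t : ↥S, g t ∈ t.1 := fun t => (hg t).mem
  have hcl : ∀ t : ↥S, closure ({g t} : Set X.scheme) = t.1 := fun t => (hg t).def
  -- key fact
  have key : ∀ p ∈ C, codim X.scheme p = m → ∀ t : ↥S, p ∈ t.1 → p = g t := by
    intro p _ hpm t hpt
    refine eq_of_mem_closure_of_codim_le X ?_ ?_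
    · rw [hcl t]; exact hpt
    · rw [hpm]; exact hCm _ (htC t (hgt t))
  have hinj : ∀ t t' : ↥S, g t = g t' → t = t' := by
    intro t t' h
    apply Subtype.ext
    rw [← hcl t, ← hcl t', h]
  let B₁ : Set X.scheme := ⋃ t : {t : ↥S // codim X.scheme (g t) ≠ m}, t.1.1
  let B₂ : Set X.scheme := ⋃ t : {tt : ↥S × ↥S // tt.1 ≠ tt.2}, t.1.1.1 ∩ t.1.2.1
  have hB₁ : IsClosed B₁ := isClosed_iUnion_of_finite (fun t => hSc t.1.1 t.1.2)
  have hB₂ : IsClosed B₂ :=
    isClosed_iUnion_of_finite (fun t => (hSc t.1.1.1 t.1.1.2).inter (hSc t.1.2.1 t.1.2.2))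
  let Y : X.scheme.Opens := ⟨(B₁ ∪ B₂)ᶜ, (hB₁.union hB₂).isOpen_compl⟩
  have hBC : B₁ ∪ B₂ ⊆ C := by
    rintro p (hp | hp)
    · simp only [B₁, Set.mem_iUnion] at hp
      obtain ⟨t, hpt⟩ := hp
      exact htC t.1 hpt
    · simp only [B₂, Set.mem_iUnion] at hp
      obtain ⟨t, hpt⟩ := hp
      exact htC t.1.1 hpt.1
  have hYF : ContainsFj X m Y := by
    intro p hp
    show p ∈ (B₁ ∪ B₂)ᶜ
    rintro (hpB | hpB)
    · simp only [B₁, Set.mem_iUnion] at hpB
      obtain ⟨t, hpt⟩ := hpB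
      have hpC := htC t.1 hpt
      have hpm : codim X.scheme p = m := le_antisymm hp (hCm p hpC)
      have := key p hpC hpm t.1 hpt
      exact t.2 (by rw [← this]; exact hpm)
    · simp only [B₂, Set.mem_iUnion] at hpB
      obtain ⟨t, hpt⟩ := hpB
      have hpC := htC t.1.1 hpt.1
      have hpm : codim X.scheme p = m := le_antisymm hp (hCm p hpC)
      have h1 := key p hpC hpm t.1.1 hpt.1
      have h2 := key p hpC hpm t.1.2 hpt.2
      exact t.2 (hinj _ _ (h1.symm.trans h2))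
  have hcov : ∀ p ∈ C, ∃ t : ↥S, p ∈ t.1 := fun p hp => by
    rw [hSU] at hp
    obtain ⟨t, ht, hpt⟩ := hp
    exact ⟨⟨t, ht⟩, hpt⟩
  refine ⟨?_, Y, hYF, ?_, ?_⟩
  · choose τ hτ using fun x : CPt X m C => hcov x.1.1 x.2
    refine Finite.of_injective τ (fun x x' h => ?_)
    have h1 := key x.1.1 x.2 x.1.2 (τ x) (hτ x)
    have h2 := key x'.1.1 x'.2 x'.1.2 (τ x') (hτ x')
    exact Subtype.ext (Subtype.ext (by rw [h1, h2, h]))
  · intro p hp
    show p ∈ (B₁ ∪ B₂)ᶜ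
    exact fun h => hp (hBC h)
  · intro p hpY hpC
    obtain ⟨t, hpt⟩ := hcov p hpC
    have hgm : codim X.scheme (g t) = m := by
      by_contra hne
      refine hpY (Or.inl ?_)
      simp only [B₁, Set.mem_iUnion]
      exact ⟨⟨t, hne⟩, hpt⟩
    refine ⟨⟨⟨g t, hgm⟩, htC t (hgt t)⟩, ?_, ?_⟩
    · show p ∈ closure ({g t} : Set X.scheme)
      rw [hcl t]; exact hpt
    · intro x' hx'
      obtain ⟨t', hxt'⟩ := hcov x'.1.1 x'.2
      have h1 := key x'.1.1 x'.2 x'.1.2 t' hxt'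
      have hpt' : p ∈ t'.1 := by
        rw [← hcl t', ← h1]; exact hx'
      have htt' : t' = t := by
        by_contra hne
        refine hpY (Or.inr ?_)
        simp only [B₂, Set.mem_iUnion]
        exact ⟨⟨(t', t), hne⟩, hpt', hpt⟩
      exact Subtype.ext (Subtype.ext (by rw [h1, htt']))

/-- the lift of a morphism from a reduced scheme through a closed immersion of a reduced scheme -/
def liftRed {W Z S : Scheme.{u}} [IsReduced W] [IsReduced Z] (f : Z ⟶ S) [IsClosedImmersion f]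
    (g : W ⟶ S) (h : Set.range g ⊆ Set.range f) : W ⟶ Z :=
  IsClosedImmersion.lift f g (by
    rw [Groth.Agent.Lib.Helper16.ker_eq_vanishingIdeal_of_isReduced f,
      Groth.Agent.Lib.Helper16.ker_eq_vanishingIdeal_of_isReduced g]
    exact Scheme.IdealSheafData.vanishingIdeal_antimono
      (show (⟨closure (Set.range g), isClosed_closure⟩ : Closeds S) ≤
        ⟨closure (Set.range f), isClosed_closure⟩ from closure_mono h))

theorem liftRed_fac {W Z S : Scheme.{u}} [IsReduced W] [IsReduced Z] (f : Z ⟶ S)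
    [IsClosedImmersion f] (g : W ⟶ S) (h : Set.range g ⊆ Set.range f) : liftRed f g h ≫ f = g :=
  IsClosedImmersion.lift_fac _ _ _

/-- `Y` is in good position with respect to the closed set `C` (at codimension `m`) -/
structure Good (X : Obj V) (m : ℕ) (C : Set X.scheme) (Y : X.scheme.Opens) : Prop where
  closed : IsClosed C
  codim_ge : ∀ p ∈ C, m ≤ codim X.scheme p
  fj : ContainsFj X m Y
  uniq : ∀ p ∈ Y, p ∈ C → ∃! x : CPt X m C, p ∈ closure ({x.1.1} : Set X.scheme)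

theorem Good.mono {X : Obj V} {m : ℕ} {C : Set X.scheme} {Y Y' : X.scheme.Opens}
    (hG : Good X m C Y) (hle : Y' ≤ Y) (hF : ContainsFj X m Y') : Good X m C Y' :=
  ⟨hG.closed, hG.codim_ge, hF, fun p hp hpC => hG.uniq p (hle hp) hpC⟩

section Cover

variable {X : Obj V} {m : ℕ} {C : Set X.scheme} {Y : X.scheme.Opens} (hG : Good X m C Y)

include hG

theorem Good.mem (x : CPt X m C) : x.1.1 ∈ Y := hG.fj _ x.1.2.le

theorem Good.dim_eq : dim (Y : Scheme.{u}) = dim X.scheme :=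
  dim_opens_eq_of_containsFj X m Y hG.fj

/-- the piece of the closure of `x` in `Y` -/
abbrev Good.W (x : CPt X m C) : ptIdx X x.1.1 := ptW X x.1.1 Y (hG.mem x)

theorem Good.dim_piece (x : CPt X m C) :
    dim ((X.ptSub x.1.1).res (hG.W x).1).scheme + m = dim X.scheme := by
  have h1 : dim ((X.ptSub x.1.1).res (hG.W x).1).scheme = pdim X.scheme x.1.1 := by
    rw [← dim_ptSub]; exact (hG.W x).2.2
  have h2 := pdim_le_dim X x.1.1
  have h3 : codim X.scheme x.1.1 = m := x.1.2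
  unfold codim at h3
  omega

variable (Z : Obj V) [IsReduced Z.scheme] (ιZ : Z.scheme ⟶ (X.res Y).scheme)
  [IsClosedImmersion ιZ] (hr : Set.range ιZ = {q : Y | q.1 ∈ C})

include hr in
theorem Good.range_sub (x : CPt X m C) :
    Set.range (ptClosedImm X x.1.1 (hG.W x).1 Y rfl) ⊆ Set.range ιZ := by
  rw [range_ptClosedImm, hr]
  intro q hq
  exact closure_minimal (Set.singleton_subset_iff.mpr x.2) hG.closed hq

/-- the inclusion of the piece into `Z`, as a morphism of schemes -/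
def Good.e₀ (x : CPt X m C) : ((X.ptSub x.1.1).res (hG.W x).1).scheme ⟶ Z.scheme :=
  liftRed ιZ (ptClosedImm X x.1.1 (hG.W x).1 Y rfl) (hG.range_sub Z ιZ hr x)

theorem Good.e₀_fac (x : CPt X m C) :
    hG.e₀ Z ιZ hr x ≫ ιZ = ptClosedImm X x.1.1 (hG.W x).1 Y rfl := liftRed_fac _ _ _

instance Good.isClosedImmersion_e₀ (x : CPt X m C) : IsClosedImmersion (hG.e₀ Z ιZ hr x) := by
  haveI : IsClosedImmersion (hG.e₀ Z ιZ hr x ≫ ιZ) := by rw [hG.e₀_fac]; infer_instance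
  exact IsClosedImmersion.of_comp _ ιZ

theorem Good.mem_range_e₀ (x : CPt X m C) (z : Z.scheme) :
    z ∈ Set.range (hG.e₀ Z ιZ hr x) ↔ (ιZ z).1 ∈ closure ({x.1.1} : Set X.scheme) := by
  have hfac := hG.e₀_fac Z ιZ hr x
  constructor
  · rintro ⟨w, rfl⟩
    have h1 : ιZ (hG.e₀ Z ιZ hr x w) = ptClosedImm X x.1.1 (hG.W x).1 Y rfl w := by
      rw [← hfac]; rfl
    rw [h1]
    have h2 : ptClosedImm X x.1.1 (hG.W x).1 Y rfl w ∈
        Set.range (ptClosedImm X x.1.1 (hG.W x).1 Y rfl) := ⟨w, rfl⟩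
    rw [range_ptClosedImm] at h2
    exact h2
  · intro hz
    have h2 : ιZ z ∈ Set.range (ptClosedImm X x.1.1 (hG.W x).1 Y rfl) := by
      rw [range_ptClosedImm]; exact hz
    obtain ⟨w, hw⟩ := h2
    refine ⟨w, ιZ.isClosedEmbedding.injective ?_⟩
    rw [← hw, ← hfac]; rfl

include hr in
theorem Good.mem_C (z : Z.scheme) : (ιZ z).1 ∈ C := by
  have : ιZ z ∈ Set.range ιZ := ⟨z, rfl⟩
  rw [hr] at this
  exact this

theorem Good.isOpen_range_e₀ [Finite (CPt X m C)] (x : CPt X m C) :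
    IsOpen (Set.range (hG.e₀ Z ιZ hr x)) := by
  have heq : Set.range (hG.e₀ Z ιZ hr x) =
      (⋃ x' : {x' : CPt X m C // x' ≠ x}, Set.range (hG.e₀ Z ιZ hr x'.1))ᶜ := by
    ext z
    simp only [Set.mem_compl_iff, Set.mem_iUnion, not_exists]
    constructor
    · intro hz x' hz'
      rw [hG.mem_range_e₀] at hz hz'
      obtain ⟨x₀, -, hu⟩ := hG.uniq (ιZ z).1 (ιZ z).2 (hG.mem_C Z ιZ hr z)
      exact x'.2 ((hu x'.1 hz').trans (hu x hz).symm)
    · intro hz
      obtain ⟨x₀, hx₀, -⟩ := hG.uniq (ιZ z).1 (ιZ z).2 (hG.mem_C Z ιZ hr z)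
      by_cases h : x₀ = x
      · rw [hG.mem_range_e₀, ← h]; exact hx₀
      · exact absurd ((hG.mem_range_e₀ Z ιZ hr x₀ z).mpr hx₀) (hz ⟨x₀, h⟩)
  rw [heq]
  refine (isClosed_iUnion_of_finite (fun x' => ?_)).isOpen_compl
  have hci := hG.isClosedImmersion_e₀ Z ιZ hr x'.1
  exact (Scheme.Hom.isClosedEmbedding (hG.e₀ Z ιZ hr x'.1)).isClosed_range

include hr in
theorem Good.dim_Z (x : CPt X m C) :
    dim ((X.ptSub x.1.1).res (hG.W x).1).scheme = dim Z.scheme := by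
  refine le_antisymm (dim_le_of_isClosedImmersion Z (hG.e₀ Z ιZ hr x)) ?_
  obtain ⟨x', hx'⟩ := exists_ptSub_point X x.1.1
  haveI : Nonempty Z.scheme := by
    have hw : (hG.W x).1.1.Nonempty := (hG.W x).2.1
    obtain ⟨w, hw⟩ := hw
    exact ⟨hG.e₀ Z ιZ hr x ⟨w, hw⟩⟩
  have h1 := dim_add_le_of_codim_le (X := X.res Y) (Z := Z) ιZ m (fun z => by
    rw [codim_eq_of_isOpenImmersion X (X.resι Y hG.dim_eq) (ιZ z)]
    exact hG.codim_ge _ (hG.mem_C Z ιZ hr z))
  have h2 := hG.dim_piece x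
  have h3 : dim (X.res Y).scheme = dim X.scheme := hG.dim_eq
  omega

/-- the inclusion of the piece into `Z`, as a morphism of objects -/
def Good.e [Finite (CPt X m C)] (x : CPt X m C) : (X.ptSub x.1.1).res (hG.W x).1 ⟶ Z :=
  ⟨hG.e₀ Z ιZ hr x, isOpenImmersion_of_isClosedImmersion_of_isOpen_range _
    (hG.isOpen_range_e₀ Z ιZ hr x), hG.dim_Z Z ιZ hr x⟩

/-- the clopen cover of `Z` by the pieces -/
def Good.cover [Finite (CPt X m C)] : ClopenCover Z (CPt X m C) where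
  obj x := (X.ptSub x.1.1).res (hG.W x).1
  e x := hG.e Z ιZ hr x
  closed x := hG.isClosedImmersion_e₀ Z ιZ hr x
  disj x x' hne p hp hp' := by
    have h1 : p ∈ Set.range (hG.e₀ Z ιZ hr x) := hp
    have h2 : p ∈ Set.range (hG.e₀ Z ιZ hr x') := hp'
    rw [hG.mem_range_e₀] at h1 h2
    obtain ⟨x₀, -, hu⟩ := hG.uniq (ιZ p).1 (ιZ p).2 (hG.mem_C Z ιZ hr p)
    exact hne ((hu x h1).trans (hu x' h2).symm)
  cov p := by
    obtain ⟨x₀, hx₀, -⟩ := hG.uniq (ιZ p).1 (ιZ p).2 (hG.mem_C Z ιZ hr p)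
    exact ⟨x₀, (hG.mem_range_e₀ Z ιZ hr x₀ p).mpr hx₀⟩

include hr in
theorem Good.relCodim_Z (x : CPt X m C) : relCodim Z.scheme (X.res Y).scheme = (m : ℤ) := by
  unfold relCodim
  have h1 := hG.dim_Z Z ιZ hr x
  have h2 := hG.dim_piece x
  have h3 : dim (X.res Y).scheme = dim X.scheme := hG.dim_eq
  omega

end Cover

section Sums

open DirectSum

theorem directSum_eq_sum {I : Type u} {G : I → Type u} [∀ i, AddCommGroup (G i)]
    [∀ i, Module R (G i)] [DecidableEq I] {J : Type u} [Fintype J] (f : J → I)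
    (hf : Function.Injective f) (ξ : ⨁ i, G i) (h : ∀ i, ξ i ≠ 0 → i ∈ Set.range f) :
    ξ = ∑ k : J, DirectSum.lof R I G (f k) (ξ (f k)) := by
  refine DFinsupp.ext (fun i => ?_)
  rw [DFinsupp.finset_sum_apply]
  by_cases hi : i ∈ Set.range f
  · obtain ⟨k₀, rfl⟩ := hi
    rw [Finset.sum_eq_single k₀]
    · exact (DirectSum.of_eq_same (f k₀) (ξ (f k₀))).symm
    · intro k _ hk
      exact DirectSum.of_eq_of_ne _ _ _ (fun h => hk (hf h.symm))
    · intro h
      exact absurd (Finset.mem_univ _) h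
  · rw [Finset.sum_eq_zero]
    · by_contra h0
      exact hi (h i h0)
    · intro k _
      exact DirectSum.of_eq_of_ne _ _ _ (fun h => hi ⟨k, h.symm⟩)

variable (T : PreTheory V R A) (X : Obj V) (m : ℕ) (C : Set X.scheme) (M : A.Cat) (i n i' n' : ℤ)

/-- the piece of the closure of `x` in an open `Y ⊇ F_m X` -/
abbrev pcW (Y : X.scheme.Opens) (hYF : ContainsFj X m Y) (x : CPt X m C) : ptIdx X x.1.1 :=
  ptW X x.1.1 Y (hYF _ x.1.2.le)

/-- push-forward from the piece of `x` into `Y` -/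
def pcPush (hi : i' = i + 2 * (m : ℤ)) (hn : n' = n + (m : ℤ)) (Y : X.scheme.Opens)
    (hYF : ContainsFj X m Y) (x : CPt X m C) :
    T.gp ((X.ptSub x.1.1).res (pcW X m C Y hYF x).1) M i n ⟶ T.gp (X.res Y) M i' n' :=
  T.push (ptClosedImm X x.1.1 (pcW X m C Y hYF x).1 Y rfl) M i n i' n'
    (by rw [relCodim_ptW X m x.1.1 x.1.2 Y hYF _]; exact hi)
    (by rw [relCodim_ptW X m x.1.1 x.1.2 Y hYF _]; exact hn)

theorem exists_common_rep [Finite (CPt X m C)] (Y₀ : X.scheme.Opens) (hY₀ : ContainsFj X m Y₀)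
    (a : ∀ x : CPt X m C, T.ptGp X x.1.1 M i n) :
    ∃ (Y : X.scheme.Opens) (hYF : ContainsFj X m Y), Y ≤ Y₀ ∧
      ∃ b : ∀ x : CPt X m C, T.gp ((X.ptSub x.1.1).res (pcW X m C Y hYF x).1) M i n,
        ∀ x : CPt X m C, (oι T (X.ptSub x.1.1) (fun U => (U : Set (X.ptSub x.1.1).scheme).Nonempty) i n M (pcW X m C Y hYF x)).hom (b x) = a x := by
  choose W₁ b₁ h₁ using fun x : CPt X m C => exists_rep T (X.ptSub x.1.1) (fun U => (U : Set (X.ptSub x.1.1).scheme).Nonempty) i n M (a x)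
  let Y : X.scheme.Opens := ⟨(Y₀ : Set X.scheme) ∩ ⋂ x : CPt X m C,
    (ptCompl X x.1.1 (W₁ x).1 : Set X.scheme),
    Y₀.isOpen.inter (isOpen_iInter_of_finite (fun x => (ptCompl X x.1.1 (W₁ x).1).isOpen))⟩
  have hYF : ContainsFj X m Y := by
    intro p hp
    refine ⟨hY₀ p hp, ?_⟩
    rw [Set.mem_iInter]
    intro x
    exact containsFj_ptCompl X x.1.1 (W₁ x).1 (W₁ x).2.1 m x.1.2.ge p hp
  have hle : ∀ x : CPt X m C, pcW X m C Y hYF x ≤ W₁ x := by
    intro x w hw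
    have h2 : (X.ptSubι x.1.1) w ∈ (Y : Set X.scheme) := hw
    have h3 := Set.mem_iInter.mp h2.2 x
    exact (mem_ptCompl_iff X x.1.1 (W₁ x).1 w).mp h3
  refine ⟨Y, hYF, fun p hp => hp.1, fun x => (tr T (X.ptSub x.1.1) (fun U => (U : Set (X.ptSub x.1.1).scheme).Nonempty) i n M (hle x)).hom (b₁ x), ?_⟩
  intro x
  rw [tr_oι_apply, h₁]

variable (hi : i' = i + 2 * (m : ℤ)) (hn : n' = n + (m : ℤ))

theorem tot_sum_lof [Fintype (CPt X m C)] [DecidableEq (X.cdPt m)] (P : T.PushData X m)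
    (Y : X.scheme.Opens) (hYF : ContainsFj X m Y)
    (b : ∀ x : CPt X m C, T.gp ((X.ptSub x.1.1).res (pcW X m C Y hYF x).1) M i n) :
    (P.tot M i n i' n' hi hn).hom (∑ x : CPt X m C, DirectSum.lof R (X.cdPt m)
        (fun y : X.cdPt m => T.ptGp X y.1 M i n) x.1
        ((oι T (X.ptSub x.1.1) (fun U => (U : Set (X.ptSub x.1.1).scheme).Nonempty) i n M (pcW X m C Y hYF x)).hom (b x))) =
    (oι T X (ContainsFj X m) i' n' M (fjIdx X m Y hYF)).hom
      (∑ x : CPt X m C, (pcPush T X m C M i n i' n' hi hn Y hYF x).hom (b x)) := by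
  rw [map_sum, map_sum]
  refine Finset.sum_congr rfl (fun x _ => ?_)
  rw [PreTheory.PushData.tot_lof]
  exact cpt_oι_ptIdx T X m x.1.1 x.1.2 M i n i' n' hi hn P Y hYF (pcW X m C Y hYF x) rfl (b x)

theorem tr_sum_pcPush [Fintype (CPt X m C)] {Y₂ Y : X.scheme.Opens} (hle : Y₂ ≤ Y)
    (hY₂F : ContainsFj X m Y₂) (hYF : ContainsFj X m Y)
    (b : ∀ x : CPt X m C, T.gp ((X.ptSub x.1.1).res (pcW X m C Y hYF x).1) M i n) :
    (tr T X (ContainsFj X m) i' n' M (show fjIdx X m Y₂ hY₂F ≤ fjIdx X m Y hYF from hle)).hom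
      (∑ x : CPt X m C, (pcPush T X m C M i n i' n' hi hn Y hYF x).hom (b x)) =
    ∑ x : CPt X m C, (pcPush T X m C M i n i' n' hi hn Y₂ hY₂F x).hom
      ((tr T (X.ptSub x.1.1) (fun U => (U : Set (X.ptSub x.1.1).scheme).Nonempty) i n M (ptW_mono X x.1.1 hle (hY₂F _ x.1.2.le))).hom (b x)) := by
  rw [map_sum]
  refine Finset.sum_congr rfl (fun x _ => ?_)
  exact pull_push_ptClosedImm T X x.1.1 M i n i' n' hle
    ((fjIdx X m Y₂ hY₂F).2.2.trans (fjIdx X m Y hYF).2.2.symm) (pcW X m C Y₂ hY₂F x)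
    (pcW X m C Y hYF x) rfl rfl (ptW_mono X x.1.1 hle (hY₂F _ x.1.2.le)) _ _ _ _ (b x)

end Sums

section Compat

theorem push_congr (T : PreTheory V R A) {X Y : Obj V} {f g : X.scheme ⟶ Y.scheme} [IsProper f]
    [IsProper g] (h : f = g) (M : A.Cat) (i n i' n' : ℤ)
    (hi : i' = i + 2 * relCodim X.scheme Y.scheme) (hn : n' = n + relCodim X.scheme Y.scheme) :
    T.push f M i n i' n' hi hn = T.push g M i n i' n' hi hn := by
  subst h; rfl

theorem _root_.Groth.Agent.Lib.Lead.BMAdd.ClopenCover.pull_sum_psh {Z : Obj V} {ι : Type u}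
    [Fintype ι] [DecidableEq ι] (c : ClopenCover Z ι) (T : PreTheory V R A) (M : A.Cat) (i n : ℤ)
    (b : ∀ k, T.gp (c.obj k) M i n) (l : ι) :
    (T.pull (c.e l) M i n).hom (∑ k, (c.psh T M i n k).hom (b k)) = b l := by
  rw [map_sum, Finset.sum_eq_single l, c.pull_psh_self]
  · intro k _ hkl
    exact c.pull_psh_ne T M i n k l hkl _
  · intro h
    exact absurd (Finset.mem_univ l) h

variable {X : Obj V} {m : ℕ} {C : Set X.scheme} {Y : X.scheme.Opens} (hG : Good X m C Y)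
  (Z : Obj V) [IsReduced Z.scheme] (ιZ : Z.scheme ⟶ (X.res Y).scheme)
  [IsClosedImmersion ιZ] (hr : Set.range ιZ = {q : Y | q.1 ∈ C})
  (T : PreTheory V R A) (M : A.Cat) (i n i' n' : ℤ)
  (hi : i' = i + 2 * (m : ℤ)) (hn : n' = n + (m : ℤ))

theorem Good.push_psh [Finite (CPt X m C)]
    (hiZ : i' = i + 2 * relCodim Z.scheme (X.res Y).scheme)
    (hnZ : n' = n + relCodim Z.scheme (X.res Y).scheme) (x : CPt X m C)
    (z : T.gp ((X.ptSub x.1.1).res (hG.W x).1) M i n) :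
    (T.push ιZ M i n i' n' hiZ hnZ).hom (((hG.cover Z ιZ hr).psh T M i n x).hom z) =
      (pcPush T X m C M i n i' n' hi hn Y hG.fj x).hom z := by
  have hrc : relCodim ((X.ptSub x.1.1).res (hG.W x).1).scheme Z.scheme = 0 :=
    (hG.cover Z ιZ hr).relCodim_eq x
  have hrc' := relCodim_ptW X m x.1.1 x.1.2 Y hG.fj (hG.W x)
  have hc := T.push_comp (X := (X.ptSub x.1.1).res (hG.W x).1) (Y := Z) (Z := X.res Y)
    (hG.e₀ Z ιZ hr x) ιZ M i n i n i' n' (by rw [hrc]; ring) (by rw [hrc]; ring) hiZ hnZ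
    (by rw [hrc']; exact hi) (by rw [hrc']; exact hn)
  have h1 := congrArg (fun f => f.hom z) hc
  refine h1.trans ?_
  exact congrArg (fun f => f.hom z) (push_congr T (hG.e₀_fac Z ιZ hr x) M i n i' n' _ _)

end Compat

section Res

variable {X : Obj V} {j : ℕ} {C : Set X.scheme} {Y : X.scheme.Opens} (hG : Good X (j + 1) C Y)

include hG

/-- `Y ∩ C` as a closed subset of `Y` -/
def Good.CY : Closeds (X.res Y).scheme :=
  ⟨{q : Y | q.1 ∈ C}, hG.closed.preimage continuous_subtype_val⟩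

/-- `Y ∩ C` with its reduced structure -/
abbrev Good.Z : Obj V := redSub (X.res Y) hG.CY

abbrev Good.ιZ : hG.Z.scheme ⟶ (X.res Y).scheme := redSubι (X.res Y) hG.CY

theorem Good.hr : Set.range hG.ιZ = {q : Y | q.1 ∈ C} := range_redSubι _ _

/-- `Y ∖ C` -/
def Good.U : X.scheme.Opens := ⟨(Y : Set X.scheme) ∩ Cᶜ, Y.isOpen.inter hG.closed.isOpen_compl⟩

theorem Good.containsFj_U : ContainsFj X j hG.U := by
  intro p hp
  refine ⟨hG.fj p (by omega), fun hpC => ?_⟩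
  have := hG.codim_ge p hpC
  omega

def Good.UIdx : Idx X (ContainsFj X j) :=
  ⟨hG.U, hG.containsFj_U, dim_opens_eq_of_containsFj X j _ hG.containsFj_U⟩

theorem Good.U_le : hG.U ≤ Y := fun _ hp => hp.1

/-- the decomposition `Y = (Y ∩ C) ⊔ (Y ∖ C)` -/
def Good.decomp : Decomp (X.res Y) where
  Z := hG.Z
  U := X.res hG.U
  i := hG.ιZ
  closedImm := inferInstance
  j := X.resLE hG.U_le (hG.UIdx.2.2.trans hG.dim_eq.symm)
  range_eq := by
    show Set.range (X.scheme.homOfLE hG.U_le) = _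
    rw [range_homOfLE, hG.hr]
    ext q
    constructor
    · intro hq; exact hq.2
    · intro hq; exact ⟨q.2, hq⟩

variable (T : PreTheory V R A) (M : A.Cat) (i n i' n' : ℤ)
  (hi : i' = i + 1 - 2 * ((j : ℤ) + 1)) (hn : n' = n - ((j : ℤ) + 1))

theorem Good.decomp_codim (x : CPt X (j + 1) C) : hG.decomp.codim = (j : ℤ) + 1 := by
  have := hG.relCodim_Z hG.Z hG.ιZ hG.hr x
  show relCodim hG.Z.scheme (X.res Y).scheme = _
  rw [this]; push_cast; ring

theorem Good.cpt_oι [Finite (CPt X (j + 1) C)] (Q : T.ResData X j) (x : CPt X (j + 1) C)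
    (hiD : i' = i + 1 - 2 * hG.decomp.codim) (hnD : n' = n - hG.decomp.codim)
    (a : T.gp (X.res hG.U) M i n) :
    (Q.cpt x.1 M i n i' n' hi hn).hom ((oι T X (ContainsFj X j) i n M hG.UIdx).hom a) =
      (oι T (X.ptSub x.1.1) (fun U => (U : Set (X.ptSub x.1.1).scheme).Nonempty) i' n' M
        (hG.W x)).hom ((T.pull (hG.e hG.Z hG.ιZ hG.hr x) M i' n').hom
          ((T.res hG.decomp M i n i' n' hiD hnD).hom a)) := by
  have hYd := hG.dim_eq
  have hg : (hG.e hG.Z hG.ιZ hG.hr x).hom ≫ hG.decomp.i ≫ (X.resι Y hYd).hom =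
      (hG.W x).1.ι ≫ X.ptSubι x.1.1 := by
    show hG.e₀ hG.Z hG.ιZ hG.hr x ≫ hG.ιZ ≫ Y.ι = _
    rw [← Category.assoc, hG.e₀_fac, ptClosedImm_ι]
  have hh : (𝟙 (X.res hG.UIdx.1) : X.res hG.UIdx.1 ⟶ hG.decomp.U).hom ≫ hG.decomp.j.hom ≫
      (X.resι Y hYd).hom = hG.UIdx.1.ι := by
    show 𝟙 _ ≫ X.scheme.homOfLE hG.U_le ≫ Y.ι = _
    rw [Category.id_comp, Scheme.homOfLE_ι]
    rfl
  have e1 := Q.cpt_spec x.1 M i n i' n' hi hn (X.resι Y hYd) hG.decomp (hG.W x)
    (hG.e hG.Z hG.ιZ hG.hr x) hg hG.UIdx (𝟙 _) hh hiD hnD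
  have e3 : (Q.cpt x.1 M i n i' n' hi hn).hom ((oι T X (ContainsFj X j) i n M hG.UIdx).hom
      ((T.pull (𝟙 (X.res hG.UIdx.1)) M i n).hom a)) =
      (oι T (X.ptSub x.1.1) (fun U => (U : Set (X.ptSub x.1.1).scheme).Nonempty) i' n' M
        (hG.W x)).hom ((T.pull (hG.e hG.Z hG.ιZ hG.hr x) M i' n').hom
          ((T.res hG.decomp M i n i' n' hiD hnD).hom a)) :=
    congrArg (fun f => f.hom a) e1
  rw [pull_id_apply] at e3
  exact e3

end Res

end Groth.Agent.Lib.Lead.BMGood
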