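import Mathlib
import Groth.Prelude.Def_BMCoh4
import Groth.Agent.Lib.Lead.BMGood

/-!
# Good position without the `F_m`-containment requirement (lead)

A variant of `BMGood.Good` in which the open `Y` is only required to contain the points of
codimension `m` of `C` and to have the dimension of `X`.
-/

set_option autoImplicit false
universe u
open AlgebraicGeometry CategoryTheory CategoryTheory.Limits Opposite TopologicalSpace

noncomputable section

namespace Groth.Agent.Lib.Lead.BMGoodAt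
open WeilCoh BMCoh Groth.Agent.Lib.Lead.BMDim Groth.Agent.Lib.Lead.BMColim
  Groth.Agent.Lib.Lead.BMFormal Groth.Agent.Lib.Lead.BMPt Groth.Agent.Lib.Lead.BMSeq
  Groth.Agent.Lib.Lead.BMSeq2 Groth.Agent.Lib.Lead.BMSeq3 Groth.Agent.Lib.Lead.BMAdd
  Groth.Agent.Lib.Lead.BMPtPush Groth.Agent.Lib.Lead.BMGood

variable {V : ObjectProperty Scheme.{u}} [IsConstructible V] {R : Type u} [CommRing R]
  {A : Coefs R}

/-- `Y` is in good position with respect to the closed set `C` (at codimension `m`), without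
asking that `Y` contain all points of codimension at most `m` -/
structure GoodAt (X : Obj V) (m : ℕ) (C : Set X.scheme) (Y : X.scheme.Opens) : Prop where
  closed : IsClosed C
  codim_ge : ∀ p ∈ C, m ≤ codim X.scheme p
  mem : ∀ x : CPt X m C, x.1.1 ∈ Y
  dim_eq : dim (Y : Scheme.{u}) = dim X.scheme
  uniq : ∀ p ∈ Y, p ∈ C → ∃! x : CPt X m C, p ∈ closure ({x.1.1} : Set X.scheme)

theorem _root_.Groth.Agent.Lib.Lead.BMGood.Good.goodAt {X : Obj V} {m : ℕ} {C : Set X.scheme}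
    {Y : X.scheme.Opens} (hG : Good X m C Y) : GoodAt X m C Y :=
  ⟨hG.closed, hG.codim_ge, hG.mem, hG.dim_eq, hG.uniq⟩

section Cover

variable {X : Obj V} {m : ℕ} {C : Set X.scheme} {Y : X.scheme.Opens} (hG : GoodAt X m C Y)

include hG

/-- the piece of the closure of `x` in `Y` -/
abbrev GoodAt.W (x : CPt X m C) : ptIdx X x.1.1 := ptW X x.1.1 Y (hG.mem x)

theorem GoodAt.dim_piece (x : CPt X m C) :
    dim ((X.ptSub x.1.1).res (hG.W x).1).scheme + m = dim X.scheme := by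
  have h1 : dim ((X.ptSub x.1.1).res (hG.W x).1).scheme = pdim X.scheme x.1.1 := by
    rw [← dim_ptSub]; exact (hG.W x).2.2
  have h2 := pdim_le_dim X x.1.1
  have h3 : codim X.scheme x.1.1 = m := x.1.2
  unfold codim at h3
  omega

variable (Z : Obj V) [IsReduced Z.scheme] (ιZ : Z.scheme ⟶ (X.res Y).scheme)
  [IsClosedImmersion ιZ] (hr : Set.range ιZ = {q : Y | q.1 ∈ C})

include hr in
theorem GoodAt.range_sub (x : CPt X m C) :
    Set.range (ptClosedImm X x.1.1 (hG.W x).1 Y rfl) ⊆ Set.range ιZ := by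
  rw [range_ptClosedImm, hr]
  intro q hq
  exact closure_minimal (Set.singleton_subset_iff.mpr x.2) hG.closed hq

/-- the inclusion of the piece into `Z`, as a morphism of schemes -/
def GoodAt.e₀ (x : CPt X m C) : ((X.ptSub x.1.1).res (hG.W x).1).scheme ⟶ Z.scheme :=
  liftRed ιZ (ptClosedImm X x.1.1 (hG.W x).1 Y rfl) (hG.range_sub Z ιZ hr x)

theorem GoodAt.e₀_fac (x : CPt X m C) :
    hG.e₀ Z ιZ hr x ≫ ιZ = ptClosedImm X x.1.1 (hG.W x).1 Y rfl := liftRed_fac _ _ _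

instance GoodAt.isClosedImmersion_e₀ (x : CPt X m C) : IsClosedImmersion (hG.e₀ Z ιZ hr x) := by
  haveI : IsClosedImmersion (hG.e₀ Z ιZ hr x ≫ ιZ) := by rw [hG.e₀_fac]; infer_instance
  exact IsClosedImmersion.of_comp _ ιZ

theorem GoodAt.mem_range_e₀ (x : CPt X m C) (z : Z.scheme) :
    z ∈ Set.range (hG.e₀ Z ιZ hr x) ↔ (ιZ z).1 ∈ closure ({x.1.1} : Set X.scheme) := by
  have hfac := hG.e₀_fac Z ιZ hr x
  constructor
  · rintro ⟨w, rfl⟩
    have h1 : ιZ (hG.e₀ Z ιZ hr x w) = ptClosedImm X x.1.1 (hG.W x).1 Y rfl w := by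
      rw [← hfac]; rfl
    rw [h1]
    have h2 : ptClosedImm X x.1.1 (hG.W x).1 Y rfl w ∈
        Set.range (ptClosedImm X x.1.1 (hG.W x).1 Y rfl) := ⟨w, rfl⟩
    rw [range_ptClosedImm] at h2
    exact h2
  · intro hz
    have h2 : ιZ z ∈ Set.range (ptClosedImm X x.1.1 (hG.W x).1 Y rfl) := by
      rw [range_ptClosedImm]; exact hz
    obtain ⟨w, hw⟩ := h2
    refine ⟨w, ιZ.isClosedEmbedding.injective ?_⟩
    rw [← hw, ← hfac]; rfl

include hr in
theorem GoodAt.mem_C (z : Z.scheme) : (ιZ z).1 ∈ C := by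
  have : ιZ z ∈ Set.range ιZ := ⟨z, rfl⟩
  rw [hr] at this
  exact this

theorem GoodAt.isOpen_range_e₀ [Finite (CPt X m C)] (x : CPt X m C) :
    IsOpen (Set.range (hG.e₀ Z ιZ hr x)) := by
  have heq : Set.range (hG.e₀ Z ιZ hr x) =
      (⋃ x' : {x' : CPt X m C // x' ≠ x}, Set.range (hG.e₀ Z ιZ hr x'.1))ᶜ := by
    ext z
    simp only [Set.mem_compl_iff, Set.mem_iUnion, not_exists]
    constructor
    · intro hz x' hz'
      rw [hG.mem_range_e₀] at hz hz'
      obtain ⟨x₀, -, hu⟩ := hG.uniq (ιZ z).1 (ιZ z).2 (hG.mem_C Z ιZ hr z)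
      exact x'.2 ((hu x'.1 hz').trans (hu x hz).symm)
    · intro hz
      obtain ⟨x₀, hx₀, -⟩ := hG.uniq (ιZ z).1 (ιZ z).2 (hG.mem_C Z ιZ hr z)
      by_cases h : x₀ = x
      · rw [hG.mem_range_e₀, ← h]; exact hx₀
      · exact absurd ((hG.mem_range_e₀ Z ιZ hr x₀ z).mpr hx₀) (hz ⟨x₀, h⟩)
  rw [heq]
  refine (isClosed_iUnion_of_finite (fun x' => ?_)).isOpen_compl
  have hci := hG.isClosedImmersion_e₀ Z ιZ hr x'.1
  exact (Scheme.Hom.isClosedEmbedding (hG.e₀ Z ιZ hr x'.1)).isClosed_range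

include hr in
theorem GoodAt.dim_Z (x : CPt X m C) :
    dim ((X.ptSub x.1.1).res (hG.W x).1).scheme = dim Z.scheme := by
  refine le_antisymm (dim_le_of_isClosedImmersion Z (hG.e₀ Z ιZ hr x)) ?_
  obtain ⟨x', hx'⟩ := exists_ptSub_point X x.1.1
  haveI : Nonempty Z.scheme := by
    have hw : (hG.W x).1.1.Nonempty := (hG.W x).2.1
    obtain ⟨w, hw⟩ := hw
    exact ⟨hG.e₀ Z ιZ hr x ⟨w, hw⟩⟩
  have h1 := dim_add_le_of_codim_le (X := X.res Y) (Z := Z) ιZ m (fun z => by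
    rw [codim_eq_of_isOpenImmersion X (X.resι Y hG.dim_eq) (ιZ z)]
    exact hG.codim_ge _ (hG.mem_C Z ιZ hr z))
  have h2 := hG.dim_piece x
  have h3 : dim (X.res Y).scheme = dim X.scheme := hG.dim_eq
  omega

/-- the inclusion of the piece into `Z`, as a morphism of objects -/
def GoodAt.e [Finite (CPt X m C)] (x : CPt X m C) : (X.ptSub x.1.1).res (hG.W x).1 ⟶ Z :=
  ⟨hG.e₀ Z ιZ hr x, isOpenImmersion_of_isClosedImmersion_of_isOpen_range _
    (hG.isOpen_range_e₀ Z ιZ hr x), hG.dim_Z Z ιZ hr x⟩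

/-- the clopen cover of `Z` by the pieces -/
def GoodAt.cover [Finite (CPt X m C)] : ClopenCover Z (CPt X m C) where
  obj x := (X.ptSub x.1.1).res (hG.W x).1
  e x := hG.e Z ιZ hr x
  closed x := hG.isClosedImmersion_e₀ Z ιZ hr x
  disj x x' hne p hp hp' := by
    have h1 : p ∈ Set.range (hG.e₀ Z ιZ hr x) := hp
    have h2 : p ∈ Set.range (hG.e₀ Z ιZ hr x') := hp'
    rw [hG.mem_range_e₀] at h1 h2
    obtain ⟨x₀, -, hu⟩ := hG.uniq (ιZ p).1 (ιZ p).2 (hG.mem_C Z ιZ hr p)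
    exact hne ((hu x h1).trans (hu x' h2).symm)
  cov p := by
    obtain ⟨x₀, hx₀, -⟩ := hG.uniq (ιZ p).1 (ιZ p).2 (hG.mem_C Z ιZ hr p)
    exact ⟨x₀, (hG.mem_range_e₀ Z ιZ hr x₀ p).mpr hx₀⟩

include hr in
theorem GoodAt.relCodim_Z (x : CPt X m C) : relCodim Z.scheme (X.res Y).scheme = (m : ℤ) := by
  unfold relCodim
  have h1 := hG.dim_Z Z ιZ hr x
  have h2 := hG.dim_piece x
  have h3 : dim (X.res Y).scheme = dim X.scheme := hG.dim_eq
  omega

end Cover

section Compat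

/-- push-forward from a piece of a clopen cover, followed by a proper push-forward -/
theorem _root_.Groth.Agent.Lib.Lead.BMAdd.ClopenCover.push_psh_comp {Z S : Obj V} {ι : Type u}
    (c : ClopenCover Z ι) (T : PreTheory V R A) (M : A.Cat) (i n i' n' : ℤ)
    (g : Z.scheme ⟶ S.scheme) [IsProper g]
    (hi : i' = i + 2 * relCodim Z.scheme S.scheme) (hn : n' = n + relCodim Z.scheme S.scheme)
    (k : ι) (hi' : i' = i + 2 * relCodim (c.obj k).scheme S.scheme)
    (hn' : n' = n + relCodim (c.obj k).scheme S.scheme) (z : T.gp (c.obj k) M i n) :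
    (T.push g M i n i' n' hi hn).hom ((c.psh T M i n k).hom z) =
      (T.push ((c.e k).hom ≫ g) M i n i' n' hi' hn').hom z := by
  have hrc := c.relCodim_eq k
  have hc := T.push_comp (X := c.obj k) (Y := Z) (Z := S) (c.e k).hom g M i n i n i' n'
    (by rw [hrc]; ring) (by rw [hrc]; ring) hi hn hi' hn'
  exact congrArg (fun f => f.hom z) hc

end Compat

section Res

variable {X : Obj V} {j : ℕ} {C : Set X.scheme} {Y : X.scheme.Opens}
  (hG : GoodAt X (j + 1) C Y)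

include hG

/-- `Y ∩ C` as a closed subset of `Y` -/
def GoodAt.CY : Closeds (X.res Y).scheme :=
  ⟨{q : Y | q.1 ∈ C}, hG.closed.preimage continuous_subtype_val⟩

/-- `Y ∩ C` with its reduced structure -/
abbrev GoodAt.Z : Obj V := redSub (X.res Y) hG.CY

abbrev GoodAt.ιZ : hG.Z.scheme ⟶ (X.res Y).scheme := redSubι (X.res Y) hG.CY

theorem GoodAt.hr : Set.range hG.ιZ = {q : Y | q.1 ∈ C} := range_redSubι _ _

/-- `Y ∖ C` -/
def GoodAt.U : X.scheme.Opens :=
  ⟨(Y : Set X.scheme) ∩ Cᶜ, Y.isOpen.inter hG.closed.isOpen_compl⟩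

theorem GoodAt.U_le : hG.U ≤ Y := fun _ hp => hp.1

variable (hUF : ContainsFj X j hG.U)

def GoodAt.UIdx : Idx X (ContainsFj X j) :=
  ⟨hG.U, hUF, dim_opens_eq_of_containsFj X j _ hUF⟩

/-- the decomposition `Y = (Y ∩ C) ⊔ (Y ∖ C)` -/
def GoodAt.decomp : Decomp (X.res Y) where
  Z := hG.Z
  U := X.res hG.U
  i := hG.ιZ
  closedImm := inferInstance
  j := X.resLE hG.U_le ((hG.UIdx hUF).2.2.trans hG.dim_eq.symm)
  range_eq := by
    show Set.range (X.scheme.homOfLE hG.U_le) = _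
    rw [range_homOfLE, hG.hr]
    ext q
    constructor
    · intro hq; exact hq.2
    · intro hq; exact ⟨q.2, hq⟩

variable (T : PreTheory V R A) (M : A.Cat) (i n i' n' : ℤ)
  (hi : i' = i + 1 - 2 * ((j : ℤ) + 1)) (hn : n' = n - ((j : ℤ) + 1))

theorem GoodAt.decomp_codim (x : CPt X (j + 1) C) : (hG.decomp hUF).codim = (j : ℤ) + 1 := by
  have := hG.relCodim_Z hG.Z hG.ιZ hG.hr x
  show relCodim hG.Z.scheme (X.res Y).scheme = _
  rw [this]; push_cast; ring

theorem GoodAt.cpt_oι [Finite (CPt X (j + 1) C)] (Q : T.ResData X j) (x : CPt X (j + 1) C)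
    (hiD : i' = i + 1 - 2 * (hG.decomp hUF).codim) (hnD : n' = n - (hG.decomp hUF).codim)
    (a : T.gp (X.res hG.U) M i n) :
    (Q.cpt x.1 M i n i' n' hi hn).hom ((oι T X (ContainsFj X j) i n M (hG.UIdx hUF)).hom a) =
      (oι T (X.ptSub x.1.1) (fun U => (U : Set (X.ptSub x.1.1).scheme).Nonempty) i' n' M
        (hG.W x)).hom ((T.pull (hG.e hG.Z hG.ιZ hG.hr x) M i' n').hom
          ((T.res (hG.decomp hUF) M i n i' n' hiD hnD).hom a)) := by
  have hYd := hG.dim_eq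
  have hg : (hG.e hG.Z hG.ιZ hG.hr x).hom ≫ (hG.decomp hUF).i ≫ (X.resι Y hYd).hom =
      (hG.W x).1.ι ≫ X.ptSubι x.1.1 := by
    show hG.e₀ hG.Z hG.ιZ hG.hr x ≫ hG.ιZ ≫ Y.ι = _
    rw [← Category.assoc, hG.e₀_fac, ptClosedImm_ι]
  have hh : (𝟙 (X.res (hG.UIdx hUF).1) : X.res (hG.UIdx hUF).1 ⟶ (hG.decomp hUF).U).hom ≫
      (hG.decomp hUF).j.hom ≫ (X.resι Y hYd).hom = (hG.UIdx hUF).1.ι := by
    show 𝟙 _ ≫ X.scheme.homOfLE hG.U_le ≫ Y.ι = _
    rw [Category.id_comp, Scheme.homOfLE_ι]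
    rfl
  have e1 := Q.cpt_spec x.1 M i n i' n' hi hn (X.resι Y hYd) (hG.decomp hUF) (hG.W x)
    (hG.e hG.Z hG.ιZ hG.hr x) hg (hG.UIdx hUF) (𝟙 _) hh hiD hnD
  have e3 : (Q.cpt x.1 M i n i' n' hi hn).hom
      ((oι T X (ContainsFj X j) i n M (hG.UIdx hUF)).hom
        ((T.pull (𝟙 (X.res (hG.UIdx hUF).1)) M i n).hom a)) =
      (oι T (X.ptSub x.1.1) (fun U => (U : Set (X.ptSub x.1.1).scheme).Nonempty) i' n' M
        (hG.W x)).hom ((T.pull (hG.e hG.Z hG.ιZ hG.hr x) M i' n').hom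
          ((T.res (hG.decomp hUF) M i n i' n' hiD hnD).hom a)) :=
    congrArg (fun f => f.hom a) e1
  rw [pull_id_apply] at e3
  exact e3

end Res

end Groth.Agent.Lib.Lead.BMGoodAt
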