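import Mathlib
import Groth.Prelude.Def_BMCoh4
import Groth.Agent.Lib.Lead.BMGoodAt

/-!
# A neighbourhood in good position for a proper map from an irreducible object (lead)
-/

set_option autoImplicit false
universe u
open AlgebraicGeometry CategoryTheory CategoryTheory.Limits Opposite TopologicalSpace

noncomputable section

namespace Groth.Agent.Lib.Lead.BMNormTop
open WeilCoh BMCoh Groth.Agent.Lib.Lead.BMDim Groth.Agent.Lib.Lead.BMColim
  Groth.Agent.Lib.Lead.BMFormal Groth.Agent.Lib.Lead.BMPt Groth.Agent.Lib.Lead.BMSeq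
  Groth.Agent.Lib.Lead.BMSeq2 Groth.Agent.Lib.Lead.BMSeq3 Groth.Agent.Lib.Lead.BMAdd
  Groth.Agent.Lib.Lead.BMPtPush Groth.Agent.Lib.Lead.BMGood Groth.Agent.Lib.Lead.BMGoodAt

variable {V : ObjectProperty Scheme.{u}} [IsConstructible V]

theorem exists_good_nbhd {Y X : Obj V} (φ : Y.scheme ⟶ X.scheme) [IsProper φ] (η : Y.scheme)
    (hηgen : ∀ p : Y.scheme, p ∈ closure ({η} : Set Y.scheme)) (q : ℕ) (w x : X.scheme)
    (hφη : φ η = w) (hw : codim X.scheme w = q) (hx : codim X.scheme x = q + 1)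
    (hdim : dim Y.scheme + q = dim X.scheme)
    (B₁ : Set Y.scheme) (hB₁ : IsClosed B₁) (hηB₁ : η ∉ B₁) :
    ∃ (Yx : X.scheme.Opens) (C' : Set Y.scheme), x ∈ Yx ∧ ContainsFj X q Yx ∧
      GoodAt Y 1 C' (φ ⁻¹ᵁ Yx) ∧
      (∀ p : Y.scheme, p ∈ φ ⁻¹ᵁ Yx → (φ p ∈ closure ({x} : Set X.scheme) ↔ p ∈ C')) ∧
      (∀ p : Y.scheme, p ∈ φ ⁻¹ᵁ Yx → p ∈ B₁ → p ∈ C') ∧ Finite (CPt Y 1 C') ∧
      (∀ y : CPt Y 1 C', φ y.1.1 = x) ∧
      (∀ p : Y.scheme, φ p = x → ∃ y : CPt Y 1 C', y.1.1 = p) ∧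
      (∀ p : Y.scheme, codim Y.scheme p ≤ 0 → p ∈ φ ⁻¹ᵁ Yx ∧ p ∉ C') := by
  haveI : Nonempty Y.scheme := ⟨η⟩
  have hpdη : pdim Y.scheme η = dim Y.scheme := by
    obtain ⟨p, hp⟩ := exists_pdim_eq_dim Y
    by_cases hpη : p = η
    · rw [← hpη]; exact hp
    · have h1 := pdim_lt_pdim Y (hηgen p) hpη
      have h2 := pdim_le_dim Y η
      omega
  have hcodη : codim Y.scheme η = 0 := by unfold codim; omega
  have hcodY : ∀ p : Y.scheme, p ≠ η → 1 ≤ codim Y.scheme p := by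
    intro p hp
    have h1 := pdim_lt_pdim Y (hηgen p) hp
    unfold codim
    omega
  have hwx : w ∉ closure ({x} : Set X.scheme) := by
    intro h
    have := codim_le_of_mem_closure X h
    omega
  have hfib : ∀ p : Y.scheme, φ p = x → codim Y.scheme p = 1 := by
    intro p hp
    have hpη : p ≠ η := by
      rintro rfl
      rw [hφη] at hp
      rw [hp] at hw
      omega
    have h1 := pdim_lt_pdim Y (hηgen p) hpη
    have h2 := pdim_le_of_proper φ p
    rw [hp] at h2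
    have h3 := pdim_le_dim X x
    unfold codim at hx ⊢
    omega
  let E : Set Y.scheme := φ ⁻¹' closure ({x} : Set X.scheme) ∪ B₁
  have hE : IsClosed E := (isClosed_closure.preimage φ.continuous).union hB₁
  have hηE : η ∉ E := by
    rintro (h | h)
    · exact hwx (by rw [← hφη]; exact h)
    · exact hηB₁ h
  have hEm : ∀ p ∈ E, 1 ≤ codim Y.scheme p := fun p hp =>
    hcodY p (fun h => hηE (h ▸ hp))
  obtain ⟨hfinE, V₀, hV₀F, -, hV₀u⟩ := exists_good_open Y 1 E hE hEm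
  haveI := hfinE
  let C' : Set Y.scheme := ⋃ y : {y : CPt Y 1 E // φ y.1.1 = x}, closure ({y.1.1.1} : Set Y.scheme)
  have hC' : IsClosed C' := isClosed_iUnion_of_finite (fun _ => isClosed_closure)
  let Bad : Set Y.scheme := (V₀ : Set Y.scheme)ᶜ ∪
    ⋃ y : {y : CPt Y 1 E // φ y.1.1 ≠ x}, closure ({y.1.1.1} : Set Y.scheme)
  have hBad : IsClosed Bad :=
    V₀.isOpen.isClosed_compl.union (isClosed_iUnion_of_finite (fun _ => isClosed_closure))
  have hxBad : x ∉ φ '' Bad := by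
    rintro ⟨p, hpB, hpx⟩
    have hp1 := hfib p hpx
    rcases hpB with hpB | hpB
    · exact hpB (hV₀F p hp1.le)
    · simp only [Set.mem_iUnion] at hpB
      obtain ⟨y, hy⟩ := hpB
      have := eq_of_mem_closure_of_codim_le Y hy (by rw [hp1, y.1.1.2])
      exact y.2 (by rw [← this]; exact hpx)
  let Yx : X.scheme.Opens := ⟨(φ '' Bad)ᶜ, (φ.isClosedMap _ hBad).isOpen_compl⟩
  have hηBad : η ∉ Bad := by
    rintro (h | h)
    · exact h (hV₀F η (by rw [hcodη]; exact Nat.zero_le _))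
    · simp only [Set.mem_iUnion] at h
      obtain ⟨y, hy⟩ := h
      have := codim_le_of_mem_closure Y hy
      rw [hcodη, y.1.1.2] at this
      omega
  have hYxF : ContainsFj X q Yx := by
    intro p' hp'
    rintro ⟨p, hpB, rfl⟩
    have hpη : p ≠ η := fun h => hηBad (h ▸ hpB)
    have h1 := hcodY p hpη
    have h2 := pdim_le_of_proper φ p
    have h3 := pdim_le_dim Y p
    have h4 := pdim_le_dim X (φ p)
    unfold codim at h1 hp'
    omega
  have hV : ∀ p : Y.scheme, p ∈ φ ⁻¹ᵁ Yx → p ∉ Bad := by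
    intro p hp hpB
    exact hp ⟨p, hpB, rfl⟩
  have hC'E : C' ⊆ E := by
    intro p hp
    simp only [C', Set.mem_iUnion] at hp
    obtain ⟨y, hy⟩ := hp
    exact closure_minimal (Set.singleton_subset_iff.mpr y.1.2) hE hy
  have hC'x : ∀ y : CPt Y 1 C', φ y.1.1 = x := by
    intro y
    have h := y.2
    simp only [C', Set.mem_iUnion] at h
    obtain ⟨k, hk⟩ := h
    have := eq_of_mem_closure_of_codim_le Y hk (by rw [y.1.2, k.1.1.2])
    rw [this]
    exact k.2
  have hxYx : x ∈ Yx := hxBad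
  have hfin : Finite (CPt Y 1 C') :=
    Finite.of_injective (fun y : CPt Y 1 C' => (⟨y.1, hC'E y.2⟩ : CPt Y 1 E))
      (fun y y' h => Subtype.ext (congrArg (fun z : CPt Y 1 E => z.1) h))
  have hgoodpt : ∀ p : Y.scheme, p ∈ φ ⁻¹ᵁ Yx → p ∈ E → p ∈ C' := by
    intro p hpV hpE
    have hpV₀ : p ∈ V₀ := by
      by_contra h
      exact hV p hpV (Or.inl h)
    obtain ⟨y', hy', -⟩ := hV₀u p hpV₀ hpE
    by_cases hy'x : φ y'.1.1 = x
    · simp only [C', Set.mem_iUnion]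
      exact ⟨⟨y', hy'x⟩, hy'⟩
    · exfalso
      refine hV p hpV (Or.inr ?_)
      simp only [Set.mem_iUnion]
      exact ⟨⟨y', hy'x⟩, hy'⟩
  refine ⟨Yx, C', hxYx, hYxF, ⟨hC', fun p hp => hEm p (hC'E hp), ?_, ?_, ?_⟩, ?_, ?_, hfin, hC'x,
    ?_, ?_⟩
  · intro y
    show φ y.1.1 ∈ Yx
    rw [hC'x y]
    exact hxYx
  · refine dim_opens_eq_of_mem Y _ η ?_ hpdη
    show φ η ∈ Yx
    rw [hφη]
    exact hYxF w hw.le
  · intro p hpV hpC
    have hpV₀ : p ∈ V₀ := by
      by_contra h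
      exact hV p hpV (Or.inl h)
    have hpC' := hpC
    simp only [C', Set.mem_iUnion] at hpC
    obtain ⟨k, hk⟩ := hpC
    have hkC' : k.1.1.1 ∈ C' := by
      simp only [C', Set.mem_iUnion]
      exact ⟨k, subset_closure rfl⟩
    refine ⟨⟨k.1.1, hkC'⟩, hk, ?_⟩
    intro y hy
    obtain ⟨y₀, -, hu⟩ := hV₀u p hpV₀ (hC'E hpC')
    have e1 := hu ⟨y.1, hC'E y.2⟩ hy
    have e2 := hu k.1 hk
    exact Subtype.ext (congrArg (fun z : CPt Y 1 E => z.1) (e1.trans e2.symm))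
  · intro p hpV
    constructor
    · intro hpx
      exact hgoodpt p hpV (Or.inl hpx)
    · intro hpC
      simp only [C', Set.mem_iUnion] at hpC
      obtain ⟨k, hk⟩ := hpC
      have h2 : φ p ∈ closure (φ '' ({k.1.1.1} : Set Y.scheme)) :=
        image_closure_subset_closure_image φ.continuous (Set.mem_image_of_mem φ hk)
      rw [Set.image_singleton, k.2] at h2
      exact h2
  · intro p hpV hpB
    exact hgoodpt p hpV (Or.inr hpB)
  · intro p hpx
    have hp1 := hfib p hpx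
    have hpE : p ∈ E := Or.inl (by
      show φ p ∈ closure ({x} : Set X.scheme)
      rw [hpx]; exact subset_closure rfl)
    have hpC' : p ∈ C' := by
      simp only [C', Set.mem_iUnion]
      exact ⟨⟨⟨⟨p, hp1⟩, hpE⟩, hpx⟩, subset_closure rfl⟩
    exact ⟨⟨⟨p, hp1⟩, hpC'⟩, rfl⟩
  · intro p hp
    have hpη : p = η := by
      by_contra h
      have := hcodY p h
      omega
    rw [hpη]
    refine ⟨?_, fun h => hηE (hC'E h)⟩
    show φ η ∈ Yx
    rw [hφη]
    exact hYxF w hw.le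

end Groth.Agent.Lib.Lead.BMNormTop
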