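import Mathlib
import Groth.Prelude.Def_BMCoh4
import Groth.Agent.Lib.Lead.BMNormTop

/-!
# Residues and proper push-forward: the local comparison (lead)
-/

set_option autoImplicit false
universe u
open AlgebraicGeometry CategoryTheory CategoryTheory.Limits Opposite TopologicalSpace

noncomputable section

namespace Groth.Agent.Lib.Lead.BMNormMaps
open WeilCoh BMCoh Groth.Agent.Lib.Lead.BMDim Groth.Agent.Lib.Lead.BMColim
  Groth.Agent.Lib.Lead.BMFormal Groth.Agent.Lib.Lead.BMPt Groth.Agent.Lib.Lead.BMSeq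
  Groth.Agent.Lib.Lead.BMSeq2 Groth.Agent.Lib.Lead.BMSeq3 Groth.Agent.Lib.Lead.BMAdd
  Groth.Agent.Lib.Lead.BMPtPush Groth.Agent.Lib.Lead.BMGood Groth.Agent.Lib.Lead.BMGoodAt

variable {V : ObjectProperty Scheme.{u}} [IsConstructible V] {R : Type u} [CommRing R]
  {A : Coefs R}

theorem isProper_resLE {A B : Scheme.{u}} (f : A ⟶ B) [IsProper f] (U' : B.Opens) (U : A.Opens)
    (h : U = f ⁻¹ᵁ U') : IsProper (f.resLE U' U h.le) := by
  subst h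
  rw [Scheme.Hom.resLE_eq_morphismRestrict]
  infer_instance

theorem isPullback_resLE {A B : Scheme.{u}} (f : A ⟶ B) {U₂ U : B.Opens} (hle : U₂ ≤ U)
    (W₂ W : A.Opens) (hW₂ : W₂ = f ⁻¹ᵁ U₂) (hW : W = f ⁻¹ᵁ U) (hWle : W₂ ≤ W) :
    IsPullback (A.homOfLE hWle) (f.resLE U₂ W₂ hW₂.le) (f.resLE U W hW.le) (B.homOfLE hle) := by
  subst hW₂ hW
  have s : IsPullback (f.resLE U₂ (f ⁻¹ᵁ U₂) le_rfl) (A.homOfLE hWle ≫ (f ⁻¹ᵁ U).ι)
      (B.homOfLE hle ≫ U.ι) f := by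
    rw [Scheme.homOfLE_ι, Scheme.homOfLE_ι]
    have := isPullback_morphismRestrict f U₂
    rw [← Scheme.Hom.resLE_eq_morphismRestrict] at this
    exact this
  have t : IsPullback (f.resLE U (f ⁻¹ᵁ U) le_rfl) (f ⁻¹ᵁ U).ι U.ι f := by
    have := isPullback_morphismRestrict f U
    rw [← Scheme.Hom.resLE_eq_morphismRestrict] at this
    exact this
  have p : f.resLE U₂ (f ⁻¹ᵁ U₂) le_rfl ≫ B.homOfLE hle =
      A.homOfLE hWle ≫ f.resLE U (f ⁻¹ᵁ U) le_rfl := by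
    rw [← cancel_mono U.ι, Category.assoc, Category.assoc, Scheme.homOfLE_ι,
      Scheme.Hom.resLE_comp_ι, Scheme.Hom.resLE_comp_ι, ← Category.assoc, Scheme.homOfLE_ι]
  exact (IsPullback.of_bot s p t).flip

section Maps

variable {Y X : Obj V} (φ : Y.scheme ⟶ X.scheme) [IsProper φ] (x : X.scheme)
  (Yx : X.scheme.Opens) (hxYx : x ∈ Yx) {C' : Set Y.scheme} (hG : GoodAt Y 1 C' (φ ⁻¹ᵁ Yx))
  (hC'x : ∀ p : Y.scheme, p ∈ φ ⁻¹ᵁ Yx → (φ p ∈ closure ({x} : Set X.scheme) ↔ p ∈ C'))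

include hC'x in
theorem U_eq : hG.U = φ ⁻¹ᵁ (Yx ⊓ clCompl X x) := by
  ext p
  constructor
  · intro hp
    exact ⟨hp.1, fun h => hp.2 ((hC'x p hp.1).mp h)⟩
  · intro hp
    exact ⟨hp.1, fun h => hp.2 ((hC'x p hp.1).mpr h)⟩

/-- `φ` restricted over `Yx` -/
abbrev Φ : (Y.res (φ ⁻¹ᵁ Yx)).scheme ⟶ (X.res Yx).scheme := φ.resLE Yx (φ ⁻¹ᵁ Yx) le_rfl

instance : IsProper (Φ φ Yx) := isProper_resLE φ Yx _ rfl

/-- `φ` restricted to the open parts -/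
def fU : (Y.res hG.U).scheme ⟶ (X.res (Yx ⊓ clCompl X x)).scheme :=
  φ.resLE (Yx ⊓ clCompl X x) hG.U (U_eq φ x Yx hG hC'x).le

instance : IsProper (fU φ x Yx hG hC'x) := isProper_resLE φ _ _ (U_eq φ x Yx hG hC'x)

include hC'x in
theorem range_comp_sub : Set.range (hG.ιZ ≫ Φ φ Yx) ⊆
    Set.range (ptClosedImm X x (ptW X x Yx hxYx).1 Yx rfl) := by
  rw [range_ptClosedImm]
  rintro _ ⟨z, rfl⟩
  show ((φ.resLE Yx (φ ⁻¹ᵁ Yx) le_rfl) (hG.ιZ z)).1 ∈ closure ({x} : Set X.scheme)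
  rw [Scheme.Hom.coe_resLE_apply]
  exact (hC'x _ (hG.ιZ z).2).mpr (hG.mem_C hG.Z hG.ιZ hG.hr z)

/-- the induced map between the reduced closed parts -/
def gZ : hG.Z.scheme ⟶ ((X.ptSub x).res (ptW X x Yx hxYx).1).scheme :=
  liftRed (ptClosedImm X x (ptW X x Yx hxYx).1 Yx rfl) (hG.ιZ ≫ Φ φ Yx)
    (range_comp_sub φ x Yx hxYx hG hC'x)

theorem gZ_fac : gZ φ x Yx hxYx hG hC'x ≫ ptClosedImm X x (ptW X x Yx hxYx).1 Yx rfl =
    hG.ιZ ≫ Φ φ Yx := liftRed_fac _ _ _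

instance : IsProper (gZ φ x Yx hxYx hG hC'x) := by
  haveI : IsProper (gZ φ x Yx hxYx hG hC'x ≫ ptClosedImm X x (ptW X x Yx hxYx).1 Yx rfl) := by
    rw [gZ_fac]; infer_instance
  exact IsProper.of_comp _ (ptClosedImm X x (ptW X x Yx hxYx).1 Yx rfl)

end Maps

section LC

variable (T : PreTheory V R A)
  (hred : ∀ (S : BMCoh.Obj V) (D D'' : BMCoh.Decomp S) (gU : D''.U ⟶ D.U)
      (k : D''.Z.scheme ⟶ D.Z.scheme) [IsClosedImmersion k] [AlgebraicGeometry.Surjective k],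
      gU ≫ D.j = D''.j → k ≫ D.i = D''.i →
      ∀ (M : A.Cat) (i n i' n' : ℤ) (hi : i' = i + 1 - 2 * D.codim) (hn : n' = n - D.codim)
        (hi'' : i' = i + 1 - 2 * D''.codim) (hn'' : n' = n - D''.codim)
        (hk : i' = i' + 2 * BMCoh.relCodim D''.Z.scheme D.Z.scheme)
        (hk' : n' = n' + BMCoh.relCodim D''.Z.scheme D.Z.scheme),
      T.pull gU M i n ≫ T.res D'' M i n i' n' hi'' hn'' ≫ T.push k M i' n' i' n' hk hk' =
        T.res D M i n i' n' hi hn)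
  {Y X : Obj V} (φ : Y.scheme ⟶ X.scheme) [IsProper φ] (q : ℕ) (x : X.scheme)
  (hx : codim X.scheme x = q + 1) (Yx : X.scheme.Opens) (hxYx : x ∈ Yx)
  (hYxF : ContainsFj X q Yx) {C' : Set Y.scheme} (hG : GoodAt Y 1 C' (φ ⁻¹ᵁ Yx))
  [Finite (CPt Y 1 C')]
  (hC'x : ∀ p : Y.scheme, p ∈ φ ⁻¹ᵁ Yx → (φ p ∈ closure ({x} : Set X.scheme) ↔ p ∈ C'))
  (hUF : ContainsFj Y 0 hG.U)

set_option allowUnsafeReducibility true in
attribute [local reducible] ptDecomp' ptDecomp GoodAt.decomp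

include hC'x in
theorem range_ιZ_eq : Set.range hG.ιZ =
    Set.range (pullback.fst (Φ φ Yx) (ptClosedImm X x (ptW X x Yx hxYx).1 Yx rfl)) := by
  rw [Scheme.Pullback.range_fst]
  ext v
  constructor
  · intro hv
    rw [hG.hr] at hv
    show (Φ φ Yx) v ∈ Set.range (ptClosedImm X x (ptW X x Yx hxYx).1 Yx rfl)
    rw [range_ptClosedImm]
    show ((φ.resLE Yx (φ ⁻¹ᵁ Yx) le_rfl) v).1 ∈ closure ({x} : Set X.scheme)
    rw [Scheme.Hom.coe_resLE_apply]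
    exact (hC'x v.1 v.2).mpr hv
  · intro hv
    have hv' : (Φ φ Yx) v ∈ Set.range (ptClosedImm X x (ptW X x Yx hxYx).1 Yx rfl) := hv
    rw [range_ptClosedImm] at hv'
    have hv'' : ((φ.resLE Yx (φ ⁻¹ᵁ Yx) le_rfl) v).1 ∈ closure ({x} : Set X.scheme) := hv'
    rw [Scheme.Hom.coe_resLE_apply] at hv''
    rw [hG.hr]
    exact (hC'x v.1 v.2).mp hv''

/-- the (possibly non-reduced) preimage of the closed part -/
@[reducible] def Znr : Obj V :=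
  ⟨pullback (Φ φ Yx) (ptClosedImm X x (ptW X x Yx hxYx).1 Yx rfl),
    IsConstructible.of_isClosedImmersion
      (pullback.fst (Φ φ Yx) (ptClosedImm X x (ptW X x Yx hxYx).1 Yx rfl)) (h := inferInstance)
      (Y.res (φ ⁻¹ᵁ Yx)).mem⟩

/-- the decomposition of `φ⁻¹ Yx` with closed part the preimage of the closed part -/
@[reducible] def Dnr : Decomp (Y.res (φ ⁻¹ᵁ Yx)) where
  Z := Znr φ x Yx hxYx
  U := Y.res hG.U
  i := pullback.fst (Φ φ Yx) (ptClosedImm X x (ptW X x Yx hxYx).1 Yx rfl)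
  closedImm := inferInstance
  j := Y.resLE hG.U_le ((hG.UIdx hUF).2.2.trans hG.dim_eq.symm)
  range_eq := by
    rw [← range_ιZ_eq φ x Yx hxYx hG hC'x]
    exact (hG.decomp hUF).range_eq

include hred in
theorem res_push_comparison (M : A.Cat) (i₃ n₃ i₁ n₁ i₂ n₂ : ℤ)
    (hiU : i₁ = i₃ + 2 * relCodim (Y.res hG.U).scheme (X.res (Yx ⊓ clCompl X x)).scheme)
    (hnU : n₁ = n₃ + relCodim (Y.res hG.U).scheme (X.res (Yx ⊓ clCompl X x)).scheme)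
    (hiDX : i₂ = i₁ + 1 - 2 * (ptDecomp' X q x Yx hYxF hx.ge).codim)
    (hnDX : n₂ = n₁ - (ptDecomp' X q x Yx hYxF hx.ge).codim)
    (hiDY : i₂ = i₃ + 1 - 2 * (hG.decomp hUF).codim) (hnDY : n₂ = n₃ - (hG.decomp hUF).codim)
    (hiZ : i₂ = i₂ + 2 * relCodim hG.Z.scheme ((X.ptSub x).res (ptW X x Yx hxYx).1).scheme)
    (hnZ : n₂ = n₂ + relCodim hG.Z.scheme ((X.ptSub x).res (ptW X x Yx hxYx).1).scheme)
    (c : T.gp (Y.res hG.U) M i₃ n₃) :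
    (T.res (ptDecomp' X q x Yx hYxF hx.ge) M i₁ n₁ i₂ n₂ hiDX hnDX).hom
        ((T.push (fU φ x Yx hG hC'x) M i₃ n₃ i₁ n₁ hiU hnU).hom c) =
      (T.push (gZ φ x Yx hxYx hG hC'x) M i₂ n₂ i₂ n₂ hiZ hnZ).hom
        ((T.res (hG.decomp hUF) M i₃ n₃ i₂ n₂ hiDY hnDY).hom c) := by
  classical
  have hrange := range_ιZ_eq φ x Yx hxYx hG hC'x
  let k : hG.Z.scheme ⟶ (Znr φ x Yx hxYx).scheme :=
    pullback.lift hG.ιZ (gZ φ x Yx hxYx hG hC'x) (by rw [gZ_fac])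
  have hk1 : k ≫ pullback.fst (Φ φ Yx) (ptClosedImm X x (ptW X x Yx hxYx).1 Yx rfl) = hG.ιZ :=
    pullback.lift_fst _ _ _
  have hk2 : k ≫ pullback.snd (Φ φ Yx) (ptClosedImm X x (ptW X x Yx hxYx).1 Yx rfl) =
      gZ φ x Yx hxYx hG hC'x := pullback.lift_snd _ _ _
  have hkci : IsClosedImmersion k := by
    haveI : IsClosedImmersion
        (k ≫ pullback.fst (Φ φ Yx) (ptClosedImm X x (ptW X x Yx hxYx).1 Yx rfl)) := by
      rw [hk1]; infer_instance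
    exact IsClosedImmersion.of_comp k
      (pullback.fst (Φ φ Yx) (ptClosedImm X x (ptW X x Yx hxYx).1 Yx rfl))
  have hksurj : AlgebraicGeometry.Surjective k := ⟨fun z => by
    have hz : (pullback.fst (Φ φ Yx) (ptClosedImm X x (ptW X x Yx hxYx).1 Yx rfl)) z ∈
        Set.range hG.ιZ := by
      rw [hrange]; exact ⟨z, rfl⟩
    obtain ⟨c₀, hc₀⟩ := hz
    refine ⟨c₀, (pullback.fst (Φ φ Yx)
      (ptClosedImm X x (ptW X x Yx hxYx).1 Yx rfl)).isClosedEmbedding.injective ?_⟩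
    rw [← hc₀, ← hk1]
    rfl⟩
  have hdimZ : dim (Znr φ x Yx hxYx).scheme = dim hG.Z.scheme := by
    have h1 := dim_eq_natDim_range k k.isClosedEmbedding.isEmbedding
    have h2 : Set.range k = Set.univ := Set.range_eq_univ.mpr k.surjective
    rw [h2] at h1
    rw [h1]
    exact (natDim_congr (Homeomorph.Set.univ _)).symm
  have hcodnr : (Dnr φ x Yx hxYx hG hC'x hUF).codim = (hG.decomp hUF).codim := by
    show relCodim (Znr φ x Yx hxYx).scheme _ = relCodim hG.Z.scheme _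
    unfold relCodim
    rw [hdimZ]
  have hrc1 : relCodim hG.Z.scheme (Znr φ x Yx hxYx).scheme = 0 := by
    unfold relCodim; rw [hdimZ]; ring
  have hrc2 : relCodim (Znr φ x Yx hxYx).scheme ((X.ptSub x).res (ptW X x Yx hxYx).1).scheme =
      relCodim hG.Z.scheme ((X.ptSub x).res (ptW X x Yx hxYx).1).scheme := by
    unfold relCodim; rw [hdimZ]
  haveI hsndp : IsProper (pullback.snd (Φ φ Yx) (ptClosedImm X x (ptW X x Yx hxYx).1 Yx rfl)) :=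
    MorphismProperty.pullback_snd (P := @IsProper) _ _ inferInstance
  haveI := hkci
  haveI := hksurj
  have hiZ' : i₂ = i₂ + 2 * relCodim (Znr φ x Yx hxYx).scheme
      ((X.ptSub x).res (ptW X x Yx hxYx).1).scheme := by rw [hrc2]; exact hiZ
  have hnZ' : n₂ = n₂ + relCodim (Znr φ x Yx hxYx).scheme
      ((X.ptSub x).res (ptW X x Yx hxYx).1).scheme := by rw [hrc2]; exact hnZ
  have hi0 : i₂ = i₂ + 2 * relCodim hG.Z.scheme (Znr φ x Yx hxYx).scheme := by rw [hrc1]; ring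
  have hn0 : n₂ = n₂ + relCodim hG.Z.scheme (Znr φ x Yx hxYx).scheme := by rw [hrc1]; ring
  have pb1 : IsPullback (Dnr φ x Yx hxYx hG hC'x hUF).i
      (pullback.snd (Φ φ Yx) (ptClosedImm X x (ptW X x Yx hxYx).1 Yx rfl)) (Φ φ Yx)
      (ptDecomp' X q x Yx hYxF hx.ge).i :=
    IsPullback.of_hasPullback _ _
  have pb2 : IsPullback (Dnr φ x Yx hxYx hG hC'x hUF).j.hom (fU φ x Yx hG hC'x) (Φ φ Yx)
      (ptDecomp' X q x Yx hYxF hx.ge).j.hom :=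
    isPullback_resLE φ (inf_le_left : Yx ⊓ clCompl X x ≤ Yx) hG.U (φ ⁻¹ᵁ Yx)
      (U_eq φ x Yx hG hC'x) rfl hG.U_le
  have e1 := T.res_push (ptDecomp' X q x Yx hYxF hx.ge) (Dnr φ x Yx hxYx hG hC'x hUF) (Φ φ Yx)
    (pullback.snd (Φ φ Yx) (ptClosedImm X x (ptW X x Yx hxYx).1 Yx rfl)) (fU φ x Yx hG hC'x)
    pb1 pb2 M i₃ n₃ i₂ n₂ i₁ n₁ i₂ n₂ (by rw [hcodnr]; exact hiDY) (by rw [hcodnr]; exact hnDY)
    hiU hnU hiZ' hnZ' hiDX hnDX
  have e2 := hred (Y.res (φ ⁻¹ᵁ Yx)) (Dnr φ x Yx hxYx hG hC'x hUF) (hG.decomp hUF) (𝟙 _) k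
    (Category.id_comp _) hk1 M i₃ n₃ i₂ n₂ (by rw [hcodnr]; exact hiDY)
    (by rw [hcodnr]; exact hnDY) hiDY hnDY hi0 hn0
  have e1' := congrArg (fun f => f.hom c) e1
  have e2' := congrArg (fun f => f.hom c) e2
  have e3 := T.push_comp (X := hG.Z) (Y := Znr φ x Yx hxYx)
    (Z := (X.ptSub x).res (ptW X x Yx hxYx).1) k
    (pullback.snd (Φ φ Yx) (ptClosedImm X x (ptW X x Yx hxYx).1 Yx rfl)) M
    i₂ n₂ i₂ n₂ i₂ n₂ hi0 hn0 hiZ' hnZ' hiZ hnZ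
  have e3' := congrArg (fun f => f.hom ((T.res (hG.decomp hUF) M i₃ n₃ i₂ n₂ hiDY hnDY).hom c)) e3
  have e4 := push_congr T (X := hG.Z) (Y := (X.ptSub x).res (ptW X x Yx hxYx).1) hk2 M
    i₂ n₂ i₂ n₂ hiZ hnZ
  have e4' := congrArg (fun f => f.hom ((T.res (hG.decomp hUF) M i₃ n₃ i₂ n₂ hiDY hnDY).hom c)) e4
  refine e1'.symm.trans ?_
  refine Eq.trans ?_ e4'
  refine Eq.trans ?_ e3'
  refine (congrArg _ e2'.symm).trans ?_
  show (T.push (pullback.snd (Φ φ Yx) (ptClosedImm X x (ptW X x Yx hxYx).1 Yx rfl)) M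
      i₂ n₂ i₂ n₂ _ _).hom ((T.push k M i₂ n₂ i₂ n₂ _ _).hom
        ((T.res (hG.decomp hUF) M i₃ n₃ i₂ n₂ hiDY hnDY).hom
          ((T.pull (𝟙 (Y.res hG.U)) M i₃ n₃).hom c))) = _
  rw [pull_id_apply]
  rfl

end LC

end Groth.Agent.Lib.Lead.BMNormMaps
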