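import Mathlib
import Groth.Prelude.Def_BMCoh4
import Groth.Agent.Lib.Lead.BMNormMaps

/-!
# Decompositions along a closed immersion of objects, and points of every codimension (lead)
-/

set_option autoImplicit false
universe u
open AlgebraicGeometry CategoryTheory CategoryTheory.Limits Opposite TopologicalSpace

noncomputable section

namespace Groth.Agent.Lib.Lead.BMClosed
open WeilCoh BMCoh Groth.Agent.Lib.Lead.BMDim Groth.Agent.Lib.Lead.BMColim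
  Groth.Agent.Lib.Lead.BMFormal Groth.Agent.Lib.Lead.BMPt Groth.Agent.Lib.Lead.BMSeq
  Groth.Agent.Lib.Lead.BMSeq2 Groth.Agent.Lib.Lead.BMSeq3 Groth.Agent.Lib.Lead.BMAdd
  Groth.Agent.Lib.Lead.BMPtPush Groth.Agent.Lib.Lead.BMGood Groth.Agent.Lib.Lead.BMGoodAt
  Groth.Agent.Lib.Lead.BMNormMaps

variable {V : ObjectProperty Scheme.{u}} [IsConstructible V] {R : Type u} [CommRing R]
  {A : Coefs R}

section Pts

/-- below a point whose closure has positive dimension there is a point whose closure has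
dimension one less -/
theorem exists_pdim_pred (X : Obj V) (x : X.scheme) (h : 1 ≤ pdim X.scheme x) :
    ∃ y : X.scheme, y ∈ closure ({x} : Set X.scheme) ∧ pdim X.scheme y + 1 = pdim X.scheme x := by
  haveI : Nonempty ↥(closure ({x} : Set X.scheme)) := ⟨⟨x, subset_closure rfl⟩⟩
  have hfx : topologicalKrullDim ↥(closure ({x} : Set X.scheme)) < ⊤ :=
    (topologicalKrullDim_subspace_le X.scheme _).trans_lt (fin X)
  obtain ⟨p, hp⟩ := exists_ltSeries_length_eq_natDim ↥(closure ({x} : Set X.scheme)) hfx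
  let p' : LTSeries (IrreducibleCloseds X.scheme) :=
    p.map (IrreducibleCloseds.map Subtype.val continuous_subtype_val)
      (IrreducibleCloseds.map_strictMono_of_isInducing Topology.IsInducing.subtypeVal)
  have hlen : p'.length = pdim X.scheme x := hp
  have hsub : ∀ k, ((p' k : IrreducibleCloseds X.scheme) : Set X.scheme) ⊆
      closure ({x} : Set X.scheme) := by
    intro k
    show closure (Subtype.val '' _) ⊆ _
    refine closure_minimal ?_ isClosed_closure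
    rintro _ ⟨z, -, rfl⟩
    exact z.2
  let k₀ : Fin (p'.length + 1) := ⟨p'.length - 1, by omega⟩
  have hk₀ : k₀ < Fin.last p'.length := by
    rw [Fin.lt_def]
    show p'.length - 1 < p'.length
    omega
  obtain ⟨y, hy⟩ := QuasiSober.sober (p' k₀).isIrreducible (p' k₀).isClosed
  have hyq : closure ({y} : Set X.scheme) = (p' k₀ : Set X.scheme) := hy.def
  have hyS : y ∈ closure ({x} : Set X.scheme) := hsub k₀ (by rw [← hyq]; exact subset_closure rfl)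
  have hxy : x ∉ closure ({y} : Set X.scheme) := by
    intro hx
    have h1 : closure ({x} : Set X.scheme) ⊆ (p' k₀ : Set X.scheme) := by
      rw [← hyq]
      exact closure_minimal (Set.singleton_subset_iff.mpr hx) isClosed_closure
    have h2 : p' k₀ < p' (Fin.last p'.length) := p'.strictMono hk₀
    rw [← SetLike.coe_ssubset_coe] at h2
    exact h2.2 ((hsub _).trans h1)
  have hlt : pdim X.scheme y < pdim X.scheme x := natDim_closure_lt (fin X) hyS hxy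
  have hge : p'.length - 1 ≤ pdim X.scheme y := by
    have h1 := Groth.Agent.Lib.Helper18.TopDim.length_le_topologicalKrullDim_of_subset
      (p'.take k₀) (closure ({y} : Set X.scheme)) (by
        rw [RelSeries.last_take, hyq])
    have h2 := le_natDim_of_le (p'.take k₀).length h1
      ((topologicalKrullDim_subspace_le X.scheme _).trans_lt (fin X))
    exact h2
  refine ⟨y, hyS, ?_⟩
  omega

/-- points of every dimension below the dimension of the object -/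
theorem exists_pdim_eq (X : Obj V) [Nonempty X.scheme] (k : ℕ) (hk : k ≤ dim X.scheme) :
    ∃ y : X.scheme, pdim X.scheme y = k := by
  suffices H : ∀ m : ℕ, m ≤ dim X.scheme → ∃ y : X.scheme, pdim X.scheme y + m = dim X.scheme by
    obtain ⟨y, hy⟩ := H (dim X.scheme - k) (Nat.sub_le _ _)
    exact ⟨y, by omega⟩
  intro m
  induction m with
  | zero =>
    intro _
    obtain ⟨y, hy⟩ := exists_pdim_eq_dim X
    exact ⟨y, by omega⟩
  | succ m ih =>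
    intro hm
    obtain ⟨y, hy⟩ := ih (by omega)
    obtain ⟨y', -, hy'⟩ := exists_pdim_pred X y (by omega)
    exact ⟨y', by omega⟩

/-- points of every codimension up to the dimension of the object -/
theorem exists_codim_eq (X : Obj V) [Nonempty X.scheme] (k : ℕ) (hk : k ≤ dim X.scheme) :
    ∃ y : X.scheme, codim X.scheme y = k := by
  obtain ⟨y, hy⟩ := exists_pdim_eq X (dim X.scheme - k) (Nat.sub_le _ _)
  refine ⟨y, ?_⟩
  unfold codim
  omega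

end Pts


section Cl

variable {Z X : Obj V} (ι : Z.scheme ⟶ X.scheme) [IsClosedImmersion ι]

/-- the complement of the image of a closed immersion -/
def clOpen : X.scheme.Opens :=
  ⟨(Set.range ι)ᶜ, ι.isClosedEmbedding.isClosed_range.isOpen_compl⟩

/-- the closed immersion over an open of `X` -/
def clImm (Y : X.scheme.Opens) : (Z.res (ι ⁻¹ᵁ Y)).scheme ⟶ (X.res Y).scheme :=
  ι.resLE Y (ι ⁻¹ᵁ Y) le_rfl

instance (Y : X.scheme.Opens) : IsClosedImmersion (clImm ι Y) :=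
  isClosedImmersion_resLE ι Y _ rfl

theorem clImm_ι (Y : X.scheme.Opens) : clImm ι Y ≫ Y.ι = (ι ⁻¹ᵁ Y).ι ≫ ι :=
  Scheme.Hom.resLE_comp_ι _ _

theorem range_clImm (Y : X.scheme.Opens) :
    Set.range (clImm ι Y) = {y : Y | y.1 ∈ Set.range ι} := by
  ext y
  constructor
  · rintro ⟨w, rfl⟩
    show (ι.resLE Y (ι ⁻¹ᵁ Y) le_rfl w).1 ∈ Set.range ι
    rw [Scheme.Hom.coe_resLE_apply]
    exact ⟨w.1, rfl⟩
  · rintro ⟨z, hz⟩
    have hzW : z ∈ ι ⁻¹ᵁ Y := by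
      show ι z ∈ Y
      rw [hz]; exact y.2
    refine ⟨⟨z, hzW⟩, Subtype.ext ?_⟩
    show (ι.resLE Y (ι ⁻¹ᵁ Y) le_rfl ⟨z, hzW⟩).1 = _
    rw [Scheme.Hom.coe_resLE_apply]
    exact hz

/-- the decomposition of an open `Y` of `X` into `Z ∩ Y` and `Y ∖ Z` -/
def clDecomp (Y : X.scheme.Opens)
    (hd : dim ((Y ⊓ clOpen ι : X.scheme.Opens) : Scheme.{u}) = dim (Y : Scheme.{u})) :
    Decomp (X.res Y) where
  Z := Z.res (ι ⁻¹ᵁ Y)
  U := X.res (Y ⊓ clOpen ι)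
  i := clImm ι Y
  closedImm := inferInstance
  j := X.resLE inf_le_left hd
  range_eq := by
    show Set.range (X.scheme.homOfLE (inf_le_left : Y ⊓ clOpen ι ≤ Y)) =
      (Set.range (clImm ι Y))ᶜ
    rw [range_homOfLE, range_clImm]
    ext y
    simp only [Set.mem_ofPred_eq, Set.mem_compl_iff]
    constructor
    · intro h; exact h.2
    · intro h; exact ⟨y.2, h⟩

variable (c : ℕ) (hc : dim Z.scheme + c = dim X.scheme)

include hc in
theorem codim_image (z : Z.scheme) : codim X.scheme (ι z) = codim Z.scheme z + c := by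
  have h1 := pdim_eq_of_isClosedImmersion ι z
  have h2 := pdim_le_dim Z z
  unfold codim
  omega

include hc in
theorem containsFj_preimage (m : ℕ) (Y : X.scheme.Opens) (hY : ContainsFj X (c + m) Y) :
    ContainsFj Z m (ι ⁻¹ᵁ Y) := by
  intro z hz
  show ι z ∈ Y
  exact hY _ (by rw [codim_image ι c hc z]; omega)

/-- remove from `Y` the image of the complement of an open `V'` of `Z` -/
def shrink (Y : X.scheme.Opens) (V' : Z.scheme.Opens) : X.scheme.Opens :=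
  Y ⊓ ⟨(ι '' (V' : Set Z.scheme)ᶜ)ᶜ,
    (ι.isClosedEmbedding.isClosedMap _ V'.isOpen.isClosed_compl).isOpen_compl⟩

theorem shrink_le (Y : X.scheme.Opens) (V' : Z.scheme.Opens) : shrink ι Y V' ≤ Y := inf_le_left

theorem preimage_shrink (Y : X.scheme.Opens) (V' : Z.scheme.Opens) (h : V' ≤ ι ⁻¹ᵁ Y) :
    ι ⁻¹ᵁ (shrink ι Y V') = V' := by
  ext z
  constructor
  · rintro ⟨-, hz⟩
    by_contra hzV
    exact hz ⟨z, hzV, rfl⟩
  · intro hz
    refine ⟨h hz, ?_⟩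
    rintro ⟨z', hz', he⟩
    have : z' = z := ι.isClosedEmbedding.injective he
    exact hz' (this ▸ hz)

include hc in
theorem containsFj_shrink (m : ℕ) (Y : X.scheme.Opens) (hY : ContainsFj X (c + m) Y)
    (V' : Z.scheme.Opens) (hV' : ContainsFj Z m V') : ContainsFj X (c + m) (shrink ι Y V') := by
  intro p hp
  refine ⟨hY p hp, ?_⟩
  rintro ⟨z, hz, rfl⟩
  apply hz
  apply hV'
  have := codim_image ι c hc z
  omega

theorem shrink_inf_clOpen (Y : X.scheme.Opens) (V' : Z.scheme.Opens) :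
    shrink ι Y V' ⊓ clOpen ι = Y ⊓ clOpen ι := by
  ext p
  constructor
  · rintro ⟨⟨hpY, -⟩, hpc⟩
    exact ⟨hpY, hpc⟩
  · rintro ⟨hpY, hpc⟩
    refine ⟨⟨hpY, ?_⟩, hpc⟩
    rintro ⟨z, -, rfl⟩
    exact hpc ⟨z, rfl⟩

include hc in
theorem relCodim_clImm (Y : X.scheme.Opens) (hdY : dim (Y : Scheme.{u}) = dim X.scheme)
    (hdZ : dim ((ι ⁻¹ᵁ Y : Z.scheme.Opens) : Scheme.{u}) = dim Z.scheme) :
    relCodim (Z.res (ι ⁻¹ᵁ Y)).scheme (X.res Y).scheme = (c : ℤ) := by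
  have h1 : dim (Z.res (ι ⁻¹ᵁ Y)).scheme = dim Z.scheme := hdZ
  have h2 : dim (X.res Y).scheme = dim X.scheme := hdY
  unfold relCodim
  rw [h1, h2, ← hc]
  push_cast; ring

variable (T : PreTheory V R A) (M : A.Cat) (i n i' n' : ℤ)

/-- base change of the push-forward from the closed part along a smaller open -/
theorem pull_push_clImm {Y₂ Y : X.scheme.Opens} (hle : Y₂ ≤ Y)
    (hd : dim (Y₂ : Scheme.{u}) = dim (Y : Scheme.{u}))
    (hdZ : dim ((ι ⁻¹ᵁ Y₂ : Z.scheme.Opens) : Scheme.{u}) =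
      dim ((ι ⁻¹ᵁ Y : Z.scheme.Opens) : Scheme.{u}))
    (hi : i' = i + 2 * relCodim (Z.res (ι ⁻¹ᵁ Y)).scheme (X.res Y).scheme)
    (hn : n' = n + relCodim (Z.res (ι ⁻¹ᵁ Y)).scheme (X.res Y).scheme)
    (hi₂ : i' = i + 2 * relCodim (Z.res (ι ⁻¹ᵁ Y₂)).scheme (X.res Y₂).scheme)
    (hn₂ : n' = n + relCodim (Z.res (ι ⁻¹ᵁ Y₂)).scheme (X.res Y₂).scheme)
    (z : T.gp (Z.res (ι ⁻¹ᵁ Y)) M i n) :
    (T.pull (X.resLE hle hd) M i' n').hom
      ((T.push (X := Z.res (ι ⁻¹ᵁ Y)) (Y := X.res Y) (clImm ι Y) M i n i' n' hi hn).hom z) =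
    (T.push (X := Z.res (ι ⁻¹ᵁ Y₂)) (Y := X.res Y₂) (clImm ι Y₂) M i n i' n' hi₂ hn₂).hom
      ((T.pull (Z.resLE (show ι ⁻¹ᵁ Y₂ ≤ ι ⁻¹ᵁ Y from fun _ hz => hle hz) hdZ) M i n).hom z) := by
  have hWle : ι ⁻¹ᵁ Y₂ ≤ ι ⁻¹ᵁ Y := fun _ hz => hle hz
  have hpp := T.push_pull (X := Z.res (ι ⁻¹ᵁ Y)) (Y := X.res Y) (X' := Z.res (ι ⁻¹ᵁ Y₂))
    (Y' := X.res Y₂) (clImm ι Y) (clImm ι Y₂) (X.resLE hle hd) (Z.resLE hWle hdZ)
    (isPullback_resLE ι hle (ι ⁻¹ᵁ Y₂) (ι ⁻¹ᵁ Y) rfl rfl hWle) M i n i' n' hi hn hi₂ hn₂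
  exact congrArg (fun f => f.hom z) hpp

/-- the residue maps of the decompositions over nested opens are compatible -/
theorem res_clDecomp_natural {Y₂ Y : X.scheme.Opens} (hle : Y₂ ≤ Y)
    (hdY : dim (Y₂ : Scheme.{u}) = dim (Y : Scheme.{u}))
    (hdZ : dim ((ι ⁻¹ᵁ Y₂ : Z.scheme.Opens) : Scheme.{u}) =
      dim ((ι ⁻¹ᵁ Y : Z.scheme.Opens) : Scheme.{u}))
    (hd : dim ((Y ⊓ clOpen ι : X.scheme.Opens) : Scheme.{u}) = dim (Y : Scheme.{u}))
    (hd₂ : dim ((Y₂ ⊓ clOpen ι : X.scheme.Opens) : Scheme.{u}) = dim (Y₂ : Scheme.{u}))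
    (hiD : i' = i + 1 - 2 * (clDecomp ι Y hd).codim) (hnD : n' = n - (clDecomp ι Y hd).codim)
    (hiD₂ : i' = i + 1 - 2 * (clDecomp ι Y₂ hd₂).codim)
    (hnD₂ : n' = n - (clDecomp ι Y₂ hd₂).codim)
    (a : T.gp (X.res (Y ⊓ clOpen ι)) M i n) :
    (T.res (clDecomp ι Y₂ hd₂) M i n i' n' hiD₂ hnD₂).hom
      ((T.pull (X.resLE (show Y₂ ⊓ clOpen ι ≤ Y ⊓ clOpen ι from inf_le_inf_right _ hle)
        (by rw [hd₂, hd, hdY])) M i n).hom a) =
    (T.pull (Z.resLE (show ι ⁻¹ᵁ Y₂ ≤ ι ⁻¹ᵁ Y from fun _ hz => hle hz) hdZ) M i' n').hom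
      ((T.res (clDecomp ι Y hd) M i n i' n' hiD hnD).hom a) := by
  have hWle : ι ⁻¹ᵁ Y₂ ≤ ι ⁻¹ᵁ Y := fun _ hz => hle hz
  have hUle : Y₂ ⊓ clOpen ι ≤ Y ⊓ clOpen ι := inf_le_inf_right _ hle
  let g : X.res Y₂ ⟶ X.res Y := X.resLE hle hdY
  let gZ : (clDecomp ι Y₂ hd₂).Z ⟶ (clDecomp ι Y hd).Z := Z.resLE hWle hdZ
  let gU : (clDecomp ι Y₂ hd₂).U ⟶ (clDecomp ι Y hd).U :=
    X.resLE hUle (by rw [hd₂, hd, hdY])
  have comm1 : gZ.hom ≫ (clDecomp ι Y hd).i = (clDecomp ι Y₂ hd₂).i ≫ g.hom := by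
    rw [← cancel_mono Y.ι]
    show (Z.scheme.homOfLE hWle ≫ clImm ι Y) ≫ Y.ι = (clImm ι Y₂ ≫ X.scheme.homOfLE hle) ≫ Y.ι
    rw [Category.assoc, Category.assoc, clImm_ι, Scheme.homOfLE_ι, clImm_ι,
      ← Category.assoc, Scheme.homOfLE_ι]
  have comm2 : gU ≫ (clDecomp ι Y hd).j = (clDecomp ι Y₂ hd₂).j ≫ g := by
    apply Hom.ext
    show X.scheme.homOfLE hUle ≫ X.scheme.homOfLE (inf_le_left : Y ⊓ clOpen ι ≤ Y) =
      X.scheme.homOfLE (inf_le_left : Y₂ ⊓ clOpen ι ≤ Y₂) ≫ X.scheme.homOfLE hle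
    rw [Scheme.homOfLE_homOfLE, Scheme.homOfLE_homOfLE]
  have hrp := T.res_pull (clDecomp ι Y hd) (clDecomp ι Y₂ hd₂) g gZ gU comm1 comm2 M i n i' n'
    hiD hnD hiD₂ hnD₂
  exact (congrArg (fun f => f.hom a) hrp).symm

end Cl


section Main

variable (T : PreTheory V R A) (X : Obj V) (M : A.Cat) (j m : ℕ) (i n : ℤ)

theorem pull_resLE_eq_zero_of_eq (Z : Obj V) {W₁ W₂ W : Z.scheme.Opens} (h : W₁ = W₂)
    (h₁ : W₁ ≤ W) (h₂ : W₂ ≤ W) (hd₁ : dim (W₁ : Scheme.{u}) = dim (W : Scheme.{u}))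
    (hd₂ : dim (W₂ : Scheme.{u}) = dim (W : Scheme.{u})) (z : T.gp (Z.res W) M i n)
    (hz : (T.pull (Z.resLE h₂ hd₂) M i n).hom z = 0) :
    (T.pull (Z.resLE h₁ hd₁) M i n).hom z = 0 := by
  subst h
  exact hz

variable {Z : Obj V} (ι : Z.scheme ⟶ X.scheme) [IsClosedImmersion ι]
  (hc : dim Z.scheme + (j + 1) = dim X.scheme)

include hc in
theorem containsFj_inf_clOpen (Y : X.scheme.Opens) (hY : ContainsFj X j Y) :
    ContainsFj X j (Y ⊓ clOpen ι) := by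
  intro p hp
  refine ⟨hY p hp, ?_⟩
  rintro ⟨z, rfl⟩
  have := codim_image ι (j + 1) hc z
  omega

include hc in
theorem inj_main (i₀ n₀ : ℤ) (hi₀ : i = i₀ + 2 * ((j + 1 : ℕ) : ℤ))
    (hn₀ : n = n₀ + ((j + 1 : ℕ) : ℤ)) (h0 : IsZero (T.fjGp Z m M i₀ n₀))
    (U : Idx X (ContainsFj X (j + 1 + m)))
    (hd : dim ((U.1 ⊓ clOpen ι : X.scheme.Opens) : Scheme.{u}) = dim (U.1 : Scheme.{u}))
    (c : T.gp (X.res U.1) M i n)
    (hcz : (T.pull (X.resLE (inf_le_left : U.1 ⊓ clOpen ι ≤ U.1) hd) M i n).hom c = 0) :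
    (oι T X (ContainsFj X (j + 1 + m)) i n M U).hom c = 0 := by
  have hZF : ContainsFj Z m (ι ⁻¹ᵁ U.1) := containsFj_preimage ι (j + 1) hc m U.1 U.2.1
  have hdZ : dim ((ι ⁻¹ᵁ U.1 : Z.scheme.Opens) : Scheme.{u}) = dim Z.scheme :=
    dim_opens_eq_of_containsFj Z m _ hZF
  have hrc := relCodim_clImm ι (j + 1) hc U.1 U.2.2 hdZ
  have hiD : i = i₀ + 2 * relCodim (clDecomp ι U.1 hd).Z.scheme (X.res U.1).scheme := by
    rw [show relCodim (clDecomp ι U.1 hd).Z.scheme (X.res U.1).scheme = ((j + 1 : ℕ) : ℤ) from hrc]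
    exact hi₀
  have hnD : n = n₀ + relCodim (clDecomp ι U.1 hd).Z.scheme (X.res U.1).scheme := by
    rw [show relCodim (clDecomp ι U.1 hd).Z.scheme (X.res U.1).scheme = ((j + 1 : ℕ) : ℤ) from hrc]
    exact hn₀
  obtain ⟨z, hz⟩ : ∃ z : T.gp (Z.res (ι ⁻¹ᵁ U.1)) M i₀ n₀,
      (T.push (clDecomp ι U.1 hd).i M i₀ n₀ i n hiD hnD).hom z = c :=
    (exact_push_pull' T (clDecomp ι U.1 hd) M i n i₀ n₀ hiD hnD c).mp hcz
  have hz0 : (oι T Z (ContainsFj Z m) i₀ n₀ M ⟨ι ⁻¹ᵁ U.1, hZF, hdZ⟩).hom z = 0 :=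
    eq_zero_of_isZero h0 _
  obtain ⟨V', hV'le, hzV'⟩ := exists_of_eq_zero T Z (ContainsFj Z m) i₀ n₀ M
    (U := ⟨ι ⁻¹ᵁ U.1, hZF, hdZ⟩) z hz0
  have hY₂F : ContainsFj X (j + 1 + m) (shrink ι U.1 V'.1) :=
    containsFj_shrink ι (j + 1) hc m U.1 U.2.1 V'.1 V'.2.1
  have hY₂d : dim ((shrink ι U.1 V'.1 : X.scheme.Opens) : Scheme.{u}) = dim X.scheme :=
    dim_opens_eq_of_containsFj X _ _ hY₂F
  have hpre : ι ⁻¹ᵁ (shrink ι U.1 V'.1) = V'.1 := preimage_shrink ι U.1 V'.1 hV'le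
  have hdZ₂ : dim ((ι ⁻¹ᵁ (shrink ι U.1 V'.1) : Z.scheme.Opens) : Scheme.{u}) = dim Z.scheme := by
    rw [hpre]; exact V'.2.2
  have hrc₂ := relCodim_clImm ι (j + 1) hc (shrink ι U.1 V'.1) hY₂d hdZ₂
  have hle₂ : (⟨shrink ι U.1 V'.1, hY₂F, hY₂d⟩ : Idx X (ContainsFj X (j + 1 + m))) ≤ U :=
    shrink_le ι U.1 V'.1
  have hbc := pull_push_clImm ι T M i₀ n₀ i n (shrink_le ι U.1 V'.1) (hY₂d.trans U.2.2.symm)
    (hdZ₂.trans hdZ.symm) hiD hnD (by rw [hrc₂]; exact hi₀) (by rw [hrc₂]; exact hn₀) z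
  have hz2 : (T.pull (Z.resLE (show ι ⁻¹ᵁ (shrink ι U.1 V'.1) ≤ ι ⁻¹ᵁ U.1 from
      fun _ hz => shrink_le ι U.1 V'.1 hz) (hdZ₂.trans hdZ.symm)) M i₀ n₀).hom z = 0 :=
    pull_resLE_eq_zero_of_eq T M i₀ n₀ Z hpre _ hV'le _ (V'.2.2.trans hdZ.symm) z hzV'
  rw [← tr_oι_apply T X (ContainsFj X (j + 1 + m)) i n M hle₂]
  have htr : (tr T X (ContainsFj X (j + 1 + m)) i n M hle₂).hom c = 0 := by
    rw [← hz]
    refine hbc.trans ?_
    rw [hz2, map_zero]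
  rw [htr, map_zero]

include hc in
theorem surj_main (i₁ n₁ : ℤ) (hi₁ : i₁ = i + 1 - 2 * ((j : ℤ) + 1))
    (hn₁ : n₁ = n - ((j : ℤ) + 1)) (h1 : IsZero (T.fjGp Z m M i₁ n₁))
    (hF : ContainsFj X j (⊤ ⊓ clOpen ι))
    (c : T.gp (X.res (⊤ ⊓ clOpen ι)) M i n) :
    ∃ β : T.fjGp X (j + 1 + m) M i n,
      ((T.fjRes X ((Nat.le_succ j).trans (Nat.le_add_right (j + 1) m)) i n).app M).hom β =
        (oι T X (ContainsFj X j) i n M
          ⟨⊤ ⊓ clOpen ι, hF, dim_opens_eq_of_containsFj X j _ hF⟩).hom c := by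
  have hdU : dim ((⊤ ⊓ clOpen ι : X.scheme.Opens) : Scheme.{u}) = dim X.scheme :=
    dim_opens_eq_of_containsFj X j _ hF
  have hdT : dim ((⊤ : X.scheme.Opens) : Scheme.{u}) = dim X.scheme := dim_top X.scheme
  have hd : dim ((⊤ ⊓ clOpen ι : X.scheme.Opens) : Scheme.{u}) =
      dim ((⊤ : X.scheme.Opens) : Scheme.{u}) := hdU.trans hdT.symm
  have hTF : ContainsFj X (j + 1 + m) ⊤ := fun _ _ => trivial
  have hZF : ContainsFj Z m (ι ⁻¹ᵁ ⊤) := containsFj_preimage ι (j + 1) hc m ⊤ hTF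
  have hdZ : dim ((ι ⁻¹ᵁ ⊤ : Z.scheme.Opens) : Scheme.{u}) = dim Z.scheme :=
    dim_opens_eq_of_containsFj Z m _ hZF
  have hrc := relCodim_clImm ι (j + 1) hc ⊤ hdT hdZ
  have hcd : (clDecomp ι ⊤ hd).codim = (j : ℤ) + 1 := by
    show relCodim (Z.res (ι ⁻¹ᵁ ⊤)).scheme (X.res ⊤).scheme = _
    rw [hrc]; push_cast; ring
  have hiD : i₁ = i + 1 - 2 * (clDecomp ι ⊤ hd).codim := by rw [hcd]; exact hi₁
  have hnD : n₁ = n - (clDecomp ι ⊤ hd).codim := by rw [hcd]; exact hn₁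
  have hr0 : (oι T Z (ContainsFj Z m) i₁ n₁ M ⟨ι ⁻¹ᵁ ⊤, hZF, hdZ⟩).hom
      ((T.res (clDecomp ι ⊤ hd) M i n i₁ n₁ hiD hnD).hom c) = 0 := eq_zero_of_isZero h1 _
  obtain ⟨V', hV'le, hrV'⟩ := exists_of_eq_zero T Z (ContainsFj Z m) i₁ n₁ M
    (U := ⟨ι ⁻¹ᵁ ⊤, hZF, hdZ⟩) _ hr0
  have hY₂F : ContainsFj X (j + 1 + m) (shrink ι ⊤ V'.1) :=
    containsFj_shrink ι (j + 1) hc m ⊤ hTF V'.1 V'.2.1
  have hY₂d : dim ((shrink ι ⊤ V'.1 : X.scheme.Opens) : Scheme.{u}) = dim X.scheme :=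
    dim_opens_eq_of_containsFj X _ _ hY₂F
  have hpre : ι ⁻¹ᵁ (shrink ι ⊤ V'.1) = V'.1 := preimage_shrink ι ⊤ V'.1 hV'le
  have hdZ₂ : dim ((ι ⁻¹ᵁ (shrink ι ⊤ V'.1) : Z.scheme.Opens) : Scheme.{u}) = dim Z.scheme := by
    rw [hpre]; exact V'.2.2
  have hrc₂ := relCodim_clImm ι (j + 1) hc (shrink ι ⊤ V'.1) hY₂d hdZ₂
  have hY₂Fj : ContainsFj X j (shrink ι ⊤ V'.1) :=
    containsFj_mono X ((Nat.le_succ j).trans (Nat.le_add_right (j + 1) m)) _ hY₂F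
  have hF₂ : ContainsFj X j (shrink ι ⊤ V'.1 ⊓ clOpen ι) :=
    containsFj_inf_clOpen X j ι hc _ hY₂Fj
  have hd₂ : dim ((shrink ι ⊤ V'.1 ⊓ clOpen ι : X.scheme.Opens) : Scheme.{u}) =
      dim ((shrink ι ⊤ V'.1 : X.scheme.Opens) : Scheme.{u}) :=
    (dim_opens_eq_of_containsFj X j _ hF₂).trans hY₂d.symm
  have hcd₂ : (clDecomp ι (shrink ι ⊤ V'.1) hd₂).codim = (j : ℤ) + 1 := by
    show relCodim (Z.res (ι ⁻¹ᵁ (shrink ι ⊤ V'.1))).scheme (X.res (shrink ι ⊤ V'.1)).scheme = _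
    rw [hrc₂]; push_cast; ring
  have hiD₂ : i₁ = i + 1 - 2 * (clDecomp ι (shrink ι ⊤ V'.1) hd₂).codim := by
    rw [hcd₂]; exact hi₁
  have hnD₂ : n₁ = n - (clDecomp ι (shrink ι ⊤ V'.1) hd₂).codim := by rw [hcd₂]; exact hn₁
  have hnat := res_clDecomp_natural ι T M i n i₁ n₁ (shrink_le ι ⊤ V'.1) (hY₂d.trans hdT.symm)
    (hdZ₂.trans hdZ.symm) hd hd₂ hiD hnD hiD₂ hnD₂ c
  have hr2 : (T.pull (Z.resLE (show ι ⁻¹ᵁ (shrink ι ⊤ V'.1) ≤ ι ⁻¹ᵁ ⊤ from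
      fun _ hz => shrink_le ι ⊤ V'.1 hz) (hdZ₂.trans hdZ.symm)) M i₁ n₁).hom
      ((T.res (clDecomp ι ⊤ hd) M i n i₁ n₁ hiD hnD).hom c) = 0 :=
    pull_resLE_eq_zero_of_eq T M i₁ n₁ Z hpre _ hV'le _ (V'.2.2.trans hdZ.symm) _ hrV'
  rw [hr2] at hnat
  obtain ⟨c₂, hc₂⟩ := (T.exact_pull_res (clDecomp ι (shrink ι ⊤ V'.1) hd₂) M i n i₁ n₁ hiD₂ hnD₂
    _).mp hnat
  refine ⟨(oι T X (ContainsFj X (j + 1 + m)) i n M ⟨shrink ι ⊤ V'.1, hY₂F, hY₂d⟩).hom c₂, ?_⟩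
  rw [oι_fjRes_apply]
  have hleA : (⟨shrink ι ⊤ V'.1 ⊓ clOpen ι, hF₂, dim_opens_eq_of_containsFj X j _ hF₂⟩ :
      Idx X (ContainsFj X j)) ≤ ⟨shrink ι ⊤ V'.1, hY₂Fj, hY₂d⟩ :=
    (inf_le_left : shrink ι ⊤ V'.1 ⊓ clOpen ι ≤ shrink ι ⊤ V'.1)
  have hleB : (⟨shrink ι ⊤ V'.1 ⊓ clOpen ι, hF₂, dim_opens_eq_of_containsFj X j _ hF₂⟩ :
      Idx X (ContainsFj X j)) ≤ ⟨⊤ ⊓ clOpen ι, hF, dim_opens_eq_of_containsFj X j _ hF⟩ :=
    (inf_le_inf_right _ (shrink_le ι ⊤ V'.1) : shrink ι ⊤ V'.1 ⊓ clOpen ι ≤ ⊤ ⊓ clOpen ι)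
  rw [← tr_oι_apply T X (ContainsFj X j) i n M hleA,
    ← tr_oι_apply T X (ContainsFj X j) i n M hleB c]
  exact congrArg _ hc₂

end Main


section Final

variable (T : PreTheory V R A) (X : Obj V) (M : A.Cat) (j m : ℕ) (i n : ℤ)

theorem fjRes_bijective_of_closed
    (hZ : ∀ (Z : Obj V) (ι : Z.scheme ⟶ X.scheme) [IsClosedImmersion ι] [IsReduced Z.scheme],
      dim Z.scheme + (j + 1) = dim X.scheme →
      IsZero (T.fjGp Z m M (i - 2 * ((j : ℤ) + 1)) (n - ((j : ℤ) + 1))) ∧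
      IsZero (T.fjGp Z m M (i + 1 - 2 * ((j : ℤ) + 1)) (n - ((j : ℤ) + 1)))) :
    Function.Bijective
      ((T.fjRes X ((Nat.le_succ j).trans (Nat.le_add_right (j + 1) m)) i n).app M).hom := by
  classical
  have hjJ : j ≤ j + 1 + m := (Nat.le_succ j).trans (Nat.le_add_right (j + 1) m)
  by_cases hdeg : j + 1 ≤ dim X.scheme ∧ Nonempty X.scheme
  · obtain ⟨hjd, hne⟩ := hdeg
    haveI := hne
    obtain ⟨z₀, hz₀⟩ := exists_codim_eq X (j + 1) hjd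
    have key : ∀ U' : X.scheme.Opens, ContainsFj X j U' →
        ∃ Z₀ : Closeds X.scheme, (U' : Set X.scheme)ᶜ ⊆ (Z₀ : Set X.scheme) ∧
          (∀ p ∈ (Z₀ : Set X.scheme), j + 1 ≤ codim X.scheme p) ∧ z₀ ∈ (Z₀ : Set X.scheme) := by
      intro U' hU'
      refine ⟨⟨(U' : Set X.scheme)ᶜ ∪ closure {z₀},
        U'.isOpen.isClosed_compl.union isClosed_closure⟩, Set.subset_union_left, ?_,
        Or.inr (subset_closure rfl)⟩
      rintro p (hp | hp)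
      · by_contra h
        exact hp (hU' p (by omega))
      · have := codim_le_of_mem_closure X hp
        omega
    have hdimZ : ∀ Z₀ : Closeds X.scheme,
        (∀ p ∈ (Z₀ : Set X.scheme), j + 1 ≤ codim X.scheme p) → z₀ ∈ (Z₀ : Set X.scheme) →
        dim (redSub X Z₀).scheme + (j + 1) = dim X.scheme := by
      intro Z₀ hcod hz₀mem
      have hr := range_redSubι X Z₀
      obtain ⟨z', hz'⟩ : z₀ ∈ Set.range (redSubι X Z₀) := by rw [hr]; exact hz₀mem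
      haveI : Nonempty (redSub X Z₀).scheme := ⟨z'⟩
      have h1 := dim_add_le_of_codim_le (X := X) (Z := redSub X Z₀) (redSubι X Z₀) (j + 1)
        (fun z => hcod _ (by rw [← hr]; exact ⟨z, rfl⟩))
      have h2 := pdim_eq_of_isClosedImmersion (redSubι X Z₀) z'
      have h3 := pdim_le_dim (redSub X Z₀) z'
      have h4 := pdim_le_dim X z₀
      rw [hz'] at h2
      unfold codim at hz₀
      omega
    constructor
    · rw [injective_iff_map_eq_zero]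
      intro β hβ
      obtain ⟨U, c, rfl⟩ := exists_rep T X (ContainsFj X (j + 1 + m)) i n M β
      rw [oι_fjRes_apply] at hβ
      obtain ⟨U', hle, hc0⟩ := exists_of_eq_zero T X (ContainsFj X j) i n M
        (U := ⟨U.1, containsFj_mono X hjJ U.1 U.2.1, U.2.2⟩) c hβ
      obtain ⟨Z₀, hsub, hcod, hz₀mem⟩ := key U'.1 U'.2.1
      have hc := hdimZ Z₀ hcod hz₀mem
      obtain ⟨h0, -⟩ := hZ (redSub X Z₀) (redSubι X Z₀) hc
      have hUFj : ContainsFj X j U.1 := containsFj_mono X hjJ U.1 U.2.1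
      have hF : ContainsFj X j (U.1 ⊓ clOpen (redSubι X Z₀)) :=
        containsFj_inf_clOpen X j (redSubι X Z₀) hc U.1 hUFj
      have hd : dim ((U.1 ⊓ clOpen (redSubι X Z₀) : X.scheme.Opens) : Scheme.{u}) =
          dim (U.1 : Scheme.{u}) := (dim_opens_eq_of_containsFj X j _ hF).trans U.2.2.symm
      refine inj_main T X M j m i n (redSubι X Z₀) hc _ _ (by push_cast; ring)
        (by push_cast; ring) h0 U hd c ?_
      have hle' : (⟨U.1 ⊓ clOpen (redSubι X Z₀), hF, dim_opens_eq_of_containsFj X j _ hF⟩ :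
          Idx X (ContainsFj X j)) ≤ U' := by
        rintro p ⟨hpU, hpc⟩
        by_contra hpU'
        exact hpc (by rw [range_redSubι]; exact hsub hpU')
      have := tr_tr_apply T X (ContainsFj X j) i n M hle' hle c
      rw [hc0, map_zero] at this
      exact this.symm
    · intro α
      obtain ⟨U', c', rfl⟩ := exists_rep T X (ContainsFj X j) i n M α
      obtain ⟨Z₀, hsub, hcod, hz₀mem⟩ := key U'.1 U'.2.1
      have hc := hdimZ Z₀ hcod hz₀mem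
      obtain ⟨-, h1⟩ := hZ (redSub X Z₀) (redSubι X Z₀) hc
      have hF : ContainsFj X j (⊤ ⊓ clOpen (redSubι X Z₀)) :=
        containsFj_inf_clOpen X j (redSubι X Z₀) hc ⊤ (fun _ _ => trivial)
      have hle' : (⟨⊤ ⊓ clOpen (redSubι X Z₀), hF, dim_opens_eq_of_containsFj X j _ hF⟩ :
          Idx X (ContainsFj X j)) ≤ U' := by
        rintro p ⟨-, hpc⟩
        by_contra hpU'
        exact hpc (by rw [range_redSubι]; exact hsub hpU')
      obtain ⟨β, hβ⟩ := surj_main T X M j m i n (redSubι X Z₀) hc _ _ rfl rfl h1 hF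
        ((tr T X (ContainsFj X j) i n M hle').hom c')
      exact ⟨β, hβ.trans (tr_oι_apply T X (ContainsFj X j) i n M hle' c')⟩
  · have hall : ∀ p : X.scheme, codim X.scheme p ≤ j := by
      intro p
      by_contra h
      apply hdeg
      refine ⟨?_, ⟨p⟩⟩
      unfold codim at h
      omega
    have hup : ∀ U : X.scheme.Opens, ContainsFj X j U → ContainsFj X (j + 1 + m) U :=
      fun U hU p _ => hU p (hall p)
    constructor
    · rw [injective_iff_map_eq_zero]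
      intro β hβ
      obtain ⟨U, c, rfl⟩ := exists_rep T X (ContainsFj X (j + 1 + m)) i n M β
      rw [oι_fjRes_apply] at hβ
      obtain ⟨U', hle, hc0⟩ := exists_of_eq_zero T X (ContainsFj X j) i n M
        (U := ⟨U.1, containsFj_mono X hjJ U.1 U.2.1, U.2.2⟩) c hβ
      have hle₂ : (⟨U'.1, hup U'.1 U'.2.1, U'.2.2⟩ : Idx X (ContainsFj X (j + 1 + m))) ≤ U := hle
      rw [← tr_oι_apply T X (ContainsFj X (j + 1 + m)) i n M hle₂]
      have : (tr T X (ContainsFj X (j + 1 + m)) i n M hle₂).hom c = 0 := hc0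
      rw [this, map_zero]
    · intro α
      obtain ⟨U', c', rfl⟩ := exists_rep T X (ContainsFj X j) i n M α
      refine ⟨(oι T X (ContainsFj X (j + 1 + m)) i n M ⟨U'.1, hup U'.1 U'.2.1, U'.2.2⟩).hom c', ?_⟩
      rw [oι_fjRes_apply]

end Final

end Groth.Agent.Lib.Lead.BMClosed
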