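import Mathlib
import Groth.Prelude.Def_BMCoh4
import Groth.Agent.Lib.Lead.BMDim
import Groth.Agent.Lib.Lead.BMColim
import Groth.Agent.Lib.Lead.BMFormal

/-!
# The groups of `F_j X` (lead)
-/

set_option autoImplicit false
universe u
open AlgebraicGeometry CategoryTheory CategoryTheory.Limits Opposite TopologicalSpace

noncomputable section

namespace Groth.Agent.Lib.Lead.BMFj
open WeilCoh BMCoh Groth.Agent.Lib.Lead.BMDim Groth.Agent.Lib.Lead.BMColim
  Groth.Agent.Lib.Lead.BMFormal

variable {V : ObjectProperty Scheme.{u}} [IsConstructible V] {R : Type u} [CommRing R]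
  {A : Coefs R}

theorem oι_bijective_of_tr_bijective (T : PreTheory V R A) (X : Obj V)
    (P : X.scheme.Opens → Prop) [IsDirected (Idx X P) (· ≥ ·)] [Nonempty (Idx X P)] (i n : ℤ)
    (M : A.Cat) (U₀ : Idx X P)
    (h : ∀ (U' U : Idx X P) (hle : U' ≤ U), Function.Bijective (tr T X P i n M hle).hom) :
    Function.Bijective (oι T X P i n M U₀).hom := by
  constructor
  · rw [injective_iff_map_eq_zero]
    intro b hb
    obtain ⟨W, hW, hb'⟩ := exists_of_eq_zero T X P i n M b hb
    exact (injective_iff_map_eq_zero _).mp (h W U₀ hW).1 b hb'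
  · intro a
    obtain ⟨U, b, rfl⟩ := exists_rep T X P i n M a
    obtain ⟨W, hWU, hWU₀⟩ := directed_of (· ≥ ·) U U₀
    obtain ⟨b₀, hb₀⟩ := (h W U₀ hWU₀).2 ((tr T X P i n M hWU).hom b)
    refine ⟨b₀, ?_⟩
    rw [← tr_oι_apply T X P i n M hWU₀, hb₀, tr_oι_apply]

instance isIso_top_ι (X : Scheme.{u}) : IsIso (⊤ : X.Opens).ι := by
  rw [← Scheme.topIso_hom]; infer_instance

theorem tr_bijective_of_le (T : TheoryOn V R A) (X : Obj V) (j : ℕ) (M : A.Cat) (i n : ℤ)
    (hi : i ≤ 2 * (j : ℤ)) {U' U : Idx X (ContainsFj X j)} (hle : U' ≤ U) :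
    Function.Bijective (tr T.toPreTheory X (ContainsFj X j) i n M hle).hom := by
  let f : X.res U'.1 ⟶ X.res U.1 := (idxDiag X (ContainsFj X j)).map (homOfLE hle)
  let D := complDecomp f
  have hz : ∀ k m : ℤ, (IsEmpty D.Z.scheme ∨ k < 0) → IsZero (T.gp D.Z M k m) := by
    intro k m h
    rcases h with h | h
    · exact isZero_of_isEmpty T.toPreTheory D.Z M k m
    · exact isZero_neg T D.Z M k m h
  have hc : IsEmpty D.Z.scheme ∨ (j : ℤ) + 1 ≤ relCodim D.Z.scheme (X.res U.1).scheme := by
    by_cases hZ : IsEmpty D.Z.scheme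
    · exact Or.inl hZ
    · right
      rw [not_isEmpty_iff] at hZ
      have h1 := dim_add_le_of_codim_le (X := X.res U.1) D.i (j + 1) (fun z => by
        rw [codim_eq_of_isOpenImmersion X (X.resι U.1 U.2.2)]
        by_contra hlt
        have hmem : (X.resι U.1 U.2.2).hom (D.i z) ∈ U'.1 := U'.2.1 _ (by omega)
        have hz : D.i z ∈ Set.range D.i := ⟨z, rfl⟩
        rw [range_complDecomp_i] at hz
        apply hz
        refine ⟨⟨_, hmem⟩, ?_⟩
        apply Subtype.ext
        exact Scheme.homOfLE_apply (X := X.scheme) (U := U'.1) (V := U.1) hle ⟨_, hmem⟩)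
      unfold relCodim
      omega
  constructor
  · refine pull_injective_of_isZero T.toPreTheory D M i n
      (i - 2 * relCodim D.Z.scheme (X.res U.1).scheme) (n - relCodim D.Z.scheme (X.res U.1).scheme)
      (by ring) (by ring) (hz _ _ ?_)
    rcases hc with h | h
    · exact Or.inl h
    · right; omega
  · refine pull_surjective_of_isZero T.toPreTheory D M i n
      (i + 1 - 2 * D.codim) (n - D.codim) rfl rfl (hz _ _ ?_)
    rcases hc with h | h
    · exact Or.inl h
    · right
      show i + 1 - 2 * relCodim D.Z.scheme (X.res U.1).scheme < 0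
      omega

/-- restriction along a morphism of objects whose complement has codimension `≥ j + 1` is
bijective in degrees `i ≤ 2 j` -/
theorem pull_bijective_of_codim (T : TheoryOn V R A) {U X : Obj V} (f : U ⟶ X) (j : ℕ)
    (hbig : ∀ x : X.scheme, x ∉ Set.range f.hom → j + 1 ≤ codim X.scheme x) (M : A.Cat) (i n : ℤ)
    (hi : i ≤ 2 * (j : ℤ)) : Function.Bijective (T.pull f M i n).hom := by
  let D := complDecomp f
  have hz : ∀ k m : ℤ, (IsEmpty D.Z.scheme ∨ k < 0) → IsZero (T.gp D.Z M k m) := by
    intro k m h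
    rcases h with h | h
    · exact isZero_of_isEmpty T.toPreTheory D.Z M k m
    · exact isZero_neg T D.Z M k m h
  have hc : IsEmpty D.Z.scheme ∨ (j : ℤ) + 1 ≤ relCodim D.Z.scheme X.scheme := by
    by_cases hZ : IsEmpty D.Z.scheme
    · exact Or.inl hZ
    · right
      rw [not_isEmpty_iff] at hZ
      have h1 := dim_add_le_of_codim_le (X := X) D.i (j + 1) (fun z => by
        apply hbig
        have hz : D.i z ∈ Set.range D.i := ⟨z, rfl⟩
        rw [range_complDecomp_i] at hz
        exact hz)
      unfold relCodim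
      omega
  constructor
  · refine pull_injective_of_isZero T.toPreTheory D M i n
      (i - 2 * relCodim D.Z.scheme X.scheme) (n - relCodim D.Z.scheme X.scheme)
      (by ring) (by ring) (hz _ _ ?_)
    rcases hc with h | h
    · exact Or.inl h
    · right; omega
  · refine pull_surjective_of_isZero T.toPreTheory D M i n
      (i + 1 - 2 * D.codim) (n - D.codim) rfl rfl (hz _ _ ?_)
    rcases hc with h | h
    · exact Or.inl h
    · right
      show i + 1 - 2 * relCodim D.Z.scheme X.scheme < 0
      omega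

theorem toFj_bijective (T : TheoryOn V R A) (X : Obj V) (M : A.Cat) (j : ℕ) (i n : ℤ)
    (hj : i ≤ 2 * (j : ℤ)) : Function.Bijective ((T.toFj X j i n).app M).hom := by
  have h1 : (T.toFj X j i n).app M = T.pull X.resTop M i n ≫
      oι T.toPreTheory X (ContainsFj X j) i n M ⟨⊤, fun _ _ => trivial, dim_top X.scheme⟩ := rfl
  rw [h1]
  have : IsIso X.resTop.hom := isIso_top_ι X.scheme
  have h2 := pull_bijective_of_isIso T.toPreTheory X.resTop M i n
  have h3 := oι_bijective_of_tr_bijective T.toPreTheory X (ContainsFj X j) i n M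
    ⟨⊤, fun _ _ => trivial, dim_top X.scheme⟩
    (fun U' U hle => tr_bijective_of_le T X j M i n hj hle)
  exact h3.comp h2

end Groth.Agent.Lib.Lead.BMFj
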