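import Mathlib
import Groth.Prelude.Def_BMCoh4
import Groth.Agent.Lib.Lead.BMNormMaps

/-!
# Auxiliary lemmas for the comparison of residues along a proper map (lead)
-/

set_option autoImplicit false
universe u
open AlgebraicGeometry CategoryTheory CategoryTheory.Limits Opposite TopologicalSpace

noncomputable section

namespace Groth.Agent.Lib.Lead.BMNormAux
open WeilCoh BMCoh Groth.Agent.Lib.Lead.BMDim Groth.Agent.Lib.Lead.BMColim
  Groth.Agent.Lib.Lead.BMFormal Groth.Agent.Lib.Lead.BMPt Groth.Agent.Lib.Lead.BMSeq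
  Groth.Agent.Lib.Lead.BMSeq2 Groth.Agent.Lib.Lead.BMSeq3 Groth.Agent.Lib.Lead.BMAdd
  Groth.Agent.Lib.Lead.BMPtPush Groth.Agent.Lib.Lead.BMGood Groth.Agent.Lib.Lead.BMGoodAt
  Groth.Agent.Lib.Lead.BMNormMaps

variable {V : ObjectProperty Scheme.{u}} [IsConstructible V] {R : Type u} [CommRing R]
  {A : Coefs R}

section PieceMap

variable {Y X : Obj V} (φ : Y.scheme ⟶ X.scheme) (y : Y.scheme) (x : X.scheme) (hm : φ y = x)
  (UY : Y.scheme.Opens) (UX : X.scheme.Opens) (hU : UY = φ ⁻¹ᵁ UX)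

include hU in
theorem pieceMap_eq : (Y.ptSubι y) ⁻¹ᵁ UY = (ptMap φ y x hm) ⁻¹ᵁ ((X.ptSubι x) ⁻¹ᵁ UX) := by
  subst hU
  ext p
  have h := congrArg (fun f : (Y.ptSub y).scheme ⟶ X.scheme => f p) (ptMap_fac φ y x hm)
  simp only [Scheme.Hom.comp_apply] at h
  show φ ((Y.ptSubι y) p) ∈ UX ↔ (X.ptSubι x) ((ptMap φ y x hm) p) ∈ UX
  rw [h]

/-- the map induced by `φ` between the pieces of the closures of `y` and of `x = φ y` over
`UY = φ⁻¹ UX` and `UX` -/
def pieceMap : ((Y.ptSub y).res ((Y.ptSubι y) ⁻¹ᵁ UY)).scheme ⟶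
    ((X.ptSub x).res ((X.ptSubι x) ⁻¹ᵁ UX)).scheme :=
  (ptMap φ y x hm).resLE ((X.ptSubι x) ⁻¹ᵁ UX) ((Y.ptSubι y) ⁻¹ᵁ UY)
    (pieceMap_eq φ y x hm UY UX hU).le

instance [IsProper φ] : IsProper (pieceMap φ y x hm UY UX hU) :=
  isProper_resLE _ _ _ (pieceMap_eq φ y x hm UY UX hU)

theorem pieceMap_compat : pieceMap φ y x hm UY UX hU ≫ ((X.ptSubι x) ⁻¹ᵁ UX).ι ≫ X.ptSubι x =
    ((Y.ptSubι y) ⁻¹ᵁ UY).ι ≫ Y.ptSubι y ≫ φ := by
  unfold pieceMap
  rw [← Category.assoc, Scheme.Hom.resLE_comp_ι, Category.assoc, ptMap_fac]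

theorem pieceMap_ptClosedImm : pieceMap φ y x hm UY UX hU ≫ ptClosedImm X x _ UX rfl =
    ptClosedImm Y y _ UY rfl ≫ φ.resLE UX UY hU.le := by
  rw [← cancel_mono UX.ι, Category.assoc, Category.assoc, ptClosedImm_ι, Scheme.Hom.resLE_comp_ι,
    pieceMap_compat, ← Category.assoc (ptClosedImm Y y _ UY rfl), ptClosedImm_ι, Category.assoc]

end PieceMap

section FamTot

open DirectSum

variable (T : PreTheory V R A) {Y X : Obj V} {φ : Y.scheme ⟶ X.scheme} {j k : ℕ}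

theorem lof_cpt_apply [DecidableEq (X.cdPt k)] (t : Y.cdPt j → X.cdPt k)
    (F : ∀ y : Y.cdPt j, T.PtPush φ y.1 (t y).1) (M : A.Cat) (i n : ℤ) (y : Y.cdPt j)
    (x : X.cdPt k) (hty : t y = x) (W : ptIdx Y y.1) (W' : ptIdx X x.1)
    (f : ((Y.ptSub y.1).res W.1).scheme ⟶ ((X.ptSub x.1).res W'.1).scheme) [IsProper f]
    (hf : f ≫ W'.1.ι ≫ X.ptSubι x.1 = W.1.ι ≫ Y.ptSubι y.1 ≫ φ)
    (hi' : i = i + 2 * relCodim ((Y.ptSub y.1).res W.1).scheme ((X.ptSub x.1).res W'.1).scheme)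
    (hn' : n = n + relCodim ((Y.ptSub y.1).res W.1).scheme ((X.ptSub x.1).res W'.1).scheme)
    (z : T.gp ((Y.ptSub y.1).res W.1) M i n) :
    (DirectSum.lof R (X.cdPt k) (fun z : X.cdPt k => T.ptGp X z.1 M i n) (t y)
      (((F y).cpt M i n).hom ((oι T (Y.ptSub y.1)
        (fun U => (U : Set (Y.ptSub y.1).scheme).Nonempty) i n M W).hom z))) x =
    (oι T (X.ptSub x.1) (fun U => (U : Set (X.ptSub x.1).scheme).Nonempty) i n M W').hom
      ((T.push f M i n i n hi' hn').hom z) := by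
  subst hty
  rw [DirectSum.lof_eq_of, DirectSum.of_eq_same]
  exact congrArg (fun g => g.hom z) ((F y).cpt_spec M i n W W' f hf hi' hn')

theorem famTot_apply [DecidableEq (Y.cdPt j)] [DecidableEq (X.cdPt k)] (t : Y.cdPt j → X.cdPt k)
    (F : ∀ y : Y.cdPt j, T.PtPush φ y.1 (t y).1) (M : A.Cat) (i n : ℤ)
    (ζ : T.ptSum Y j M i n) (x : X.cdPt k) {J : Type u} [Fintype J] (f : J → Y.cdPt j)
    (hf : Function.Injective f) (hJ : ∀ y : Y.cdPt j, t y = x → y ∈ Set.range f) :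
    (PreTheory.PtPush.famTot t F M i n).hom ζ x =
      ∑ l : J, (DirectSum.lof R (X.cdPt k) (fun z : X.cdPt k => T.ptGp X z.1 M i n) (t (f l))
        (((F (f l)).cpt M i n).hom (ζ (f l)))) x := by
  classical
  let g : Y.cdPt j → T.ptGp X x.1 M i n := fun y =>
    (DirectSum.lof R (X.cdPt k) (fun z : X.cdPt k => T.ptGp X z.1 M i n) (t y)
      (((F y).cpt M i n).hom (ζ y))) x
  have h1 : (PreTheory.PtPush.famTot t F M i n).hom ζ x = ∑ y ∈ DFinsupp.support ζ, g y := by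
    have hζ : ζ = ∑ y ∈ DFinsupp.support ζ,
        DirectSum.lof R (Y.cdPt j) (fun z : Y.cdPt j => T.ptGp Y z.1 M i n) y (ζ y) :=
      (DirectSum.sum_support_of (β := fun z : Y.cdPt j => T.ptGp Y z.1 M i n) ζ).symm
    conv_lhs => rw [hζ]
    rw [map_sum, DFinsupp.finsetSum_apply]
    refine Finset.sum_congr rfl (fun y _ => ?_)
    rw [PreTheory.PtPush.famTot_lof]
  rw [h1]
  have h2 : ∑ l : J, g (f l) = ∑ y ∈ Finset.univ.image f, g y :=
    (Finset.sum_image (fun a _ b _ h => hf h)).symm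
  show _ = ∑ l : J, g (f l)
  rw [h2]
  have e1 : ∑ y ∈ DFinsupp.support ζ, g y =
      ∑ y ∈ DFinsupp.support ζ ∪ Finset.univ.image f, g y := by
    refine Finset.sum_subset Finset.subset_union_left (fun y _ hy => ?_)
    have : ζ y = 0 := by
      by_contra h
      exact hy (DFinsupp.mem_support_iff.mpr h)
    show (DirectSum.lof R (X.cdPt k) (fun z : X.cdPt k => T.ptGp X z.1 M i n) (t y)
      (((F y).cpt M i n).hom (ζ y))) x = 0
    rw [this, map_zero, map_zero]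
    rfl
  have e2 : ∑ y ∈ Finset.univ.image f, g y =
      ∑ y ∈ DFinsupp.support ζ ∪ Finset.univ.image f, g y := by
    refine Finset.sum_subset Finset.subset_union_right (fun y _ hy => ?_)
    have hne : t y ≠ x := by
      intro h
      obtain ⟨l, hl⟩ := hJ y h
      exact hy (Finset.mem_image.mpr ⟨l, Finset.mem_univ _, hl⟩)
    exact DirectSum.of_eq_of_ne _ _ _ hne.symm
  rw [e1, e2]

end FamTot

end Groth.Agent.Lib.Lead.BMNormAux
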