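import Mathlib
import Groth.Prelude.Def_BMCoh4
import Groth.Agent.Lib.Lead.BMNormAux

/-!
# Residue after push-forward along a proper map from an irreducible object (lead)
-/

set_option autoImplicit false
universe u
open AlgebraicGeometry CategoryTheory CategoryTheory.Limits Opposite TopologicalSpace

noncomputable section

namespace Groth.Agent.Lib.Lead.BMNormMain
open WeilCoh BMCoh Groth.Agent.Lib.Lead.BMDim Groth.Agent.Lib.Lead.BMColim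
  Groth.Agent.Lib.Lead.BMFormal Groth.Agent.Lib.Lead.BMPt Groth.Agent.Lib.Lead.BMSeq
  Groth.Agent.Lib.Lead.BMSeq2 Groth.Agent.Lib.Lead.BMSeq3 Groth.Agent.Lib.Lead.BMAdd
  Groth.Agent.Lib.Lead.BMPtPush Groth.Agent.Lib.Lead.BMGood Groth.Agent.Lib.Lead.BMGoodAt
  Groth.Agent.Lib.Lead.BMNormTop Groth.Agent.Lib.Lead.BMNormMaps Groth.Agent.Lib.Lead.BMNormAux

variable {V : ObjectProperty Scheme.{u}} [IsConstructible V] {R : Type u} [CommRing R]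
  {A : Coefs R}

section Local

variable (T : PreTheory V R A) {Y X : Obj V} (φ : Y.scheme ⟶ X.scheme) [IsProper φ]
  (x : X.scheme) (Yx : X.scheme.Opens) (hxYx : x ∈ Yx) {C' : Set Y.scheme}
  (hG : GoodAt Y 1 C' (φ ⁻¹ᵁ Yx)) [Fintype (CPt Y 1 C')]
  (hC'x : ∀ p : Y.scheme, p ∈ φ ⁻¹ᵁ Yx → (φ p ∈ closure ({x} : Set X.scheme) ↔ p ∈ C'))
  (hC'pt : ∀ y : CPt Y 1 C', φ y.1.1 = x)

/-- the piece map factors through the reduced closed part -/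
theorem pieceMap_eq_comp (l : CPt Y 1 C') :
    pieceMap φ l.1.1 x (hC'pt l) (φ ⁻¹ᵁ Yx) Yx rfl =
      hG.e₀ hG.Z hG.ιZ hG.hr l ≫ gZ φ x Yx hxYx hG hC'x := by
  refine (cancel_mono (ptClosedImm X x (ptW X x Yx hxYx).1 Yx rfl)).mp ?_
  have h1 := pieceMap_ptClosedImm φ l.1.1 x (hC'pt l) (φ ⁻¹ᵁ Yx) Yx rfl
  have h2 : (hG.e₀ hG.Z hG.ιZ hG.hr l ≫ gZ φ x Yx hxYx hG hC'x) ≫
      ptClosedImm X x (ptW X x Yx hxYx).1 Yx rfl =
      ptClosedImm Y l.1.1 (hG.W l).1 (φ ⁻¹ᵁ Yx) rfl ≫ Φ φ Yx := by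
    rw [Category.assoc, gZ_fac, ← Category.assoc, hG.e₀_fac]
  exact h1.trans h2.symm

theorem sum_push_pieceMap (M : A.Cat) (i₂ n₂ : ℤ)
    (hiZ : i₂ = i₂ + 2 * relCodim hG.Z.scheme ((X.ptSub x).res (ptW X x Yx hxYx).1).scheme)
    (hnZ : n₂ = n₂ + relCodim hG.Z.scheme ((X.ptSub x).res (ptW X x Yx hxYx).1).scheme)
    (hip : ∀ l : CPt Y 1 C', i₂ = i₂ + 2 * relCodim ((Y.ptSub l.1.1).res (hG.W l).1).scheme
      ((X.ptSub x).res (ptW X x Yx hxYx).1).scheme)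
    (hnp : ∀ l : CPt Y 1 C', n₂ = n₂ + relCodim ((Y.ptSub l.1.1).res (hG.W l).1).scheme
      ((X.ptSub x).res (ptW X x Yx hxYx).1).scheme)
    (r : T.gp hG.Z M i₂ n₂) :
    ∑ l : CPt Y 1 C', (T.push (X := (Y.ptSub l.1.1).res (hG.W l).1)
        (Y := (X.ptSub x).res (ptW X x Yx hxYx).1)
        (pieceMap φ l.1.1 x (hC'pt l) (φ ⁻¹ᵁ Yx) Yx rfl) M i₂ n₂ i₂ n₂ (hip l) (hnp l)).hom
      ((T.pull (hG.e hG.Z hG.ιZ hG.hr l) M i₂ n₂).hom r) =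
    (T.push (X := hG.Z) (Y := (X.ptSub x).res (ptW X x Yx hxYx).1)
      (gZ φ x Yx hxYx hG hC'x) M i₂ n₂ i₂ n₂ hiZ hnZ).hom r := by
  classical
  have hes := (hG.cover hG.Z hG.ιZ hG.hr).eq_sum T M i₂ n₂ r
  refine Eq.trans ?_ (congrArg _ hes.symm)
  rw [map_sum]
  refine Finset.sum_congr rfl (fun l _ => ?_)
  have h1 := (hG.cover hG.Z hG.ιZ hG.hr).push_psh_comp T M i₂ n₂ i₂ n₂
    (S := (X.ptSub x).res (ptW X x Yx hxYx).1) (gZ φ x Yx hxYx hG hC'x) hiZ hnZ l (hip l) (hnp l)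
    ((T.pull (hG.e hG.Z hG.ιZ hG.hr l) M i₂ n₂).hom r)
  refine Eq.trans ?_ h1.symm
  exact congrArg (fun f => f.hom ((T.pull (hG.e hG.Z hG.ιZ hG.hr l) M i₂ n₂).hom r))
    (push_congr T (X := (Y.ptSub l.1.1).res (hG.W l).1)
      (Y := (X.ptSub x).res (ptW X x Yx hxYx).1)
      (pieceMap_eq_comp φ x Yx hxYx hG hC'x hC'pt l) M i₂ n₂ i₂ n₂ (hip l) (hnp l))

end Local


section Local2

variable (T : PreTheory V R A) {Y X : Obj V} (φ : Y.scheme ⟶ X.scheme) [IsProper φ]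
  (η : Y.scheme) (w : X.scheme) (hφη : φ η = w) (UY : Y.scheme.Opens) (UX : X.scheme.Opens)
  (hU : UY = φ ⁻¹ᵁ UX) (hηU : η ∈ UY) (hwU : w ∈ UX)

theorem push_push_eq (M : A.Cat) (i n i₃ n₃ i₁ n₁ : ℤ)
    (hfi : i = i + 2 * relCodim ((Y.ptSub η).res (ptW Y η UY hηU).1).scheme
      ((X.ptSub w).res (ptW X w UX hwU).1).scheme)
    (hfn : n = n + relCodim ((Y.ptSub η).res (ptW Y η UY hηU).1).scheme
      ((X.ptSub w).res (ptW X w UX hwU).1).scheme)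
    (hli : i₁ = i + 2 * relCodim ((X.ptSub w).res (ptW X w UX hwU).1).scheme (X.res UX).scheme)
    (hln : n₁ = n + relCodim ((X.ptSub w).res (ptW X w UX hwU).1).scheme (X.res UX).scheme)
    (hκi : i₃ = i + 2 * relCodim ((Y.ptSub η).res (ptW Y η UY hηU).1).scheme (Y.res UY).scheme)
    (hκn : n₃ = n + relCodim ((Y.ptSub η).res (ptW Y η UY hηU).1).scheme (Y.res UY).scheme)
    (hUi : i₁ = i₃ + 2 * relCodim (Y.res UY).scheme (X.res UX).scheme)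
    (hUn : n₁ = n₃ + relCodim (Y.res UY).scheme (X.res UX).scheme)
    (b : T.gp ((Y.ptSub η).res (ptW Y η UY hηU).1) M i n) :
    haveI : IsProper (φ.resLE UX UY hU.le) := isProper_resLE φ UX UY hU
    (T.push (X := (X.ptSub w).res (ptW X w UX hwU).1) (Y := X.res UX)
        (ptClosedImm X w (ptW X w UX hwU).1 UX rfl) M i n i₁ n₁ hli hln).hom
      ((T.push (X := (Y.ptSub η).res (ptW Y η UY hηU).1) (Y := (X.ptSub w).res (ptW X w UX hwU).1)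
        (pieceMap φ η w hφη UY UX hU) M i n i n hfi hfn).hom b) =
    (T.push (X := Y.res UY) (Y := X.res UX) (φ.resLE UX UY hU.le) M i₃ n₃ i₁ n₁ hUi hUn).hom
      ((T.push (X := (Y.ptSub η).res (ptW Y η UY hηU).1) (Y := Y.res UY)
        (ptClosedImm Y η (ptW Y η UY hηU).1 UY rfl) M i n i₃ n₃ hκi hκn).hom b) := by
  haveI : IsProper (φ.resLE UX UY hU.le) := isProper_resLE φ UX UY hU
  have hci : i₁ = i + 2 * relCodim ((Y.ptSub η).res (ptW Y η UY hηU).1).scheme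
      (X.res UX).scheme := by
    unfold relCodim at *; omega
  have hcn : n₁ = n + relCodim ((Y.ptSub η).res (ptW Y η UY hηU).1).scheme
      (X.res UX).scheme := by
    unfold relCodim at *; omega
  have hc1 := T.push_comp (X := (Y.ptSub η).res (ptW Y η UY hηU).1)
    (Y := (X.ptSub w).res (ptW X w UX hwU).1) (Z := X.res UX)
    (pieceMap φ η w hφη UY UX hU) (ptClosedImm X w (ptW X w UX hwU).1 UX rfl) M i n i n i₁ n₁
    hfi hfn hli hln hci hcn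
  have hc2 := T.push_comp (X := (Y.ptSub η).res (ptW Y η UY hηU).1) (Y := Y.res UY)
    (Z := X.res UX) (ptClosedImm Y η (ptW Y η UY hηU).1 UY rfl) (φ.resLE UX UY hU.le) M
    i n i₃ n₃ i₁ n₁ hκi hκn hUi hUn hci hcn
  have hcg := push_congr T (X := (Y.ptSub η).res (ptW Y η UY hηU).1) (Y := X.res UX)
    (pieceMap_ptClosedImm φ η w hφη UY UX hU) M i n i₁ n₁ hci hcn
  exact ((congrArg (fun f => f.hom b) hc1).trans (congrArg (fun f => f.hom b) hcg)).trans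
    (congrArg (fun f => f.hom b) hc2).symm

end Local2


section Rep

variable (T : PreTheory V R A)
  (hred : ∀ (S : BMCoh.Obj V) (D D'' : BMCoh.Decomp S) (gU : D''.U ⟶ D.U)
      (k : D''.Z.scheme ⟶ D.Z.scheme) [IsClosedImmersion k] [AlgebraicGeometry.Surjective k],
      gU ≫ D.j = D''.j → k ≫ D.i = D''.i →
      ∀ (M : A.Cat) (i n i' n' : ℤ) (hi : i' = i + 1 - 2 * D.codim) (hn : n' = n - D.codim)
        (hi'' : i' = i + 1 - 2 * D''.codim) (hn'' : n' = n - D''.codim)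
        (hk : i' = i' + 2 * BMCoh.relCodim D''.Z.scheme D.Z.scheme)
        (hk' : n' = n' + BMCoh.relCodim D''.Z.scheme D.Z.scheme),
      T.pull gU M i n ≫ T.res D'' M i n i' n' hi'' hn'' ≫ T.push k M i' n' i' n' hk hk' =
        T.res D M i n i' n' hi hn)
  {Y X : Obj V} (φ : Y.scheme ⟶ X.scheme) [IsProper φ] (q : ℕ) (w : X.cdPt q)
  (η : Y.scheme) (hη : codim Y.scheme η = 0) (hdim : dim Y.scheme + q = dim X.scheme)
  (P : T.PushData X q) (Q : T.ResData X q) (L : T.PtPush φ η w.1)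
  (P' : T.PushData Y 0) (Q' : T.ResData Y 0) (t : Y.cdPt 1 → X.cdPt (q + 1))
  (F : ∀ y : Y.cdPt 1, T.PtPush φ y.1 (t y).1)
  (x : X.cdPt (q + 1)) (Yx : X.scheme.Opens) (hxYx : x.1 ∈ Yx) (hYxF : ContainsFj X q Yx)
  {C' : Set Y.scheme} (hG : GoodAt Y 1 C' (φ ⁻¹ᵁ Yx)) [Fintype (CPt Y 1 C')]
  (hC'x : ∀ p : Y.scheme, p ∈ φ ⁻¹ᵁ Yx → (φ p ∈ closure ({x.1} : Set X.scheme) ↔ p ∈ C'))
  (hC'pt : ∀ y : CPt Y 1 C', φ y.1.1 = x.1)
  (hfib : ∀ p : Y.scheme, φ p = x.1 → ∃ y : CPt Y 1 C', y.1.1 = p)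
  (hUF : ContainsFj Y 0 hG.U)
  (M : A.Cat) (i n i₁ n₁ i₂ n₂ i₃ n₃ : ℤ)
  (h1 : i₁ = i + 2 * (q : ℤ)) (h1' : n₁ = n + (q : ℤ))
  (h2 : i₂ = i₁ + 1 - 2 * ((q : ℤ) + 1)) (h2' : n₂ = n₁ - ((q : ℤ) + 1))
  (h3 : i₃ = i + 2 * ((0 : ℕ) : ℤ)) (h3' : n₃ = n + ((0 : ℕ) : ℤ))
  (h4 : i₂ = i₃ + 1 - 2 * (((0 : ℕ) : ℤ) + 1)) (h4' : n₂ = n₃ - (((0 : ℕ) : ℤ) + 1))
  (hκi : i₃ = i + 2 * relCodim ((Y.ptSub η).res (ptW Y η hG.U (hUF η hη.le)).1).scheme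
    (Y.res hG.U).scheme)
  (hκn : n₃ = n + relCodim ((Y.ptSub η).res (ptW Y η hG.U (hUF η hη.le)).1).scheme
    (Y.res hG.U).scheme)
  (hiDY : i₂ = i₃ + 1 - 2 * (hG.decomp hUF).codim) (hnDY : n₂ = n₃ - (hG.decomp hUF).codim)
  (hiZ : i₂ = i₂ + 2 * relCodim hG.Z.scheme ((X.ptSub x.1).res (ptW X x.1 Yx hxYx).1).scheme)
  (hnZ : n₂ = n₂ + relCodim hG.Z.scheme ((X.ptSub x.1).res (ptW X x.1 Yx hxYx).1).scheme)

include hred hdim hYxF h3 h3' in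
theorem lhs_rep (b : T.gp ((Y.ptSub η).res (ptW Y η hG.U (hUF η hη.le)).1) M i n) :
    (Q.cpt x M i₁ n₁ i₂ n₂ h2 h2').hom ((P.cpt w M i n i₁ n₁ h1 h1').hom ((L.cpt M i n).hom
      ((oι T (Y.ptSub η) (fun U => (U : Set (Y.ptSub η).scheme).Nonempty) i n M
        (ptW Y η hG.U (hUF η hη.le))).hom b))) =
    (oι T (X.ptSub x.1) (fun U => (U : Set (X.ptSub x.1).scheme).Nonempty) i₂ n₂ M
      (ptW X x.1 Yx hxYx)).hom
      ((T.push (X := hG.Z) (Y := (X.ptSub x.1).res (ptW X x.1 Yx hxYx).1)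
        (gZ φ x.1 Yx hxYx hG hC'x) M i₂ n₂ i₂ n₂ hiZ hnZ).hom
        ((T.res (hG.decomp hUF) M i₃ n₃ i₂ n₂ hiDY hnDY).hom
          ((T.push (X := (Y.ptSub η).res (ptW Y η hG.U (hUF η hη.le)).1) (Y := Y.res hG.U)
            (ptClosedImm Y η (ptW Y η hG.U (hUF η hη.le)).1 hG.U rfl) M i n i₃ n₃
            hκi hκn).hom b))) := by
  have hφη : φ η = w.1 := L.maps_pt
  have hUxF : ContainsFj X q (Yx ⊓ clCompl X x.1) :=
    containsFj_inf_clCompl X q x.1 x.2.ge Yx hYxF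
  have hwUx : w.1 ∈ Yx ⊓ clCompl X x.1 := hUxF w.1 w.2.le
  have hUeq := U_eq φ x.1 Yx hG hC'x
  have hrcL : relCodim ((Y.ptSub η).res (ptW Y η hG.U (hUF η hη.le)).1).scheme
      ((X.ptSub w.1).res (ptW X w.1 (Yx ⊓ clCompl X x.1) hwUx).1).scheme = 0 := by
    have := L.codim_eq
    unfold relCodim at this ⊢
    rw [(ptW Y η hG.U (hUF η hη.le)).2.2, (ptW X w.1 (Yx ⊓ clCompl X x.1) hwUx).2.2]
    exact this
  have hrcl := relCodim_ptW X q w.1 w.2 (Yx ⊓ clCompl X x.1) hUxF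
    (ptW X w.1 (Yx ⊓ clCompl X x.1) hwUx)
  have hrcU : relCodim (Y.res hG.U).scheme (X.res (Yx ⊓ clCompl X x.1)).scheme = (q : ℤ) := by
    have e1 : dim (Y.res hG.U).scheme = dim Y.scheme := (hG.UIdx hUF).2.2
    have e2 : dim (X.res (Yx ⊓ clCompl X x.1)).scheme = dim X.scheme :=
      dim_opens_eq_of_containsFj X q _ hUxF
    unfold relCodim
    rw [e1, e2, ← hdim]
    push_cast; ring
  have hfi : i = i + 2 * relCodim ((Y.ptSub η).res (ptW Y η hG.U (hUF η hη.le)).1).scheme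
      ((X.ptSub w.1).res (ptW X w.1 (Yx ⊓ clCompl X x.1) hwUx).1).scheme := by rw [hrcL]; ring
  have hfn : n = n + relCodim ((Y.ptSub η).res (ptW Y η hG.U (hUF η hη.le)).1).scheme
      ((X.ptSub w.1).res (ptW X w.1 (Yx ⊓ clCompl X x.1) hwUx).1).scheme := by rw [hrcL]; ring
  have hli : i₁ = i + 2 * relCodim ((X.ptSub w.1).res
      (ptW X w.1 (Yx ⊓ clCompl X x.1) hwUx).1).scheme (X.res (Yx ⊓ clCompl X x.1)).scheme := by
    rw [hrcl]; exact h1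
  have hln : n₁ = n + relCodim ((X.ptSub w.1).res
      (ptW X w.1 (Yx ⊓ clCompl X x.1) hwUx).1).scheme (X.res (Yx ⊓ clCompl X x.1)).scheme := by
    rw [hrcl]; exact h1'
  have hUi : i₁ = i₃ + 2 * relCodim (Y.res hG.U).scheme
      (X.res (Yx ⊓ clCompl X x.1)).scheme := by rw [hrcU]; omega
  have hUn : n₁ = n₃ + relCodim (Y.res hG.U).scheme
      (X.res (Yx ⊓ clCompl X x.1)).scheme := by rw [hrcU]; omega
  have hcdX := ptDecomp'_codim X q x.1 x.2 Yx hxYx hYxF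
  have hiDX : i₂ = i₁ + 1 - 2 * (ptDecomp' X q x.1 Yx hYxF x.2.ge).codim := by
    rw [hcdX]; exact h2
  have hnDX : n₂ = n₁ - (ptDecomp' X q x.1 Yx hYxF x.2.ge).codim := by
    rw [hcdX]; exact h2'
  -- step 1: the datum `L` on the representative
  have e1 := L.cpt_spec M i n (ptW Y η hG.U (hUF η hη.le))
    (ptW X w.1 (Yx ⊓ clCompl X x.1) hwUx)
    (pieceMap φ η w.1 hφη hG.U (Yx ⊓ clCompl X x.1) hUeq)
    (pieceMap_compat φ η w.1 hφη hG.U (Yx ⊓ clCompl X x.1) hUeq) hfi hfn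
  have e1' : (L.cpt M i n).hom
      ((oι T (Y.ptSub η) (fun U => (U : Set (Y.ptSub η).scheme).Nonempty) i n M
        (ptW Y η hG.U (hUF η hη.le))).hom b) =
      (oι T (X.ptSub w.1) (fun U => (U : Set (X.ptSub w.1).scheme).Nonempty) i n M
        (ptW X w.1 (Yx ⊓ clCompl X x.1) hwUx)).hom
        ((T.push (X := (Y.ptSub η).res (ptW Y η hG.U (hUF η hη.le)).1)
          (Y := (X.ptSub w.1).res (ptW X w.1 (Yx ⊓ clCompl X x.1) hwUx).1)
          (pieceMap φ η w.1 hφη hG.U (Yx ⊓ clCompl X x.1) hUeq) M i n i n hfi hfn).hom b) :=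
    congrArg (fun f => f.hom b) e1
  -- step 2: the push-forward datum `P`
  have e2 := cpt_oι_ptIdx T X q w.1 w.2 M i n i₁ n₁ h1 h1' P (Yx ⊓ clCompl X x.1) hUxF
    (ptW X w.1 (Yx ⊓ clCompl X x.1) hwUx) rfl
    ((T.push (X := (Y.ptSub η).res (ptW Y η hG.U (hUF η hη.le)).1)
          (Y := (X.ptSub w.1).res (ptW X w.1 (Yx ⊓ clCompl X x.1) hwUx).1)
          (pieceMap φ η w.1 hφη hG.U (Yx ⊓ clCompl X x.1) hUeq) M i n i n hfi hfn).hom b)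
  -- step 3: the residue datum `Q`
  have e3 := cpt_oι_fjCl T X q x.1 x.2 M i₁ n₁ i₂ n₂ h2 h2' Q Yx hxYx hYxF
    ((T.push (X := (X.ptSub w.1).res (ptW X w.1 (Yx ⊓ clCompl X x.1) hwUx).1)
        (Y := X.res (Yx ⊓ clCompl X x.1))
        (ptClosedImm X w.1 (ptW X w.1 (Yx ⊓ clCompl X x.1) hwUx).1 (Yx ⊓ clCompl X x.1) rfl)
        M i n i₁ n₁ hli hln).hom
      ((T.push (X := (Y.ptSub η).res (ptW Y η hG.U (hUF η hη.le)).1)
          (Y := (X.ptSub w.1).res (ptW X w.1 (Yx ⊓ clCompl X x.1) hwUx).1)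
          (pieceMap φ η w.1 hφη hG.U (Yx ⊓ clCompl X x.1) hUeq) M i n i n hfi hfn).hom b))
  -- step 4: the two composites of push-forwards agree
  have e4 := push_push_eq T φ η w.1 hφη hG.U (Yx ⊓ clCompl X x.1) hUeq (hUF η hη.le) hwUx M
    i n i₃ n₃ i₁ n₁ hfi hfn hli hln hκi hκn hUi hUn b
  -- step 5: the local comparison
  have e5 := res_push_comparison T hred φ q x.1 x.2 Yx hxYx hYxF hG hC'x hUF M i₃ n₃ i₁ n₁ i₂ n₂
    hUi hUn hiDX hnDX hiDY hnDY hiZ hnZ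
    ((T.push (X := (Y.ptSub η).res (ptW Y η hG.U (hUF η hη.le)).1) (Y := Y.res hG.U)
            (ptClosedImm Y η (ptW Y η hG.U (hUF η hη.le)).1 hG.U rfl) M i n i₃ n₃
            hκi hκn).hom b)
  refine (congrArg (fun z => (Q.cpt x M i₁ n₁ i₂ n₂ h2 h2').hom
    ((P.cpt w M i n i₁ n₁ h1 h1').hom z)) e1').trans ?_
  refine (congrArg (fun z => (Q.cpt x M i₁ n₁ i₂ n₂ h2 h2').hom z) e2).trans ?_
  refine e3.trans ?_
  rw [resAt_apply]
  refine congrArg (fun z => (oι T (X.ptSub x.1)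
    (fun U => (U : Set (X.ptSub x.1).scheme).Nonempty) i₂ n₂ M (ptW X x.1 Yx hxYx)).hom z) ?_
  refine Eq.trans ?_ e5
  exact congrArg (fun z => (T.res (ptDecomp' X q x.1 Yx hYxF x.2.ge) M i₁ n₁ i₂ n₂
    hiDX hnDX).hom z) e4

include hdim hC'pt hfib h4 h4' in
theorem rhs_rep (b : T.gp ((Y.ptSub η).res (ptW Y η hG.U (hUF η hη.le)).1) M i n) :
    (PreTheory.PtPush.famTot t F M i₂ n₂).hom
      ((Q'.tot M i₃ n₃ i₂ n₂ h4 h4').hom ((P'.cpt ⟨η, hη⟩ M i n i₃ n₃ h3 h3').hom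
        ((oι T (Y.ptSub η) (fun U => (U : Set (Y.ptSub η).scheme).Nonempty) i n M
          (ptW Y η hG.U (hUF η hη.le))).hom b))) x =
    (oι T (X.ptSub x.1) (fun U => (U : Set (X.ptSub x.1).scheme).Nonempty) i₂ n₂ M
      (ptW X x.1 Yx hxYx)).hom
      ((T.push (X := hG.Z) (Y := (X.ptSub x.1).res (ptW X x.1 Yx hxYx).1)
        (gZ φ x.1 Yx hxYx hG hC'x) M i₂ n₂ i₂ n₂ hiZ hnZ).hom
        ((T.res (hG.decomp hUF) M i₃ n₃ i₂ n₂ hiDY hnDY).hom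
          ((T.push (X := (Y.ptSub η).res (ptW Y η hG.U (hUF η hη.le)).1) (Y := Y.res hG.U)
            (ptClosedImm Y η (ptW Y η hG.U (hUF η hη.le)).1 hG.U rfl) M i n i₃ n₃
            hκi hκn).hom b))) := by
  classical
  have hJ : ∀ y : Y.cdPt 1, t y = x →
      y ∈ Set.range (Subtype.val : CPt Y 1 C' → Y.cdPt 1) := by
    intro y hy
    have h1 : φ y.1 = x.1 := by rw [← hy]; exact (F y).maps_pt
    obtain ⟨y', hy'⟩ := hfib y.1 h1
    exact ⟨y', Subtype.ext hy'⟩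
  have hrcp : ∀ l : CPt Y 1 C', relCodim ((Y.ptSub l.1.1).res (hG.W l).1).scheme
      ((X.ptSub x.1).res (ptW X x.1 Yx hxYx).1).scheme = 0 := by
    intro l
    have e1 := hG.dim_piece l
    have e2 : dim ((X.ptSub x.1).res (ptW X x.1 Yx hxYx).1).scheme = pdim X.scheme x.1 := by
      rw [← dim_ptSub]; exact (ptW X x.1 Yx hxYx).2.2
    have e3 := x.2
    have e4 := pdim_le_dim X x.1
    unfold relCodim
    unfold codim at e3
    rw [e2]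
    omega
  have hip : ∀ l : CPt Y 1 C', i₂ = i₂ + 2 * relCodim ((Y.ptSub l.1.1).res (hG.W l).1).scheme
      ((X.ptSub x.1).res (ptW X x.1 Yx hxYx).1).scheme := fun l => by rw [hrcp l]; ring
  have hnp : ∀ l : CPt Y 1 C', n₂ = n₂ + relCodim ((Y.ptSub l.1.1).res (hG.W l).1).scheme
      ((X.ptSub x.1).res (ptW X x.1 Yx hxYx).1).scheme := fun l => by rw [hrcp l]; ring
  have e0 := cpt_oι_ptIdx T Y 0 η hη M i n i₃ n₃ h3 h3' P' hG.U hUF
    (ptW Y η hG.U (hUF η hη.le)) rfl b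
  have hterm : ∀ l : CPt Y 1 C',
      (DirectSum.lof R (X.cdPt (q + 1)) (fun z : X.cdPt (q + 1) => T.ptGp X z.1 M i₂ n₂) (t l.1)
        (((F l.1).cpt M i₂ n₂).hom (((Q'.tot M i₃ n₃ i₂ n₂ h4 h4').hom
          ((P'.cpt ⟨η, hη⟩ M i n i₃ n₃ h3 h3').hom
            ((oι T (Y.ptSub η) (fun U => (U : Set (Y.ptSub η).scheme).Nonempty) i n M
              (ptW Y η hG.U (hUF η hη.le))).hom b))) l.1))) x =
      (oι T (X.ptSub x.1) (fun U => (U : Set (X.ptSub x.1).scheme).Nonempty) i₂ n₂ M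
        (ptW X x.1 Yx hxYx)).hom
        ((T.push (X := (Y.ptSub l.1.1).res (hG.W l).1)
          (Y := (X.ptSub x.1).res (ptW X x.1 Yx hxYx).1)
          (pieceMap φ l.1.1 x.1 (hC'pt l) (φ ⁻¹ᵁ Yx) Yx rfl) M i₂ n₂ i₂ n₂ (hip l) (hnp l)).hom
          ((T.pull (hG.e hG.Z hG.ιZ hG.hr l) M i₂ n₂).hom
            ((T.res (hG.decomp hUF) M i₃ n₃ i₂ n₂ hiDY hnDY).hom
              ((T.push (X := (Y.ptSub η).res (ptW Y η hG.U (hUF η hη.le)).1) (Y := Y.res hG.U)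
                (ptClosedImm Y η (ptW Y η hG.U (hUF η hη.le)).1 hG.U rfl) M i n i₃ n₃
                hκi hκn).hom b)))) := by
    intro l
    have hty : t l.1 = x := Subtype.ext ((F l.1).maps_pt.symm.trans (hC'pt l))
    have e4 : ((Q'.tot M i₃ n₃ i₂ n₂ h4 h4').hom
          ((P'.cpt ⟨η, hη⟩ M i n i₃ n₃ h3 h3').hom
            ((oι T (Y.ptSub η) (fun U => (U : Set (Y.ptSub η).scheme).Nonempty) i n M
              (ptW Y η hG.U (hUF η hη.le))).hom b))) l.1 =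
        (oι T (Y.ptSub l.1.1) (fun U => (U : Set (Y.ptSub l.1.1).scheme).Nonempty) i₂ n₂ M
          (hG.W l)).hom ((T.pull (hG.e hG.Z hG.ιZ hG.hr l) M i₂ n₂).hom
            ((T.res (hG.decomp hUF) M i₃ n₃ i₂ n₂ hiDY hnDY).hom
              ((T.push (X := (Y.ptSub η).res (ptW Y η hG.U (hUF η hη.le)).1) (Y := Y.res hG.U)
                (ptClosedImm Y η (ptW Y η hG.U (hUF η hη.le)).1 hG.U rfl) M i n i₃ n₃
                hκi hκn).hom b))) := by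
      refine (PreTheory.ResData.tot_apply Q' M i₃ n₃ i₂ n₂ h4 h4' _ l.1).trans ?_
      refine (congrArg (fun z => (Q'.cpt l.1 M i₃ n₃ i₂ n₂ h4 h4').hom z) e0).trans ?_
      exact hG.cpt_oι hUF T M i₃ n₃ i₂ n₂ h4 h4' Q' l hiDY hnDY _
    rw [e4]
    exact lof_cpt_apply T t F M i₂ n₂ l.1 x hty (hG.W l) (ptW X x.1 Yx hxYx)
      (pieceMap φ l.1.1 x.1 (hC'pt l) (φ ⁻¹ᵁ Yx) Yx rfl)
      (pieceMap_compat φ l.1.1 x.1 (hC'pt l) (φ ⁻¹ᵁ Yx) Yx rfl) (hip l) (hnp l) _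
  rw [famTot_apply T t F M i₂ n₂ _ x (Subtype.val : CPt Y 1 C' → Y.cdPt 1)
    Subtype.val_injective hJ]
  rw [Finset.sum_congr rfl (fun l _ => hterm l), ← map_sum]
  refine congrArg (fun z => (oι T (X.ptSub x.1)
    (fun U => (U : Set (X.ptSub x.1).scheme).Nonempty) i₂ n₂ M (ptW X x.1 Yx hxYx)).hom z) ?_
  exact sum_push_pieceMap T φ x.1 Yx hxYx hG hC'x hC'pt M i₂ n₂ hiZ hnZ hip hnp _

end Rep


section Main

variable (T : PreTheory V R A)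
  (hred : ∀ (S : BMCoh.Obj V) (D D'' : BMCoh.Decomp S) (gU : D''.U ⟶ D.U)
      (k : D''.Z.scheme ⟶ D.Z.scheme) [IsClosedImmersion k] [AlgebraicGeometry.Surjective k],
      gU ≫ D.j = D''.j → k ≫ D.i = D''.i →
      ∀ (M : A.Cat) (i n i' n' : ℤ) (hi : i' = i + 1 - 2 * D.codim) (hn : n' = n - D.codim)
        (hi'' : i' = i + 1 - 2 * D''.codim) (hn'' : n' = n - D''.codim)
        (hk : i' = i' + 2 * BMCoh.relCodim D''.Z.scheme D.Z.scheme)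
        (hk' : n' = n' + BMCoh.relCodim D''.Z.scheme D.Z.scheme),
      T.pull gU M i n ≫ T.res D'' M i n i' n' hi'' hn'' ≫ T.push k M i' n' i' n' hk hk' =
        T.res D M i n i' n' hi hn)
  {Y X : Obj V} (φ : Y.scheme ⟶ X.scheme) [IsProper φ] (q : ℕ) (w : X.cdPt q)
  (η : Y.scheme) (hηgen : ∀ p : Y.scheme, p ∈ closure ({η} : Set Y.scheme))
  (hη : codim Y.scheme η = 0)
  (P : T.PushData X q) (Q : T.ResData X q) (L : T.PtPush φ η w.1)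
  (P' : T.PushData Y 0) (Q' : T.ResData Y 0) (t : Y.cdPt 1 → X.cdPt (q + 1))
  (F : ∀ y : Y.cdPt 1, T.PtPush φ y.1 (t y).1)
  (M : A.Cat) (i n i₁ n₁ i₂ n₂ i₃ n₃ : ℤ)
  (h1 : i₁ = i + 2 * (q : ℤ)) (h1' : n₁ = n + (q : ℤ))
  (h2 : i₂ = i₁ + 1 - 2 * ((q : ℤ) + 1)) (h2' : n₂ = n₁ - ((q : ℤ) + 1))
  (h3 : i₃ = i + 2 * ((0 : ℕ) : ℤ)) (h3' : n₃ = n + ((0 : ℕ) : ℤ))
  (h4 : i₂ = i₃ + 1 - 2 * (((0 : ℕ) : ℤ) + 1)) (h4' : n₂ = n₃ - (((0 : ℕ) : ℤ) + 1))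
  (x : X.cdPt (q + 1))

include hηgen in
theorem comp_not_mem (hφη : φ η = w.1) (hxw : x.1 ∉ closure ({w.1} : Set X.scheme))
    (α : T.ptGp X w.1 M i n) (ζ : T.ptSum Y 1 M i₂ n₂) :
    (Q.cpt x M i₁ n₁ i₂ n₂ h2 h2').hom ((P.cpt w M i n i₁ n₁ h1 h1').hom α) = 0 ∧
      (PreTheory.PtPush.famTot t F M i₂ n₂).hom ζ x = 0 := by
  classical
  constructor
  · obtain ⟨W₂, b₂, rfl⟩ := exists_rep T (X.ptSub w.1) _ i n M α
    have hU₂F := containsFj_ptCompl X w.1 W₂.1 W₂.2.1 q w.2.ge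
    have e1 := cpt_oι_ptIdx T X q w.1 w.2 M i n i₁ n₁ h1 h1' P (ptCompl X w.1 W₂.1) hU₂F W₂
      (preimage_ptCompl X w.1 W₂.1).symm b₂
    have hxU : x.1 ∈ ptCompl X w.1 W₂.1 := by
      intro hmem
      obtain ⟨p, -, hp⟩ := hmem
      apply hxw
      rw [← range_ptSubι]
      exact ⟨p, hp⟩
    have e2 := cpt_eq_zero_of_mem T X q x.1 x.2 M i₁ n₁ i₂ n₂ h2 h2' Q
      (fjIdx X q (ptCompl X w.1 W₂.1) hU₂F) hxU
      ((T.push (X := (X.ptSub w.1).res W₂.1) (Y := X.res (ptCompl X w.1 W₂.1))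
        (ptClosedImm X w.1 W₂.1 (ptCompl X w.1 W₂.1) (preimage_ptCompl X w.1 W₂.1).symm) M
        i n i₁ n₁
        (by rw [relCodim_ptW X q w.1 w.2 (ptCompl X w.1 W₂.1) hU₂F W₂]; exact h1)
        (by rw [relCodim_ptW X q w.1 w.2 (ptCompl X w.1 W₂.1) hU₂F W₂]; exact h1')).hom b₂)
    exact (congrArg (fun z => (Q.cpt x M i₁ n₁ i₂ n₂ h2 h2').hom z) e1).trans e2
  · have hJ : ∀ y : Y.cdPt 1, t y = x → y ∈ Set.range (fun e : PEmpty.{u + 1} => e.elim) := by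
      intro y hy
      exfalso
      have h1 : φ y.1 ∈ closure (φ '' ({η} : Set Y.scheme)) :=
        image_closure_subset_closure_image φ.continuous (Set.mem_image_of_mem φ (hηgen y.1))
      rw [Set.image_singleton, hφη, (F y).maps_pt, hy] at h1
      exact hxw h1
    rw [famTot_apply T t F M i₂ n₂ ζ x (fun e : PEmpty.{u + 1} => e.elim)
      (fun e => e.elim) hJ]
    exact Finset.sum_of_isEmpty _

include hred hηgen in
theorem comp_mem (hxw : x.1 ∈ closure ({w.1} : Set X.scheme)) (a : T.ptGp Y η M i n) :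
    (Q.cpt x M i₁ n₁ i₂ n₂ h2 h2').hom ((P.cpt w M i n i₁ n₁ h1 h1').hom
      ((L.cpt M i n).hom a)) =
    (PreTheory.PtPush.famTot t F M i₂ n₂).hom
      ((Q'.tot M i₃ n₃ i₂ n₂ h4 h4').hom ((P'.cpt ⟨η, hη⟩ M i n i₃ n₃ h3 h3').hom a)) x := by
  classical
  have hφη : φ η = w.1 := L.maps_pt
  have hdim : dim Y.scheme + q = dim X.scheme := by
    have e1 := L.codim_eq
    unfold relCodim at e1
    rw [dim_ptSub, dim_ptSub] at e1
    have e2 := w.2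
    have e3 := pdim_le_dim X w.1
    have e4 := pdim_le_dim Y η
    unfold codim at e2 hη
    omega
  obtain ⟨W₁, b₁, hb₁⟩ := exists_rep T (Y.ptSub η) _ i n M a
  obtain ⟨η', hη'⟩ := exists_ptSub_point Y η
  have hηU₁ : η ∈ ptCompl Y η W₁.1 := by
    have := (mem_ptCompl_iff Y η W₁.1 η').mpr (mem_of_nonempty_ptSub Y η W₁.1 W₁.2.1 η' hη')
    rwa [hη'] at this
  obtain ⟨Yx, C', hxYx, hYxF, hG, hC'x, hB₁C', hfin, hC'pt, hfib, hcod0⟩ :=
    exists_good_nbhd φ η hηgen q w.1 x.1 hφη w.2 x.2 hdim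
      ((ptCompl Y η W₁.1 : Set Y.scheme)ᶜ) (ptCompl Y η W₁.1).isOpen.isClosed_compl
      (fun h => h hηU₁)
  haveI := hfin
  haveI : Fintype (CPt Y 1 C') := Fintype.ofFinite _
  have hUF : ContainsFj Y 0 hG.U := by
    intro p hp
    exact ⟨(hcod0 p hp).1, (hcod0 p hp).2⟩
  have hle : ptW Y η hG.U (hUF η hη.le) ≤ W₁ := by
    intro p hp
    have hp' : (Y.ptSubι η) p ∈ hG.U := hp
    by_contra hpW
    have h1 : (Y.ptSubι η) p ∉ ptCompl Y η W₁.1 :=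
      fun h => hpW ((mem_ptCompl_iff Y η W₁.1 p).mp h)
    exact hp'.2 (hB₁C' _ hp'.1 h1)
  have hab : a = (oι T (Y.ptSub η) (fun U => (U : Set (Y.ptSub η).scheme).Nonempty) i n M
      (ptW Y η hG.U (hUF η hη.le))).hom ((tr T (Y.ptSub η)
        (fun U => (U : Set (Y.ptSub η).scheme).Nonempty) i n M hle).hom b₁) :=
    hb₁.symm.trans (tr_oι_apply T (Y.ptSub η) _ i n M hle b₁).symm
  have hxr : x.1 ∈ Set.range φ := by
    have hcl : IsClosed (Set.range φ) := φ.isClosedMap.isClosed_range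
    have hwr : w.1 ∈ Set.range φ := ⟨η, hφη⟩
    exact closure_minimal (Set.singleton_subset_iff.mpr hwr) hcl hxw
  obtain ⟨p₀, hp₀⟩ := hxr
  obtain ⟨y₀, -⟩ := hfib p₀ hp₀
  have hrcκ := relCodim_ptW Y 0 η hη hG.U hUF (ptW Y η hG.U (hUF η hη.le))
  have hcdY := hG.decomp_codim hUF y₀
  have hrcZ : relCodim hG.Z.scheme ((X.ptSub x.1).res (ptW X x.1 Yx hxYx).1).scheme = 0 := by
    have e0 := hG.dim_Z hG.Z hG.ιZ hG.hr y₀
    have e1 := hG.dim_piece y₀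
    have e2 : dim ((X.ptSub x.1).res (ptW X x.1 Yx hxYx).1).scheme = pdim X.scheme x.1 := by
      rw [← dim_ptSub]; exact (ptW X x.1 Yx hxYx).2.2
    have e3 := x.2
    have e4 := pdim_le_dim X x.1
    unfold relCodim
    unfold codim at e3
    rw [e2, ← e0]
    omega
  rw [hab]
  refine (lhs_rep T hred φ q w η hη hdim P Q L x Yx hxYx hYxF hG hC'x hUF M i n i₁ n₁ i₂ n₂
    i₃ n₃ h1 h1' h2 h2' h3 h3' (by rw [hrcκ]; exact h3) (by rw [hrcκ]; exact h3')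
    (by rw [hcdY]; exact h4) (by rw [hcdY]; exact h4') (by rw [hrcZ]; ring) (by rw [hrcZ]; ring)
    _).trans ?_
  exact (rhs_rep T φ q η hη hdim P' Q' t F x Yx hxYx hG hC'x hC'pt hfib hUF M i n i₂ n₂
    i₃ n₃ h3 h3' h4 h4' (by rw [hrcκ]; exact h3) (by rw [hrcκ]; exact h3')
    (by rw [hcdY]; exact h4) (by rw [hcdY]; exact h4') (by rw [hrcZ]; ring) (by rw [hrcZ]; ring)
    _).symm

include hred hηgen in
theorem main (a : T.ptGp Y η M i n) :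
    (Q.tot M i₁ n₁ i₂ n₂ h2 h2').hom ((P.cpt w M i n i₁ n₁ h1 h1').hom ((L.cpt M i n).hom a)) =
      (PreTheory.PtPush.famTot t F M i₂ n₂).hom
        ((Q'.tot M i₃ n₃ i₂ n₂ h4 h4').hom ((P'.cpt ⟨η, hη⟩ M i n i₃ n₃ h3 h3').hom a)) := by
  classical
  refine DFinsupp.ext (fun x => ?_)
  refine (PreTheory.ResData.tot_apply Q M i₁ n₁ i₂ n₂ h2 h2' _ x).trans ?_
  by_cases hxw : x.1 ∈ closure ({w.1} : Set X.scheme)
  · exact comp_mem T hred φ q w η hηgen hη P Q L P' Q' t F M i n i₁ n₁ i₂ n₂ i₃ n₃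
      h1 h1' h2 h2' h3 h3' h4 h4' x hxw a
  · obtain ⟨e1, e2⟩ := comp_not_mem T φ q w η hηgen P Q t F M i n i₁ n₁ i₂ n₂ h1 h1' h2 h2' x
      L.maps_pt hxw ((L.cpt M i n).hom a)
      ((Q'.tot M i₃ n₃ i₂ n₂ h4 h4').hom ((P'.cpt ⟨η, hη⟩ M i n i₃ n₃ h3 h3').hom a))
    exact e1.trans e2.symm

end Main

end Groth.Agent.Lib.Lead.BMNormMain
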