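import Mathlib
import Groth.Prelude.Def_BMCoh4
import Groth.Agent.Lib.Lead.BMGood

/-!
# Vanishing of the groups of `F_j X` from vanishing of the groups of points (lead)
-/

set_option autoImplicit false
universe u
open AlgebraicGeometry CategoryTheory CategoryTheory.Limits Opposite TopologicalSpace

noncomputable section

namespace Groth.Agent.Lib.Lead.BMVanish
open WeilCoh BMCoh Groth.Agent.Lib.Lead.BMDim Groth.Agent.Lib.Lead.BMColim
  Groth.Agent.Lib.Lead.BMFormal Groth.Agent.Lib.Lead.BMPt Groth.Agent.Lib.Lead.BMSeq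
  Groth.Agent.Lib.Lead.BMSeq2 Groth.Agent.Lib.Lead.BMSeq3 Groth.Agent.Lib.Lead.BMAdd
  Groth.Agent.Lib.Lead.BMGood

variable {V : ObjectProperty Scheme.{u}} [IsConstructible V] {R : Type u} [CommRing R]
  {A : Coefs R}

theorem range_id_eq (X : Obj V) (Y : X.scheme.Opens) :
    Set.range (𝟙 (X.res Y).scheme : (X.res Y).scheme ⟶ _) =
      {q : Y | q.1 ∈ (Set.univ : Set X.scheme)} := by
  ext q
  exact ⟨fun _ => trivial, fun _ => ⟨q, rfl⟩⟩

/-- if the groups of the points of codimension `0` of a reduced `X` vanish, so does the group of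
`F_0 X` -/
theorem isZero_fjGp_zero (T : PreTheory V R A) (X : Obj V) [IsReduced X.scheme] (M : A.Cat)
    (i n : ℤ) (h0 : ∀ x : X.scheme, codim X.scheme x = 0 → IsZero (T.ptGp X x M i n)) :
    IsZero (T.fjGp X 0 M i n) := by
  classical
  refine isZero_of_forall_eq_zero (fun β => ?_)
  obtain ⟨U, c, rfl⟩ := exists_rep T X (ContainsFj X 0) i n M β
  obtain ⟨hfin, Y₀, hY₀F, -, hY₀u⟩ := exists_good_open X 0 Set.univ isClosed_univ
    (fun _ _ => Nat.zero_le _)
  haveI := hfin
  have hG₀ : Good X 0 Set.univ Y₀ := ⟨isClosed_univ, fun _ _ => Nat.zero_le _, hY₀F, hY₀u⟩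
  let Y : X.scheme.Opens := U.1 ⊓ Y₀
  have hYF : ContainsFj X 0 Y := fun p hp => ⟨U.2.1 p hp, hY₀F p hp⟩
  have hG : Good X 0 Set.univ Y := hG₀.mono inf_le_right hYF
  have hle : fjIdx X 0 Y hYF ≤ U := (inf_le_left : U.1 ⊓ Y₀ ≤ U.1)
  have ha : ∀ x : CPt X 0 Set.univ, ∃ (W' : ptIdx X x.1.1) (h : W' ≤ hG.W x),
      (tr T (X.ptSub x.1.1) (fun U => (U : Set (X.ptSub x.1.1).scheme).Nonempty) i n M h).hom
        ((T.pull (hG.e (X.res Y) (𝟙 _) (range_id_eq X Y) x) M i n).hom
          ((tr T X (ContainsFj X 0) i n M hle).hom c)) = 0 := fun x =>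
    exists_of_eq_zero T (X.ptSub x.1.1) _ i n M _ (eq_zero_of_isZero (h0 x.1.1 x.1.2) _)
  choose W' hW' hz using ha
  let Y' : X.scheme.Opens := ⟨(Y : Set X.scheme) ∩ ⋂ x : CPt X 0 Set.univ,
    (ptCompl X x.1.1 (W' x).1 : Set X.scheme),
    Y.isOpen.inter (isOpen_iInter_of_finite (fun x => (ptCompl X x.1.1 (W' x).1).isOpen))⟩
  have hY'F : ContainsFj X 0 Y' := by
    intro p hp
    refine ⟨hYF p hp, ?_⟩
    rw [Set.mem_iInter]
    intro x
    exact containsFj_ptCompl X x.1.1 (W' x).1 (W' x).2.1 0 (Nat.zero_le _) p hp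
  have hY'Y : Y' ≤ Y := fun p hp => hp.1
  have hG' : Good X 0 Set.univ Y' := hG.mono hY'Y hY'F
  have hle' : fjIdx X 0 Y' hY'F ≤ fjIdx X 0 Y hYF := hY'Y
  have hWle : ∀ x : CPt X 0 Set.univ, hG'.W x ≤ W' x := by
    intro x w hw
    have h2 : (X.ptSubι x.1.1) w ∈ (Y' : Set X.scheme) := hw
    have h3 := Set.mem_iInter.mp h2.2 x
    exact (mem_ptCompl_iff X x.1.1 (W' x).1 w).mp h3
  rw [← tr_oι_apply T X (ContainsFj X 0) i n M hle c,
    ← tr_oι_apply T X (ContainsFj X 0) i n M hle' _]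
  have h1 : (tr T X (ContainsFj X 0) i n M hle').hom
      ((tr T X (ContainsFj X 0) i n M hle).hom c) = 0 := by
    refine eq_zero_of_pull_eq_zero T M i n _ (X.res Y') (CPt X 0 Set.univ) rfl
      (hG'.cover (X.res Y') (𝟙 _) (range_id_eq X Y')) _ (fun x => ?_)
    have hcomm : hG'.e (X.res Y') (𝟙 _) (range_id_eq X Y') x ≫
        (idxDiag X (ContainsFj X 0)).map (homOfLE hle') =
        (idxDiag (X.ptSub x.1.1) (fun U => (U : Set (X.ptSub x.1.1).scheme).Nonempty)).map
          (homOfLE ((hWle x).trans (hW' x))) ≫ hG.e (X.res Y) (𝟙 _) (range_id_eq X Y) x := by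
      apply Hom.ext
      show hG'.e₀ (X.res Y') (𝟙 _) (range_id_eq X Y') x ≫ X.scheme.homOfLE hY'Y =
        (X.ptSub x.1.1).scheme.homOfLE ((hWle x).trans (hW' x)) ≫
          hG.e₀ (X.res Y) (𝟙 _) (range_id_eq X Y) x
      have e1 := hG'.e₀_fac (X.res Y') (𝟙 _) (range_id_eq X Y') x
      have e2 := hG.e₀_fac (X.res Y) (𝟙 _) (range_id_eq X Y) x
      rw [Category.comp_id] at e1 e2
      rw [e1, e2]
      exact (isPullback_ptClosedImm X x.1.1 hY'Y (hG'.W x).1 (hG.W x).1 rfl rfl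
        ((hWle x).trans (hW' x))).w.symm
    have h3 := pull_comp_apply T (hG'.e (X.res Y') (𝟙 _) (range_id_eq X Y') x)
      ((idxDiag X (ContainsFj X 0)).map (homOfLE hle')) M i n
      ((tr T X (ContainsFj X 0) i n M hle).hom c)
    have h4 := pull_comp_apply T ((idxDiag (X.ptSub x.1.1)
      (fun U => (U : Set (X.ptSub x.1.1).scheme).Nonempty)).map
        (homOfLE ((hWle x).trans (hW' x)))) (hG.e (X.res Y) (𝟙 _) (range_id_eq X Y) x) M i n
      ((tr T X (ContainsFj X 0) i n M hle).hom c)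
    rw [hcomm] at h3
    have h2 := tr_tr_apply T (X.ptSub x.1.1)
      (fun U => (U : Set (X.ptSub x.1.1).scheme).Nonempty) i n M (hWle x) (hW' x)
      ((T.pull (hG.e (X.res Y) (𝟙 _) (range_id_eq X Y) x) M i n).hom
          ((tr T X (ContainsFj X 0) i n M hle).hom c))
    rw [hz x, map_zero] at h2
    exact h3.symm.trans (h4.trans h2.symm)
  rw [h1, map_zero]

/-- vanishing of `H^i(F_j X)` above the expected degree, from vanishing on points -/
theorem isZero_fjGp (T : PreTheory V R A) (X : Obj V) [IsReduced X.scheme] (M : A.Cat) (c : ℕ)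
    (hc : ∀ (y : X.scheme) (i n : ℤ), (pdim X.scheme y : ℤ) + c < i → IsZero (T.ptGp X y M i n))
    (j : ℕ) : ∀ (i n : ℤ), (dim X.scheme : ℤ) + j + c < i → IsZero (T.fjGp X j M i n) := by
  have hpd : ∀ (x : X.scheme) (k : ℕ), codim X.scheme x = k →
      (pdim X.scheme x : ℤ) + k = dim X.scheme := by
    intro x k hk
    have h2 := pdim_le_dim X x
    unfold codim at hk
    omega
  induction j with
  | zero =>
    intro i n hi
    refine isZero_fjGp_zero T X M i n (fun x hx => hc x i n ?_)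
    have := hpd x 0 hx
    push_cast at hi this
    omega
  | succ j ih =>
    intro i n hi
    have hbij := fjRes_bijective T X j M i n
      (fun x hx => hc x _ _ (by have := hpd x (j + 1) hx; push_cast at hi this; omega))
      (fun x hx => hc x _ _ (by have := hpd x (j + 1) hx; push_cast at hi this; omega))
    have hz := ih i n (by push_cast at hi ⊢; omega)
    refine isZero_of_forall_eq_zero (fun β => ?_)
    apply hbij.1
    rw [map_zero]
    exact eq_zero_of_isZero hz _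

end Groth.Agent.Lib.Lead.BMVanish
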