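import Mathlib
import Groth.Prelude.Def_NonAbH1

/-! Boundary map of non-abelian cohomology on a general site (sectionwise). -/

set_option autoImplicit false
universe w v u
open CategoryTheory Opposite NonAbH1

namespace Groth.Agent.Lib.Lead.Boundary

variable {C : Type u} [Category.{v} C] {J : GrothendieckTopology C}

/-- a morphism of sheaves of types from sectionwise maps -/
def mkHom (P Q : Sheaf J (Type w)) (φ : ∀ U : Cᵒᵖ, P.obj.obj U → Q.obj.obj U)
    (hφ : ∀ {U V : Cᵒᵖ} (f : U ⟶ V) (x : P.obj.obj U),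
      Q.obj.map f (φ U x) = φ V (P.obj.map f x)) : P ⟶ Q :=
  ⟨{ app := fun U => TypeCat.ofHom (φ U)
     naturality := fun U V f => by
      ext x
      exact (hφ f x).symm }⟩

@[simp]
theorem mkHom_app (P Q : Sheaf J (Type w)) (φ : ∀ U : Cᵒᵖ, P.obj.obj U → Q.obj.obj U)
    (hφ : ∀ {U V : Cᵒᵖ} (f : U ⟶ V) (x : P.obj.obj U),
      Q.obj.map f (φ U x) = φ V (P.obj.map f x)) (U : Cᵒᵖ) (x : P.obj.obj U) :
    (mkHom P Q φ hφ).hom.app U x = φ U x := rfl

theorem hom_naturality {P Q : Sheaf J (Type w)} (f : P ⟶ Q) {U V : Cᵒᵖ} (i : U ⟶ V)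
    (x : P.obj.obj U) : f.hom.app V (P.obj.map i x) = Q.obj.map i (f.hom.app U x) :=
  NatTrans.naturality_apply f.hom i x

theorem glue (P : Sheaf J (Type w)) {U : C} (S : Sieve U) (hS : S ∈ J U)
    (R : ∀ ⦃V : C⦄ (_ : V ⟶ U), P.obj.obj (op V) → Prop)
    (hex : ∀ ⦃V : C⦄ (f : V ⟶ U), S f → ∃ x, R f x)
    (huniq : ∀ ⦃V : C⦄ (f : V ⟶ U) (x x' : P.obj.obj (op V)), R f x → R f x' → x = x')
    (hres : ∀ ⦃V W : C⦄ (f : V ⟶ U) (g : W ⟶ V) (x : P.obj.obj (op V)), R f x →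
      R (g ≫ f) (P.obj.map g.op x)) :
    ∃ x : P.obj.obj (op U), ∀ ⦃V : C⦄ (f : V ⟶ U), S f → R f (P.obj.map f.op x) := by
  have hsh := (isSheaf_iff_isSheaf_of_type J P.obj).1 P.property S hS
  choose x hx using hex
  have hcomp : Presieve.FamilyOfElements.Compatible (P := P.obj) (R := S.arrows)
      (fun V f hf => x f hf) := by
    intro Y₁ Y₂ Z g₁ g₂ f₁ f₂ h₁ h₂ comm
    have e1 := hres f₁ g₁ _ (hx f₁ h₁)
    have e2 := hres f₂ g₂ _ (hx f₂ h₂)
    rw [← comm] at e2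
    exact huniq _ _ _ e1 e2
  refine ⟨hsh.amalgamate _ hcomp, fun V f hf => ?_⟩
  rw [hsh.isAmalgamation hcomp f hf]
  exact hx f hf

theorem sep (P : Sheaf J (Type w)) {U : C} (S : Sieve U) (hS : S ∈ J U)
    (x y : P.obj.obj (op U))
    (h : ∀ ⦃V : C⦄ (f : V ⟶ U), S f → P.obj.map f.op x = P.obj.map f.op y) : x = y :=
  ((isSheaf_iff_isSheaf_of_type J P.obj).1 P.property S hS).isSeparatedFor.ext
    (fun V f hf => h f hf)

theorem isIso_of_bijective {P Q : Sheaf J (Type w)} (f : P ⟶ Q)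
    (h : ∀ U, Function.Bijective (f.hom.app U)) : IsIso f := by
  haveI : ∀ U, IsIso (f.hom.app U) := fun U => (isIso_iff_bijective _).2 (h U)
  haveI : IsIso f.hom := NatIso.isIso_of_isIso_app _
  haveI : IsIso ((sheafToPresheaf J (Type w)).map f) := by
    show IsIso f.hom
    infer_instance
  exact isIso_of_reflects_iso f (sheafToPresheaf J (Type w))

variable {G : Sheaf J GrpCat.{w}}

/-- an equivariant morphism which is sectionwise bijective is an isomorphism of `G`-sheaves -/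
noncomputable def gsheafIso {P Q : GSheaf G} (θ : P ⟶ Q)
    (h : ∀ U, Function.Bijective (θ.hom.hom.app U)) : P ≅ Q :=
  have hsymm : ∀ U (q : Q.P.obj.obj U),
      θ.hom.hom.app U ((Equiv.ofBijective _ (h U)).symm q) = q :=
    fun U q => Equiv.ofBijective_apply_symm_apply _ (h U) q
  { hom := θ
    inv :=
      ⟨mkHom Q.P P.P (fun U q => (Equiv.ofBijective _ (h U)).symm q) (by
        intro U V f q
        apply (h V).1
        exact (hom_naturality θ.hom f _).trans ((congrArg _ (hsymm U q)).trans (hsymm V _).symm)),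
        by
        intro U g q
        apply (h U).1
        exact (hsymm U _).trans
          ((congrArg (Q.smul g) (hsymm U q)).symm.trans (θ.map_smul g _).symm)⟩
    hom_inv_id := by
      apply GSheaf.hom_ext
      ext U x
      exact (Equiv.ofBijective _ (h U)).symm_apply_apply x
    inv_hom_id := by
      apply GSheaf.hom_ext
      ext U x
      exact hsymm U x }

/-- gluing a global section of a sheaf from values on "good" objects -/
theorem glueSection (P : Sheaf J (Type w)) (N : C → Prop)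
    (hN : ∀ U : C, ∃ S ∈ J U, ∀ ⦃V : C⦄ (f : V ⟶ U), S f → N V)
    (hNres : ∀ ⦃V W : C⦄ (_ : W ⟶ V), N V → N W)
    (val : ∀ V : C, N V → P.obj.obj (op V))
    (hval : ∀ ⦃V W : C⦄ (g : W ⟶ V) (h : N V) (h' : N W), P.obj.map g.op (val V h) = val W h') :
    ∃ s : P.obj.sections, ∀ (V : C) (h : N V), s.1 (op V) = val V h := by
  have key : ∀ U : C, ∃ x : P.obj.obj (op U), ∀ ⦃V : C⦄ (f : V ⟶ U) (h : N V),
      P.obj.map f.op x = val V h := by
    intro U
    obtain ⟨S, hS, hSN⟩ := hN U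
    obtain ⟨x, hx⟩ := glue P S hS (fun V _ y => ∃ h : N V, y = val V h)
      (fun V f hf => ⟨val V (hSN f hf), hSN f hf, rfl⟩)
      (by rintro V f y y' ⟨h, rfl⟩ ⟨h', rfl⟩; rfl)
      (by rintro V W f g y ⟨h, rfl⟩; exact ⟨hNres g h, hval g h _⟩)
    refine ⟨x, fun V f h => ?_⟩
    refine sep P (S.pullback f) (J.pullback_stable f hS) _ _ ?_
    intro W g hg
    obtain ⟨h', e⟩ := hx (g ≫ f) hg
    rw [← FunctorToTypes.map_comp_apply, ← op_comp, e, hval g h h']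
  choose x hx using key
  refine ⟨⟨fun U => x (unop U), ?_⟩, fun V h => ?_⟩
  · intro U U' i
    obtain ⟨S, hS, hSN⟩ := hN (unop U')
    refine sep P S hS _ _ ?_
    intro W g hg
    have e1 := hx (unop U) (g ≫ i.unop) (hSN g hg)
    have e2 := hx (unop U') g (hSN g hg)
    rw [e2]
    rw [← e1, op_comp, FunctorToTypes.map_comp_apply]
    rfl
  · have := hx V (𝟙 V) h
    rwa [op_id, FunctorToTypes.map_id_apply] at this

section Setting

variable [J.HasSheafCompose (forget GrpCat.{w})] {F : Sheaf J GrpCat.{w}} (u : F ⟶ G)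
  {Q : GSheaf G} (π : GSheaf.trivial G ⟶ Q)

/-- `π` on group elements -/
def pi (U : Cᵒᵖ) (g : G.obj.obj U) : Q.P.obj.obj U := π.hom.hom.app U (GSheaf.ofGrp g)

theorem pi_map {U V : Cᵒᵖ} (f : U ⟶ V) (g : G.obj.obj U) :
    Q.P.obj.map f (pi π U g) = pi π V (G.obj.map f g) :=
  (hom_naturality π.hom f (GSheaf.ofGrp g)).symm

theorem pi_mul (U : Cᵒᵖ) (g g' : G.obj.obj U) : pi π U (g * g') = Q.smul g (pi π U g') :=
  π.map_smul g (GSheaf.ofGrp g')

theorem u_map {U V : Cᵒᵖ} (f : U ⟶ V) (φ : F.obj.obj U) :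
    u.hom.app V (F.obj.map f φ) = G.obj.map f (u.hom.app U φ) :=
  NatTrans.naturality_apply u.hom f φ

variable {u π}

theorem pi_mul_u (hQ : GSheaf.IsQuotientBy u π) (U : Cᵒᵖ) (g : G.obj.obj U) (φ : F.obj.obj U) :
    pi π U (g * u.hom.app U φ) = pi π U g :=
  ((hQ.1 U g (g * u.hom.app U φ)).2 ⟨φ, rfl⟩).symm

theorem exists_of_pi_eq (hQ : GSheaf.IsQuotientBy u π) (U : Cᵒᵖ) (g g' : G.obj.obj U)
    (h : pi π U g = pi π U g') : ∃ φ : F.obj.obj U, g' = g * u.hom.app U φ :=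
  (hQ.1 U g g').1 h

variable (π)

/-- the subfunctor of local liftings of `c` -/
def fibSub (c : Q.P.obj.sections) : Subfunctor (GSheaf.uSh G).obj where
  obj U := {g | pi π U (GSheaf.toGrp g) = c.1 U}
  map {U V} i := by
    intro g hg
    show pi π V (G.obj.map i (GSheaf.toGrp g)) = c.1 V
    rw [← pi_map, (hg : pi π U (GSheaf.toGrp g) = c.1 U)]
    exact c.2 i

theorem fibSub_isSheaf (c : Q.P.obj.sections) : Presieve.IsSheaf J (fibSub π c).toFunctor := by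
  rw [Subfunctor.isSheaf_iff _ ((isSheaf_iff_isSheaf_of_type J _).1 (GSheaf.uSh G).property)]
  intro U s hs
  show pi π U (GSheaf.toGrp s) = c.1 U
  refine sep Q.P _ hs _ _ ?_
  intro V f hf
  have hf' : pi π (op V) (G.obj.map f.op (GSheaf.toGrp s)) = c.1 (op V) := hf
  rw [pi_map, hf']
  exact (c.2 f.op).symm

/-- the sheaf of local liftings of `c` -/
def fibSheaf (c : Q.P.obj.sections) : Sheaf J (Type w) :=
  ⟨(fibSub π c).toFunctor, (isSheaf_iff_isSheaf_of_type J _).2 (fibSub_isSheaf π c)⟩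

variable {π}

/-- the `F`-sheaf of local liftings of `c` -/
def fibG (hQ : GSheaf.IsQuotientBy u π) (c : Q.P.obj.sections) : GSheaf F where
  P := fibSheaf π c
  smul {U} φ t := ⟨GSheaf.ofGrp (GSheaf.toGrp t.1 * (u.hom.app U φ)⁻¹), by
    show pi π U (GSheaf.toGrp t.1 * (u.hom.app U φ)⁻¹) = c.1 U
    rw [← map_inv, pi_mul_u hQ]
    exact t.2⟩
  one_smul {U} t := Subtype.ext (by
    show GSheaf.toGrp t.1 * (u.hom.app U 1)⁻¹ = t.1
    rw [map_one, inv_one, mul_one])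
  mul_smul {U} φ ψ t := Subtype.ext (by
    show GSheaf.toGrp t.1 * (u.hom.app U (φ * ψ))⁻¹ =
      GSheaf.toGrp t.1 * (u.hom.app U ψ)⁻¹ * (u.hom.app U φ)⁻¹
    rw [map_mul, mul_inv_rev, mul_assoc])
  map_smul {U V} f φ t := Subtype.ext (by
    show G.obj.map f (GSheaf.toGrp t.1 * (u.hom.app U φ)⁻¹) =
      G.obj.map f (GSheaf.toGrp t.1) * (u.hom.app V (F.obj.map f φ))⁻¹
    rw [map_mul, map_inv, u_map])

theorem isFibreOver_fibG (hQ : GSheaf.IsQuotientBy u π) (c : Q.P.obj.sections) :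
    GSheaf.IsFibreOver u π c (fibG hQ c) := by
  refine ⟨⟨(fibSub π c).ι⟩, fun U => ?_, fun U g => ?_, fun U φ t => rfl⟩
  · intro a b hab
    exact Subtype.ext hab
  · constructor
    · rintro ⟨t, rfl⟩
      exact t.2
    · intro h
      exact ⟨⟨GSheaf.ofGrp g, h⟩, rfl⟩

theorem ι_map {T : GSheaf F} (ι : T.P ⟶ GSheaf.uSh G) {U V : Cᵒᵖ} (f : U ⟶ V)
    (t : T.P.obj.obj U) :
    GSheaf.toGrp (ι.hom.app V (T.P.obj.map f t)) = G.obj.map f (GSheaf.toGrp (ι.hom.app U t)) :=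
  hom_naturality ι f t

theorem isTorsor_of_isFibreOver (hu : ∀ U, Function.Injective (u.hom.app U))
    (hQ : GSheaf.IsQuotientBy u π) (c : Q.P.obj.sections) (T : GSheaf F)
    (hT : GSheaf.IsFibreOver u π c T) : T.IsTorsor := by
  obtain ⟨ι, hinj, him, heq⟩ := hT
  constructor
  · intro U p q
    have hp : pi π U (GSheaf.toGrp (ι.hom.app U p)) = c.1 U := (him U _).1 ⟨p, rfl⟩
    have hq : pi π U (GSheaf.toGrp (ι.hom.app U q)) = c.1 U := (him U _).1 ⟨q, rfl⟩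
    obtain ⟨φ, hφ⟩ := exists_of_pi_eq hQ U _ _ (hp.trans hq.symm)
    refine ⟨φ⁻¹, ?_, ?_⟩
    · apply hinj U
      show GSheaf.toGrp (ι.hom.app U (T.smul φ⁻¹ p)) = GSheaf.toGrp (ι.hom.app U q)
      rw [heq, map_inv, inv_inv, hφ]
    · intro ψ hψ
      have h1 := heq U ψ p
      rw [hψ, hφ] at h1
      have h2 : u.hom.app U φ = (u.hom.app U ψ)⁻¹ := mul_left_cancel h1
      rw [← map_inv] at h2
      have h3 := hu U h2
      rw [h3, inv_inv]
  · intro U
    obtain ⟨S, hS, hlift⟩ := hQ.2 U (c.1 (op U))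
    refine ⟨S, hS, fun V a ha => ?_⟩
    obtain ⟨g, hg⟩ := hlift a ha
    have h1 : pi π (op V) g = c.1 (op V) := hg.trans (c.2 a.op)
    obtain ⟨t, -⟩ := (him (op V) g).2 h1
    exact ⟨t⟩

theorem nonempty_iso_of_translate (hQ : GSheaf.IsQuotientBy u π) {c c' : Q.P.obj.sections}
    {T T' : GSheaf F} (hT : GSheaf.IsFibreOver u π c T) (hT' : GSheaf.IsFibreOver u π c' T')
    (g : (GSheaf.uSh G).obj.sections)
    (hg : ∀ U, Q.smul (GSheaf.toGrp (g.1 U)) (c.1 U) = c'.1 U) : Nonempty (T ≅ T') := by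
  obtain ⟨ι, hinj, him, heq⟩ := hT
  obtain ⟨ι', hinj', him', heq'⟩ := hT'
  have hex : ∀ U (t : T.P.obj.obj U), ∃ t' : T'.P.obj.obj U,
      GSheaf.toGrp (ι'.hom.app U t') = GSheaf.toGrp (g.1 U) * GSheaf.toGrp (ι.hom.app U t) := by
    intro U t
    apply (him' U _).2
    show pi π U (_ * _) = c'.1 U
    rw [pi_mul, ← hg U]
    congr 1
    exact (him U _).1 ⟨t, rfl⟩
  choose θ hθ using hex
  have hgmap : ∀ {U V : Cᵒᵖ} (f : U ⟶ V),
      G.obj.map f (GSheaf.toGrp (g.1 U)) = GSheaf.toGrp (g.1 V) := fun f => g.2 f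
  let θh : T.P ⟶ T'.P := mkHom T.P T'.P θ (by
    intro U V f t
    apply hinj' V
    show GSheaf.toGrp (ι'.hom.app V (T'.P.obj.map f (θ U t))) =
      GSheaf.toGrp (ι'.hom.app V (θ V (T.P.obj.map f t)))
    rw [ι_map, hθ, hθ, map_mul, hgmap, ι_map])
  let θm : T ⟶ T' := ⟨θh, by
    intro U φ t
    apply hinj' U
    show GSheaf.toGrp (ι'.hom.app U (θ U (T.smul φ t))) =
      GSheaf.toGrp (ι'.hom.app U (T'.smul φ (θ U t)))
    rw [hθ, heq, heq', hθ, mul_assoc]⟩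
  refine ⟨gsheafIso θm (fun U => ⟨?_, ?_⟩)⟩
  · intro t₁ t₂ h
    apply hinj U
    have h1 := hθ U t₁
    have h2 := hθ U t₂
    have h' : θ U t₁ = θ U t₂ := h
    rw [h'] at h1
    show GSheaf.toGrp (ι.hom.app U t₁) = GSheaf.toGrp (ι.hom.app U t₂)
    exact mul_left_cancel (h1.symm.trans h2)
  · intro t'
    have h1 : pi π U ((GSheaf.toGrp (g.1 U))⁻¹ * GSheaf.toGrp (ι'.hom.app U t')) = c.1 U := by
      have h2 : pi π U (GSheaf.toGrp (ι'.hom.app U t')) = c'.1 U := (him' U _).1 ⟨t', rfl⟩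
      rw [pi_mul, h2, ← hg U, ← Q.mul_smul, inv_mul_cancel, Q.one_smul]
    obtain ⟨t, ht⟩ := (him U _).2 h1
    refine ⟨t, ?_⟩
    apply hinj' U
    show GSheaf.toGrp (ι'.hom.app U (θ U t)) = GSheaf.toGrp (ι'.hom.app U t')
    rw [hθ, ht, mul_inv_cancel_left]

theorem nonempty_iso_of_isFibreOver (hQ : GSheaf.IsQuotientBy u π) {c : Q.P.obj.sections}
    {T T' : GSheaf F} (hT : GSheaf.IsFibreOver u π c T) (hT' : GSheaf.IsFibreOver u π c T') :
    Nonempty (T ≅ T') :=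
  nonempty_iso_of_translate hQ hT hT'
    ⟨fun U => GSheaf.ofGrp (1 : G.obj.obj U), by
      intro U V f
      show G.obj.map f (1 : G.obj.obj U) = 1
      exact map_one _⟩ (fun U => Q.one_smul _)

theorem exists_translate_of_iso (hu : ∀ U, Function.Injective (u.hom.app U))
    (hQ : GSheaf.IsQuotientBy u π) {c c' : Q.P.obj.sections}
    {T T' : GSheaf F} (hT : GSheaf.IsFibreOver u π c T) (hT' : GSheaf.IsFibreOver u π c' T')
    (e : T ≅ T') :
    ∃ g : (GSheaf.uSh G).obj.sections,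
      ∀ U, Q.smul (GSheaf.toGrp (g.1 U)) (c.1 U) = c'.1 U := by
  have htor : T.IsTorsor := isTorsor_of_isFibreOver hu hQ c T hT
  obtain ⟨ι, hinj, him, heq⟩ := hT
  obtain ⟨ι', hinj', him', heq'⟩ := hT'
  let val : ∀ (U : Cᵒᵖ), T.P.obj.obj U → G.obj.obj U := fun U t =>
    GSheaf.toGrp (ι'.hom.app U (e.hom.hom.hom.app U t)) * (GSheaf.toGrp (ι.hom.app U t))⁻¹
  have val_const : ∀ U (t t' : T.P.obj.obj U), val U t = val U t' := by
    intro U t t'
    obtain ⟨φ, hφ, -⟩ := htor.1 U t t'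
    subst hφ
    show _ = GSheaf.toGrp (ι'.hom.app U (e.hom.hom.hom.app U (T.smul φ t))) *
      (GSheaf.toGrp (ι.hom.app U (T.smul φ t)))⁻¹
    rw [e.hom.map_smul, heq', heq, mul_inv_rev, inv_inv, mul_assoc, inv_mul_cancel_left]
  have val_map : ∀ {U V : Cᵒᵖ} (f : U ⟶ V) (t : T.P.obj.obj U),
      G.obj.map f (val U t) = val V (T.P.obj.map f t) := by
    intro U V f t
    show G.obj.map f (_ * _⁻¹) = GSheaf.toGrp (ι'.hom.app V (e.hom.hom.hom.app V (T.P.obj.map f t))) *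
      (GSheaf.toGrp (ι.hom.app V (T.P.obj.map f t)))⁻¹
    rw [map_mul, map_inv, hom_naturality e.hom.hom, ι_map, ι_map]
  obtain ⟨g, hg⟩ := glueSection (GSheaf.uSh G) (fun V => Nonempty (T.P.obj.obj (op V))) htor.2
    (fun V W f ⟨t⟩ => ⟨T.P.obj.map f.op t⟩) (fun V h => GSheaf.ofGrp (val (op V) h.some))
    (fun V W f h h' => (val_map f.op h.some).trans (val_const _ _ _))
  refine ⟨g, fun U => ?_⟩
  obtain ⟨S, hS, hSN⟩ := htor.2 (unop U)
  refine sep Q.P S hS _ _ ?_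
  intro V f hf
  obtain ⟨t⟩ := hSN f hf
  rw [Q.map_smul]
  have e1 : G.obj.map f.op (GSheaf.toGrp (g.1 U)) = val (op V) t := by
    have h1 : G.obj.map f.op (GSheaf.toGrp (g.1 U)) = GSheaf.toGrp (g.1 (op V)) := g.2 f.op
    rw [h1, hg V ⟨t⟩]
    exact val_const _ _ _
  have e2 : Q.P.obj.map f.op (c.1 U) = c.1 (op V) := c.2 f.op
  have e3 : Q.P.obj.map f.op (c'.1 U) = c'.1 (op V) := c'.2 f.op
  rw [e1, e2, e3]
  have h2 : pi π (op V) (GSheaf.toGrp (ι.hom.app (op V) t)) = c.1 (op V) := (him _ _).1 ⟨t, rfl⟩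
  have h3 : pi π (op V) (GSheaf.toGrp (ι'.hom.app (op V) (e.hom.hom.hom.app (op V) t))) =
      c'.1 (op V) := (him' _ _).1 ⟨_, rfl⟩
  rw [← h2, ← pi_mul, ← h3]
  show pi π (op V) (_ * _⁻¹ * _) = _
  rw [inv_mul_cancel_right]

theorem pushforward_of_fibre {c : Q.P.obj.sections} {T : GSheaf F}
    (hT : GSheaf.IsFibreOver u π c T) : GSheaf.IsPushforwardAlong u T (GSheaf.trivial G) := by
  obtain ⟨ι, hinj, him, heq⟩ := hT
  refine ⟨mkHom T.P (GSheaf.uSh G)
    (fun U t => GSheaf.ofGrp (GSheaf.toGrp (ι.hom.app U t))⁻¹) ?_, ?_⟩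
  · intro U V f t
    show G.obj.map f (GSheaf.toGrp (ι.hom.app U t))⁻¹ =
      (GSheaf.toGrp (ι.hom.app V (T.P.obj.map f t)))⁻¹
    rw [map_inv, ι_map]
  · intro U φ t
    show (GSheaf.toGrp (ι.hom.app U (T.smul φ t)))⁻¹ =
      u.hom.app U φ * (GSheaf.toGrp (ι.hom.app U t))⁻¹
    rw [heq, mul_inv_rev, inv_inv]

theorem fibre_of_pushforward (hu : ∀ U, Function.Injective (u.hom.app U))
    (hQ : GSheaf.IsQuotientBy u π) (T : GSheaf F) (hT : T.IsTorsor)
    (h : GSheaf.IsPushforwardAlong u T (GSheaf.trivial G)) :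
    ∃ c : Q.P.obj.sections, GSheaf.IsFibreOver u π c T := by
  obtain ⟨f, hf⟩ := h
  let ι : T.P ⟶ GSheaf.uSh G := mkHom T.P (GSheaf.uSh G)
    (fun U t => GSheaf.ofGrp (GSheaf.toGrp (f.hom.app U t))⁻¹) (by
      intro U V i t
      show G.obj.map i (GSheaf.toGrp (f.hom.app U t))⁻¹ =
        (GSheaf.toGrp (f.hom.app V (T.P.obj.map i t)))⁻¹
      rw [map_inv]
      congr 1
      exact (hom_naturality f i t).symm)
  have heq : ∀ (U : Cᵒᵖ) (φ : F.obj.obj U) (t : T.P.obj.obj U),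
      GSheaf.toGrp (ι.hom.app U (T.smul φ t)) =
        GSheaf.toGrp (ι.hom.app U t) * (u.hom.app U φ)⁻¹ := by
    intro U φ t
    show (GSheaf.toGrp (f.hom.app U (T.smul φ t)))⁻¹ =
      (GSheaf.toGrp (f.hom.app U t))⁻¹ * (u.hom.app U φ)⁻¹
    rw [hf U φ t, ← mul_inv_rev] <;> rfl
  have hinj : ∀ U : Cᵒᵖ, Function.Injective (ι.hom.app U) := by
    intro U t₁ t₂ h12
    obtain ⟨φ, hφ, -⟩ := hT.1 U t₁ t₂
    subst hφ
    have h12' : GSheaf.toGrp (ι.hom.app U t₁) =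
        GSheaf.toGrp (ι.hom.app U (T.smul φ t₁)) := h12
    rw [heq] at h12'
    have h1 : (u.hom.app U φ)⁻¹ = 1 := by
      have h3 : GSheaf.toGrp (ι.hom.app U t₁) * 1 =
          GSheaf.toGrp (ι.hom.app U t₁) * (u.hom.app U φ)⁻¹ := by
        rw [mul_one]; exact h12'
      exact (mul_left_cancel h3).symm
    have h2 : u.hom.app U φ = u.hom.app U 1 := by
      rw [map_one]; exact inv_eq_one.1 h1
    rw [hu U h2, T.one_smul]
  have val_const : ∀ U (t t' : T.P.obj.obj U),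
      pi π U (GSheaf.toGrp (ι.hom.app U t)) = pi π U (GSheaf.toGrp (ι.hom.app U t')) := by
    intro U t t'
    obtain ⟨φ, hφ, -⟩ := hT.1 U t t'
    subst hφ
    rw [heq, ← map_inv, pi_mul_u hQ]
  obtain ⟨c, hc⟩ := glueSection Q.P (fun V => Nonempty (T.P.obj.obj (op V))) hT.2
    (fun V W g ⟨t⟩ => ⟨T.P.obj.map g.op t⟩)
    (fun V h => pi π (op V) (GSheaf.toGrp (ι.hom.app (op V) h.some)))
    (fun V W g h h' => by
      rw [pi_map, ← ι_map]
      exact val_const _ _ _)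
  refine ⟨c, ι, hinj, fun U g => ⟨?_, ?_⟩, heq⟩
  · rintro ⟨t, rfl⟩
    exact (val_const U t _).trans (hc (unop U) ⟨t⟩).symm
  · intro hg
    have hg' : pi π U g = c.1 U := hg
    obtain ⟨S, hS, hSN⟩ := hT.2 (unop U)
    obtain ⟨t, ht⟩ := glue T.P S hS
      (fun V a x => GSheaf.toGrp (ι.hom.app (op V) x) = G.obj.map a.op g)
      (fun V a ha => by
        obtain ⟨t₀⟩ := hSN a ha
        have h1 : pi π (op V) (GSheaf.toGrp (ι.hom.app (op V) t₀)) =
            pi π (op V) (G.obj.map a.op g) :=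
          (val_const _ t₀ _).trans ((hc V ⟨t₀⟩).symm.trans ((c.2 a.op).symm.trans
            ((congrArg (fun x => Q.P.obj.map a.op x) hg'.symm).trans (pi_map π a.op g))))
        obtain ⟨φ, hφ⟩ := exists_of_pi_eq hQ (op V) _ _ h1
        refine ⟨T.smul φ⁻¹ t₀, ?_⟩
        show GSheaf.toGrp (ι.hom.app (op V) (T.smul φ⁻¹ t₀)) = G.obj.map a.op g
        rw [heq, map_inv, inv_inv, hφ])
      (fun V a x x' hx hx' => hinj _ (hx.trans hx'.symm))
      (fun V W a b x hx => by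
        have hx' : GSheaf.toGrp (ι.hom.app (op V) x) = G.obj.map a.op g := hx
        show GSheaf.toGrp (ι.hom.app (op W) (T.P.obj.map b.op x)) = G.obj.map (b ≫ a).op g
        rw [ι_map, hx', op_comp, Functor.map_comp] <;> rfl)
    refine ⟨t, ?_⟩
    refine sep (GSheaf.uSh G) S hS (ι.hom.app U t) (GSheaf.ofGrp g) ?_
    intro V a ha
    have h2 : GSheaf.toGrp (ι.hom.app (op V) (T.P.obj.map a.op t)) = G.obj.map a.op g :=
      ht a ha
    rw [ι_map] at h2
    exact h2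

theorem torsorRel_equivalence (F : Sheaf J GrpCat.{w}) :
    Equivalence (fun P Q : NonAbH1.Torsor F => Nonempty (P.toGSheaf ≅ Q.toGSheaf)) :=
  ⟨fun P => ⟨Iso.refl _⟩, fun ⟨e⟩ => ⟨e.symm⟩, fun ⟨e⟩ ⟨e'⟩ => ⟨e ≪≫ e'⟩⟩

theorem cl_eq_iff {F : Sheaf J GrpCat.{w}} (T T' : NonAbH1.Torsor F) :
    T.cl = T'.cl ↔ Nonempty (T.toGSheaf ≅ T'.toGSheaf) :=
  (torsorRel_equivalence F).quot_mk_eq_iff T T'

theorem cl_eq_one_iff (hQ : GSheaf.IsQuotientBy u π) {c : Q.P.obj.sections}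
    (T : NonAbH1.Torsor F) (hT : GSheaf.IsFibreOver u π c T.toGSheaf) :
    T.cl = 1 ↔ ∃ g : (GSheaf.uSh G).obj.sections, ∀ U, π.hom.hom.app U (g.1 U) = c.1 U := by
  have h1 : (1 : H1 F) = (trivialTorsor F).cl := rfl
  rw [h1, cl_eq_iff]
  obtain ⟨ι, hinj, him, heq⟩ := hT
  constructor
  · rintro ⟨e⟩
    have e' : T.toGSheaf ≅ GSheaf.trivial F := e
    let t : ∀ U : Cᵒᵖ, T.P.obj.obj U :=
      fun U => e'.inv.hom.hom.app U (GSheaf.ofGrp (1 : F.obj.obj U))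
    have t_map : ∀ {U V : Cᵒᵖ} (f : U ⟶ V), T.P.obj.map f (t U) = t V := by
      intro U V f
      have h2 : (GSheaf.trivial F).P.obj.map f (GSheaf.ofGrp (1 : F.obj.obj U)) =
          GSheaf.ofGrp (1 : F.obj.obj V) := by
        show F.obj.map f (1 : F.obj.obj U) = 1
        exact map_one _
      exact (hom_naturality e'.inv.hom f _).symm.trans
        (congrArg (fun x => e'.inv.hom.hom.app V x) h2)
    refine ⟨⟨fun U => ι.hom.app U (t U), ?_⟩, fun U => ?_⟩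
    · intro U V f
      exact (hom_naturality ι f (t U)).symm.trans (congrArg (fun x => ι.hom.app V x) (t_map f))
    · exact (him U _).1 ⟨t U, rfl⟩
  · rintro ⟨g, hg⟩
    have hex : ∀ U : Cᵒᵖ, ∃ t : T.P.obj.obj U,
        GSheaf.toGrp (ι.hom.app U t) = GSheaf.toGrp (g.1 U) :=
      fun U => (him U _).2 (hg U)
    choose t ht using hex
    have t_map : ∀ {U V : Cᵒᵖ} (f : U ⟶ V), T.P.obj.map f (t U) = t V := by
      intro U V f
      apply hinj V
      show GSheaf.toGrp (ι.hom.app V (T.P.obj.map f (t U))) = GSheaf.toGrp (ι.hom.app V (t V))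
      rw [ι_map, ht, ht]
      exact g.2 f
    let θh : (GSheaf.trivial F).P ⟶ T.P :=
      mkHom (GSheaf.trivial F).P T.P (fun U φ => T.smul (GSheaf.toGrp φ) (t U)) (by
        intro U V f φ
        show T.P.obj.map f (T.smul (GSheaf.toGrp φ) (t U)) =
          T.smul (F.obj.map f (GSheaf.toGrp φ)) (t V)
        rw [T.map_smul, t_map])
    let θm : GSheaf.trivial F ⟶ T.toGSheaf := ⟨θh, by
      intro U ψ φ
      show T.smul (ψ * GSheaf.toGrp φ) (t U) = T.smul ψ (T.smul (GSheaf.toGrp φ) (t U))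
      rw [T.mul_smul]⟩
    refine ⟨(gsheafIso θm (fun U => ⟨?_, ?_⟩)).symm⟩
    · intro φ₁ φ₂ h12
      have h12' : T.smul (GSheaf.toGrp φ₁) (t U) = T.smul (GSheaf.toGrp φ₂) (t U) := h12
      obtain ⟨ψ, -, huq⟩ := T.isTorsor.1 U (t U) (T.smul (GSheaf.toGrp φ₂) (t U))
      exact (huq _ h12').trans (huq _ rfl).symm
    · intro x
      obtain ⟨ψ, hψ, -⟩ := T.isTorsor.1 U (t U) x
      exact ⟨GSheaf.ofGrp ψ, hψ⟩

end Setting

end Groth.Agent.Lib.Lead.Boundary
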