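import Mathlib

/-!
# Relations of a weakly regular sequence; T^1 of a complete intersection (lead)
-/

set_option autoImplicit false
universe u

namespace Groth.Agent.Lib.Lead.CIT1

section rel

variable {P : Type u} [CommRing P]

theorem exists_of_mem_span (g : ℕ → P) (m : ℕ) (x : P) (hx : x ∈ Ideal.span (g '' Set.Iio m)) :
    ∃ q : ℕ → P, x = ∑ i ∈ Finset.range m, q i * g i := by
  induction hx using Submodule.span_induction with
  | mem x hx =>
    obtain ⟨j, hj, rfl⟩ := hx
    refine ⟨Pi.single j 1, ?_⟩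
    rw [Finset.sum_eq_single j]
    · simp
    · intro b _ hb
      rw [Pi.single_eq_of_ne hb, zero_mul]
    · intro hj'
      exact absurd (Finset.mem_range.mpr hj) hj'
  | zero => exact ⟨0, by simp⟩
  | add x y _ _ hx hy =>
    obtain ⟨q1, rfl⟩ := hx
    obtain ⟨q2, rfl⟩ := hy
    refine ⟨q1 + q2, ?_⟩
    rw [← Finset.sum_add_distrib]
    refine Finset.sum_congr rfl (fun i _ => ?_)
    rw [Pi.add_apply, add_mul]
  | smul a x _ hx =>
    obtain ⟨q, rfl⟩ := hx
    refine ⟨fun i => a * q i, ?_⟩
    rw [smul_eq_mul, Finset.mul_sum]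
    refine Finset.sum_congr rfl (fun i _ => ?_)
    rw [mul_assoc]

theorem rel_aux (g : ℕ → P) (n : ℕ)
    (hreg : ∀ m < n, ∀ x, g m * x ∈ Ideal.span (g '' Set.Iio m) →
      x ∈ Ideal.span (g '' Set.Iio m)) :
    ∀ m ≤ n, ∀ p : ℕ → P, ∑ i ∈ Finset.range m, p i * g i = 0 →
      ∀ i < m, p i ∈ Ideal.span (g '' Set.Iio m) := by
  intro m
  induction m with
  | zero => intro _ p _ i hi; exact absurd hi (Nat.not_lt_zero i)
  | succ m ih =>
    intro hm p hp i hi
    have hmn : m < n := hm
    have hmono : Ideal.span (g '' Set.Iio m) ≤ Ideal.span (g '' Set.Iio (m + 1)) :=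
      Ideal.span_mono (Set.image_mono (fun j hj => Nat.lt_succ_of_lt hj))
    have hgm : g m ∈ Ideal.span (g '' Set.Iio (m + 1)) :=
      Ideal.subset_span ⟨m, Nat.lt_succ_self m, rfl⟩
    rw [Finset.sum_range_succ] at hp
    have h1 : g m * p m ∈ Ideal.span (g '' Set.Iio m) := by
      have : g m * p m = -∑ i ∈ Finset.range m, p i * g i := by
        rw [mul_comm]; exact eq_neg_of_add_eq_zero_right hp
      rw [this]
      refine Ideal.neg_mem_iff _ |>.mpr (Ideal.sum_mem _ (fun j hj => ?_))
      exact Ideal.mul_mem_left _ _ (Ideal.subset_span ⟨j, Finset.mem_range.mp hj, rfl⟩)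
    have h2 := hreg m hmn _ h1
    obtain ⟨q, hq⟩ := exists_of_mem_span g m _ h2
    have h3 : ∑ i ∈ Finset.range m, (p i + q i * g m) * g i = 0 := by
      have : ∑ i ∈ Finset.range m, (p i + q i * g m) * g i =
          ∑ i ∈ Finset.range m, p i * g i + g m * ∑ i ∈ Finset.range m, q i * g i := by
        rw [Finset.mul_sum, ← Finset.sum_add_distrib]
        refine Finset.sum_congr rfl (fun i _ => ?_)
        ring
      rw [this, ← hq, mul_comm (g m)]
      exact hp
    have h4 := ih (Nat.le_of_lt hmn) _ h3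
    rcases Nat.lt_succ_iff_lt_or_eq.mp hi with hi' | rfl
    · have h5 := h4 i hi'
      have : p i = (p i + q i * g m) - q i * g m := by ring
      rw [this]
      exact Ideal.sub_mem _ (hmono h5) (Ideal.mul_mem_left _ _ hgm)
    · exact hmono h2

/-- relations among a weakly regular sequence have coefficients in the ideal. -/
theorem rel_mem {n : ℕ} (f : Fin n → P)
    (hreg : RingTheory.Sequence.IsWeaklyRegular P (List.ofFn f)) (p : Fin n → P)
    (hp : ∑ i, p i * f i = 0) (i : Fin n) : p i ∈ Ideal.span (Set.range f) := by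
  classical
  let g : ℕ → P := fun m => if h : m < n then f ⟨m, h⟩ else 0
  have hg : ∀ (m : ℕ) (h : m < n), g m = f ⟨m, h⟩ := fun m h => dif_pos h
  have hreg' : ∀ m < n, ∀ x, g m * x ∈ Ideal.span (g '' Set.Iio m) →
      x ∈ Ideal.span (g '' Set.Iio m) := by
    intro m hm x hx
    have hlen : m < (List.ofFn f).length := by simpa using hm
    have h1 := hreg.regular_mod_prev m hlen
    have hN : (Ideal.ofList ((List.ofFn f).take m) • (⊤ : Submodule P P)) =
        Ideal.span (g '' Set.Iio m) := by
      rw [smul_eq_mul, Ideal.mul_top]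
      unfold Ideal.ofList
      congr 1
      ext y
      constructor
      · intro hy
        obtain ⟨j, hj, rfl⟩ := List.mem_take_iff_getElem.mp hy
        have hj1 : j < m := lt_of_lt_of_le hj (min_le_left _ _)
        have hj2 : j < n := lt_trans hj1 hm
        refine ⟨j, hj1, ?_⟩
        rw [hg j hj2, List.getElem_ofFn]
      · rintro ⟨j, hj, rfl⟩
        have hj1 : j < m := hj
        have hj2 : j < n := lt_trans hj1 hm
        rw [Set.mem_setOf_eq, List.mem_take_iff_getElem]
        refine ⟨j, lt_min hj1 (by simpa using hj2), ?_⟩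
        rw [hg j hj2, List.getElem_ofFn]
    have hgm : (List.ofFn f)[m] = g m := by rw [hg m hm, List.getElem_ofFn]
    rw [hgm] at h1
    have h2 : g m • (Submodule.Quotient.mk x :
        P ⧸ (Ideal.ofList ((List.ofFn f).take m) • (⊤ : Submodule P P))) = g m • 0 := by
      rw [smul_zero, ← Submodule.Quotient.mk_smul, Submodule.Quotient.mk_eq_zero, hN, smul_eq_mul]
      exact hx
    have h3 := h1 h2
    rw [Submodule.Quotient.mk_eq_zero, hN] at h3
    exact h3
  let p' : ℕ → P := fun m => if h : m < n then p ⟨m, h⟩ else 0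
  have hsum : ∑ i ∈ Finset.range n, p' i * g i = 0 := by
    rw [Finset.sum_range]
    rw [← hp]
    refine Finset.sum_congr rfl (fun j _ => ?_)
    simp only [p', g, dif_pos j.isLt]
  have h5 := rel_aux g n hreg' n le_rfl p' hsum i.1 i.isLt
  have h6 : Ideal.span (g '' Set.Iio n) ≤ Ideal.span (Set.range f) := by
    apply Ideal.span_mono
    rintro _ ⟨j, hj, rfl⟩
    exact ⟨⟨j, hj⟩, (hg j hj).symm⟩
  have h7 : p' i.1 = p i := by simp only [p', dif_pos i.isLt]
  rw [← h7]
  exact h6 h5

end rel

section T1

open MvPolynomial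

variable {k : Type u} [Field k] {d n : ℕ} (f : Fin n → MvPolynomial (Fin d) k)

theorem smul_eq_zero_of_mem {x : MvPolynomial (Fin d) k} (hx : x ∈ Ideal.span (Set.range f))
    (b : MvPolynomial (Fin d) k ⧸ Ideal.span (Set.range f)) : x • b = 0 := by
  obtain ⟨y, rfl⟩ := Ideal.Quotient.mk_surjective b
  have h1 : x • (Ideal.Quotient.mk (Ideal.span (Set.range f)) y) =
      Ideal.Quotient.mk (Ideal.span (Set.range f)) (x * y) := rfl
  rw [h1, Ideal.Quotient.eq_zero_iff_mem]
  exact Ideal.mul_mem_right _ _ hx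

theorem smul_eq_mk_mul (x : MvPolynomial (Fin d) k)
    (b : MvPolynomial (Fin d) k ⧸ Ideal.span (Set.range f)) :
    x • b = Ideal.Quotient.mk (Ideal.span (Set.range f)) x * b := by
  obtain ⟨y, rfl⟩ := Ideal.Quotient.mk_surjective b
  rfl

/-- evaluation at the generators -/
noncomputable def ev : (↥(Ideal.span (Set.range f)) →ₗ[MvPolynomial (Fin d) k]
      (MvPolynomial (Fin d) k ⧸ Ideal.span (Set.range f))) →ₗ[MvPolynomial (Fin d) k]
    (Fin n → MvPolynomial (Fin d) k ⧸ Ideal.span (Set.range f)) where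
  toFun φ := fun i => φ ⟨f i, Ideal.subset_span (Set.mem_range_self i)⟩
  map_add' _ _ := rfl
  map_smul' _ _ := rfl

theorem ev_injective : Function.Injective (ev f) := by
  rw [← LinearMap.ker_eq_bot, LinearMap.ker_eq_bot']
  intro φ hφ
  ext ⟨x, hx⟩
  obtain ⟨c, rfl⟩ := Ideal.mem_span_range_iff_exists_fun.mp hx
  have h1 : (⟨∑ i, c i * f i, hx⟩ : ↥(Ideal.span (Set.range f))) =
      ∑ i, c i • (⟨f i, Ideal.subset_span (Set.mem_range_self i)⟩ :
        ↥(Ideal.span (Set.range f))) := by
    apply Subtype.ext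
    rw [Submodule.coe_sum]
    rfl
  rw [h1, map_sum, LinearMap.zero_apply]
  refine Finset.sum_eq_zero (fun i _ => ?_)
  rw [map_smul]
  have := congrFun hφ i
  change φ ⟨f i, _⟩ = 0 at this
  rw [this, smul_zero]

theorem ev_surjective (hreg : RingTheory.Sequence.IsWeaklyRegular (MvPolynomial (Fin d) k)
    (List.ofFn f)) : Function.Surjective (ev f) := by
  classical
  intro b
  let Θ : (Fin n → MvPolynomial (Fin d) k) →ₗ[MvPolynomial (Fin d) k]
      ↥(Ideal.span (Set.range f)) :=
    (Fintype.linearCombination (MvPolynomial (Fin d) k) f).codRestrict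
      (Ideal.span (Set.range f)) (fun c => by
        rw [Fintype.linearCombination_apply]
        exact Ideal.sum_mem _ (fun i _ => Ideal.mul_mem_left _ _
          (Ideal.subset_span (Set.mem_range_self i))))
  have hΘ : Function.Surjective Θ := by
    rintro ⟨x, hx⟩
    obtain ⟨c, rfl⟩ := Ideal.mem_span_range_iff_exists_fun.mp hx
    refine ⟨c, Subtype.ext ?_⟩
    change Fintype.linearCombination (MvPolynomial (Fin d) k) f c = _
    rw [Fintype.linearCombination_apply]
    rfl
  let Ψ : (Fin n → MvPolynomial (Fin d) k) →ₗ[MvPolynomial (Fin d) k]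
      (MvPolynomial (Fin d) k ⧸ Ideal.span (Set.range f)) :=
    Fintype.linearCombination (MvPolynomial (Fin d) k) b
  have hker : LinearMap.ker Θ ≤ LinearMap.ker Ψ := by
    intro c hc
    rw [LinearMap.mem_ker] at hc ⊢
    have h1 : ∑ i, c i * f i = 0 := by
      have := congrArg Subtype.val hc
      change Fintype.linearCombination (MvPolynomial (Fin d) k) f c = 0 at this
      rw [Fintype.linearCombination_apply] at this
      exact this
    change Fintype.linearCombination (MvPolynomial (Fin d) k) b c = 0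
    rw [Fintype.linearCombination_apply]
    refine Finset.sum_eq_zero (fun i _ => ?_)
    exact smul_eq_zero_of_mem f (rel_mem f hreg c h1 i) (b i)
  let φ : ↥(Ideal.span (Set.range f)) →ₗ[MvPolynomial (Fin d) k]
      (MvPolynomial (Fin d) k ⧸ Ideal.span (Set.range f)) :=
    ((LinearMap.ker Θ).liftQ Ψ hker).comp (Θ.quotKerEquivOfSurjective hΘ).symm.toLinearMap
  have hφ : ∀ c, φ (Θ c) = Ψ c := by
    intro c
    have h1 : (Θ.quotKerEquivOfSurjective hΘ).symm (Θ c) = Submodule.Quotient.mk c := by
      rw [LinearEquiv.symm_apply_eq]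
      rfl
    change ((LinearMap.ker Θ).liftQ Ψ hker) ((Θ.quotKerEquivOfSurjective hΘ).symm (Θ c)) = _
    rw [h1, Submodule.liftQ_apply]
  refine ⟨φ, ?_⟩
  funext i
  change φ ⟨f i, _⟩ = b i
  have h2 : (⟨f i, Ideal.subset_span (Set.mem_range_self i)⟩ : ↥(Ideal.span (Set.range f))) =
      Θ (Pi.single i 1) := by
    apply Subtype.ext
    change f i = Fintype.linearCombination (MvPolynomial (Fin d) k) f (Pi.single i 1)
    rw [Fintype.linearCombination_apply_single, one_smul]
  rw [h2, hφ]
  change Fintype.linearCombination (MvPolynomial (Fin d) k) b (Pi.single i 1) = b i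
  rw [Fintype.linearCombination_apply_single, one_smul]

/-- a derivation is determined by its values on the variables. -/
theorem der_formula (D : Derivation k (MvPolynomial (Fin d) k)
    (MvPolynomial (Fin d) k ⧸ Ideal.span (Set.range f))) (g : MvPolynomial (Fin d) k) :
    D g = ∑ j, (pderiv j g) • D (X j) := by
  classical
  induction g using MvPolynomial.induction_on with
  | C a =>
    rw [derivation_C]
    symm
    refine Finset.sum_eq_zero (fun j _ => ?_)
    rw [derivation_C, zero_smul]
  | add p q hp hq =>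
    rw [map_add, hp, hq, ← Finset.sum_add_distrib]
    refine Finset.sum_congr rfl (fun j _ => ?_)
    rw [map_add, add_smul]
  | mul_X p i hp =>
    rw [Derivation.leibniz]
    have h1 : ∀ j, (pderiv j (p * X i)) • D (X j) =
        p • ((pderiv j (X i : MvPolynomial (Fin d) k)) • D (X j)) +
          (X i : MvPolynomial (Fin d) k) • ((pderiv j p) • D (X j)) := by
      intro j
      rw [Derivation.leibniz, add_smul, smul_eq_mul, smul_eq_mul, mul_smul, mul_smul]
    rw [Finset.sum_congr rfl (fun j _ => h1 j), Finset.sum_add_distrib, ← Finset.smul_sum,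
      ← Finset.smul_sum, ← hp]
    congr 2
    rw [Finset.sum_eq_single i]
    · rw [pderiv_X_self, one_smul]
    · intro j _ hj
      rw [pderiv_X_of_ne (Ne.symm hj), zero_smul]
    · intro hi
      exact absurd (Finset.mem_univ i) hi

/-- restriction of a derivation to the ideal is `P`-linear. -/
noncomputable def restrictDer (D : Derivation k (MvPolynomial (Fin d) k)
    (MvPolynomial (Fin d) k ⧸ Ideal.span (Set.range f))) :
    ↥(Ideal.span (Set.range f)) →ₗ[MvPolynomial (Fin d) k]
      (MvPolynomial (Fin d) k ⧸ Ideal.span (Set.range f)) where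
  toFun a := D (a : MvPolynomial (Fin d) k)
  map_add' a b := by
    change D ((a : MvPolynomial (Fin d) k) + b) = _
    rw [map_add]
  map_smul' c a := by
    change D (c * (a : MvPolynomial (Fin d) k)) = c • D (a : MvPolynomial (Fin d) k)
    rw [Derivation.leibniz, smul_eq_zero_of_mem f a.2, add_zero]

end T1

end Groth.Agent.Lib.Lead.CIT1
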