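import Groth.Prelude.Def_SGA4c

/-!
# Instance shortcuts for `ToposFin.Sh J`

With all of Mathlib imported, instance search for `HasCoproduct F` (`F : ι → Sh J`) wanders off into
`HasCountableCoproducts`/`EssentiallySmall` and does not terminate in reasonable time.  These
high-priority shortcuts (found with the small import closure of the prelude, where search is fast)
fix that.  All these classes are `Prop`-valued, so the choice of instance is irrelevant.
-/

set_option autoImplicit false
open CategoryTheory CategoryTheory.Limits Opposite
universe u

namespace Groth.Agent.Lib.Lead.ToposFin
open _root_.ToposFin

variable {C : Type u} [SmallCategory C] {J : GrothendieckTopology C}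

instance (priority := 10000) shHasColimitsOfShape (K : Type u) [SmallCategory K] :
    HasColimitsOfShape K (Sh J) := inferInstance

instance (priority := 10000) shHasColimitsOfShapeDiscrete (ι : Type u) :
    HasColimitsOfShape (Discrete ι) (Sh J) := inferInstance

instance (priority := 10000) shHasCoproduct {ι : Type u} (F : ι → Sh J) : HasCoproduct F :=
  inferInstance

instance (priority := 10000) shHasColimitsOfSize : HasColimitsOfSize.{u, u} (Sh J) := inferInstance

instance (priority := 10000) shHasLimitsOfSize : HasLimitsOfSize.{u, u} (Sh J) := inferInstance

instance (priority := 10000) shHasLimitsOfShape (K : Type u) [SmallCategory K] :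
    HasLimitsOfShape K (Sh J) := inferInstance

instance (priority := 10000) shHasPullbacks : HasPullbacks (Sh J) := inferInstance

instance (priority := 10000) shHasPullback {X Y Z : Sh J} (f : X ⟶ Z) (g : Y ⟶ Z) : HasPullback f g :=
  inferInstance

instance (priority := 10000) shHasFiniteLimits : HasFiniteLimits (Sh J) := inferInstance

instance (priority := 10000) shHasFiniteColimits : HasFiniteColimits (Sh J) := inferInstance

instance (priority := 10000) shHasBinaryProducts : HasBinaryProducts (Sh J) := inferInstance

instance (priority := 10000) shHasTerminal : HasTerminal (Sh J) := inferInstance

instance (priority := 10000) shHasInitial : HasInitial (Sh J) := inferInstance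

instance (priority := 10000) shHasCoequalizers : HasCoequalizers (Sh J) := inferInstance

instance (priority := 10000) shHasEqualizers : HasEqualizers (Sh J) := inferInstance

instance (priority := 10000) shHasFiniteCoproducts : HasFiniteCoproducts (Sh J) := inferInstance

instance (priority := 10000) shHasCoproductFin {n : ℕ} (F : Fin n → Sh J) : HasCoproduct F :=
  inferInstance

instance (priority := 10000) shHasSheafify : HasSheafify J (Type u) := inferInstance

end Groth.Agent.Lib.Lead.ToposFin
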