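import Mathlib
import Groth.Prelude.Def_SGA4c
import Groth.Agent.Lib.Lead.ToposFinInst

/-!
# Base library for the `ToposFin` cluster (SGA4 VI: quasi-compact / quasi-separated objects of `Sh J`)

`JE π` : the family `π i : F i ⟶ X` is jointly epimorphic, in sectionwise form (every section of `X`
lifts locally to some member of the family).  `epi_sigmaDesc_iff : Epi (Sigma.desc π) ↔ JE π`.
-/

set_option autoImplicit false
open CategoryTheory CategoryTheory.Limits Opposite
universe u w w'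

namespace Groth.Agent.Lib.Lead.ToposFin
open _root_.ToposFin

variable {C : Type u} [SmallCategory C] {J : GrothendieckTopology C}

/-- the sieve of arrows along which `x` lifts to some member of the family -/
def liftSieve {ι : Type w} {X : Sh J} {F : ι → Sh J} (π : ∀ i, F i ⟶ X) {U : C}
    (x : X.obj.obj (op U)) : Sieve U where
  arrows V g := ∃ (i : ι) (y : (F i).obj.obj (op V)), (π i).hom.app (op V) y = X.obj.map g.op x
  downward_closed := by
    rintro V W g ⟨i, y, hy⟩ h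
    refine ⟨i, (F i).obj.map h.op y, ?_⟩
    have := NatTrans.naturality_apply (π i).hom h.op y
    rw [this, hy]
    simp

theorem liftSieve_pullback {ι : Type w} {X : Sh J} {F : ι → Sh J} (π : ∀ i, F i ⟶ X) {U V : C}
    (x : X.obj.obj (op U)) (g : V ⟶ U) :
    (liftSieve π x).pullback g = liftSieve π (X.obj.map g.op x) := by
  ext W k
  simp [liftSieve]

/-- Jointly epimorphic family, sectionwise. -/
def JE {ι : Type w} {X : Sh J} {F : ι → Sh J} (π : ∀ i, F i ⟶ X) : Prop :=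
  ∀ (U : C) (x : X.obj.obj (op U)), liftSieve π x ∈ J U

theorem JE.hom_ext {ι : Type w} {X : Sh J} {F : ι → Sh J} {π : ∀ i, F i ⟶ X} (h : JE π)
    {Z : Sh J} {a b : X ⟶ Z} (hab : ∀ i, π i ≫ a = π i ≫ b) : a = b := by
  ext U x
  apply (((isSheaf_iff_isSheaf_of_type _ _).1 Z.2).isSeparated _ (h U.unop x)).ext
  rintro V g ⟨i, y, hy⟩
  have h₁ := NatTrans.naturality_apply a.hom g.op x
  have h₂ := NatTrans.naturality_apply b.hom g.op x
  have h3 : a.hom.app (op V) ((π i).hom.app (op V) y) = b.hom.app (op V) ((π i).hom.app (op V) y) :=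
    ConcreteCategory.congr_hom (congr_app ((sheafToPresheaf J _).congr_map (hab i)) (op V)) y
  exact h₁.symm.trans ((congrArg _ hy.symm).trans (h3.trans ((congrArg _ hy).trans h₂)))

/-- the subpresheaf of sections which lift locally -/
def liftSub {ι : Type w} {X : Sh J} {F : ι → Sh J} (π : ∀ i, F i ⟶ X) : Subfunctor X.obj where
  obj U := {x | liftSieve π (U := U.unop) x ∈ J U.unop}
  map {U V} i x hx := by
    have := J.pullback_stable i.unop hx
    rw [liftSieve_pullback] at this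
    exact this

theorem liftSub_isSheaf {ι : Type w} {X : Sh J} {F : ι → Sh J} (π : ∀ i, F i ⟶ X) :
    Presieve.IsSheaf J (liftSub π).toFunctor := by
  rw [Subfunctor.isSheaf_iff _ ((isSheaf_iff_isSheaf_of_type _ _).1 X.2)]
  intro U s hs
  refine J.transitive hs (liftSieve π (U := U.unop) s) (fun V g hg => ?_)
  rw [liftSieve_pullback]
  exact hg

theorem JE.of_hom_ext {ι : Type w} {X : Sh J} {F : ι → Sh J} {π : ∀ i, F i ⟶ X}
    (h : ∀ (Z : Sh J) (a b : X ⟶ Z), (∀ i, π i ≫ a = π i ≫ b) → a = b) : JE π := by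
  let I : Sh J := ⟨(liftSub π).toFunctor, (isSheaf_iff_isSheaf_of_type _ _).2 (liftSub_isSheaf π)⟩
  let ιI : I ⟶ X := ⟨(liftSub π).ι⟩
  have hrange : ∀ i, Subfunctor.range (π i).hom ≤ liftSub π := by
    rintro i U x ⟨y, rfl⟩
    show liftSieve π (U := U.unop) _ ∈ J U.unop
    convert J.top_mem U.unop
    ext V g
    simp only [Sieve.top_apply, iff_true]
    exact ⟨i, (F i).obj.map g.op y, NatTrans.naturality_apply (π i).hom g.op y⟩
  let l : ∀ i, F i ⟶ I := fun i => ⟨Subfunctor.lift (π i).hom (hrange i)⟩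
  have hl : ∀ i, l i ≫ ιI = π i := fun i => by
    ext : 1
    rfl
  have : Epi ιI := ⟨fun a b hab => h _ a b (fun i => by rw [← hl i, Category.assoc, hab, Category.assoc])⟩
  have hls : Sheaf.IsLocallySurjective ιI := (Sheaf.isLocallySurjective_iff_epi ιI).2 this
  intro U x
  have h1 := Presheaf.imageSieve_mem J ιI.hom (U := op U) x
  refine J.transitive h1 _ (fun V g hg => ?_)
  obtain ⟨t, ht⟩ := hg
  rw [liftSieve_pullback]
  have : (t : X.obj.obj (op V)) = X.obj.map g.op x := ht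
  rw [← this]
  exact t.2

theorem JE_iff_hom_ext {ι : Type w} {X : Sh J} {F : ι → Sh J} (π : ∀ i, F i ⟶ X) :
    JE π ↔ ∀ (Z : Sh J) (a b : X ⟶ Z), (∀ i, π i ≫ a = π i ≫ b) → a = b :=
  ⟨fun h _ _ _ hab => h.hom_ext hab, JE.of_hom_ext⟩

theorem epi_sigmaDesc_iff {ι : Type w} {X : Sh J} {F : ι → Sh J} [HasCoproduct F] (π : ∀ i, F i ⟶ X) :
    Epi (Sigma.desc π) ↔ JE π := by
  rw [JE_iff_hom_ext]
  constructor
  · intro h Z a b hab
    rw [← cancel_epi (Sigma.desc π)]
    exact Sigma.hom_ext _ _ (fun i => by simp [hab i])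
  · intro h
    refine ⟨fun a b hab => h _ a b (fun i => ?_)⟩
    have := Sigma.ι F i ≫= hab
    simpa using this

theorem JE.of_refine {ι : Type w} {κ : Type w'} {X : Sh J} {F : ι → Sh J} {π : ∀ i, F i ⟶ X}
    {G : κ → Sh J} {π' : ∀ k, G k ⟶ X} (h : JE π') (a : κ → ι) (ρ : ∀ k, G k ⟶ F (a k))
    (hρ : ∀ k, ρ k ≫ π (a k) = π' k) : JE π := by
  intro U x
  refine J.superset_covering ?_ (h U x)
  rintro V g ⟨k, y, hy⟩
  refine ⟨a k, (ρ k).hom.app _ y, ?_⟩
  rw [← hy, ← hρ k]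
  rfl

theorem JE.comp {ι : Type w} {κ : ι → Type w'} {X : Sh J} {F : ι → Sh J} {π : ∀ i, F i ⟶ X}
    (h : JE π) {G : ∀ i, κ i → Sh J} (ρ : ∀ i k, G i k ⟶ F i) (hρ : ∀ i, JE (ρ i)) :
    JE (fun (s : Σ i, κ i) => ρ s.1 s.2 ≫ π s.1) := by
  intro U x
  refine J.transitive (h U x) _ ?_
  rintro V g ⟨i, y, hy⟩
  refine J.superset_covering ?_ (hρ i V y)
  rintro W k ⟨j, z, hz⟩
  refine ⟨⟨i, j⟩, z, ?_⟩
  show (π i).hom.app _ ((ρ i j).hom.app _ z) = _
  rw [hz]
  have := NatTrans.naturality_apply (π i).hom k.op y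
  rw [this, hy]
  simp

theorem JE_single_iff {X Y : Sh J} (f : X ⟶ Y) : JE (fun _ : PUnit.{w+1} => f) ↔ Epi f := by
  rw [← Sheaf.isLocallySurjective_iff_epi]
  constructor
  · intro h
    refine ⟨fun {U} x => J.superset_covering ?_ (h U x)⟩
    rintro V g ⟨_, y, hy⟩
    exact ⟨y, hy⟩
  · intro h U x
    refine J.superset_covering ?_ (Presheaf.imageSieve_mem J f.hom (U := op U) x)
    rintro V g ⟨y, hy⟩
    exact ⟨PUnit.unit, y, hy⟩

theorem JE_cofan {ι : Type w} {F : ι → Sh J} (c : Cofan F) (hc : IsColimit c) : JE c.inj :=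
  JE.of_hom_ext (fun _ _ _ hab => Cofan.IsColimit.hom_ext hc _ _ hab)

/-- sections of a pullback -/
theorem exists_section_of_isPullback {P A B X : Sh J} {p : P ⟶ A} {q : P ⟶ B} {a : A ⟶ X}
    {b : B ⟶ X} (h : IsPullback p q a b) {U : C} (y : A.obj.obj (op U)) (z : B.obj.obj (op U))
    (hyz : a.hom.app _ y = b.hom.app _ z) :
    ∃ w : P.obj.obj (op U), p.hom.app _ w = y ∧ q.hom.app _ w = z := by
  have h' := h.map (sheafToPresheaf J (Type u) ⋙ (evaluation Cᵒᵖ (Type u)).obj (op U))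
  exact Limits.Types.exists_of_isPullback h' y z hyz

theorem section_ext_of_isPullback {P A B X : Sh J} {p : P ⟶ A} {q : P ⟶ B} {a : A ⟶ X}
    {b : B ⟶ X} (h : IsPullback p q a b) {U : C} {w w' : P.obj.obj (op U)}
    (h1 : p.hom.app _ w = p.hom.app _ w') (h2 : q.hom.app _ w = q.hom.app _ w') : w = w' := by
  have h' := h.map (sheafToPresheaf J (Type u) ⋙ (evaluation Cᵒᵖ (Type u)).obj (op U))
  exact Limits.Types.ext_of_isPullback h' h1 h2

theorem JE.pullback {ι : Type w} {X X' : Sh J} {F : ι → Sh J} {π : ∀ i, F i ⟶ X} (h : JE π)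
    (g : X' ⟶ X) {P : ι → Sh J} (p : ∀ i, P i ⟶ F i) (q : ∀ i, P i ⟶ X')
    (hpb : ∀ i, IsPullback (p i) (q i) (π i) g) : JE q := by
  intro U x'
  refine J.superset_covering ?_ (h U (g.hom.app _ x'))
  rintro V k ⟨i, y, hy⟩
  have hn := NatTrans.naturality_apply g.hom k.op x'
  obtain ⟨w, -, hw⟩ := exists_section_of_isPullback (hpb i) y (X'.obj.map k.op x') (hy.trans hn.symm)
  exact ⟨i, w, hw⟩

theorem isQC_iff {X : Sh J} : IsQC X ↔ ∀ (ι : Type u) (F : ι → Sh J) (π : ∀ i, F i ⟶ X), JE π →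
    ∃ s : Finset ι, JE (fun i : s => π i) := by
  constructor
  · intro h ι F π hπ
    obtain ⟨s, hs⟩ := h ι F π ((epi_sigmaDesc_iff π).2 hπ)
    exact ⟨s, (epi_sigmaDesc_iff _).1 hs⟩
  · intro h ι F π hπ
    obtain ⟨s, hs⟩ := h ι F π ((epi_sigmaDesc_iff π).1 hπ)
    exact ⟨s, (epi_sigmaDesc_iff _).2 hs⟩

/-- A finite jointly epimorphic family with quasi-compact sources has quasi-compact target. -/
theorem isQC_of_finite_JE {κ : Type w} [Finite κ] {X : Sh J} {F : κ → Sh J} (π : ∀ k, F k ⟶ X)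
    (h : JE π) (hF : ∀ k, IsQC (F k)) : IsQC X := by
  classical
  haveI := Fintype.ofFinite κ
  rw [isQC_iff]
  intro ι G ρ hρ
  have h1 : ∀ k, JE (fun j => pullback.snd (ρ j) (π k)) := fun k =>
    hρ.pullback (π k) (fun j => pullback.fst (ρ j) (π k)) _ (fun j => IsPullback.of_hasPullback _ _)
  have h2 : ∀ k, ∃ s : Finset ι, JE (fun j : s => pullback.snd (ρ j) (π k)) := fun k =>
    (isQC_iff.1 (hF k)) ι _ _ (h1 k)
  choose s hs using h2
  refine ⟨Finset.univ.biUnion s, ?_⟩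
  have h3 := h.comp (κ := fun k => s k) (fun k (j : s k) => pullback.snd (ρ j) (π k)) hs
  refine h3.of_refine (fun kj => ⟨kj.2.1, Finset.mem_biUnion.2 ⟨kj.1, Finset.mem_univ _, kj.2.2⟩⟩)
    (fun kj => pullback.fst (ρ kj.2.1) (π kj.1)) (fun kj => ?_)
  exact pullback.condition

theorem IsQC.of_epi {X Y : Sh J} (f : X ⟶ Y) [Epi f] (hX : IsQC X) : IsQC Y :=
  isQC_of_finite_JE (κ := PUnit.{1}) (fun _ => f) ((JE_single_iff f).2 inferInstance) (fun _ => hX)

theorem IsQC.of_iso {X Y : Sh J} (e : X ≅ Y) (hX : IsQC X) : IsQC Y :=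
  IsQC.of_epi e.hom hX

theorem IsQCHom.isQC_of_isPullback {X Y Y' P : Sh J} {f : X ⟶ Y} (hf : IsQCHom f) {g : Y' ⟶ Y}
    {p : P ⟶ X} {q : P ⟶ Y'} (h : IsPullback p q f g) (hY' : IsQC Y') : IsQC P :=
  IsQC.of_iso h.isoPullback.symm (hf Y' g hY')

/-- quasi-compact morphisms as a morphism property -/
def QCHomP : MorphismProperty (Sh J) := fun _ _ f => IsQCHom f

theorem qcHomP_iff {X Y : Sh J} (f : X ⟶ Y) : QCHomP f ↔ IsQCHom f := Iff.rfl

theorem qsHom_iff {X Y : Sh J} (f : X ⟶ Y) : (QCHomP (J := J)).diagonal f ↔ IsQSHom f := Iff.rfl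

theorem isQCHom_of_isIso {X Y : Sh J} (f : X ⟶ Y) [IsIso f] : IsQCHom f := by
  intro Y' g hY'
  exact IsQC.of_iso (asIso (pullback.snd f g)).symm hY'

instance : (QCHomP (J := J)).IsStableUnderBaseChange where
  of_isPullback {X Y Y' S f g f' g'} sq hg := by
    intro T t hT
    have s := (IsPullback.of_hasPullback g' t).flip
    have := (s.paste_vert sq.flip).flip
    exact IsQCHom.isQC_of_isPullback hg this hT

instance : (QCHomP (J := J)).IsStableUnderComposition where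
  comp_mem {X Y Z} f g hf hg := by
    intro T t hT
    have h1 : IsQC (pullback g t) := hg T t hT
    have h2 : IsQC (pullback f (pullback.fst g t)) := hf _ _ h1
    have s := IsPullback.of_hasPullback f (pullback.fst g t)
    have s' := IsPullback.of_hasPullback g t
    have := (s.flip.paste_horiz s'.flip).flip
    exact IsQC.of_iso this.isoPullback h2

instance : (QCHomP (J := J)).ContainsIdentities where
  id_mem X := isQCHom_of_isIso (𝟙 X)

instance : (QCHomP (J := J)).IsMultiplicative where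

instance : (QCHomP (J := J)).RespectsIso :=
  MorphismProperty.respectsIso_of_isStableUnderComposition (fun _ _ f (_ : IsIso f) => isQCHom_of_isIso f)

theorem IsQCHom.comp {X Y Z : Sh J} {f : X ⟶ Y} {g : Y ⟶ Z} (hf : IsQCHom f) (hg : IsQCHom g) :
    IsQCHom (f ≫ g) :=
  (QCHomP (J := J)).comp_mem f g hf hg

theorem IsQCHom.of_isPullback {X Y X' Y' : Sh J} {f : X ⟶ Y} {g : Y' ⟶ Y} {f' : X' ⟶ Y'}
    {g' : X' ⟶ X} (h : IsPullback g' f' f g) (hf : IsQCHom f) : IsQCHom f' :=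
  (QCHomP (J := J)).of_isPullback h hf

theorem IsQCHom.isQC_source {X Y : Sh J} {f : X ⟶ Y} (hf : IsQCHom f) (hY : IsQC Y) : IsQC X :=
  IsQCHom.isQC_of_isPullback hf (IsPullback.of_id_fst (f := f)) hY

theorem IsQCHom.of_postcomp {X Y Z : Sh J} (f : X ⟶ Y) (g : Y ⟶ Z) (hg : IsQSHom g)
    (h : IsQCHom (f ≫ g)) : IsQCHom f := by
  have : (QCHomP (J := J)).HasOfPostcompProperty (QCHomP (J := J)).diagonal :=
    MorphismProperty.hasOfPostcompProperty_iff_le_diagonal.2 le_rfl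
  exact this.of_postcomp f g hg h

theorem IsQSHom.of_postcomp {X Y Z : Sh J} (f : X ⟶ Y) (g : Y ⟶ Z)
    (h : IsQSHom (f ≫ g)) : IsQSHom f := by
  have : (QCHomP (J := J)).diagonal.HasOfPostcompProperty ⊤ := by
    rw [MorphismProperty.hasOfPostcompProperty_iff_le_diagonal]
    intro A B m _
    show IsQCHom (pullback.diagonal (pullback.diagonal m))
    exact isQCHom_of_isIso _
  exact this.of_postcomp f g trivial h

end Groth.Agent.Lib.Lead.ToposFin
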