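import Mathlib
import Groth.Agent.Lib.Lead.ToposFin

/-!
# ToposFin, part 2: covers of pullbacks, finite refinements, locality of quasi-compact morphisms
-/

set_option autoImplicit false
open CategoryTheory CategoryTheory.Limits Opposite
universe u w w'

namespace Groth.Agent.Lib.Lead.ToposFin
open _root_.ToposFin

variable {C : Type u} [SmallCategory C] {J : GrothendieckTopology C}

theorem JE.of_epi_sigmaDesc {ι : Type w} {X : Sh J} {F : ι → Sh J} [HasCoproduct F]
    {π : ∀ i, F i ⟶ X} (h : Epi (Sigma.desc π)) : JE π := (epi_sigmaDesc_iff π).1 h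

theorem JE.epi_sigmaDesc {ι : Type w} {X : Sh J} {F : ι → Sh J} [HasCoproduct F]
    {π : ∀ i, F i ⟶ X} (h : JE π) : Epi (Sigma.desc π) := (epi_sigmaDesc_iff π).2 h

theorem IsQC.exists_finset {X : Sh J} (hX : IsQC X) {ι : Type u} {F : ι → Sh J} {π : ∀ i, F i ⟶ X}
    (h : JE π) : ∃ s : Finset ι, JE (fun i : s => π i) := isQC_iff.1 hX ι F π h

/-- cover of the second factor of a pullback -/
theorem isQC_pullback_of_finite_cover {κ : Type w} [Finite κ] {X Y Y' : Sh J} (f : X ⟶ Y)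
    (g : Y' ⟶ Y) {W : κ → Sh J} (ρ : ∀ k, W k ⟶ Y') (hρ : JE ρ)
    (h : ∀ k, IsQC (pullback f (ρ k ≫ g))) : IsQC (pullback f g) := by
  refine isQC_of_finite_JE (fun k => pullback.fst (pullback.snd f g) (ρ k)) ?_
    (fun k => IsQC.of_iso (pullbackLeftPullbackSndIso f g (ρ k)).symm (h k))
  exact hρ.pullback (pullback.snd f g) (fun k => pullback.snd _ _) _
    (fun k => (IsPullback.of_hasPullback _ _).flip)

theorem IsQC.pullback_symm {X Y Z : Sh J} {f : X ⟶ Z} {g : Y ⟶ Z} (h : IsQC (pullback f g)) :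
    IsQC (pullback g f) := IsQC.of_iso (pullbackSymmetry f g) h

/-- cover of the first factor of a pullback -/
theorem isQC_pullback_of_finite_cover_left {κ : Type w} [Finite κ] {X X' Y : Sh J} (f : X ⟶ Y)
    (g : X' ⟶ Y) {W : κ → Sh J} (ρ : ∀ k, W k ⟶ X) (hρ : JE ρ)
    (h : ∀ k, IsQC (pullback (ρ k ≫ f) g)) : IsQC (pullback f g) :=
  IsQC.pullback_symm (isQC_pullback_of_finite_cover g f ρ hρ (fun k => IsQC.pullback_symm (h k)))

theorem isQC_pullback_congr {X Y Y' : Sh J} (f : X ⟶ Y) {g g' : Y' ⟶ Y} (h : g = g')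
    (hq : IsQC (pullback f g')) : IsQC (pullback f g) := by
  subst h; exact hq

/-- finite refinement of a cover of `Y` pulled back to a quasi-compact `T` by quasi-compact objects -/
theorem exists_finite_refinement (hE : HasQCGenerators J) {T Y : Sh J} (hT : IsQC T) (t : T ⟶ Y)
    {ι : Type u} {Yi : ι → Sh J} (g : ∀ i, Yi i ⟶ Y) (hg : JE g) :
    ∃ (κ : Type u) (_ : Finite κ) (W : κ → Sh J) (ρ : ∀ k, W k ⟶ T) (i : κ → ι)
      (σ : ∀ k, W k ⟶ Yi (i k)), (∀ k, IsQC (W k)) ∧ JE ρ ∧ ∀ k, ρ k ≫ t = σ k ≫ g (i k) := by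
  have h1 : JE (fun i => pullback.snd (g i) t) :=
    hg.pullback t (fun i => pullback.fst (g i) t) _ (fun i => IsPullback.of_hasPullback _ _)
  choose ιi F π hF hπ using fun i => hE (pullback (g i) t)
  have h2 := h1.comp (κ := ιi) (fun i k => π i k) (fun i => JE.of_epi_sigmaDesc (hπ i))
  obtain ⟨s, hs⟩ := IsQC.exists_finset hT h2
  refine ⟨s, inferInstance, fun k => F k.1.1 k.1.2, fun k => π k.1.1 k.1.2 ≫ pullback.snd _ _,
    fun k => k.1.1, fun k => π k.1.1 k.1.2 ≫ pullback.fst _ _, fun k => hF _ _, hs, fun k => ?_⟩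
  simp only [Category.assoc, pullback.condition]

/-- Abstract locality on the target of quasi-compact morphisms. -/
theorem isQCHom_of_local (hE : HasQCGenerators J) {A B : Sh J} (h : A ⟶ B) {ι : Type u}
    {V : ι → Sh J} (v : ∀ i, V i ⟶ B) (hv : JE v) {Q : ι → Sh J} (p : ∀ i, Q i ⟶ A)
    (q : ∀ i, Q i ⟶ V i) (hpb : ∀ i, IsPullback (p i) (q i) h (v i)) (hq : ∀ i, IsQCHom (q i)) :
    IsQCHom h := by
  intro T t hT
  obtain ⟨κ, _, W, ρ, i, σ, hW, hρ, hσ⟩ := exists_finite_refinement hE hT t v hv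
  refine isQC_pullback_of_finite_cover h t ρ hρ (fun k => ?_)
  rw [hσ k]
  -- pullback h (σ k ≫ v (i k)) ≅ pullback (q (i k)) (σ k)
  have s1 := IsPullback.of_hasPullback (q (i k)) (σ k)
  have s2 := s1.paste_horiz (hpb (i k))
  exact IsQC.of_iso s2.isoPullback (hq (i k) _ (σ k) (hW k))

end Groth.Agent.Lib.Lead.ToposFin
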