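import Mathlib
import Groth.Agent.Lib.Lead.ToposFin2

/-!
# ToposFin, part 3: diagonals of base changes (general category), locality of quasi-separatedness
-/

set_option autoImplicit false
open CategoryTheory CategoryTheory.Limits Opposite
universe u w w'

namespace Groth.Agent.Lib.Lead.ToposFin
open _root_.ToposFin

section General

variable {D : Type*} [Category D] [HasPullbacks D]

set_option backward.isDefEq.respectTransparency false in
/-- the diagonal of a base change is the base change of the diagonal -/
theorem isPullback_diagonal_of_isPullback {X Y X' Y' : D} {f : X ⟶ Y} {g : Y' ⟶ Y} {p : X' ⟶ X}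
    {f' : X' ⟶ Y'} (sq : IsPullback p f' f g) :
    IsPullback p (pullback.diagonal f') (pullback.diagonal f)
      (pullback.map f' f' f f p p g sq.w.symm sq.w.symm) := by
  refine ⟨⟨by ext <;> simp⟩, ⟨PullbackCone.IsLimit.mk _ (fun c => c.snd ≫ pullback.fst _ _) ?_ ?_ ?_⟩⟩
  · intro c
    have := c.condition =≫ pullback.fst _ _
    simpa using this.symm
  · intro c
    have h1 := c.condition =≫ pullback.fst _ _
    have h2 := c.condition =≫ pullback.snd _ _
    simp only [Category.assoc, pullback.diagonal_fst, pullback.diagonal_snd, Category.comp_id,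
      pullback.lift_fst, pullback.lift_snd, pullback.map] at h1 h2
    have h3 : c.snd ≫ pullback.fst f' f' = c.snd ≫ pullback.snd f' f' := by
      apply sq.hom_ext
      · rw [Category.assoc, Category.assoc, ← h1, ← h2]
      · rw [Category.assoc, Category.assoc, pullback.condition]
    apply pullback.hom_ext
    · simp
    · simp [h3]
  · intro c m hm1 hm2
    rw [← hm2]
    simp

set_option backward.isDefEq.respectTransparency false in
theorem isPullback_diagonalObj_map_of_isPullback {X Y X' Y' : D} {f : X ⟶ Y} {g : Y' ⟶ Y}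
    {p : X' ⟶ X} {f' : X' ⟶ Y'} (sq : IsPullback p f' f g) :
    IsPullback (pullback.map f' f' f f p p g sq.w.symm sq.w.symm) (pullback.fst f' f' ≫ f')
      (pullback.fst f f ≫ f) g := by
  refine ⟨⟨by simp [sq.w]⟩, ⟨PullbackCone.IsLimit.mk _
    (fun c => pullback.lift (sq.lift (c.fst ≫ pullback.fst _ _) c.snd (by simpa using c.condition))
      (sq.lift (c.fst ≫ pullback.snd _ _) c.snd
        (by rw [Category.assoc, ← pullback.condition]; simpa using c.condition)) (by simp))
    ?_ ?_ ?_⟩⟩
  · intro c
    apply pullback.hom_ext <;> simp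
  · intro c
    simp
  · intro c m hm1 hm2
    apply pullback.hom_ext
    · apply sq.hom_ext
      · simp [← hm1]
      · simp [← hm2]
    · apply sq.hom_ext
      · simp [← hm1]
      · simp [← hm2, pullback.condition]

end General

variable {C : Type u} [SmallCategory C] {J : GrothendieckTopology C}

/-- Abstract locality on the target of quasi-separated morphisms. -/
theorem isQSHom_of_local (hE : HasQCGenerators J) {X Y : Sh J} (f : X ⟶ Y) {ι : Type u}
    {Yi : ι → Sh J} (g : ∀ i, Yi i ⟶ Y) (hg : JE g) {Q : ι → Sh J} (p : ∀ i, Q i ⟶ X)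
    (q : ∀ i, Q i ⟶ Yi i) (hpb : ∀ i, IsPullback (p i) (q i) f (g i)) (hq : ∀ i, IsQSHom (q i)) :
    IsQSHom f := by
  refine isQCHom_of_local hE (pullback.diagonal f)
    (fun i => pullback.map (q i) (q i) f f (p i) (p i) (g i) (hpb i).w.symm (hpb i).w.symm) ?_ p
    (fun i => pullback.diagonal (q i)) (fun i => isPullback_diagonal_of_isPullback (hpb i)) hq
  exact hg.pullback (pullback.fst f f ≫ f) (fun i => pullback.fst (q i) (q i) ≫ q i) _
    (fun i => (isPullback_diagonalObj_map_of_isPullback (hpb i)).flip)

theorem IsQSHom.of_isPullback {X Y X' Y' : Sh J} {f : X ⟶ Y} {g : Y' ⟶ Y} {f' : X' ⟶ Y'}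
    {g' : X' ⟶ X} (h : IsPullback g' f' f g) (hf : IsQSHom f) : IsQSHom f' :=
  (QCHomP (J := J)).diagonal.of_isPullback h hf

theorem IsQSHom.comp {X Y Z : Sh J} {f : X ⟶ Y} {g : Y ⟶ Z} (hf : IsQSHom f) (hg : IsQSHom g) :
    IsQSHom (f ≫ g) :=
  (QCHomP (J := J)).diagonal.comp_mem f g hf hg

theorem isQSHom_of_mono {X Y : Sh J} (f : X ⟶ Y) [Mono f] : IsQSHom f :=
  isQCHom_of_isIso (pullback.diagonal f)

end Groth.Agent.Lib.Lead.ToposFin
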