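import Mathlib
import Groth.Agent.Lib.Lead.ToposFin3

/-!
# ToposFin, part 4: covers of the source, products of covers
-/

set_option autoImplicit false
open CategoryTheory CategoryTheory.Limits Opposite
universe u w w'

namespace Groth.Agent.Lib.Lead.ToposFin
open _root_.ToposFin

variable {C : Type u} [SmallCategory C] {J : GrothendieckTopology C}

theorem isQS_of_qs_cover_qc_maps (hE : HasQCGenerators J) {Y : Sh J} {ι : Type u}
    {Yi : ι → Sh J} (g : ∀ i, Yi i ⟶ Y) (hg : JE g) (hqs : ∀ i, IsQS (Yi i))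
    (hqc : ∀ i, IsQCHom (g i)) : IsQS Y := by
  intro A B a b hA hB
  obtain ⟨κ, _, W, ρ, i, σ, hW, hρ, hσ⟩ := exists_finite_refinement hE hA a g hg
  refine isQC_pullback_of_finite_cover_left a b ρ hρ (fun k => ?_)
  rw [hσ k]
  have h1 : IsQC (pullback (g (i k)) b) := hqc (i k) B b hB
  have h2 : IsQC (pullback (σ k) (pullback.fst (g (i k)) b)) := hqs (i k) _ _ _ _ (hW k) h1
  exact IsQC.of_iso (pullbackRightPullbackFstIso (g (i k)) b (σ k)) h2

theorem isQCHom_of_finite_cover_of_source {κ : Type w} [Finite κ] {Y Z : Sh J} (g : Y ⟶ Z)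
    {X : κ → Sh J} (f : ∀ k, X k ⟶ Y) (hf : JE f) (h : ∀ k, IsQCHom (f k ≫ g)) : IsQCHom g := by
  intro T t hT
  refine isQC_of_finite_JE (fun k => pullback.snd (f k) (pullback.fst g t)) ?_
    (fun k => IsQC.of_iso (pullbackRightPullbackFstIso g t (f k)).symm (h k T t hT))
  exact hf.pullback (pullback.fst g t) (fun k => pullback.fst _ _) _
    (fun k => IsPullback.of_hasPullback _ _)

set_option backward.isDefEq.respectTransparency false in
theorem JE_pullback_map {ι : Type w} {κ : Type w'} {S Y Y' : Sh J} (a : Y ⟶ S) (a' : Y' ⟶ S)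
    {X : ι → Sh J} {X' : κ → Sh J} (f : ∀ i, X i ⟶ Y) (f' : ∀ j, X' j ⟶ Y') (hf : JE f)
    (hf' : JE f') :
    JE (fun (ij : ι × κ) => pullback.map (f ij.1 ≫ a) (f' ij.2 ≫ a') a a' (f ij.1) (f' ij.2) (𝟙 S)
      (by simp) (by simp)) := by
  have h1 : JE (fun j => pullback.fst (pullback.snd a a') (f' j)) :=
    hf'.pullback (pullback.snd a a') (fun j => pullback.snd _ _) _
      (fun j => (IsPullback.of_hasPullback _ _).flip)
  have h2 : ∀ j, JE (fun i => pullback.snd (f i)
      (pullback.fst (pullback.snd a a') (f' j) ≫ pullback.fst a a')) := fun j =>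
    hf.pullback _ (fun i => pullback.fst _ _) _ (fun i => IsPullback.of_hasPullback _ _)
  have h3 := h1.comp (κ := fun _ => ι) (fun j i => pullback.snd (f i)
      (pullback.fst (pullback.snd a a') (f' j) ≫ pullback.fst a a')) h2
  refine h3.of_refine (fun ji => (ji.2, ji.1))
    (fun ji => pullback.lift (pullback.fst _ _) (pullback.snd _ _ ≫ pullback.snd _ _) ?_)
    (fun ji => ?_)
  · calc pullback.fst (f ji.2) (pullback.fst (pullback.snd a a') (f' ji.1) ≫ pullback.fst a a') ≫
          f ji.2 ≫ a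
        = (pullback.snd (f ji.2) (pullback.fst (pullback.snd a a') (f' ji.1) ≫ pullback.fst a a') ≫
            pullback.fst (pullback.snd a a') (f' ji.1)) ≫ pullback.fst a a' ≫ a := by
          rw [← Category.assoc, pullback.condition]; simp only [Category.assoc]
      _ = (pullback.snd (f ji.2) (pullback.fst (pullback.snd a a') (f' ji.1) ≫ pullback.fst a a') ≫
            pullback.fst (pullback.snd a a') (f' ji.1)) ≫ pullback.snd a a' ≫ a' := by
          rw [pullback.condition]
      _ = (pullback.snd (f ji.2) (pullback.fst (pullback.snd a a') (f' ji.1) ≫ pullback.fst a a') ≫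
            pullback.snd (pullback.snd a a') (f' ji.1)) ≫ f' ji.1 ≫ a' := by
          simp only [Category.assoc]; rw [pullback.condition_assoc]
  · apply pullback.hom_ext
    · simp [pullback.condition]
    · simp [pullback.condition]

set_option backward.isDefEq.respectTransparency false in
/-- If `f i : X i ⟶ Y` is a jointly epimorphic family of quasi-compact morphisms and every `f i ≫ g`
is quasi-separated, then `g` is quasi-separated. -/
theorem isQSHom_of_cover_of_source (hE : HasQCGenerators J) {Y Z : Sh J} (g : Y ⟶ Z) {ι : Type u}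
    {X : ι → Sh J} (f : ∀ i, X i ⟶ Y) (hf : JE f) (hqc : ∀ i, IsQCHom (f i))
    (hqs : ∀ i, IsQSHom (f i ≫ g)) : IsQSHom g := by
  refine isQCHom_of_local hE (pullback.diagonal g)
    (fun ij : ι × ι => pullback.map (f ij.1 ≫ g) (f ij.2 ≫ g) g g (f ij.1) (f ij.2) (𝟙 Z)
      (by simp) (by simp)) (JE_pullback_map g g f f hf hf)
    (fun ij => pullback.fst (f ij.1) (f ij.2) ≫ f ij.1)
    (fun ij => pullback.map (f ij.1) (f ij.2) (f ij.1 ≫ g) (f ij.2 ≫ g) (𝟙 _) (𝟙 _) g
      (Category.id_comp _).symm (Category.id_comp _).symm)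
    (fun ij => pullback_map_diagonal_isPullback (f ij.1) (f ij.2) g) (fun ij => ?_)
  refine IsQCHom.of_postcomp _ (pullback.fst (f ij.1 ≫ g) (f ij.2 ≫ g)) ?_ ?_
  · exact IsQSHom.of_isPullback (IsPullback.of_hasPullback (f ij.1 ≫ g) (f ij.2 ≫ g)).flip (hqs ij.2)
  · have : pullback.map (f ij.1) (f ij.2) (f ij.1 ≫ g) (f ij.2 ≫ g) (𝟙 _) (𝟙 _) g
        (Category.id_comp _).symm (Category.id_comp _).symm ≫ pullback.fst (f ij.1 ≫ g) (f ij.2 ≫ g)
        = pullback.fst (f ij.1) (f ij.2) := by simp
    rw [this]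
    exact IsQCHom.of_isPullback (IsPullback.of_hasPullback (f ij.1) (f ij.2)).flip (hqc ij.2)

end Groth.Agent.Lib.Lead.ToposFin
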