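import Mathlib
import Groth.Agent.Lib.Lead.ToposFin4
import Groth.Prelude.Def_ToposFin2

/-!
# ToposFin, part 5: generating sets, algebraic topoi, inverse image functors
-/

set_option autoImplicit false
open CategoryTheory CategoryTheory.Limits Opposite
universe u w w'

namespace Groth.Agent.Lib.Lead.ToposFin
open _root_.ToposFin

section General

variable {D : Type*} [Category D]

theorem isPullback_fork_of_isLimit {T K F P E : D} {t1 t2 : T ⟶ K} {e : E ⟶ T}
    {we : e ≫ t1 = e ≫ t2} (hE : IsLimit (Fork.ofι e we)) (p : F ⟶ T) {e' : P ⟶ F}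
    {w' : e' ≫ (p ≫ t1) = e' ≫ (p ≫ t2)} (hP : IsLimit (Fork.ofι e' w')) :
    IsPullback e' (Fork.IsLimit.lift hE (e' ≫ p) (by simpa using w')) p e := by
  have hl : Fork.IsLimit.lift hE (e' ≫ p) (by simpa using w') ≫ e = e' ≫ p :=
    Fork.IsLimit.lift_ι hE
  have hcond : ∀ c : PullbackCone p e, c.fst ≫ (p ≫ t1) = c.fst ≫ (p ≫ t2) := fun c =>
    calc c.fst ≫ p ≫ t1 = (c.fst ≫ p) ≫ t1 := (Category.assoc _ _ _).symm
      _ = (c.snd ≫ e) ≫ t1 := by rw [c.condition]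
      _ = c.snd ≫ e ≫ t2 := by rw [Category.assoc, we]
      _ = (c.snd ≫ e) ≫ t2 := (Category.assoc _ _ _).symm
      _ = (c.fst ≫ p) ≫ t2 := by rw [c.condition]
      _ = c.fst ≫ p ≫ t2 := Category.assoc _ _ _
  have h1 : ∀ c : PullbackCone p e, Fork.IsLimit.lift hP c.fst (hcond c) ≫ e' = c.fst :=
    fun c => Fork.IsLimit.lift_ι' hP _ _
  refine ⟨⟨hl.symm⟩, ⟨PullbackCone.IsLimit.mk _ (fun c => Fork.IsLimit.lift hP c.fst (hcond c))
    ?_ ?_ ?_⟩⟩
  · intro c
    exact h1 c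
  · intro c
    apply Fork.IsLimit.hom_ext hE
    show (_ ≫ _) ≫ e = c.snd ≫ e
    rw [Category.assoc, hl, ← Category.assoc, h1 c, c.condition]
  · intro c m hm1 hm2
    apply Fork.IsLimit.hom_ext hP
    show m ≫ e' = _ ≫ e'
    rw [h1 c, hm1]

set_option backward.isDefEq.respectTransparency false in
theorem isPullback_equalizer_diagonal [HasPullbacks D] [HasEqualizers D] {T X Y : D}
    (t1 t2 : T ⟶ X) (f : X ⟶ Y) (w : t1 ≫ f = t2 ≫ f) :
    IsPullback (equalizer.ι t1 t2 ≫ t1) (equalizer.ι t1 t2) (pullback.diagonal f)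
      (pullback.lift t1 t2 w) := by
  have hc : ∀ c : PullbackCone (pullback.diagonal f) (pullback.lift t1 t2 w),
      c.snd ≫ t1 = c.fst ∧ c.snd ≫ t2 = c.fst := by
    intro c
    have h1 := c.condition =≫ pullback.fst _ _
    have h2 := c.condition =≫ pullback.snd _ _
    simp only [Category.assoc, pullback.diagonal_fst, pullback.diagonal_snd, Category.comp_id,
      pullback.lift_fst, pullback.lift_snd] at h1 h2
    exact ⟨h1.symm, h2.symm⟩
  refine ⟨⟨by
    apply pullback.hom_ext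
    · simp
    · simpa using equalizer.condition t1 t2⟩, ⟨PullbackCone.IsLimit.mk _
    (fun c => equalizer.lift c.snd ((hc c).1.trans (hc c).2.symm)) ?_ ?_ ?_⟩⟩
  · intro c
    simp [(hc c).1]
  · intro c
    simp
  · intro c m hm1 hm2
    apply equalizer.hom_ext
    simp [hm2]

end General

variable {C : Type u} [SmallCategory C] {J : GrothendieckTopology C}

theorem isQCHom_of_isQC_of_isQS {Q V : Sh J} (q : Q ⟶ V) (hQ : IsQC Q) (hV : IsQS V) :
    IsQCHom q := fun T t hT => hV _ _ q t hQ hT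

/-- source of a quasi-separated morphism to a quasi-separated object is quasi-separated -/
theorem isQS_of_isQSHom {X Y : Sh J} (f : X ⟶ Y) (hf : IsQSHom f) (hY : IsQS Y) : IsQS X := by
  intro A B a b hA hB
  exact IsQCHom.isQC_of_isPullback hf (pullback_map_diagonal_isPullback a b f)
    (hY _ _ (a ≫ f) (b ≫ f) hA hB)

theorem isQS_of_mono {X Y : Sh J} (i : X ⟶ Y) [Mono i] (hY : IsQS Y) : IsQS X :=
  isQS_of_isQSHom i (isQSHom_of_mono i) hY

theorem isQS_of_iso {X Y : Sh J} (e : X ≅ Y) (hX : IsQS X) : IsQS Y :=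
  isQS_of_mono e.inv hX

theorem isCoherent_of_iso {X Y : Sh J} (e : X ≅ Y) (hX : IsCoherent X) : IsCoherent Y :=
  ⟨IsQC.of_iso e hX.1, isQS_of_iso e hX.2⟩

set_option backward.isDefEq.respectTransparency false in
theorem isQSHom_of_cover_with_qs_products (hE : HasQCGenerators J) {X Y : Sh J} (f : X ⟶ Y)
    {ι : Type u} {Xi : ι → Sh J} (g : ∀ i, Xi i ⟶ X) (hJE : JE g) (hqc : ∀ i, IsQC (Xi i))
    (hqs : ∀ i j, IsQS (pullback (g i ≫ f) (g j ≫ f))) (hX : IsQS X) : IsQSHom f := by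
  refine isQCHom_of_local hE (pullback.diagonal f)
    (fun ij : ι × ι => pullback.map (g ij.1 ≫ f) (g ij.2 ≫ f) f f (g ij.1) (g ij.2) (𝟙 Y)
      (by simp) (by simp)) (JE_pullback_map f f g g hJE hJE)
    (fun ij => pullback.fst (g ij.1) (g ij.2) ≫ g ij.1)
    (fun ij => pullback.map (g ij.1) (g ij.2) (g ij.1 ≫ f) (g ij.2 ≫ f) (𝟙 _) (𝟙 _) f
      (Category.id_comp _).symm (Category.id_comp _).symm)
    (fun ij => pullback_map_diagonal_isPullback (g ij.1) (g ij.2) f) (fun ij => ?_)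
  exact fun T t hT => hqs ij.1 ij.2 _ _ _ t (hX _ _ (g ij.1) (g ij.2) (hqc ij.1) (hqc ij.2)) hT

theorem IsGenerating.exists_cover {S : Set (Sh J)} (hS : IsGenerating S) (X : Sh J) :
    ∃ (ι : Type u) (F : ι → Sh J) (π : ∀ i, F i ⟶ X), (∀ i, F i ∈ S) ∧ JE π := by
  obtain ⟨ι, F, π, hF, h⟩ := hS X
  exact ⟨ι, F, π, hF, JE.of_hom_ext h⟩

theorem hasQCGenerators_of_isGenerating {S : Set (Sh J)} (hqc : ∀ K ∈ S, IsQC K)
    (hS : IsGenerating S) : HasQCGenerators J := fun X => by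
  obtain ⟨ι, F, π, hF, h⟩ := IsGenerating.exists_cover hS X
  exact ⟨ι, F, π, fun i => hqc _ (hF i), h.epi_sigmaDesc⟩

theorem IsQC.exists_finite_cover_mem {S : Set (Sh J)} (hS : IsGenerating S) {T : Sh J}
    (hT : IsQC T) : ∃ (κ : Type u) (_ : Finite κ) (W : κ → Sh J) (ρ : ∀ k, W k ⟶ T),
      (∀ k, W k ∈ S) ∧ JE ρ := by
  obtain ⟨ι, F, π, hF, h⟩ := IsGenerating.exists_cover hS T
  obtain ⟨s, hs⟩ := IsQC.exists_finset hT h
  exact ⟨s, inferInstance, fun k => F k, fun k => π k, fun k => hF k, hs⟩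

theorem isCoherent_of_mem {S : Set (Sh J)} (hqc : ∀ K ∈ S, IsQC K) (hgen : IsGenerating S)
    (hpb : ClosedUnderPullbacks S) {K : Sh J} (hK : K ∈ S) : IsCoherent K := by
  refine ⟨hqc K hK, ?_⟩
  intro A B a b hA hB
  obtain ⟨κ, _, W, ρ, hW, hρ⟩ := IsQC.exists_finite_cover_mem hgen hA
  obtain ⟨κ', _, W', ρ', hW', hρ'⟩ := IsQC.exists_finite_cover_mem hgen hB
  refine isQC_pullback_of_finite_cover_left a b ρ hρ
    (fun k => isQC_pullback_of_finite_cover (ρ k ≫ a) b ρ' hρ' (fun l => ?_))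
  obtain ⟨P, p, q, hP, hpq⟩ := hpb (ρ k ≫ a) (ρ' l ≫ b) (hW k) (hW' l) hK
  exact IsQC.of_iso hpq.isoPullback (hqc P hP)

theorem isQC_equalizer_of_mem {S : Set (Sh J)} (hqc : ∀ K ∈ S, IsQC K) (hgen : IsGenerating S)
    (heq : ClosedUnderEqualizers S) {K T : Sh J} (hK : K ∈ S) (hT : IsQC T) (t1 t2 : T ⟶ K) :
    IsQC (equalizer t1 t2) := by
  obtain ⟨κ, _, W, ρ, hW, hρ⟩ := IsQC.exists_finite_cover_mem hgen hT
  refine isQC_of_finite_JE (fun k => pullback.snd (ρ k) (equalizer.ι t1 t2))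
    (hρ.pullback _ (fun k => pullback.fst _ _) _ (fun k => IsPullback.of_hasPullback _ _))
    (fun k => ?_)
  obtain ⟨P, e', w', hP, ⟨hlim⟩⟩ := heq (ρ k ≫ t1) (ρ k ≫ t2) (hW k) hK
  have := isPullback_fork_of_isLimit (equalizerIsEqualizer t1 t2) (ρ k) hlim
  exact IsQC.of_iso this.isoPullback (hqc P hP)

theorem isQSHom_of_mem {S : Set (Sh J)} (hqc : ∀ K ∈ S, IsQC K) (hgen : IsGenerating S)
    (heq : ClosedUnderEqualizers S) {K Y : Sh J} (hK : K ∈ S) (u : K ⟶ Y) : IsQSHom u := by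
  intro T t hT
  have ht : t = pullback.lift (t ≫ pullback.fst _ _) (t ≫ pullback.snd _ _)
      (by simp [pullback.condition]) := by
    apply pullback.hom_ext
    · exact (pullback.lift_fst _ _ _).symm
    · exact (pullback.lift_snd _ _ _).symm
  refine isQC_pullback_congr _ ht ?_
  exact IsQC.of_iso (isPullback_equalizer_diagonal _ _ u _).isoPullback
    (isQC_equalizer_of_mem hqc hgen heq hK hT _ _)

/-- SGA4 VI 2.2-type statement for algebraic topoi. -/
theorem algebraic_qs_coh_iff (hE : IsAlgebraic J) {X Y : Sh J} (f : X ⟶ Y) :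
    (IsQS Y → (IsQS X ↔ IsQSHom f)) ∧ (IsCoherent Y → (IsCoherent X ↔ IsCohHom f)) := by
  obtain ⟨S, hqc, hgen, hpb, heq⟩ := hE
  have hEq := hasQCGenerators_of_isGenerating hqc hgen
  have key : IsQS Y → IsQS X → IsQSHom f := by
    intro hY hX
    obtain ⟨ι, F, π, hF, hπ⟩ := IsGenerating.exists_cover hgen X
    refine isQSHom_of_cover_with_qs_products hEq f π hπ (fun i => hqc _ (hF i)) (fun i j => ?_) hX
    exact isQS_of_isQSHom (pullback.fst (π i ≫ f) (π j ≫ f))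
      (IsQSHom.of_isPullback (IsPullback.of_hasPullback _ _).flip
        (isQSHom_of_mem hqc hgen heq (hF j) (π j ≫ f)))
      (isCoherent_of_mem hqc hgen hpb (hF i)).2
  exact ⟨fun hY => ⟨key hY, fun hf => isQS_of_isQSHom f hf hY⟩,
    fun hY => ⟨fun hX => ⟨isQCHom_of_isQC_of_isQS f hX.1 hY.2, key hY.2 hX.2⟩,
      fun hf => ⟨IsQCHom.isQC_source hf.1 hY.1, isQS_of_isQSHom f hf.2 hY.2⟩⟩⟩

section Adj

variable {D' : Type u} [SmallCategory D'] {K : GrothendieckTopology D'}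

theorem JE.map_of_adj (F : Sh K ⥤ Sh J) (R : Sh J ⥤ Sh K) (adj : F ⊣ R) {ι : Type w}
    {X : Sh K} {G : ι → Sh K} {π : ∀ i, G i ⟶ X} (h : JE π) : JE (fun i => F.map (π i)) := by
  refine JE.of_hom_ext (fun Z a b hab => ?_)
  apply (adj.homEquiv X Z).injective
  apply h.hom_ext
  intro i
  have := congrArg (adj.homEquiv _ _) (hab i)
  simpa only [Adjunction.homEquiv_naturality_left] using this

theorem isQC_map_of_generators (F : Sh K ⥤ Sh J) (R : Sh J ⥤ Sh K) (adj : F ⊣ R)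
    {S : Set (Sh K)} (hgen : IsGenerating S) (hS : ∀ X ∈ S, IsQC (F.obj X)) {X : Sh K}
    (hX : IsQC X) : IsQC (F.obj X) := by
  obtain ⟨κ, _, W, ρ, hW, hρ⟩ := IsQC.exists_finite_cover_mem hgen hX
  exact isQC_of_finite_JE (fun k => F.map (ρ k)) (hρ.map_of_adj F R adj) (fun k => hS _ (hW k))

end Adj

end Groth.Agent.Lib.Lead.ToposFin
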