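import Mathlib
import Groth.Agent.Lib.Lead.ToposFin5

/-!
# ToposFin, part 6: more criteria for quasi-separatedness
-/

set_option autoImplicit false
open CategoryTheory CategoryTheory.Limits Opposite
universe u w w'

namespace Groth.Agent.Lib.Lead.ToposFin
open _root_.ToposFin

variable {C : Type u} [SmallCategory C] {J : GrothendieckTopology C}

theorem isQCHom_of_coherent_cover_pullbacks_qc (hE : HasQCGenerators J) {Y : Sh J} {ι : Type u}
    {Yi : ι → Sh J} (g : ∀ i, Yi i ⟶ Y) (hg : JE g) (hY : ∀ i, IsQS (Yi i))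
    (hp : ∀ i j, IsQC (pullback (g i) (g j))) (i : ι) : IsQCHom (g i) := by
  intro T t hT
  obtain ⟨κ, _, W, ρ, j, σ, hW, hρ, hσ⟩ := exists_finite_refinement hE hT t g hg
  refine isQC_pullback_of_finite_cover (g i) t ρ hρ (fun k => ?_)
  rw [hσ k]
  exact IsQC.of_iso (pullbackLeftPullbackSndIso (g i) (g (j k)) (σ k))
    ((hY (j k)) _ _ (pullback.snd (g i) (g (j k))) (σ k) (hp i (j k)) (hW k))

theorem isQS_of_qs_cover_pullbacks_qc (hE : HasQCGenerators J) {Y : Sh J} {ι : Type u}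
    {Yi : ι → Sh J} (g : ∀ i, Yi i ⟶ Y) (hg : JE g) (hY : ∀ i, IsQS (Yi i))
    (hp : ∀ i j, IsQC (pullback (g i) (g j))) : IsQS Y :=
  isQS_of_qs_cover_qc_maps hE g hg hY (isQCHom_of_coherent_cover_pullbacks_qc hE g hg hY hp)

end Groth.Agent.Lib.Lead.ToposFin
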