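import Mathlib
import Groth.Agent.Lib.Lead.ToposFin6

/-!
# ToposFin: structure of coproducts in `Sh J` (injectivity and disjointness of the injections)
-/

set_option autoImplicit false
open CategoryTheory CategoryTheory.Limits Opposite
universe u w w'

namespace Groth.Agent.Lib.Lead.ToposFin
open _root_.ToposFin

variable {C : Type u} [SmallCategory C] {J : GrothendieckTopology C}

section Model

variable {ι : Type u} (F : ι → Sh J)

/-- the coproduct of the underlying presheaves, by hand -/
def sigmaPsh : Cᵒᵖ ⥤ Type u where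
  obj U := Σ i, (F i).obj.obj U
  map g := TypeCat.ofHom (fun p => ⟨p.1, (F p.1).obj.map g p.2⟩)
  map_id U := by
    apply ConcreteCategory.hom_ext
    rintro ⟨i, x⟩
    exact congrArg (Sigma.mk i) (by simp)
  map_comp g h := by
    apply ConcreteCategory.hom_ext
    rintro ⟨i, x⟩
    exact congrArg (Sigma.mk i) (by simp; rfl)

def sigmaPshInj (i : ι) : (F i).obj ⟶ sigmaPsh F where
  app U := TypeCat.ofHom (fun x => ⟨i, x⟩)
  naturality := by
    intros
    rfl

def sigmaPshDesc {Z : Cᵒᵖ ⥤ Type u} (φ : ∀ i, (F i).obj ⟶ Z) : sigmaPsh F ⟶ Z where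
  app U := TypeCat.ofHom (fun p => (φ p.1).app U p.2)
  naturality := by
    intro U V g
    apply ConcreteCategory.hom_ext
    rintro ⟨i, x⟩
    exact NatTrans.naturality_apply (φ i) g x

/-- the model cofan -/
noncomputable def modelCofan : Cofan F :=
  Cofan.mk ((presheafToSheaf J (Type u)).obj (sigmaPsh F))
    (fun i => ⟨sigmaPshInj F i ≫ toSheafify J (sigmaPsh F)⟩)

noncomputable def modelCofanIsColimit : IsColimit (modelCofan F) :=
  Cofan.IsColimit.mk _
    (fun t => ⟨sheafifyLift J (sigmaPshDesc F (fun i => (t.inj i).hom)) t.pt.2⟩)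
    (fun t i => by
      ext : 1
      show (sigmaPshInj F i ≫ toSheafify J (sigmaPsh F)) ≫ sheafifyLift J _ _ = _
      rw [Category.assoc, toSheafify_sheafifyLift]
      rfl)
    (fun t m hm => by
      ext : 1
      apply sheafifyLift_unique
      apply NatTrans.ext
      funext U
      apply ConcreteCategory.hom_ext
      rintro ⟨i, x⟩
      have := congrArg (fun φ => φ.hom.app U x) (hm i)
      exact this)

end Model

section Cofan

variable {ι : Type u} {F : ι → Sh J} {c : Cofan F} (hc : IsColimit c)

include hc in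
theorem cofan_inj_eq_locally {U : C} {i j : ι} (x : (F i).obj.obj (op U))
    (x' : (F j).obj.obj (op U)) (h : (c.inj i).hom.app _ x = (c.inj j).hom.app _ x') :
    Presheaf.equalizerSieve (F := sigmaPsh F) (X := op U) ⟨i, x⟩ ⟨j, x'⟩ ∈ J U := by
  let e := hc.coconePointUniqueUpToIso (modelCofanIsColimit F)
  have hi : ∀ k, c.inj k ≫ e.hom = (modelCofan F).inj k := fun k =>
    IsColimit.comp_coconePointUniqueUpToIso_hom hc (modelCofanIsColimit F) ⟨k⟩
  have h1 : ((modelCofan F).inj i).hom.app _ x = ((modelCofan F).inj j).hom.app _ x' := by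
    rw [← hi i, ← hi j]
    exact congrArg (e.hom.hom.app _) h
  exact Presheaf.equalizerSieve_mem J (toSheafify J (sigmaPsh F)) (X := op U) ⟨i, x⟩ ⟨j, x'⟩ h1

include hc in
theorem cofan_inj_injective {U : C} (i : ι) : Function.Injective ((c.inj i).hom.app (op U)) := by
  intro x x' h
  have hS := cofan_inj_eq_locally hc x x' h
  apply (((isSheaf_iff_isSheaf_of_type _ _).1 (F i).2).isSeparated _ hS).ext
  intro V g hg
  have : (⟨i, (F i).obj.map g.op x⟩ : Σ k, (F k).obj.obj (op V)) = ⟨i, (F i).obj.map g.op x'⟩ := hg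
  exact eq_of_heq (Sigma.mk.inj this).2

include hc in
theorem cofan_inj_disjoint {U : C} {i j : ι} (hij : i ≠ j) (x : (F i).obj.obj (op U))
    (x' : (F j).obj.obj (op U)) (h : (c.inj i).hom.app _ x = (c.inj j).hom.app _ x') :
    (⊥ : Sieve U) ∈ J U := by
  refine J.superset_covering ?_ (cofan_inj_eq_locally hc x x' h)
  intro V g hg
  have : (⟨i, (F i).obj.map g.op x⟩ : Σ k, (F k).obj.obj (op V)) = ⟨j, (F j).obj.map g.op x'⟩ := hg
  exact absurd (congrArg Sigma.fst this) hij

include hc in
theorem mono_cofan_inj (i : ι) : Mono (c.inj i) := ⟨fun a b hab => by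
  ext V z
  exact cofan_inj_injective hc (U := V.unop) i (congrArg (fun m => m.hom.app V z) hab)⟩

include hc in
theorem isQCHom_cofan_inj (i : ι) : IsQCHom (c.inj i) := by
  classical
  intro T t hT
  rw [isQC_iff]
  intro κ G ρ hρ
  let q : ∀ j, pullback (c.inj j) t ⟶ T := fun j => pullback.snd (c.inj j) t
  have hq : JE q := (JE_cofan c hc).pullback t (fun j => pullback.fst (c.inj j) t) _
    (fun j => IsPullback.of_hasPullback _ _)
  let Φ : κ ⊕ {j // j ≠ i} → Sh J := Sum.elim G (fun j => pullback (c.inj j.1) t)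
  let φ : ∀ a, Φ a ⟶ T := fun a => match a with
    | Sum.inl k => ρ k ≫ q i
    | Sum.inr j => q j.1
  have hφ : JE φ := by
    intro U x
    refine J.transitive (hq U x) _ ?_
    rintro V g ⟨j, w, hw⟩
    rw [liftSieve_pullback]
    by_cases hj : j = i
    · subst hj
      refine J.superset_covering ?_ (hρ V w)
      rintro W h ⟨k, z, hz⟩
      refine ⟨Sum.inl k, z, ?_⟩
      show (q j).hom.app _ ((ρ k).hom.app _ z) = _
      rw [hz]
      have := NatTrans.naturality_apply (q j).hom h.op w
      rw [this, hw]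
    · refine J.superset_covering ?_ (J.top_mem V)
      intro W h _
      refine ⟨Sum.inr ⟨j, hj⟩, (pullback (c.inj j) t).obj.map h.op w, ?_⟩
      have := NatTrans.naturality_apply (q j).hom h.op w
      exact this.trans (congrArg _ hw)
  obtain ⟨s, hs⟩ := IsQC.exists_finset hT hφ
  refine ⟨s.toLeft, ?_⟩
  intro U w
  refine J.transitive (hs U ((q i).hom.app _ w)) _ ?_
  rintro V g ⟨⟨a, ha⟩, z, hz⟩
  have hnat := NatTrans.naturality_apply (q i).hom g.op w
  have hcond : ∀ (j : ι) (z' : (pullback (c.inj j) t).obj.obj (op V)),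
      (c.inj j).hom.app _ ((pullback.fst (c.inj j) t).hom.app _ z') =
        t.hom.app _ ((q j).hom.app _ z') := fun j z' =>
    congrArg (fun m => m.hom.app (op V) z') (pullback.condition (f := c.inj j) (g := t))
  rcases a with k | ⟨j, hj⟩
  · -- `z : G k (V)`
    have hz' : (q i).hom.app _ ((ρ k).hom.app _ z) =
        (q i).hom.app _ ((pullback (c.inj i) t).obj.map g.op w) := hz.trans hnat.symm
    have hw : (ρ k).hom.app _ z = (pullback (c.inj i) t).obj.map g.op w := by
      apply section_ext_of_isPullback (IsPullback.of_hasPullback (c.inj i) t)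
      · apply cofan_inj_injective hc i
        rw [hcond i, hcond i]
        exact congrArg _ hz'
      · exact hz'
    have hg : liftSieve (fun k : s.toLeft => ρ k) w g :=
      ⟨⟨k, Finset.mem_toLeft.2 ha⟩, z, hw⟩
    exact J.superset_covering
      (fun W h _ => (liftSieve (fun k : s.toLeft => ρ k) w).downward_closed hg h) (J.top_mem V)
  · -- `z : pullback (c.inj j) t (V)` with `j ≠ i`
    have hz' : (q j).hom.app _ z = (q i).hom.app _ ((pullback (c.inj i) t).obj.map g.op w) :=
      hz.trans hnat.symm
    have hbot : (⊥ : Sieve V) ∈ J V := by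
      refine cofan_inj_disjoint hc hj ((pullback.fst (c.inj j) t).hom.app _ z)
        ((pullback.fst (c.inj i) t).hom.app _ ((pullback (c.inj i) t).obj.map g.op w)) ?_
      rw [hcond j, hcond i]
      exact congrArg _ hz'
    exact J.superset_covering bot_le hbot

end Cofan

end Groth.Agent.Lib.Lead.ToposFin
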