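import Mathlib
import Groth.Agent.Lib.Lead.ToposFinCoprod

/-!
# ToposFin: generator-free locality lemmas (covers by quasi-compact morphisms), initial objects
-/

set_option autoImplicit false
open CategoryTheory CategoryTheory.Limits Opposite
universe u w w'

namespace Groth.Agent.Lib.Lead.ToposFin
open _root_.ToposFin

variable {C : Type u} [SmallCategory C] {J : GrothendieckTopology C}

theorem exists_finite_refinement' {T Y : Sh J} (hT : IsQC T) (t : T ⟶ Y) {ι : Type u}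
    {Yi : ι → Sh J} (g : ∀ i, Yi i ⟶ Y) (hg : JE g) (hqc : ∀ i, IsQCHom (g i)) :
    ∃ (κ : Type u) (_ : Finite κ) (W : κ → Sh J) (ρ : ∀ k, W k ⟶ T) (i : κ → ι)
      (σ : ∀ k, W k ⟶ Yi (i k)), (∀ k, IsQC (W k)) ∧ JE ρ ∧ ∀ k, ρ k ≫ t = σ k ≫ g (i k) := by
  have h1 : JE (fun i => pullback.snd (g i) t) :=
    hg.pullback t (fun i => pullback.fst (g i) t) _ (fun i => IsPullback.of_hasPullback _ _)
  obtain ⟨s, hs⟩ := IsQC.exists_finset hT h1
  exact ⟨s, inferInstance, fun k => pullback (g k) t, fun k => pullback.snd _ _, fun k => k,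
    fun k => pullback.fst _ _, fun k => hqc k T t hT, hs, fun k => pullback.condition.symm⟩

theorem isQCHom_of_local' {A B : Sh J} (h : A ⟶ B) {ι : Type u}
    {V : ι → Sh J} (v : ∀ i, V i ⟶ B) (hv : JE v) (hvqc : ∀ i, IsQCHom (v i)) {Q : ι → Sh J}
    (p : ∀ i, Q i ⟶ A) (q : ∀ i, Q i ⟶ V i) (hpb : ∀ i, IsPullback (p i) (q i) h (v i))
    (hq : ∀ i, IsQCHom (q i)) : IsQCHom h := by
  intro T t hT
  obtain ⟨κ, _, W, ρ, i, σ, hW, hρ, hσ⟩ := exists_finite_refinement' hT t v hv hvqc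
  refine isQC_pullback_of_finite_cover h t ρ hρ (fun k => ?_)
  rw [hσ k]
  have s1 := IsPullback.of_hasPullback (q (i k)) (σ k)
  have s2 := s1.paste_horiz (hpb (i k))
  exact IsQC.of_iso s2.isoPullback (hq (i k) _ (σ k) (hW k))

theorem isQS_of_qs_cover_qc_maps' {Y : Sh J} {ι : Type u}
    {Yi : ι → Sh J} (g : ∀ i, Yi i ⟶ Y) (hg : JE g) (hqs : ∀ i, IsQS (Yi i))
    (hqc : ∀ i, IsQCHom (g i)) : IsQS Y := by
  intro A B a b hA hB
  obtain ⟨κ, _, W, ρ, i, σ, hW, hρ, hσ⟩ := exists_finite_refinement' hA a g hg hqc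
  refine isQC_pullback_of_finite_cover_left a b ρ hρ (fun k => ?_)
  rw [hσ k]
  have h1 : IsQC (pullback (g (i k)) b) := hqc (i k) B b hB
  have h2 : IsQC (pullback (σ k) (pullback.fst (g (i k)) b)) := hqs (i k) _ _ _ _ (hW k) h1
  exact IsQC.of_iso (pullbackRightPullbackFstIso (g (i k)) b (σ k)) h2

set_option backward.isDefEq.respectTransparency false in
theorem isQSHom_of_cover_of_source' {Y Z : Sh J} (g : Y ⟶ Z) {ι : Type u}
    {X : ι → Sh J} (f : ∀ i, X i ⟶ Y) (hf : JE f) (hqc : ∀ i, IsQCHom (f i))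
    (hqs : ∀ i, IsQSHom (f i ≫ g)) : IsQSHom g := by
  refine isQCHom_of_local' (pullback.diagonal g)
    (fun ij : ι × ι => pullback.map (f ij.1 ≫ g) (f ij.2 ≫ g) g g (f ij.1) (f ij.2) (𝟙 Z)
      (by simp) (by simp)) (JE_pullback_map g g f f hf hf)
    (fun ij => MorphismProperty.pullbackMap (P := QCHomP) (f := f ij.1 ≫ g) (g := f ij.2 ≫ g)
      (f' := g) (g' := g) (i₁ := f ij.1) (i₂ := f ij.2) (hqc ij.1) (hqc ij.2) rfl rfl)
    (fun ij => pullback.fst (f ij.1) (f ij.2) ≫ f ij.1)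
    (fun ij => pullback.map (f ij.1) (f ij.2) (f ij.1 ≫ g) (f ij.2 ≫ g) (𝟙 _) (𝟙 _) g
      (Category.id_comp _).symm (Category.id_comp _).symm)
    (fun ij => pullback_map_diagonal_isPullback (f ij.1) (f ij.2) g) (fun ij => ?_)
  refine IsQCHom.of_postcomp _ (pullback.fst (f ij.1 ≫ g) (f ij.2 ≫ g)) ?_ ?_
  · exact IsQSHom.of_isPullback (IsPullback.of_hasPullback (f ij.1 ≫ g) (f ij.2 ≫ g)).flip (hqs ij.2)
  · have : pullback.map (f ij.1) (f ij.2) (f ij.1 ≫ g) (f ij.2 ≫ g) (𝟙 _) (𝟙 _) g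
        (Category.id_comp _).symm (Category.id_comp _).symm ≫ pullback.fst (f ij.1 ≫ g) (f ij.2 ≫ g)
        = pullback.fst (f ij.1) (f ij.2) := by simp
    rw [this]
    exact IsQCHom.of_isPullback (IsPullback.of_hasPullback (f ij.1) (f ij.2)).flip (hqc ij.2)

/-- a section of the initial sheaf lives over an object covered by the empty sieve -/
theorem bot_mem_of_section_initial {U : C} (z : (⊥_ (Sh J)).obj.obj (op U)) :
    (⊥ : Sieve U) ∈ J U := by
  have h : JE (fun (i : PEmpty.{1}) => (PEmpty.elim i : (PEmpty.elim i : Sh J) ⟶ ⊥_ (Sh J))) :=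
    JE.of_hom_ext (fun Z a b _ => initial.hom_ext a b)
  refine J.superset_covering ?_ (h U z)
  rintro V g ⟨i, _⟩
  exact i.elim

theorem bot_mem_of_section_of_iso_initial {X : Sh J} (e : X ≅ ⊥_ (Sh J)) {U : C}
    (x : X.obj.obj (op U)) : (⊥ : Sieve U) ∈ J U :=
  bot_mem_of_section_initial (e.hom.hom.app _ x)

/-- an object all of whose sections live over objects covered by the empty sieve is initial -/
theorem nonempty_iso_initial_of_sections {X : Sh J}
    (h : ∀ (U : C) (_ : X.obj.obj (op U)), (⊥ : Sieve U) ∈ J U) : Nonempty (X ≅ ⊥_ (Sh J)) := by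
  have hmono : Mono (initial.to X) := ⟨fun a b _ => by
    ext V z
    have hb := bot_mem_of_section_initial (U := V.unop) (a.hom.app V z)
    exact ((((isSheaf_iff_isSheaf_of_type _ _).1 (⊥_ (Sh J)).2).isSeparated _ hb).ext
      (fun W g hg => False.elim hg))⟩
  have hepi : Epi (initial.to X) := by
    rw [← JE_single_iff.{u, 0}]
    intro U x
    exact J.superset_covering bot_le (h U x)
  have := isIso_of_mono_of_epi (initial.to X)
  exact ⟨(asIso (initial.to X)).symm⟩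

end Groth.Agent.Lib.Lead.ToposFin
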