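import Mathlib
import Groth.Agent.Lib.Lead.ToposFinCoprod2

/-!
# ToposFin: a local criterion for coproducts in `Sh J`; coproducts are universal and disjoint
-/

set_option autoImplicit false
open CategoryTheory CategoryTheory.Limits Opposite
universe u w w'

namespace Groth.Agent.Lib.Lead.ToposFin
open _root_.ToposFin

variable {C : Type u} [SmallCategory C] {J : GrothendieckTopology C}

theorem section_ext_of_covering (F : Sh J) {U : C} {S : Sieve U} (hS : S ∈ J U)
    {a b : F.obj.obj (op U)}
    (h : ∀ ⦃V : C⦄ (k : V ⟶ U), S k → F.obj.map k.op a = F.obj.map k.op b) : a = b :=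
  (((isSheaf_iff_isSheaf_of_type _ _).1 F.2).isSeparated _ hS).ext h

theorem isIso_of_injective_of_epi {X Y : Sh J} (m : X ⟶ Y)
    (hinj : ∀ U : C, Function.Injective (m.hom.app (op U))) [Epi m] : IsIso m := by
  have : Mono m := ⟨fun a b hab => by
    ext V z
    exact hinj V.unop (congrArg (fun k => k.hom.app V z) hab)⟩
  exact isIso_of_mono_of_epi m

/-- A cofan in `Sh J` which is jointly epimorphic, with injective and pairwise disjoint
injections, is a coproduct. -/
theorem nonempty_isColimit_cofan_of_local {ι : Type u} {G : ι → Sh J} (d : Cofan G)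
    (hJE : JE d.inj)
    (hinj : ∀ i (U : C), Function.Injective ((d.inj i).hom.app (op U)))
    (hdisj : ∀ i j, i ≠ j → ∀ (U : C) (x : (G i).obj.obj (op U)) (x' : (G j).obj.obj (op U)),
      (d.inj i).hom.app _ x = (d.inj j).hom.app _ x' → (⊥ : Sieve U) ∈ J U) :
    Nonempty (IsColimit d) := by
  let hm := modelCofanIsColimit G
  have hfac : ∀ i, (modelCofan G).inj i ≫ hm.desc d = d.inj i := fun i => hm.fac d ⟨i⟩
  haveI hepi : Epi (hm.desc d) := by
    rw [← JE_single_iff.{u, 0}]
    intro U x
    refine J.superset_covering ?_ (hJE U x)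
    rintro V g ⟨i, y, hy⟩
    refine ⟨⟨⟩, ((modelCofan G).inj i).hom.app _ y, ?_⟩
    rw [← hy, ← hfac i]
    rfl
  have hmono : ∀ U : C, Function.Injective ((hm.desc d).hom.app (op U)) := by
    intro U s s' hss'
    have hM := JE_cofan (modelCofan G) hm
    refine section_ext_of_covering _ (J.intersection_covering (hM U s) (hM U s')) ?_
    rintro V g ⟨⟨i, y, hy⟩, ⟨j, y', hy'⟩⟩
    rw [← hy, ← hy']
    have e1 : (d.inj i).hom.app _ y = (d.inj j).hom.app _ y' := by
      have a1 : (d.inj i).hom.app _ y =
          (hm.desc d).hom.app _ (((modelCofan G).inj i).hom.app _ y) := by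
        rw [← hfac i]; rfl
      have a2 : (d.inj j).hom.app _ y' =
          (hm.desc d).hom.app _ (((modelCofan G).inj j).hom.app _ y') := by
        rw [← hfac j]; rfl
      rw [a1, a2, hy, hy']
      have n1 := NatTrans.naturality_apply (hm.desc d).hom g.op s
      have n2 := NatTrans.naturality_apply (hm.desc d).hom g.op s'
      rw [n1, n2, hss']
    by_cases hij : i = j
    · subst hij
      rw [hinj i V e1]
    · exact section_ext_of_covering _ (hdisj i j hij V y y' e1) (fun W k hk => False.elim hk)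
  haveI : IsIso (hm.desc d) := isIso_of_injective_of_epi _ hmono
  exact ⟨IsColimit.ofPointIso hm⟩

/-- Coproducts in `Sh J` are universal. -/
theorem isUniversalColimit_of_isColimit {ι : Type u} {G : ι → Sh J} (c : Cofan G)
    (hc : IsColimit c) : IsUniversalColimit c := by
  intro F' c' α f hcomm hequi hpb
  let G' : ι → Sh J := fun i => F'.obj ⟨i⟩
  let d : Cofan G' := Cofan.mk c'.pt (fun i => c'.ι.app ⟨i⟩)
  have key : ∀ i (U : C) (x : (G' i).obj.obj (op U)),
      (c.inj i).hom.app _ ((α.app ⟨i⟩).hom.app _ x) = f.hom.app _ ((c'.ι.app ⟨i⟩).hom.app _ x) :=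
    fun i U x => (congrArg (fun k => k.hom.app (op U) x) (hpb ⟨i⟩).w).symm
  have hd : Nonempty (IsColimit d) := by
    refine nonempty_isColimit_cofan_of_local d ?_ ?_ ?_
    · exact (JE_cofan c hc).pullback f (fun i => α.app ⟨i⟩) (fun i => c'.ι.app ⟨i⟩)
        (fun i => (hpb ⟨i⟩).flip)
    · intro i U x x' hxx'
      have h1 : (α.app ⟨i⟩).hom.app _ x = (α.app ⟨i⟩).hom.app _ x' := by
        apply cofan_inj_injective hc i
        rw [key, key]
        exact congrArg _ hxx'
      exact section_ext_of_isPullback (hpb ⟨i⟩) hxx' h1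
    · intro i j hij U x x' hxx'
      refine cofan_inj_disjoint hc hij ((α.app ⟨i⟩).hom.app _ x) ((α.app ⟨j⟩).hom.app _ x') ?_
      rw [key, key]
      exact congrArg _ hxx'
  obtain ⟨hd⟩ := hd
  let e : F' ≅ Discrete.functor G' := Discrete.natIsoFunctor
  exact ⟨IsColimit.ofIsoColimit ((IsColimit.precomposeHomEquiv e d).symm hd)
    (Cocones.ext (Iso.refl _) (by rintro ⟨i⟩; simp [e, d]))⟩

/-- Coproducts in `Sh J` are disjoint. -/
theorem coproductDisjoint {ι : Type u} (G : ι → Sh J) : CoproductDisjoint G where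
  nonempty_isInitial_of_ne {c} hc {i j} hij s hs := by
    have h : ∀ (U : C) (_ : s.pt.obj.obj (op U)), (⊥ : Sieve U) ∈ J U := by
      intro U z
      refine cofan_inj_disjoint hc hij (s.fst.hom.app _ z) (s.snd.hom.app _ z) ?_
      exact congrArg (fun k => k.hom.app (op U) z) s.condition
    obtain ⟨e⟩ := nonempty_iso_initial_of_sections h
    exact ⟨IsInitial.ofIso initialIsInitial e.symm⟩
  mono_inj {c} hc i := mono_cofan_inj hc i

end Groth.Agent.Lib.Lead.ToposFin
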