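import Mathlib
import Groth.Agent.S5218

/-!
# Exactness of presheaf and sheaf categories: quotients by equivalence relations

For `p₁ p₂ : R ⟶ X` presheaves of types: the pointwise quotient `quotPsh`, its universal property,
and the kernel-pair/pushout squares (under sectionwise hypotheses).  For sheaves (with abstract
`HasSheafify J (Type w)`): the same after sheafification, using only left-exactness of sheafification.
-/

set_option autoImplicit false
open CategoryTheory CategoryTheory.Limits Opposite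
universe w v₁ u₁

namespace Groth.Agent.Lib.Lead.SheafExact

variable {C : Type u₁} [Category.{v₁} C]

section Psh

variable {R X : Cᵒᵖ ⥤ Type w} (p₁ p₂ : R ⟶ X)

/-- the sectionwise relation defined by a pair of maps -/
def secRel (U : Cᵒᵖ) (a b : X.obj U) : Prop := ∃ r : R.obj U, p₁.app U r = a ∧ p₂.app U r = b

theorem secRel_map {U V : Cᵒᵖ} (g : U ⟶ V) {a b : X.obj U} (h : secRel p₁ p₂ U a b) :
    secRel p₁ p₂ V (X.map g a) (X.map g b) := by
  obtain ⟨r, rfl, rfl⟩ := h
  exact ⟨R.map g r, NatTrans.naturality_apply p₁ g r, NatTrans.naturality_apply p₂ g r⟩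

/-- the pointwise quotient presheaf -/
def quotPsh : Cᵒᵖ ⥤ Type w where
  obj U := Quot (secRel p₁ p₂ U)
  map g := TypeCat.ofHom (Quot.map (X.map g) (fun _ _ h => secRel_map p₁ p₂ g h))
  map_id U := by
    apply ConcreteCategory.hom_ext
    rintro ⟨a⟩
    exact congrArg (Quot.mk _) (by simp)
  map_comp g h := by
    apply ConcreteCategory.hom_ext
    rintro ⟨a⟩
    exact congrArg (Quot.mk _) (by simp)

def quotMk : X ⟶ quotPsh p₁ p₂ where
  app U := TypeCat.ofHom (Quot.mk _)
  naturality := by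
    intros
    rfl

theorem quot_w : p₁ ≫ quotMk p₁ p₂ = p₂ ≫ quotMk p₁ p₂ := by
  apply NatTrans.ext
  funext U
  apply ConcreteCategory.hom_ext
  intro r
  exact Quot.sound ⟨r, rfl, rfl⟩

def quotDesc {Z : Cᵒᵖ ⥤ Type w} (g : X ⟶ Z) (hg : p₁ ≫ g = p₂ ≫ g) : quotPsh p₁ p₂ ⟶ Z where
  app U := TypeCat.ofHom (Quot.lift (g.app U) (by
    rintro a b ⟨r, rfl, rfl⟩
    exact congrArg (fun m => m.app U r) hg))
  naturality := by
    intro U V k
    apply ConcreteCategory.hom_ext
    rintro ⟨a⟩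
    exact NatTrans.naturality_apply g k a

theorem quotMk_desc {Z : Cᵒᵖ ⥤ Type w} (g : X ⟶ Z) (hg : p₁ ≫ g = p₂ ≫ g) :
    quotMk p₁ p₂ ≫ quotDesc p₁ p₂ g hg = g := by
  apply NatTrans.ext
  funext U
  apply ConcreteCategory.hom_ext
  intro a
  rfl

theorem quot_hom_ext {Z : Cᵒᵖ ⥤ Type w} (m m' : quotPsh p₁ p₂ ⟶ Z)
    (h : quotMk p₁ p₂ ≫ m = quotMk p₁ p₂ ≫ m') : m = m' := by
  apply NatTrans.ext
  funext U
  apply ConcreteCategory.hom_ext
  rintro ⟨a⟩
  exact congrArg (fun k => k.app U a) h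

theorem quot_isPullback
    (hinj : ∀ U (r r' : R.obj U), p₁.app U r = p₁.app U r' → p₂.app U r = p₂.app U r' → r = r')
    (hE : ∀ U, Equivalence (secRel p₁ p₂ U)) :
    IsPullback p₁ p₂ (quotMk p₁ p₂) (quotMk p₁ p₂) := by
  refine IsPullback.of_forall_isPullback_app fun U => ?_
  rw [Types.isPullback_iff]
  refine ⟨congrArg (fun m => m.app U) (quot_w p₁ p₂), fun r r' h => hinj U r r' h.1 h.2,
    fun a b hab => ?_⟩
  exact (hE U).eqvGen_iff.1 (Quot.eqvGen_exact hab)

theorem quot_isPushout (r : X ⟶ R) (h₁ : r ≫ p₁ = 𝟙 X) (h₂ : r ≫ p₂ = 𝟙 X) :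
    IsPushout p₁ p₂ (quotMk p₁ p₂) (quotMk p₁ p₂) := by
  have key : ∀ s : PushoutCocone p₁ p₂, s.inl = s.inr := fun s => by
    rw [← Category.id_comp s.inl, ← h₁, Category.assoc, s.condition, ← Category.assoc, h₂,
      Category.id_comp]
  have key2 : ∀ s : PushoutCocone p₁ p₂, p₁ ≫ s.inl = p₂ ≫ s.inl := fun s => by
    conv_rhs => rw [key s]
    exact s.condition
  refine ⟨⟨quot_w p₁ p₂⟩, ⟨PushoutCocone.IsColimit.mk _
    (fun s => quotDesc p₁ p₂ s.inl (key2 s)) (fun s => quotMk_desc _ _ _ _) (fun s => ?_)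
    (fun s m hm _ => ?_)⟩⟩
  · rw [← key s]
    exact quotMk_desc _ _ _ _
  · apply quot_hom_ext
    rw [quotMk_desc]
    exact hm

theorem secRel_equivalence (r : X ⟶ R) (hr₁ : r ≫ p₁ = 𝟙 X) (hr₂ : r ≫ p₂ = 𝟙 X)
    (s : R ⟶ R) (hs₁ : s ≫ p₁ = p₂) (hs₂ : s ≫ p₂ = p₁)
    (ht : ∀ U (a b : R.obj U), p₂.app U a = p₁.app U b →
      ∃ t : R.obj U, p₁.app U t = p₁.app U a ∧ p₂.app U t = p₂.app U b) (U : Cᵒᵖ) :
    Equivalence (secRel p₁ p₂ U) where
  refl a := ⟨r.app U a, congrArg (fun m => m.app U a) hr₁, congrArg (fun m => m.app U a) hr₂⟩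
  symm := by
    rintro a b ⟨x, rfl, rfl⟩
    exact ⟨s.app U x, congrArg (fun m => m.app U x) hs₁, congrArg (fun m => m.app U x) hs₂⟩
  trans := by
    rintro a b c ⟨x, rfl, hx⟩ ⟨y, hy, rfl⟩
    obtain ⟨t, ht1, ht2⟩ := ht U x y (hx.trans hy.symm)
    exact ⟨t, ht1, ht2⟩

/-- the "kernel pair of `(p₁,p₂)`", by hand -/
def eqPsh : Cᵒᵖ ⥤ Type w where
  obj U := {x : R.obj U × R.obj U // p₁.app U x.1 = p₁.app U x.2 ∧ p₂.app U x.1 = p₂.app U x.2}
  map {U V} g := TypeCat.ofHom (fun x => ⟨(R.map g x.1.1, R.map g x.1.2), by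
    refine ⟨?_, ?_⟩
    · exact (NatTrans.naturality_apply p₁ g x.1.1).trans
        ((congrArg (X.map g) x.2.1).trans (NatTrans.naturality_apply p₁ g x.1.2).symm)
    · exact (NatTrans.naturality_apply p₂ g x.1.1).trans
        ((congrArg (X.map g) x.2.2).trans (NatTrans.naturality_apply p₂ g x.1.2).symm)⟩)
  map_id U := by
    apply ConcreteCategory.hom_ext
    rintro ⟨⟨a, b⟩, h⟩
    exact Subtype.ext (Prod.ext (by simp) (by simp))
  map_comp g h := by
    apply ConcreteCategory.hom_ext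
    rintro ⟨⟨a, b⟩, h⟩
    exact Subtype.ext (Prod.ext (by simp) (by simp))

def eqPshFst : eqPsh p₁ p₂ ⟶ R where
  app U := TypeCat.ofHom (fun x => x.1.1)
  naturality := by
    intros
    rfl

def eqPshSnd : eqPsh p₁ p₂ ⟶ R where
  app U := TypeCat.ofHom (fun x => x.1.2)
  naturality := by
    intros
    rfl

theorem hinj_of_jointlyMono [JointlyMono₂ p₁ p₂] (U : Cᵒᵖ) (r r' : R.obj U)
    (h1 : p₁.app U r = p₁.app U r') (h2 : p₂.app U r = p₂.app U r') : r = r' := by
  have h : eqPshFst p₁ p₂ = eqPshSnd p₁ p₂ := by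
    apply JointlyMono₂.right_cancellation (p₁ := p₁) (p₂ := p₂)
    · apply NatTrans.ext
      funext V
      apply ConcreteCategory.hom_ext
      rintro ⟨⟨a, b⟩, h⟩
      exact h.1
    · apply NatTrans.ext
      funext V
      apply ConcreteCategory.hom_ext
      rintro ⟨⟨a, b⟩, h⟩
      exact h.2
  exact congrArg (fun m => m.app U ⟨(r, r'), h1, h2⟩) h

theorem ht_of_isPullback {P : Cᵒᵖ ⥤ Type w} {cfst csnd : P ⟶ R}
    (hpb : IsPullback cfst csnd p₂ p₁) (t : P ⟶ R)
    (ht₁ : t ≫ p₁ = cfst ≫ p₁) (ht₂ : t ≫ p₂ = csnd ≫ p₂) (U : Cᵒᵖ) (a b : R.obj U)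
    (hab : p₂.app U a = p₁.app U b) :
    ∃ z : R.obj U, p₁.app U z = p₁.app U a ∧ p₂.app U z = p₂.app U b := by
  obtain ⟨z, hz1, hz2⟩ := Types.exists_of_isPullback (hpb.app U) a b hab
  refine ⟨t.app U z, ?_, ?_⟩
  · rw [← hz1]
    exact congrArg (fun m => m.app U z) ht₁
  · rw [← hz2]
    exact congrArg (fun m => m.app U z) ht₂

theorem secRel_equivalence_of (e : EquivalenceRelation p₁ p₂) (U : Cᵒᵖ) :
    Equivalence (secRel p₁ p₂ U) :=
  secRel_equivalence p₁ p₂ e.r e.reflexivity₁ e.reflexivity₂ e.s e.symmetry₁ e.symmetry₂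
    (ht_of_isPullback p₁ p₂ (IsPullback.of_isLimit e.isLimit) e.t e.transitivity₁ e.transitivity₂) U

theorem epi_of_isPullback_quotMk {X' Y' : Cᵒᵖ ⥤ Type w} {f' : X' ⟶ Y'} {i₁ : X' ⟶ X}
    {i₂ : Y' ⟶ quotPsh p₁ p₂} (hpb : IsPullback f' i₁ i₂ (quotMk p₁ p₂)) : Epi f' := by
  rw [NatTrans.epi_iff_epi_app]
  intro U
  rw [epi_iff_surjective]
  intro y'
  obtain ⟨a, ha⟩ := Quot.exists_rep (i₂.app U y')
  obtain ⟨x', hx', -⟩ := Types.exists_of_isPullback (hpb.app U) y' a ha.symm
  exact ⟨x', hx'⟩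

theorem universally_effectiveEpi_quotMk :
    MorphismProperty.universally (fun (A B : Cᵒᵖ ⥤ Type w) (p : A ⟶ B) => EffectiveEpi p)
      (quotMk p₁ p₂) := by
  intro X' Y' i₁ i₂ f' hpb
  have : Epi f' := epi_of_isPullback_quotMk p₁ p₂ hpb
  have := IsRegularEpiCategory.regularEpiOfEpi f'
  infer_instance

end Psh

section Shf

variable {J : GrothendieckTopology C} [HasSheafify J (Type w)] {R X : Sheaf J (Type w)}
  (p₁ p₂ : R ⟶ X)

/-- the quotient sheaf -/
noncomputable def quotSheaf : Sheaf J (Type w) :=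
  (presheafToSheaf J (Type w)).obj (quotPsh p₁.hom p₂.hom)

noncomputable def quotπ : X ⟶ quotSheaf p₁ p₂ :=
  ⟨quotMk p₁.hom p₂.hom ≫ toSheafify J _⟩

theorem jointlyMono_hom [JointlyMono₂ p₁ p₂] : JointlyMono₂ p₁.hom p₂.hom where
  right_cancellation Y f g h1 h2 := by
    let adj := sheafificationAdjunction J (Type w)
    have key : (adj.homEquiv Y R).symm f = (adj.homEquiv Y R).symm g := by
      apply JointlyMono₂.right_cancellation (p₁ := p₁) (p₂ := p₂)
      · rw [← adj.homEquiv_naturality_right_symm, ← adj.homEquiv_naturality_right_symm]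
        exact congrArg _ h1
      · rw [← adj.homEquiv_naturality_right_symm, ← adj.homEquiv_naturality_right_symm]
        exact congrArg _ h2
    exact (adj.homEquiv Y R).symm.injective key

theorem hinj_sheaf [JointlyMono₂ p₁ p₂] (U : Cᵒᵖ) (r r' : R.obj.obj U)
    (h1 : p₁.hom.app U r = p₁.hom.app U r') (h2 : p₂.hom.app U r = p₂.hom.app U r') : r = r' := by
  haveI := jointlyMono_hom p₁ p₂
  exact hinj_of_jointlyMono p₁.hom p₂.hom U r r' h1 h2

theorem secRel_equivalence_sheaf (e : EquivalenceRelation p₁ p₂) (U : Cᵒᵖ) :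
    Equivalence (secRel p₁.hom p₂.hom U) :=
  secRel_equivalence p₁.hom p₂.hom e.r.hom (congrArg (fun m => m.hom) e.reflexivity₁)
    (congrArg (fun m => m.hom) e.reflexivity₂) e.s.hom (congrArg (fun m => m.hom) e.symmetry₁)
    (congrArg (fun m => m.hom) e.symmetry₂)
    (ht_of_isPullback p₁.hom p₂.hom
      ((IsPullback.of_isLimit e.isLimit).map (sheafToPresheaf J (Type w))) e.t.hom
      (congrArg (fun m => m.hom) e.transitivity₁) (congrArg (fun m => m.hom) e.transitivity₂)) U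

theorem map_quotMk_eq : (presheafToSheaf J (Type w)).map (quotMk p₁.hom p₂.hom) =
    (sheafificationAdjunction J (Type w)).counit.app X ≫ quotπ p₁ p₂ := by
  ext : 1
  apply sheafify_hom_ext _ _ _ (quotSheaf p₁ p₂).2
  show toSheafify J X.obj ≫ sheafifyMap J (quotMk p₁.hom p₂.hom) =
    toSheafify J X.obj ≫ ((sheafificationAdjunction J (Type w)).counit.app X).hom ≫
      (quotMk p₁.hom p₂.hom ≫ toSheafify J _)
  rw [← toSheafify_naturality, sheafificationAdjunction_counit_app_val,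
    toSheafify_sheafifyLift_assoc, Category.id_comp]

theorem quotπ_isPullback [JointlyMono₂ p₁ p₂]
    (hE : ∀ U, Equivalence (secRel p₁.hom p₂.hom U)) :
    IsPullback p₁ p₂ (quotπ p₁ p₂) (quotπ p₁ p₂) := by
  have h0 := (quot_isPullback p₁.hom p₂.hom (hinj_sheaf p₁ p₂) hE).map (presheafToSheaf J (Type w))
  refine IsPullback.of_iso h0 (asIso ((sheafificationAdjunction J (Type w)).counit.app R))
    (asIso ((sheafificationAdjunction J (Type w)).counit.app X))
    (asIso ((sheafificationAdjunction J (Type w)).counit.app X)) (Iso.refl _) ?_ ?_ ?_ ?_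
  · exact (sheafificationAdjunction J (Type w)).counit.naturality p₁
  · exact (sheafificationAdjunction J (Type w)).counit.naturality p₂
  · simp only [Iso.refl_hom, asIso_hom]
    exact map_quotMk_eq p₁ p₂
  · simp only [Iso.refl_hom, asIso_hom]
    exact map_quotMk_eq p₁ p₂

theorem quotπ_isPushout (r : X ⟶ R) (h₁ : r ≫ p₁ = 𝟙 X) (h₂ : r ≫ p₂ = 𝟙 X) :
    IsPushout p₁ p₂ (quotπ p₁ p₂) (quotπ p₁ p₂) := by
  have h0 := (quot_isPushout p₁.hom p₂.hom r.hom (congrArg (fun m => m.hom) h₁)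
    (congrArg (fun m => m.hom) h₂)).map (presheafToSheaf J (Type w))
  refine IsPushout.of_iso h0 (asIso ((sheafificationAdjunction J (Type w)).counit.app R))
    (asIso ((sheafificationAdjunction J (Type w)).counit.app X))
    (asIso ((sheafificationAdjunction J (Type w)).counit.app X)) (Iso.refl _) ?_ ?_ ?_ ?_
  · exact (sheafificationAdjunction J (Type w)).counit.naturality p₁
  · exact (sheafificationAdjunction J (Type w)).counit.naturality p₂
  · simp only [Iso.refl_hom, asIso_hom]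
    exact map_quotMk_eq p₁ p₂
  · simp only [Iso.refl_hom, asIso_hom]
    exact map_quotMk_eq p₁ p₂

/-- In sheaves of types, equivalence relations are effective. -/
noncomputable def effective (e : EquivalenceRelation p₁ p₂) :
    EffectiveEquivalenceRelation p₁ p₂ :=
  haveI : JointlyMono₂ p₁ p₂ := e.toJointlyMono₂
  { toEquivalenceRelation := e
    B := quotSheaf p₁ p₂
    π := quotπ p₁ p₂
    isKernelPair := quotπ_isPullback p₁ p₂ (secRel_equivalence_sheaf p₁ p₂ e)
    isPushout := quotπ_isPushout p₁ p₂ e.r e.reflexivity₁ e.reflexivity₂ }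

/-- In sheaves of types, equivalence relations are universally effective. -/
noncomputable def universallyEffective (e : EquivalenceRelation p₁ p₂) :
    UniversallyEffectiveEquivalenceRelation p₁ p₂ where
  toEffectiveEquivalenceRelation := effective p₁ p₂ e
  universally_effectiveEpi_π := by
    have h1 : IsRegularEpi (effective p₁ p₂ e).π := inferInstance
    have h2 : Epi (effective p₁ p₂ e).π := inferInstance
    exact Groth.Agent.S5218.result J (effective p₁ p₂ e).π

theorem exists_section_of_isPullback {P A B Z : Sheaf J (Type w)} {p : P ⟶ A} {q : P ⟶ B}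
    {a : A ⟶ Z} {b : B ⟶ Z} (h : IsPullback p q a b) {U : Cᵒᵖ} (y : A.obj.obj U)
    (z : B.obj.obj U) (hyz : a.hom.app U y = b.hom.app U z) :
    ∃ x : P.obj.obj U, p.hom.app U x = y ∧ q.hom.app U x = z := by
  have h' := h.map (sheafToPresheaf J (Type w) ⋙ (evaluation Cᵒᵖ (Type w)).obj U)
  exact Limits.Types.exists_of_isPullback h' y z hyz

theorem section_ext_of_isPullback {P A B Z : Sheaf J (Type w)} {p : P ⟶ A} {q : P ⟶ B}
    {a : A ⟶ Z} {b : B ⟶ Z} (h : IsPullback p q a b) {U : Cᵒᵖ} {x x' : P.obj.obj U}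
    (h1 : p.hom.app U x = p.hom.app U x') (h2 : q.hom.app U x = q.hom.app U x') : x = x' := by
  have h' := h.map (sheafToPresheaf J (Type w) ⋙ (evaluation Cᵒᵖ (Type w)).obj U)
  exact Limits.Types.ext_of_isPullback h' h1 h2

omit [HasSheafify J (Type w)] in
theorem mono_of_injective {F G : Sheaf J (Type w)} (f : F ⟶ G)
    (h : ∀ U : Cᵒᵖ, Function.Injective (f.hom.app U)) : Mono f := ⟨fun a b hab => by
  ext V z
  exact h V (congrArg (fun m => m.hom.app V z) hab)⟩

omit [HasSheafify J (Type w)] in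
/-- sections of a sheaf which agree on a covering sieve are equal -/
theorem section_ext_of_covering (F : Sheaf J (Type w)) {U : C} {S : Sieve U} (hS : S ∈ J U)
    {a b : F.obj.obj (op U)}
    (h : ∀ ⦃V : C⦄ (k : V ⟶ U), S k → F.obj.map k.op a = F.obj.map k.op b) : a = b :=
  (((isSheaf_iff_isSheaf_of_type _ _).1 F.2).isSeparated _ hS).ext h

/-- a map into the target of a monomorphism of sheaves which locally lands in the image factors -/
theorem exists_factor_of_locally {Y X P : Sheaf J (Type w)} (m : Y ⟶ X) [Mono m] (f : P ⟶ X)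
    (h : ∀ (U : C) (x : P.obj.obj (op U)), ∃ S : Sieve U, S ∈ J U ∧ ∀ ⦃V : C⦄ (k : V ⟶ U), S k →
      ∃ y : Y.obj.obj (op V), m.hom.app _ y = f.hom.app _ (P.obj.map k.op x)) :
    ∃ g : P ⟶ Y, g ≫ m = f := by
  have hpb := IsPullback.of_hasPullback m f
  haveI : Mono (pullback.snd m f) := inferInstance
  haveI : Epi (pullback.snd m f) := by
    rw [← Sheaf.isLocallySurjective_iff_epi]
    refine ⟨fun {U} x => ?_⟩
    obtain ⟨S, hS, hS'⟩ := h U x
    refine J.superset_covering ?_ hS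
    intro V k hk
    obtain ⟨y, hy⟩ := hS' k hk
    obtain ⟨q, -, hq⟩ := exists_section_of_isPullback hpb y _ hy
    exact ⟨q, hq⟩
  haveI := isIso_of_mono_of_epi (pullback.snd m f)
  exact ⟨inv (pullback.snd m f) ≫ pullback.fst m f, by
    rw [Category.assoc, pullback.condition, IsIso.inv_hom_id_assoc]⟩

end Shf

end Groth.Agent.Lib.Lead.SheafExact
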