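import Mathlib
import Groth.Agent.Lib.Lead.ToposFin6

/-!
# ToposFin, site-level dictionary: the sheaves `eps J U`
-/

set_option autoImplicit false
open CategoryTheory CategoryTheory.Limits Opposite
universe u w w'

namespace Groth.Agent.Lib.Lead.ToposFin
open _root_.ToposFin

variable {C : Type u} [SmallCategory C] (J : GrothendieckTopology C)

/-- the section of `eps J U` over `V` attached to `f : V ⟶ U` -/
noncomputable def unitSec {U V : C} (f : V ⟶ U) : (eps J U).obj.obj (op V) :=
  (toSheafify J (yoneda.obj U)).app (op V) f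

theorem unitSec_map {U V W : C} (f : V ⟶ U) (g : W ⟶ V) :
    (eps J U).obj.map g.op (unitSec J f) = unitSec J (g ≫ f) := by
  have := NatTrans.naturality_apply (toSheafify J (yoneda.obj U)) g.op f
  exact this.symm

theorem unitSec_locally_surjective {U V : C} (s : (eps J U).obj.obj (op V)) :
    Presheaf.imageSieve (toSheafify J (yoneda.obj U)) s ∈ J V :=
  Presheaf.imageSieve_mem J (toSheafify J (yoneda.obj U)) (U := op V) s

theorem unitSec_locally_injective {U V : C} (f f' : V ⟶ U) (h : unitSec J f = unitSec J f') :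
    Presheaf.equalizerSieve (F := yoneda.obj U) (X := op V) f f' ∈ J V :=
  Presheaf.equalizerSieve_mem J (toSheafify J (yoneda.obj U)) (X := op V) f f' h

/-- `eps` on morphisms -/
noncomputable def epsMap {U V : C} (g : V ⟶ U) : eps J V ⟶ eps J U :=
  (presheafToSheaf J (Type u)).map (yoneda.map g)

theorem epsMap_unitSec {U V W : C} (g : V ⟶ U) (f : W ⟶ V) :
    (epsMap J g).hom.app (op W) (unitSec J f) = unitSec J (f ≫ g) := by
  have := congrArg (fun φ => φ.app (op W) f) (toSheafify_naturality J (yoneda.map g))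
  exact this.symm

variable {J}

/-- the morphism `eps J U ⟶ Z` attached to a section -/
noncomputable def secMap {Z : Sh J} {U : C} (x : Z.obj.obj (op U)) : eps J U ⟶ Z :=
  ⟨sheafifyLift J (yonedaEquiv.symm x) Z.2⟩

theorem secMap_unitSec {Z : Sh J} {U V : C} (x : Z.obj.obj (op U)) (f : V ⟶ U) :
    (secMap x).hom.app (op V) (unitSec J f) = Z.obj.map f.op x := by
  have := congrArg (fun φ => φ.app (op V) f) (toSheafify_sheafifyLift J (yonedaEquiv.symm x) Z.2)
  exact this

theorem eps_hom_ext {Z : Sh J} {U : C} {a b : eps J U ⟶ Z}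
    (h : a.hom.app (op U) (unitSec J (𝟙 U)) = b.hom.app (op U) (unitSec J (𝟙 U))) : a = b := by
  ext : 1
  apply sheafify_hom_ext J _ _ Z.2
  apply yonedaEquiv.injective
  exact h

/-- all sections give a jointly epimorphic family from the `eps J U` -/
theorem JE_secMap (Z : Sh J) : JE (fun (p : Σ U : C, Z.obj.obj (op U)) => secMap p.2) := by
  intro U x
  refine J.superset_covering ?_ (J.top_mem U)
  intro V g _
  refine ⟨⟨V, Z.obj.map g.op x⟩, unitSec J (𝟙 V), ?_⟩
  rw [secMap_unitSec]
  simp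

theorem JE_epsMap_of_covering {U : C} {κ : Type w} {V : κ → C} (g : ∀ k, V k ⟶ U)
    (h : Sieve.ofArrows V g ∈ J U) : JE (fun k => epsMap J (g k)) := by
  intro W s
  refine J.transitive (unitSec_locally_surjective J s) _ ?_
  rintro W' m ⟨f, hf⟩
  rw [liftSieve_pullback]
  refine J.superset_covering ?_ (J.pullback_stable f h)
  rintro W'' n ⟨Z, l, k', ⟨k⟩, hl⟩
  refine ⟨k, unitSec J l, ?_⟩
  rw [epsMap_unitSec, hl, ← unitSec_map]
  exact congrArg _ hf

theorem isQC_eps_of_isQCSite {X : C} (h : IsQCSite J X) : IsQC (eps J X) := by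
  classical
  rw [isQC_iff]
  intro ι F π hπ
  have h1 := hπ X (unitSec J (𝟙 X))
  obtain ⟨n, V, g, hg, hcov⟩ := h _ h1
  choose i y hy using hg
  refine ⟨Finset.univ.image i, ?_⟩
  have h2 := JE_epsMap_of_covering (J := J) g hcov
  refine h2.of_refine (fun k => ⟨i k, Finset.mem_image_of_mem _ (Finset.mem_univ k)⟩)
    (fun k => secMap (y k)) (fun k => ?_)
  apply eps_hom_ext
  show (π (i k)).hom.app _ ((secMap (y k)).hom.app _ (unitSec J (𝟙 _))) = _
  rw [secMap_unitSec, epsMap_unitSec]
  simp only [op_id, Functor.map_id_apply, Category.id_comp]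
  rw [hy k, unitSec_map, Category.comp_id]

theorem hasQCGenerators_of_isQCSite (hC : ∀ X : C, IsQCSite J X) : HasQCGenerators J := fun Z =>
  ⟨(Σ U : C, Z.obj.obj (op U)), fun p => eps J p.1, fun p => secMap p.2,
    fun p => isQC_eps_of_isQCSite (hC p.1), (JE_secMap Z).epi_sigmaDesc⟩

/-- a quasi-compact object over `eps J X` has a finite cover by representables over representable
maps -/
theorem exists_representable_cover {A : Sh J} (hA : IsQC A) {X : C} (a : A ⟶ eps J X) :
    ∃ (κ : Type u) (_ : Finite κ) (U : κ → C) (ρ : ∀ k, eps J (U k) ⟶ A) (f : ∀ k, U k ⟶ X),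
      JE ρ ∧ ∀ k, ρ k ≫ a = epsMap J (f k) := by
  let ι := Σ U : C, {p : A.obj.obj (op U) × (U ⟶ X) // a.hom.app _ p.1 = unitSec J p.2}
  have hJE : JE (fun p : ι => secMap p.2.1.1) := by
    intro U x
    refine J.superset_covering ?_ (unitSec_locally_surjective J (a.hom.app _ x))
    rintro V g ⟨f, hf⟩
    have hn := NatTrans.naturality_apply a.hom g.op x
    refine ⟨⟨V, ⟨(A.obj.map g.op x, f), hn.trans hf.symm⟩⟩, unitSec J (𝟙 V), ?_⟩
    rw [secMap_unitSec]
    simp
  obtain ⟨s, hs⟩ := IsQC.exists_finset hA hJE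
  refine ⟨s, inferInstance, fun k => k.1.1, fun k => secMap k.1.2.1.1, fun k => k.1.2.1.2, hs,
    fun k => ?_⟩
  apply eps_hom_ext
  show a.hom.app _ ((secMap k.1.2.1.1).hom.app _ (unitSec J (𝟙 _))) = _
  rw [secMap_unitSec, epsMap_unitSec]
  simp only [op_id, Functor.map_id_apply, Category.id_comp]
  exact k.1.2.2

theorem isQCSite_of_isQC_eps {X : C} (h : IsQC (eps J X)) : IsQCSite J X := by
  intro S hS
  let ι := Σ V : C, {g : V ⟶ X // S g}
  have hJE : JE (fun p : ι => epsMap J p.2.1) := by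
    apply JE_epsMap_of_covering
    refine J.superset_covering ?_ hS
    intro V g hg
    exact Sieve.ofArrows_mk _ _ (⟨V, g, hg⟩ : ι)
  obtain ⟨s, hs⟩ := IsQC.exists_finset h hJE
  let e := s.equivFin
  refine ⟨s.card, fun k => (e.symm k).1.1, fun k => (e.symm k).1.2.1, fun k => (e.symm k).1.2.2, ?_⟩
  have h1 := hs X (unitSec J (𝟙 X))
  refine J.transitive h1 _ ?_
  rintro W m ⟨p, y, hy⟩
  obtain ⟨k, rfl⟩ := e.symm.surjective p
  refine J.transitive (unitSec_locally_surjective J y) _ ?_
  rintro W' m' ⟨f, hf⟩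
  have heq : unitSec J (f ≫ (e.symm k).1.2.1) = unitSec J (m' ≫ m) := by
    rw [← epsMap_unitSec]
    have hf' : unitSec J f = (eps J (e.symm k).1.1).obj.map m'.op y := hf
    rw [hf']
    have hn := NatTrans.naturality_apply (epsMap J (e.symm k).1.2.1).hom m'.op y
    rw [hn]
    have hy' : (epsMap J (e.symm k).1.2.1).hom.app (op W) y = (eps J X).obj.map m.op (unitSec J (𝟙 X)) := hy
    rw [hy', unitSec_map, unitSec_map, Category.comp_id]
  have h2 := unitSec_locally_injective J _ _ heq
  refine J.superset_covering ?_ h2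
  intro W'' m'' hm''
  have hm3 : m'' ≫ f ≫ (e.symm k).1.2.1 = m'' ≫ m' ≫ m := hm''
  rw [Sieve.pullback_apply, Sieve.pullback_apply, Category.assoc, ← hm3]
  have := Sieve.ofArrows_mk (fun k : Fin s.card => (e.symm k).1.1) (fun k => (e.symm k).1.2.1) k
  have h3 := Sieve.downward_closed _ this (m'' ≫ f)
  simpa using h3

variable (J) in
/-- `eps` as a functor -/
noncomputable abbrev epsF : C ⥤ Sh J := yoneda ⋙ presheafToSheaf J (Type u)

theorem isCoherent_eps [HasPullbacks C] (hC : ∀ X : C, IsQCSite J X) (X : C) :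
    IsCoherent (eps J X) := by
  refine ⟨isQC_eps_of_isQCSite (hC X), ?_⟩
  intro A B a b hA hB
  obtain ⟨κ, _, U, ρ, f, hρ, hf⟩ := exists_representable_cover hA a
  obtain ⟨κ', _, U', ρ', f', hρ', hf'⟩ := exists_representable_cover hB b
  refine isQC_pullback_of_finite_cover_left a b ρ hρ
    (fun k => isQC_pullback_of_finite_cover (ρ k ≫ a) b ρ' hρ' (fun l => ?_))
  rw [hf k, hf' l]
  exact IsQC.of_iso (PreservesPullback.iso (epsF J) (f k) (f' l)) (isQC_eps_of_isQCSite (hC _))

/-- index type of sections of `A` whose image in `eps J X` is representable -/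
def RepIdx {A : Sh J} {X : C} (a : A ⟶ eps J X) : Type u :=
  Σ U : C, {p : A.obj.obj (op U) × (U ⟶ X) // a.hom.app _ p.1 = unitSec J p.2}

theorem JE_repSections {A : Sh J} {X : C} (a : A ⟶ eps J X) :
    JE (fun p : RepIdx a => secMap p.2.1.1) := by
  intro U x
  refine J.superset_covering ?_ (unitSec_locally_surjective J (a.hom.app _ x))
  rintro V g ⟨f, hf⟩
  have hn := NatTrans.naturality_apply a.hom g.op x
  refine ⟨⟨V, ⟨(A.obj.map g.op x, f), hn.trans hf.symm⟩⟩, unitSec J (𝟙 V), ?_⟩
  rw [secMap_unitSec]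
  simp

theorem repSections_fac {A : Sh J} {X : C} (a : A ⟶ eps J X) (p : RepIdx a) :
    secMap p.2.1.1 ≫ a = epsMap J p.2.1.2 := by
  apply eps_hom_ext
  show a.hom.app _ ((secMap p.2.1.1).hom.app _ (unitSec J (𝟙 _))) = _
  rw [secMap_unitSec, epsMap_unitSec]
  simp only [op_id, Functor.map_id_apply, Category.id_comp]
  exact p.2.2

/-- every morphism from a quasi-separated object to `eps J X` is quasi-separated -/
theorem isQSHom_to_eps [HasPullbacks C] (hC : ∀ X : C, IsQCSite J X) {X : C} {G : Sh J}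
    (g : G ⟶ eps J X) (hG : IsQS G) : IsQSHom g := by
  have hE := hasQCGenerators_of_isQCSite hC
  refine isQSHom_of_cover_with_qs_products hE g (fun p : RepIdx g => secMap p.2.1.1)
    (JE_repSections g) (fun p => isQC_eps_of_isQCSite (hC _)) (fun p q => ?_) hG
  rw [repSections_fac g p, repSections_fac g q]
  exact isQS_of_iso (PreservesPullback.iso (epsF J) _ _) (isCoherent_eps hC _).2

theorem isQS_pullback_over_eps [HasPullbacks C] (hC : ∀ X : C, IsQCSite J X) {X : C} {G H : Sh J}
    (g : G ⟶ eps J X) (h : H ⟶ eps J X) (hG : IsQS G) (hH : IsQS H) : IsQS (pullback g h) :=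
  isQS_of_isQSHom (pullback.snd g h)
    (IsQSHom.of_isPullback (IsPullback.of_hasPullback g h) (isQSHom_to_eps hC g hG)) hH

end Groth.Agent.Lib.Lead.ToposFin
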