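import Mathlib
import Groth.Agent.Lib.Lead.ToposFinSite

/-!
# ToposFin: inverse image of `eps J U` under a continuous functor; coherent functors
-/

set_option autoImplicit false
open CategoryTheory CategoryTheory.Limits Opposite
universe u w w'

namespace Groth.Agent.Lib.Lead.ToposFin
open _root_.ToposFin

variable {C : Type u} [SmallCategory C] {J : GrothendieckTopology C}

section Adj

variable {D' : Type u} [SmallCategory D'] {K : GrothendieckTopology D'}

/-- criterion for an inverse image functor to preserve quasi-compact and quasi-separated objects -/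
theorem preserves_qc_qs_of_generators (F : Sh J ⥤ Sh K) (R : Sh K ⥤ Sh J) (adj : F ⊣ R)
    [PreservesFiniteLimits F] (hE' : HasQCGenerators K) (S : Set (Sh J))
    (hS : ∀ X ∈ S, IsCoherent X) (hgen : IsGenerating S)
    (h : ∀ X ∈ S, IsCoherent (F.obj X)) :
    (∀ X : Sh J, IsQC X → IsQC (F.obj X)) ∧ (∀ X : Sh J, IsQS X → IsQS (F.obj X)) := by
  have hqcF : ∀ X : Sh J, IsQC X → IsQC (F.obj X) := fun X hX =>
    isQC_map_of_generators F R adj hgen (fun X hX => (h X hX).1) hX
  refine ⟨hqcF, ?_⟩
  intro X hX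
  obtain ⟨ι, G, π, hG, hπ⟩ := IsGenerating.exists_cover hgen X
  refine isQS_of_qs_cover_pullbacks_qc hE' (fun i => F.map (π i)) (hπ.map_of_adj F R adj)
    (fun i => (h _ (hG i)).2) (fun i j => ?_)
  exact IsQC.of_iso (PreservesPullback.iso F (π i) (π j))
    (hqcF _ (hX _ _ (π i) (π j) (hS _ (hG i)).1 (hS _ (hG j)).1))

end Adj

section Pull

variable {D : Type u} [SmallCategory D] {K : GrothendieckTopology D} (G : C ⥤ D)
  [Functor.IsContinuous G J K]

/-- the inverse image of `eps J U` is `eps K (G U)` -/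
noncomputable def sheafPullbackEpsIso (U : C) :
    (G.sheafPullback (Type u) J K).obj (eps J U) ≅ eps K (G.obj U) := by
  let F := G.sheafPullback (Type u) J K
  let R := G.sheafPushforwardContinuous (Type u) J K
  let adj : F ⊣ R := G.sheafAdjunctionContinuous (Type u) J K
  let E := eps J U
  let x0 : E.obj.obj (op U) := unitSec J (𝟙 U)
  let y0 : (R.obj (eps K (G.obj U))).obj.obj (op U) := unitSec K (𝟙 (G.obj U))
  let z0 : (F.obj E).obj.obj (op (G.obj U)) := (adj.unit.app E).hom.app (op U) x0
  let φ : F.obj E ⟶ eps K (G.obj U) := (adj.homEquiv E (eps K (G.obj U))).symm (secMap y0)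
  let ψ : eps K (G.obj U) ⟶ F.obj E := secMap z0
  have hφ : adj.unit.app E ≫ R.map φ = secMap y0 := by
    exact (Adjunction.homEquiv_unit adj E _ φ).symm.trans ((adj.homEquiv E _).apply_symm_apply _)
  have h1 : φ.hom.app (op (G.obj U)) z0 = y0 := by
    have := congrArg (fun m => m.hom.app (op U) x0) hφ
    refine Eq.trans ?_ (this.trans ?_)
    · rfl
    · have := secMap_unitSec y0 (𝟙 U)
      refine this.trans ?_
      simp
  have h2 : ψ.hom.app (op (G.obj U)) (unitSec K (𝟙 (G.obj U))) = z0 := by
    have := secMap_unitSec z0 (𝟙 (G.obj U))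
    refine this.trans ?_
    simp
  refine ⟨φ, ψ, ?_, ?_⟩
  · apply (adj.homEquiv E (F.obj E)).injective
    rw [Adjunction.homEquiv_naturality_right, Adjunction.homEquiv_id]
    have hφ' : adj.homEquiv E (eps K (G.obj U)) φ = secMap y0 :=
      (adj.homEquiv E _).apply_symm_apply _
    rw [hφ']
    apply eps_hom_ext
    show (R.map ψ).hom.app (op U) ((secMap y0).hom.app (op U) x0) = z0
    have h3 : (secMap y0).hom.app (op U) x0 = y0 := by
      have := secMap_unitSec y0 (𝟙 U)
      refine this.trans ?_
      simp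
    rw [h3]
    exact h2
  · apply eps_hom_ext
    show φ.hom.app _ (ψ.hom.app _ (unitSec K (𝟙 (G.obj U)))) = unitSec K (𝟙 (G.obj U))
    rw [h2]
    exact h1

theorem isGenerating_range_eps : IsGenerating (Set.range (fun U : C => eps J U)) := by
  intro Z
  exact ⟨(Σ U : C, Z.obj.obj (op U)), fun p => eps J p.1, fun p => secMap p.2,
    fun p => ⟨p.1, rfl⟩, fun _ _ _ hab => (JE_secMap Z).hom_ext hab⟩

theorem sheafPullback_coherent [HasPullbacks C] [HasPullbacks D]
    (hC : ∀ X : C, IsQCSite J X) (hD : ∀ Y : D, IsQCSite K Y)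
    [PreservesFiniteLimits (G.sheafPullback (Type u) J K)] :
    (∀ X : Sh J, IsQC X → IsQC ((G.sheafPullback (Type u) J K).obj X)) ∧
      (∀ X : Sh J, IsQS X → IsQS ((G.sheafPullback (Type u) J K).obj X)) := by
  refine preserves_qc_qs_of_generators (G.sheafPullback (Type u) J K)
    (G.sheafPushforwardContinuous (Type u) J K) (G.sheafAdjunctionContinuous (Type u) J K)
    (hasQCGenerators_of_isQCSite hD) (Set.range (fun U : C => eps J U)) ?_
    isGenerating_range_eps ?_
  · rintro _ ⟨U, rfl⟩
    exact isCoherent_eps hC U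
  · rintro _ ⟨U, rfl⟩
    exact isCoherent_of_iso (sheafPullbackEpsIso G U).symm (isCoherent_eps hD (G.obj U))

end Pull

end Groth.Agent.Lib.Lead.ToposFin
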