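import Mathlib
import Groth.Agent.Lib.Lead.ToposFinSite2
import Groth.Agent.Lib.Lead.ToposFinCoprod3

/-!
# ToposFin: covering families vs jointly epimorphic families of representables; sheafified
diagonals and monomorphisms
-/

set_option autoImplicit false
open CategoryTheory CategoryTheory.Limits Opposite
universe u w w'

namespace Groth.Agent.Lib.Lead.ToposFin
open _root_.ToposFin

variable {C : Type u} [SmallCategory C] {J : GrothendieckTopology C}

/-- converse of `JE_epsMap_of_covering` -/
theorem covering_of_JE_epsMap {U : C} {κ : Type w} {V : κ → C} (g : ∀ k, V k ⟶ U)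
    (h : JE (fun k => epsMap J (g k))) : Sieve.ofArrows V g ∈ J U := by
  have h1 := h U (unitSec J (𝟙 U))
  refine J.transitive h1 _ ?_
  rintro W m ⟨k, y, hy⟩
  refine J.transitive (unitSec_locally_surjective J y) _ ?_
  rintro W' m' ⟨f, hf⟩
  have heq : unitSec J (f ≫ g k) = unitSec J (m' ≫ m) := by
    rw [← epsMap_unitSec]
    have hf' : unitSec J f = (eps J (V k)).obj.map m'.op y := hf
    rw [hf']
    have hn := NatTrans.naturality_apply (epsMap J (g k)).hom m'.op y
    rw [hn]
    have hy' : (epsMap J (g k)).hom.app (op W) y = (eps J U).obj.map m.op (unitSec J (𝟙 U)) := hy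
    rw [hy', unitSec_map, unitSec_map, Category.comp_id]
  have h2 := unitSec_locally_injective J _ _ heq
  refine J.superset_covering ?_ h2
  intro W'' m'' hm''
  have hm3 : m'' ≫ f ≫ g k = m'' ≫ m' ≫ m := hm''
  rw [Sieve.pullback_apply, Sieve.pullback_apply, Category.assoc, ← hm3]
  have := Sieve.ofArrows_mk V g k
  have h3 := Sieve.downward_closed _ this (m'' ≫ f)
  simpa using h3

theorem injective_of_mono {X Y : Sh J} (m : X ⟶ Y) [Mono m] (U : C) :
    Function.Injective (m.hom.app (op U)) := by
  intro x x' hxx'
  obtain ⟨z, hz1, hz2⟩ := exists_section_of_isPullback (IsKernelPair.id_of_mono m) x x' hxx'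
  exact hz1.symm.trans hz2

/-- the sheafified diagonal of a map of presheaves is an isomorphism iff the sheafified map is
a monomorphism -/
theorem isIso_map_diagonal_iff {P Q : Cᵒᵖ ⥤ Type u} (f : P ⟶ Q) :
    IsIso ((presheafToSheaf J (Type u)).map (pullback.diagonal f)) ↔
      Mono ((presheafToSheaf J (Type u)).map f) := by
  have hk : IsKernelPair ((presheafToSheaf J (Type u)).map f)
      ((presheafToSheaf J (Type u)).map (pullback.fst f f))
      ((presheafToSheaf J (Type u)).map (pullback.snd f f)) :=
    (IsPullback.of_hasPullback f f).map (presheafToSheaf J (Type u))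
  have hd : (presheafToSheaf J (Type u)).map (pullback.diagonal f) ≫
      (presheafToSheaf J (Type u)).map (pullback.fst f f) = 𝟙 _ := by
    rw [← CategoryTheory.Functor.map_comp, pullback.diagonal_fst, CategoryTheory.Functor.map_id]
  constructor
  · intro h
    have : IsIso ((presheafToSheaf J (Type u)).map (pullback.fst f f)) := by
      have h2 : IsIso ((presheafToSheaf J (Type u)).map (pullback.diagonal f) ≫
          (presheafToSheaf J (Type u)).map (pullback.fst f f)) := by
        rw [hd]; infer_instance
      exact IsIso.of_isIso_comp_left ((presheafToSheaf J (Type u)).map (pullback.diagonal f)) _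
    exact hk.mono_of_isIso_fst
  · intro h
    have : IsIso ((presheafToSheaf J (Type u)).map (pullback.fst f f)) := hk.isIso_of_mono
    have h2 : IsIso ((presheafToSheaf J (Type u)).map (pullback.diagonal f) ≫
        (presheafToSheaf J (Type u)).map (pullback.fst f f)) := by
      rw [hd]; infer_instance
    exact IsIso.of_isIso_comp_right _ ((presheafToSheaf J (Type u)).map (pullback.fst f f))

end Groth.Agent.Lib.Lead.ToposFin
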