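import Mathlib
import Groth.Agent.Lib.Lead.ToposFinSite3

/-!
# ToposFin: subcanonical sites (`epsF` fully faithful), the canonical topology and universal
coproducts
-/

set_option autoImplicit false
open CategoryTheory CategoryTheory.Limits Opposite
universe u w w'

namespace Groth.Agent.Lib.Lead.ToposFin
open _root_.ToposFin

variable {C : Type u} [SmallCategory C] {J : GrothendieckTopology C}

section Subcanonical

variable [J.Subcanonical]

/-- for a subcanonical topology, `X ↦ a(h_X)` is the Yoneda embedding into sheaves -/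
noncomputable def epsFIsoYoneda : (yoneda ⋙ presheafToSheaf J (Type u)) ≅ J.yoneda :=
  Functor.isoWhiskerRight (J.yonedaCompSheafToPresheaf).symm (presheafToSheaf J (Type u)) ≪≫
    Functor.associator _ _ _ ≪≫
    Functor.isoWhiskerLeft J.yoneda (asIso (sheafificationAdjunction J (Type u)).counit) ≪≫
    Functor.rightUnitor _

instance : (yoneda ⋙ presheafToSheaf J (Type u)).Full :=
  Functor.Full.of_iso (epsFIsoYoneda (J := J)).symm

instance : (yoneda ⋙ presheafToSheaf J (Type u)).Faithful :=
  Functor.Faithful.of_iso (epsFIsoYoneda (J := J)).symm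

end Subcanonical

/-- Coproducts in `Sh J` are universal (general discrete diagrams). -/
theorem isUniversalColimit_of_isColimit' {ι : Type u} {F : Discrete ι ⥤ Sh J} (c : Cocone F)
    (hc : IsColimit c) : IsUniversalColimit c := by
  let e : F ≅ Discrete.functor (fun i => F.obj ⟨i⟩) := Discrete.natIsoFunctor
  let d : Cofan (fun i => F.obj ⟨i⟩) := Cofan.mk c.pt (fun i => c.ι.app ⟨i⟩)
  have hiso : c ≅ (Cocone.precompose e.hom).obj d :=
    Cocone.ext (Iso.refl _) (by rintro ⟨i⟩; simp [e, d])
  have hd : IsColimit d := (IsColimit.precomposeHomEquiv e d) (IsColimit.ofIsoColimit hc hiso)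
  exact ((isUniversalColimit_of_isColimit d hd).precompose_isIso e.hom).of_iso hiso.symm

/-- a sieve generated by a colimit cofan satisfies the sheaf condition for representables -/
theorem isSheafFor_yoneda_of_colimit_cofan {Z W : C} {ι : Type w} {T : ι → C} (t : ∀ i, T i ⟶ Z)
    (hc : IsColimit (Cofan.mk Z t)) (S : Sieve Z) (hS1 : ∀ i, S (t i))
    (hS2 : ∀ {V : C} (f : V ⟶ Z), S f → ∃ (i : ι) (a : V ⟶ T i), f = a ≫ t i) :
    Presieve.IsSheafFor (yoneda.obj W) S.arrows := by
  intro x hx
  have hcomp := (Presieve.compatible_iff_sieveCompatible x).1 hx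
  refine ⟨Cofan.IsColimit.desc hc (fun i => x (t i) (hS1 i)), ?_, ?_⟩
  · intro V f hf
    obtain ⟨i, a, rfl⟩ := hS2 f hf
    have h1 := hcomp (t i) a (hS1 i)
    rw [h1]
    show (a ≫ t i) ≫ _ = a ≫ x (t i) _
    rw [Category.assoc]
    congr 1
    exact Cofan.IsColimit.fac hc _ i
  · intro y hy
    apply Cofan.IsColimit.hom_ext hc
    intro i
    rw [Cofan.IsColimit.fac]
    exact hy (t i) (hS1 i)

/-- a universal coproduct cofan generates a covering sieve for the canonical topology -/
theorem ofArrows_mem_canonical_of_universal {X : C} {ι : Type u} (Y : ι → C) (s : ∀ i, Y i ⟶ X)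
    [∀ (i : ι) (Z : C) (g : Z ⟶ X), HasPullback (s i) g]
    (hu : IsUniversalColimit (Cofan.mk X s)) :
    Sieve.ofArrows Y s ∈ Sheaf.canonicalTopology C X := by
  apply Sheaf.mem_finestTopology_of_forall_isSheafFor
  rintro _ ⟨W, rfl⟩ Z g
  obtain ⟨hc'⟩ := hu (Cofan.mk Z (fun i => pullback.snd (s i) g))
    (Discrete.natTrans (fun i => pullback.fst (s i.as) g)) g
    (by ext ⟨i⟩; simp [pullback.condition]) (.of_discrete _)
    (fun ⟨i⟩ => (IsPullback.of_hasPullback (s i) g).flip)
  refine isSheafFor_yoneda_of_colimit_cofan _ hc' _ ?_ ?_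
  · intro i
    show Sieve.ofArrows Y s (pullback.snd (s i) g ≫ g)
    rw [← pullback.condition]
    exact Sieve.downward_closed _ (Sieve.ofArrows_mk Y s i) _
  · intro V f hf
    obtain ⟨W', a, k, ⟨i⟩, hk⟩ := hf
    exact ⟨i, pullback.lift a f hk, (pullback.lift_snd _ _ _).symm⟩

/-- strictness: an object mapping compatibly to two distinct summands of a universal coproduct
with monic injections is initial, as soon as it maps to every object -/
theorem nonempty_isInitial_of_hom_to_two_summands {X : C} {ι : Type u} {Y : ι → C}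
    (s : ∀ i, Y i ⟶ X) [∀ (i : ι) (Z : C) (g : Z ⟶ X), HasPullback (s i) g]
    (hu : IsUniversalColimit (Cofan.mk X s)) (hmono : ∀ i, Mono (s i)) {i j : ι} (hij : i ≠ j)
    {T : C} (a : T ⟶ Y i) (b : T ⟶ Y j) (hab : a ≫ s i = b ≫ s j)
    (hex : ∀ W : C, Nonempty (T ⟶ W)) : Nonempty (IsInitial T) := by
  classical
  obtain ⟨hc'⟩ := hu (Cofan.mk T (fun k => pullback.snd (s k) (a ≫ s i)))
    (Discrete.natTrans (fun k => pullback.fst (s k.as) (a ≫ s i))) (a ≫ s i)
    (by ext ⟨k⟩; simp [pullback.condition]) (.of_discrete _)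
    (fun ⟨k⟩ => (IsPullback.of_hasPullback (s k) (a ≫ s i)).flip)
  haveI := hmono i
  haveI := hmono j
  have hi : IsIso (pullback.snd (s i) (a ≫ s i)) := by
    haveI : IsSplitEpi (pullback.snd (s i) (a ≫ s i)) :=
      ⟨⟨⟨pullback.lift a (𝟙 T) (by simp), pullback.lift_snd _ _ _⟩⟩⟩
    exact isIso_of_mono_of_isSplitEpi _
  have hj : IsIso (pullback.snd (s j) (a ≫ s i)) := by
    haveI : IsSplitEpi (pullback.snd (s j) (a ≫ s i)) :=
      ⟨⟨⟨pullback.lift b (𝟙 T) (by simp [hab]), pullback.lift_snd _ _ _⟩⟩⟩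
    exact isIso_of_mono_of_isSplitEpi _
  have huniq : ∀ (W : C) (u v : T ⟶ W), u = v := by
    intro W u v
    let φ : ∀ k, pullback (s k) (a ≫ s i) ⟶ W := fun k =>
      if k = i then pullback.snd (s k) (a ≫ s i) ≫ u else pullback.snd (s k) (a ≫ s i) ≫ v
    have h1 : pullback.snd (s i) (a ≫ s i) ≫ Cofan.IsColimit.desc hc' φ =
        pullback.snd (s i) (a ≫ s i) ≫ u := by
      have := Cofan.IsColimit.fac hc' φ i
      simpa [φ] using this
    have h2 : pullback.snd (s j) (a ≫ s i) ≫ Cofan.IsColimit.desc hc' φ =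
        pullback.snd (s j) (a ≫ s i) ≫ v := by
      have := Cofan.IsColimit.fac hc' φ j
      simpa [φ, Ne.symm hij] using this
    exact ((cancel_epi _).1 h1).symm.trans ((cancel_epi _).1 h2)
  exact ⟨IsInitial.ofUniqueHom (fun W => (hex W).some) (fun W m => huniq W _ _)⟩

theorem bot_mem_canonical_of_strict {V : C}
    (h : ∀ (T : C) (_ : T ⟶ V), Nonempty (IsInitial T)) :
    (⊥ : Sieve V) ∈ Sheaf.canonicalTopology C V := by
  apply Sheaf.mem_finestTopology_of_forall_isSheafFor
  rintro _ ⟨W, rfl⟩ T f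
  obtain ⟨hT⟩ := h T f
  intro x hx
  refine ⟨hT.to W, ?_, fun y _ => hT.hom_ext _ _⟩
  intro V' k hk
  exact False.elim hk

/-- for a disjoint universal coproduct, the sheafified fibre products of distinct summands
are initial (canonical topology) -/
theorem nonempty_isInitial_sheafify_pullback_yoneda {X : C} {ι : Type u} {Y : ι → C}
    (s : ∀ i, Y i ⟶ X) [∀ (i : ι) (Z : C) (g : Z ⟶ X), HasPullback (s i) g]
    (hu : IsUniversalColimit (Cofan.mk X s)) (hmono : ∀ i, Mono (s i)) {i j : ι} (hij : i ≠ j)
    (hP : IsInitial (pullback (s i) (s j))) :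
    Nonempty (IsInitial ((presheafToSheaf (Sheaf.canonicalTopology C) (Type u)).obj
      (pullback (yoneda.map (s i)) (yoneda.map (s j))))) := by
  have key : ∀ (V : C) (_ : (pullback (yoneda.map (s i)) (yoneda.map (s j))).obj (op V)),
      (⊥ : Sieve V) ∈ Sheaf.canonicalTopology C V := by
    intro V q
    have hab : (pullback.fst (yoneda.map (s i)) (yoneda.map (s j))).app (op V) q ≫ s i =
        (pullback.snd (yoneda.map (s i)) (yoneda.map (s j))).app (op V) q ≫ s j :=
      congrArg (fun m => m.app (op V) q) (pullback.condition (f := yoneda.map (s i))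
        (g := yoneda.map (s j)))
    apply bot_mem_canonical_of_strict
    intro T m
    exact nonempty_isInitial_of_hom_to_two_summands s hu hmono hij
      (m ≫ (pullback.fst (yoneda.map (s i)) (yoneda.map (s j))).app (op V) q)
      (m ≫ (pullback.snd (yoneda.map (s i)) (yoneda.map (s j))).app (op V) q)
      (by rw [Category.assoc, Category.assoc, hab])
      (fun W => ⟨pullback.lift
        (m ≫ (pullback.fst (yoneda.map (s i)) (yoneda.map (s j))).app (op V) q)
        (m ≫ (pullback.snd (yoneda.map (s i)) (yoneda.map (s j))).app (op V) q)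
        (by rw [Category.assoc, Category.assoc, hab]) ≫ hP.to W⟩)
  have h : ∀ (U : C) (_ : ((presheafToSheaf (Sheaf.canonicalTopology C) (Type u)).obj
      (pullback (yoneda.map (s i)) (yoneda.map (s j)))).obj.obj (op U)),
      (⊥ : Sieve U) ∈ Sheaf.canonicalTopology C U := by
    intro U z
    refine GrothendieckTopology.transitive _ (Presheaf.imageSieve_mem (Sheaf.canonicalTopology C)
      (toSheafify (Sheaf.canonicalTopology C) (pullback (yoneda.map (s i)) (yoneda.map (s j))))
      (U := op U) z) _ ?_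
    rintro V f ⟨q, hq⟩
    exact GrothendieckTopology.superset_covering _ bot_le (key V q)
  obtain ⟨e⟩ := nonempty_iso_initial_of_sections h
  exact ⟨IsInitial.ofIso initialIsInitial e.symm⟩

end Groth.Agent.Lib.Lead.ToposFin
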