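import Mathlib
import Groth.Agent.Lib.Lead.ToposFinSubcan
import Groth.Agent.Lib.Lead.SheafExact
import Groth.Prelude.Def_SGA4a

/-!
# ToposFin: subcanonical sites II (sections of `eps`, effective epimorphisms and the canonical
topology, equivalence relations)
-/

set_option autoImplicit false
open CategoryTheory CategoryTheory.Limits Opposite
universe u w w'

namespace Groth.Agent.Lib.Lead.ToposFin
open _root_.ToposFin

variable {C : Type u} [SmallCategory C] {J : GrothendieckTopology C}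

theorem unitSec_bijective [J.Subcanonical] (U V : C) :
    Function.Bijective (fun f : V ⟶ U => unitSec J f) := by
  have hsh : Presheaf.IsSheaf J (yoneda.obj U) := by
    rw [isSheaf_iff_isSheaf_of_type]
    exact GrothendieckTopology.Subcanonical.isSheaf_of_isRepresentable _
  haveI := isIso_toSheafify J hsh
  have : IsIso ((toSheafify J (yoneda.obj U)).app (op V)) := inferInstance
  exact (isIso_iff_bijective _).1 this

theorem epi_epsMap_iff {U V : C} (g : V ⟶ U) :
    Epi (epsMap J g) ↔ Sieve.generate (Presieve.singleton g) ∈ J U := by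
  rw [← JE_single_iff.{u, 0}]
  have : Sieve.ofArrows (fun _ : PUnit.{1} => V) (fun _ => g) =
      Sieve.generate (Presieve.singleton g) := by
    rw [Sieve.ofArrows, Presieve.ofArrows_pUnit]
  rw [← this]
  exact ⟨covering_of_JE_epsMap _, JE_epsMap_of_covering _⟩

theorem effectiveEpi_of_singleton_mem_canonical {U V : C} (g : V ⟶ U)
    (h : Sieve.generate (Presieve.singleton g) ∈ Sheaf.canonicalTopology C U) :
    EffectiveEpi g := by
  rw [← Sieve.effectiveEpimorphic_singleton, Presieve.EffectiveEpimorphic,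
    Sieve.EffectiveEpimorphic.iff_forall_isSheafFor_yoneda]
  intro W
  exact Sheaf.isSheaf_yoneda_obj W _ h

theorem singleton_mem_canonical_of_universal [HasPullbacks C] {X B : C} (π : X ⟶ B)
    (h : ∀ (B' : C) (g : B' ⟶ B), EffectiveEpi (pullback.snd π g)) :
    Sieve.generate (Presieve.singleton π) ∈ Sheaf.canonicalTopology C B := by
  apply Sheaf.mem_finestTopology_of_forall_isSheafFor
  rintro _ ⟨W, rfl⟩ B' g
  rw [← Sieve.pullbackArrows_comm, Presieve.pullback_singleton]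
  have := (Sieve.effectiveEpimorphic_singleton (pullback.snd π g)).2 (h B' g)
  exact (Sieve.EffectiveEpimorphic.iff_forall_isSheafFor_yoneda _).1 this W

/-- a reflexive pair with a coequalizer gives a pushout square -/
theorem isPushout_of_isColimit_cofork {D : Type*} [Category D] {R X : D} {p₁ p₂ : R ⟶ X}
    (r : X ⟶ R) (h₁ : r ≫ p₁ = 𝟙 X) (h₂ : r ≫ p₂ = 𝟙 X) {B : D} (π : X ⟶ B)
    (w : p₁ ≫ π = p₂ ≫ π) (hc : IsColimit (Cofork.ofπ π w)) : IsPushout p₁ p₂ π π := by
  have key : ∀ s : PushoutCocone p₁ p₂, s.inl = s.inr := fun s => by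
    rw [← Category.id_comp s.inl, ← h₁, Category.assoc, s.condition, ← Category.assoc, h₂,
      Category.id_comp]
  have key2 : ∀ s : PushoutCocone p₁ p₂, p₁ ≫ s.inl = p₂ ≫ s.inl := fun s => by
    conv_rhs => rw [key s]
    exact s.condition
  refine ⟨⟨w⟩, ⟨PushoutCocone.IsColimit.mk _
    (fun s => Cofork.IsColimit.desc hc s.inl (key2 s))
    (fun s => Cofork.IsColimit.π_desc hc) (fun s => ?_) (fun s m hm _ => ?_)⟩⟩
  · rw [← key s]
    exact Cofork.IsColimit.π_desc hc
  · apply Cofork.IsColimit.hom_ext hc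
    exact hm.trans (Cofork.IsColimit.π_desc' hc s.inl (key2 s)).symm

section EquivRel

variable [J.Subcanonical] {R X : C} {p₁ p₂ : R ⟶ X}

theorem jointlyMono_epsMap (hR : SGA4.IsEquivRel p₁ p₂) :
    JointlyMono₂ (epsMap J p₁) (epsMap J p₂) where
  right_cancellation Y f g h1 h2 := by
    ext V y
    obtain ⟨V⟩ := V
    obtain ⟨α, hα⟩ := (unitSec_bijective (J := J) R V).2 (f.hom.app (op V) y)
    obtain ⟨β, hβ⟩ := (unitSec_bijective (J := J) R V).2 (g.hom.app (op V) y)
    have hα' : unitSec J α = f.hom.app (op V) y := hα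
    have hβ' : unitSec J β = g.hom.app (op V) y := hβ
    have e1 : unitSec J (α ≫ p₁) = unitSec J (β ≫ p₁) := by
      rw [← epsMap_unitSec, ← epsMap_unitSec, hα', hβ']
      exact congrArg (fun m => m.hom.app (op V) y) h1
    have e2 : unitSec J (α ≫ p₂) = unitSec J (β ≫ p₂) := by
      rw [← epsMap_unitSec, ← epsMap_unitSec, hα', hβ']
      exact congrArg (fun m => m.hom.app (op V) y) h2
    have : α = β := (hR V).1 (Prod.ext ((unitSec_bijective (J := J) X V).1 e1)
      ((unitSec_bijective (J := J) X V).1 e2))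
    show f.hom.app (op V) y = g.hom.app (op V) y
    rw [← hα', ← hβ', this]

theorem secRel_epsMap_iff (U : C) (a b : U ⟶ X) :
    SheafExact.secRel (epsMap J p₁).hom (epsMap J p₂).hom (op U) (unitSec J a) (unitSec J b) ↔
      ∃ f : U ⟶ R, f ≫ p₁ = a ∧ f ≫ p₂ = b := by
  constructor
  · rintro ⟨r, h1, h2⟩
    obtain ⟨ρ, hρ⟩ := (unitSec_bijective (J := J) R U).2 r
    have hρ' : unitSec J ρ = r := hρ
    rw [← hρ', epsMap_unitSec] at h1 h2
    exact ⟨ρ, (unitSec_bijective (J := J) X U).1 h1, (unitSec_bijective (J := J) X U).1 h2⟩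
  · rintro ⟨f, rfl, rfl⟩
    exact ⟨unitSec J f, epsMap_unitSec J p₁ f, epsMap_unitSec J p₂ f⟩

theorem secRel_epsMap_equivalence (hR : SGA4.IsEquivRel p₁ p₂) (U : Cᵒᵖ) :
    Equivalence (SheafExact.secRel (epsMap J p₁).hom (epsMap J p₂).hom U) := by
  obtain ⟨U⟩ := U
  have hs : ∀ a : (eps J X).obj.obj (op U), ∃ α : U ⟶ X, unitSec J α = a :=
    fun a => (unitSec_bijective (J := J) X U).2 a
  refine ⟨fun a => ?_, fun {a b} h => ?_, fun {a b c} h1 h2 => ?_⟩
  · obtain ⟨α, rfl⟩ := hs a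
    exact (secRel_epsMap_iff U α α).2 ((hR U).2.refl α)
  · obtain ⟨α, rfl⟩ := hs a
    obtain ⟨β, rfl⟩ := hs b
    exact (secRel_epsMap_iff U β α).2 ((hR U).2.symm ((secRel_epsMap_iff U α β).1 h))
  · obtain ⟨α, rfl⟩ := hs a
    obtain ⟨β, rfl⟩ := hs b
    obtain ⟨γ, rfl⟩ := hs c
    exact (secRel_epsMap_iff U α γ).2 ((hR U).2.trans ((secRel_epsMap_iff U α β).1 h1)
      ((secRel_epsMap_iff U β γ).1 h2))

end EquivRel

/-- an SGA4-style equivalence relation (tested on generalized points) gives a Mathlib one -/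
theorem nonempty_equivalenceRelation' {E : Type w} [Category.{w'} E] [HasPullbacks E] {R A : E}
    (p₁ p₂ : R ⟶ A) (h : SGA4.IsEquivRel p₁ p₂) : Nonempty (EquivalenceRelation p₁ p₂) := by
  obtain ⟨r, hr1, hr2⟩ := (h A).2.refl (𝟙 A)
  obtain ⟨s, hs1, hs2⟩ := (h R).2.symm (⟨𝟙 R, Category.id_comp _, Category.id_comp _⟩ :
    ∃ f : R ⟶ R, f ≫ p₁ = p₁ ∧ f ≫ p₂ = p₂)
  obtain ⟨t, ht1, ht2⟩ := (h (pullback p₂ p₁)).2.trans
    (⟨pullback.fst p₂ p₁, rfl, rfl⟩ : ∃ f : pullback p₂ p₁ ⟶ R,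
      f ≫ p₁ = pullback.fst p₂ p₁ ≫ p₁ ∧ f ≫ p₂ = pullback.fst p₂ p₁ ≫ p₂)
    (⟨pullback.snd p₂ p₁, pullback.condition.symm, rfl⟩ : ∃ f : pullback p₂ p₁ ⟶ R,
      f ≫ p₁ = pullback.fst p₂ p₁ ≫ p₂ ∧ f ≫ p₂ = pullback.snd p₂ p₁ ≫ p₂)
  exact ⟨{
    right_cancellation := fun Y f g h1 h2 => (h Y).1 (Prod.ext h1 h2)
    r := r
    reflexivity₁ := hr1
    reflexivity₂ := hr2
    s := s
    symmetry₁ := hs1
    symmetry₂ := hs2
    c := pullback.cone p₂ p₁
    isLimit := pullback.isLimit p₂ p₁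
    t := t
    transitivity₁ := ht1
    transitivity₂ := ht2 }⟩

end Groth.Agent.Lib.Lead.ToposFin
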