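import Mathlib
import Groth.Agent.Lib.Lead.ToposFinSubcan2

/-!
# ToposFin: naturality of `sheafPullbackEpsIso`
-/

set_option autoImplicit false
open CategoryTheory CategoryTheory.Limits Opposite
universe u w w'

namespace Groth.Agent.Lib.Lead.ToposFin
open _root_.ToposFin

variable {C : Type u} [SmallCategory C] {J : GrothendieckTopology C}
variable {D : Type u} [SmallCategory D] {K : GrothendieckTopology D} (G : C ⥤ D)
  [Functor.IsContinuous G J K]

theorem sheafPullbackEpsIso_hom (U : C) :
    (sheafPullbackEpsIso (J := J) (K := K) G U).hom =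
      ((G.sheafAdjunctionContinuous (Type u) J K).homEquiv (eps J U) (eps K (G.obj U))).symm
        (secMap (Z := (G.sheafPushforwardContinuous (Type u) J K).obj (eps K (G.obj U)))
          (unitSec K (𝟙 (G.obj U)))) := rfl

theorem sheafPullbackEpsIso_naturality {U V : C} (f : U ⟶ V) :
    (G.sheafPullback (Type u) J K).map (epsMap J f) ≫ (sheafPullbackEpsIso (K := K) G V).hom =
      (sheafPullbackEpsIso (K := K) G U).hom ≫ epsMap K (G.map f) := by
  apply ((G.sheafAdjunctionContinuous (Type u) J K).homEquiv _ _).injective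
  rw [Adjunction.homEquiv_naturality_left, Adjunction.homEquiv_naturality_right,
    sheafPullbackEpsIso_hom, sheafPullbackEpsIso_hom, Equiv.apply_symm_apply,
    Equiv.apply_symm_apply]
  apply eps_hom_ext
  show (secMap (Z := (G.sheafPushforwardContinuous (Type u) J K).obj (eps K (G.obj V)))
      (unitSec K (𝟙 (G.obj V)))).hom.app (op U) ((epsMap J f).hom.app (op U) (unitSec J (𝟙 U))) =
    (epsMap K (G.map f)).hom.app (op (G.obj U))
      ((secMap (Z := (G.sheafPushforwardContinuous (Type u) J K).obj (eps K (G.obj U)))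
        (unitSec K (𝟙 (G.obj U)))).hom.app (op U) (unitSec J (𝟙 U)))
  rw [epsMap_unitSec, secMap_unitSec, secMap_unitSec, Category.id_comp]
  have h1 : ((G.sheafPushforwardContinuous (Type u) J K).obj (eps K (G.obj V))).obj.map f.op
      (unitSec K (𝟙 (G.obj V))) = unitSec K (G.map f ≫ 𝟙 _) := unitSec_map K (𝟙 (G.obj V)) (G.map f)
  have h2 : ((G.sheafPushforwardContinuous (Type u) J K).obj (eps K (G.obj U))).obj.map (𝟙 U).op
      (unitSec K (𝟙 (G.obj U))) = unitSec K (𝟙 (G.obj U)) := by
    have := unitSec_map K (𝟙 (G.obj U)) (G.map (𝟙 U))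
    refine this.trans ?_
    simp
  rw [h1, h2, epsMap_unitSec, Category.comp_id, Category.id_comp]

/-- `u_! ∘ ε ≅ ε ∘ u` -/
noncomputable def epsCompSheafPullbackIso :
    (yoneda ⋙ presheafToSheaf J (Type u)) ⋙ G.sheafPullback (Type u) J K ≅
      G ⋙ (yoneda ⋙ presheafToSheaf K (Type u)) :=
  NatIso.ofComponents (fun U => sheafPullbackEpsIso G U)
    (fun f => sheafPullbackEpsIso_naturality G f)

end Groth.Agent.Lib.Lead.ToposFin
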