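import Mathlib
import Groth.Agent.Lib.Lead.ToposFinSite4

/-!
# ToposFin: filtered colimits in `Sh J` and `Hom(X, -)`
-/

set_option autoImplicit false
open CategoryTheory CategoryTheory.Limits Opposite
universe u w w'

namespace Groth.Agent.Lib.Lead.ToposFin
open _root_.ToposFin

variable {C : Type u} [SmallCategory C] {J : GrothendieckTopology C}

section Post

variable {I : Type u} [SmallCategory I] (D : I ⥤ Sh J) (X : Sh J)

theorem post_ι_apply (i : I) (f : X ⟶ D.obj i) :
    colimit.post D (coyoneda.obj (op X)) (colimit.ι (D ⋙ coyoneda.obj (op X)) i f) =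
      f ≫ colimit.ι D i := by
  have := congrArg (fun m => m f) (colimit.ι_post D (coyoneda.obj (op X)) i)
  exact this

theorem post_surjective_iff :
    Function.Surjective (colimit.post D (coyoneda.obj (op X))) ↔
      ∀ h : X ⟶ colimit D, ∃ (i : I) (f : X ⟶ D.obj i), f ≫ colimit.ι D i = h := by
  constructor
  · intro hs h
    obtain ⟨z, hz⟩ := hs h
    obtain ⟨i, f, rfl⟩ := Limits.Types.jointly_surjective' z
    exact ⟨i, f, (post_ι_apply D X i f).symm.trans hz⟩
  · intro hs h
    obtain ⟨i, f, hf⟩ := hs h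
    exact ⟨colimit.ι (D ⋙ coyoneda.obj (op X)) i f, (post_ι_apply D X i f).trans hf⟩

theorem post_injective_iff [IsFiltered I] :
    Function.Injective (colimit.post D (coyoneda.obj (op X))) ↔
      ∀ (i j : I) (f : X ⟶ D.obj i) (g : X ⟶ D.obj j),
        f ≫ colimit.ι D i = g ≫ colimit.ι D j →
        ∃ (k : I) (a : i ⟶ k) (b : j ⟶ k), f ≫ D.map a = g ≫ D.map b := by
  constructor
  · intro hinj i j f g hfg
    have h1 : colimit.ι (D ⋙ coyoneda.obj (op X)) i f =
        colimit.ι (D ⋙ coyoneda.obj (op X)) j g := by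
      apply hinj
      rw [post_ι_apply, post_ι_apply, hfg]
    obtain ⟨k, a, b, hab⟩ := (Limits.Types.FilteredColimit.colimit_eq_iff _).1 h1
    exact ⟨k, a, b, hab⟩
  · intro h z z' hzz'
    obtain ⟨i, f, rfl⟩ := Limits.Types.jointly_surjective' z
    obtain ⟨j, g, rfl⟩ := Limits.Types.jointly_surjective' z'
    rw [post_ι_apply, post_ι_apply] at hzz'
    obtain ⟨k, a, b, hab⟩ := h i j f g hzz'
    exact (Limits.Types.FilteredColimit.colimit_eq_iff _).2 ⟨k, a, b, hab⟩

theorem JE_colimit_ι : JE (fun i => colimit.ι D i) :=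
  JE.of_hom_ext (fun _ _ _ h => colimit.hom_ext h)

end Post

section Local

variable {I : Type u} [SmallCategory I] [IsFiltered I] (D : I ⥤ Sh J)

/-- two sections at finite stages which agree in the filtered colimit agree locally at a later
stage -/
theorem filtered_eq_locally {U : C} {i j : I}
    (x : (D.obj i).obj.obj (op U)) (y : (D.obj j).obj.obj (op U))
    (h : (colimit.ι D i).hom.app _ x = (colimit.ι D j).hom.app _ y) :
    ∃ S : Sieve U, S ∈ J U ∧ ∀ ⦃V : C⦄ (g : V ⟶ U), S g → ∃ (k : I) (a : i ⟶ k) (b : j ⟶ k),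
      (D.map a).hom.app _ ((D.obj i).obj.map g.op x) =
        (D.map b).hom.app _ ((D.obj j).obj.map g.op y) := by
  let E := colimit.cocone (D ⋙ sheafToPresheaf J (Type u))
  have hE : IsColimit E := colimit.isColimit _
  have hc' := Sheaf.isColimitSheafifyCocone E hE
  let e := (colimit.isColimit D).coconePointUniqueUpToIso hc'
  have he : ∀ k, colimit.ι D k ≫ e.hom = (Sheaf.sheafifyCocone E).ι.app k := fun k =>
    IsColimit.comp_coconePointUniqueUpToIso_hom (colimit.isColimit D) hc' k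
  have h1 : ((Sheaf.sheafifyCocone E).ι.app i).hom.app (op U) x =
      ((Sheaf.sheafifyCocone E).ι.app j).hom.app (op U) y := by
    rw [← he i, ← he j]
    exact congrArg (e.hom.hom.app (op U)) h
  rw [Sheaf.sheafifyCocone_ι_app_val, Sheaf.sheafifyCocone_ι_app_val] at h1
  have h2 : (toSheafify J E.pt).app (op U) ((E.ι.app i).app (op U) x) =
      (toSheafify J E.pt).app (op U) ((E.ι.app j).app (op U) y) := h1
  refine ⟨_, Presheaf.equalizerSieve_mem J (toSheafify J E.pt) (X := op U) _ _ h2, ?_⟩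
  intro V g hg
  have hg' : E.pt.map g.op ((E.ι.app i).app (op U) x) = E.pt.map g.op ((E.ι.app j).app (op U) y) :=
    hg
  have n1 := NatTrans.naturality_apply (E.ι.app i) g.op x
  have n2 := NatTrans.naturality_apply (E.ι.app j) g.op y
  have h3 : (E.ι.app i).app (op V) ((D.obj i).obj.map g.op x) =
      (E.ι.app j).app (op V) ((D.obj j).obj.map g.op y) := n1.trans (hg'.trans n2.symm)
  have hV : IsColimit (((evaluation Cᵒᵖ (Type u)).obj (op V)).mapCocone E) :=
    isColimitOfPreserves _ hE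
  obtain ⟨k, a, b, hab⟩ := (Limits.Types.FilteredColimit.isColimit_eq_iff _ hV).1 h3
  exact ⟨k, a, b, hab⟩

end Local

/-- a finite family of arrows out of `i` in a filtered category can be equalized -/
theorem exists_common_refinement {I : Type u} [SmallCategory I] [IsFiltered I] {i : I}
    {P : Type w} (s : Finset P) (k : P → I) (a : ∀ p, i ⟶ k p) :
    ∃ (m : I) (c : i ⟶ m) (t : ∀ p, p ∈ s → (k p ⟶ m)), ∀ p (hp : p ∈ s), a p ≫ t p hp = c := by
  classical
  let O : Finset I := insert i (s.image k)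
  have hi : i ∈ O := Finset.mem_insert_self _ _
  have hk : ∀ p, p ∈ s → k p ∈ O := fun p hp =>
    Finset.mem_insert_of_mem (Finset.mem_image_of_mem k hp)
  let H : Finset (Σ' (X Y : I) (_ : X ∈ O) (_ : Y ∈ O), X ⟶ Y) :=
    s.attach.image (fun p => ⟨i, k p.1, hi, hk p.1 p.2, a p.1⟩)
  obtain ⟨m, T, hT⟩ := IsFiltered.sup_exists O H
  refine ⟨m, T hi, fun p hp => T (hk p hp), fun p hp => ?_⟩
  exact hT hi (hk p hp) (Finset.mem_image.2 ⟨⟨p, hp⟩, Finset.mem_attach _ _, rfl⟩)

section QC

variable {I : Type u} [SmallCategory I] [IsFiltered I] (D : I ⥤ Sh J)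

/-- `Hom(X, -)` of a quasi-compact object: injectivity on filtered colimits -/
theorem exists_eq_of_isQC {X : Sh J} (hX : IsQC X) {i : I} (f g : X ⟶ D.obj i)
    (h : f ≫ colimit.ι D i = g ≫ colimit.ι D i) :
    ∃ (k : I) (a : i ⟶ k), f ≫ D.map a = g ≫ D.map a := by
  let P := Σ (k : I) (_ : i ⟶ k) (U : C), {x : X.obj.obj (op U) //
    (D.map ‹i ⟶ k›).hom.app _ (f.hom.app _ x) = (D.map ‹i ⟶ k›).hom.app _ (g.hom.app _ x)}
  have hJE : JE (fun p : P => secMap p.2.2.2.1) := by
    intro U x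
    have hx : (colimit.ι D i).hom.app _ (f.hom.app _ x) =
        (colimit.ι D i).hom.app _ (g.hom.app _ x) :=
      congrArg (fun m => m.hom.app (op U) x) h
    obtain ⟨S, hS, hS'⟩ := filtered_eq_locally D _ _ hx
    refine J.superset_covering ?_ hS
    intro V g₀ hg₀
    obtain ⟨k, a, b, hab⟩ := hS' g₀ hg₀
    have n1 := NatTrans.naturality_apply f.hom g₀.op x
    have n2 := NatTrans.naturality_apply g.hom g₀.op x
    rw [← n1, ← n2] at hab
    have hc := IsFiltered.coeq_condition a b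
    refine ⟨⟨IsFiltered.coeq a b, a ≫ IsFiltered.coeqHom a b, V, X.obj.map g₀.op x, ?_⟩,
      unitSec J (𝟙 V), ?_⟩
    · have e1 : (D.map (a ≫ IsFiltered.coeqHom a b)).hom.app (op V)
          (f.hom.app _ (X.obj.map g₀.op x)) = (D.map (IsFiltered.coeqHom a b)).hom.app (op V)
          ((D.map a).hom.app _ (f.hom.app _ (X.obj.map g₀.op x))) := by
        rw [D.map_comp]; rfl
      have e2 : (D.map (a ≫ IsFiltered.coeqHom a b)).hom.app (op V)
          (g.hom.app _ (X.obj.map g₀.op x)) = (D.map (IsFiltered.coeqHom a b)).hom.app (op V)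
          ((D.map b).hom.app _ (g.hom.app _ (X.obj.map g₀.op x))) := by
        rw [hc, D.map_comp]; rfl
      rw [e1, e2, hab]
    · rw [secMap_unitSec]
      simp
  obtain ⟨s, hs⟩ := IsQC.exists_finset hX hJE
  obtain ⟨m, c, t, ht⟩ := exists_common_refinement s (fun p : P => p.1) (fun p => p.2.1)
  refine ⟨m, c, ?_⟩
  apply hs.hom_ext
  rintro ⟨p, hp⟩
  apply eps_hom_ext
  show (D.map c).hom.app _ (f.hom.app _ ((secMap p.2.2.2.1).hom.app _ (unitSec J (𝟙 _)))) =
    (D.map c).hom.app _ (g.hom.app _ ((secMap p.2.2.2.1).hom.app _ (unitSec J (𝟙 _))))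
  rw [secMap_unitSec]
  have hx : X.obj.map (𝟙 p.2.2.1).op p.2.2.2.1 = p.2.2.2.1 := by simp
  rw [hx, ← ht p hp, D.map_comp]
  exact congrArg ((D.map (t p hp)).hom.app _) p.2.2.2.2

end QC

/-- gluing morphisms along a jointly epimorphic family -/
theorem JE.exists_desc {ι : Type u} {X Z : Sh J} {F : ι → Sh J} {π : ∀ i, F i ⟶ X} (h : JE π)
    (l : ∀ i, F i ⟶ Z)
    (hl : ∀ i j, pullback.fst (π i) (π j) ≫ l i = pullback.snd (π i) (π j) ≫ l j) :
    ∃ d : X ⟶ Z, ∀ i, π i ≫ d = l i := by
  haveI : Epi (Sigma.desc π) := h.epi_sigmaDesc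
  haveI : IsRegularEpi (Sigma.desc π) := IsRegularEpiCategory.regularEpiOfEpi _
  have hk := IsKernelPair.of_hasPullback (Sigma.desc π)
  have hcoeq := hk.toCoequalizer'
  have hJ : JE (fun i => Sigma.ι F i) :=
    JE_cofan (Cofan.mk (∐ F) (Sigma.ι F)) (coproductIsCoproduct F)
  have key : pullback.fst (Sigma.desc π) (Sigma.desc π) ≫ Sigma.desc l =
      pullback.snd (Sigma.desc π) (Sigma.desc π) ≫ Sigma.desc l := by
    ext U z
    obtain ⟨U⟩ := U
    show (Sigma.desc l).hom.app _ ((pullback.fst (Sigma.desc π) (Sigma.desc π)).hom.app _ z) =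
      (Sigma.desc l).hom.app _ ((pullback.snd (Sigma.desc π) (Sigma.desc π)).hom.app _ z)
    have hz : (Sigma.desc π).hom.app _ ((pullback.fst (Sigma.desc π) (Sigma.desc π)).hom.app _ z) =
        (Sigma.desc π).hom.app _ ((pullback.snd (Sigma.desc π) (Sigma.desc π)).hom.app _ z) :=
      congrArg (fun m => m.hom.app (op U) z)
        (pullback.condition (f := Sigma.desc π) (g := Sigma.desc π))
    refine section_ext_of_covering _ (J.intersection_covering
      (hJ U ((pullback.fst (Sigma.desc π) (Sigma.desc π)).hom.app _ z))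
      (hJ U ((pullback.snd (Sigma.desc π) (Sigma.desc π)).hom.app _ z))) ?_
    rintro V g ⟨⟨i, y, hy⟩, ⟨j, y', hy'⟩⟩
    have n1 := NatTrans.naturality_apply (Sigma.desc l).hom g.op
      ((pullback.fst (Sigma.desc π) (Sigma.desc π)).hom.app _ z)
    have n2 := NatTrans.naturality_apply (Sigma.desc l).hom g.op
      ((pullback.snd (Sigma.desc π) (Sigma.desc π)).hom.app _ z)
    rw [← n1, ← n2, ← hy, ← hy']
    have a1 : ∀ (k : ι) (w : (F k).obj.obj (op V)),
        (Sigma.desc l).hom.app _ ((Sigma.ι F k).hom.app _ w) = (l k).hom.app _ w := fun k w =>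
      congrArg (fun m => m.hom.app (op V) w) (Sigma.ι_desc l k)
    have a2 : ∀ (k : ι) (w : (F k).obj.obj (op V)),
        (Sigma.desc π).hom.app _ ((Sigma.ι F k).hom.app _ w) = (π k).hom.app _ w := fun k w =>
      congrArg (fun m => m.hom.app (op V) w) (Sigma.ι_desc π k)
    rw [a1, a1]
    have hπ : (π i).hom.app _ y = (π j).hom.app _ y' := by
      rw [← a2, ← a2, hy, hy']
      have m1 := NatTrans.naturality_apply (Sigma.desc π).hom g.op
        ((pullback.fst (Sigma.desc π) (Sigma.desc π)).hom.app _ z)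
      have m2 := NatTrans.naturality_apply (Sigma.desc π).hom g.op
        ((pullback.snd (Sigma.desc π) (Sigma.desc π)).hom.app _ z)
      rw [m1, m2, hz]
    obtain ⟨w, hw1, hw2⟩ := exists_section_of_isPullback (IsPullback.of_hasPullback (π i) (π j))
      y y' hπ
    rw [← hw1, ← hw2]
    exact congrArg (fun m => m.hom.app (op V) w) (hl i j)
  refine ⟨Cofork.IsColimit.desc hcoeq (Sigma.desc l) key, fun i => ?_⟩
  have h1 : Sigma.desc π ≫ Cofork.IsColimit.desc hcoeq (Sigma.desc l) key = Sigma.desc l :=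
    Cofork.IsColimit.π_desc' hcoeq _ key
  have h2 := congrArg (fun m => Sigma.ι F i ≫ m) h1
  simpa using h2

section Coh

variable {I : Type u} [SmallCategory I] [IsFiltered I] (D : I ⥤ Sh J)

theorem injective_post_of_isQC {X : Sh J} (hX : IsQC X) :
    Function.Injective (colimit.post D (coyoneda.obj (op X))) := by
  rw [post_injective_iff]
  intro i j f g hfg
  obtain ⟨k, a, ha⟩ := exists_eq_of_isQC D hX (f ≫ D.map (IsFiltered.leftToMax i j))
    (g ≫ D.map (IsFiltered.rightToMax i j)) (by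
      rw [Category.assoc, Category.assoc, colimit.w, colimit.w, hfg])
  refine ⟨k, IsFiltered.leftToMax i j ≫ a, IsFiltered.rightToMax i j ≫ a, ?_⟩
  rw [D.map_comp, D.map_comp, ← Category.assoc, ← Category.assoc, ha]

theorem surjective_post_of_isCoherent (hE : HasQCGenerators J) {X : Sh J} (hX : IsCoherent X) :
    Function.Surjective (colimit.post D (coyoneda.obj (op X))) := by
  classical
  rw [post_surjective_iff]
  intro h
  choose κ G ρ hG hρ using fun i => hE (pullback h (colimit.ι D i))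
  have hJE1 : JE (fun i => pullback.fst h (colimit.ι D i)) :=
    (JE_colimit_ι D).pullback h (fun i => pullback.snd h (colimit.ι D i)) _
      (fun i => (IsPullback.of_hasPullback h (colimit.ι D i)).flip)
  have hJE2 := hJE1.comp (fun i k => ρ i k) (fun i => JE.of_epi_sigmaDesc (hρ i))
  obtain ⟨s, hs⟩ := IsQC.exists_finset hX.1 hJE2
  obtain ⟨i₀, hi₀⟩ := IsFiltered.sup_objs_exists (s.image (fun p => p.1))
  let t : ∀ p : s, p.1.1 ⟶ i₀ := fun p => (hi₀ (Finset.mem_image_of_mem _ p.2)).some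
  obtain ⟨π, hπdef⟩ : ∃ π : ∀ p : s, G p.1.1 p.1.2 ⟶ X, π = fun p : s =>
      ρ p.1.1 p.1.2 ≫ pullback.fst h (colimit.ι D p.1.1) := ⟨_, rfl⟩
  have hs' : JE π := by
    rw [hπdef]
    exact hs
  obtain ⟨l, hldef⟩ : ∃ l : ∀ p : s, G p.1.1 p.1.2 ⟶ D.obj i₀, ∀ p, l p =
      ρ p.1.1 p.1.2 ≫ pullback.snd h (colimit.ι D p.1.1) ≫ D.map (t p) := ⟨_, fun _ => rfl⟩
  have hl : ∀ p, l p ≫ colimit.ι D i₀ = π p ≫ h := by
    intro p
    rw [hldef, hπdef]
    simp only [Category.assoc, colimit.w, pullback.condition]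
  have hpair : ∀ pq : s × s, ∃ (k : I) (a : i₀ ⟶ k),
      (pullback.fst (π pq.1) (π pq.2) ≫ l pq.1) ≫ D.map a =
        (pullback.snd (π pq.1) (π pq.2) ≫ l pq.2) ≫ D.map a := by
    intro pq
    apply exists_eq_of_isQC D (hX.2 _ _ (π pq.1) (π pq.2) (hG _ _) (hG _ _))
    rw [Category.assoc, Category.assoc, hl, hl, ← Category.assoc, ← Category.assoc,
      pullback.condition]
  choose k a ha using hpair
  obtain ⟨m, c, tt, htt⟩ := exists_common_refinement (Finset.univ : Finset (s × s)) k a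
  obtain ⟨d, hd⟩ := JE.exists_desc (π := π) hs' (fun p => l p ≫ D.map c) (fun p q => by
    have h1 := ha (p, q)
    rw [← htt (p, q) (Finset.mem_univ _), D.map_comp]
    simp only [← Category.assoc] at h1 ⊢
    rw [h1])
  refine ⟨m, d, ?_⟩
  apply JE.hom_ext (π := π) hs'
  intro p
  rw [← Category.assoc, hd, Category.assoc, colimit.w, hl]

end Coh

end Groth.Agent.Lib.Lead.ToposFin
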