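import Mathlib
import Groth.Agent.Lib.Lead.ToposFinFC

/-!
# ToposFin: a directed system of quotient sheaves `Q t` of a presheaf `G₀` by the relations
generated by a finite subfamily `t` of a family of pairs `a β, b β : H β ⇉ G₀`
-/

set_option autoImplicit false
open CategoryTheory CategoryTheory.Limits Opposite
universe u w w'

namespace Groth.Agent.Lib.Lead.ToposFin
open _root_.ToposFin

variable {C : Type u} [SmallCategory C] {J : GrothendieckTopology C}

section PQ

variable {G₀ : Cᵒᵖ ⥤ Type u} {B : Type u} {H : B → (Cᵒᵖ ⥤ Type u)} (a b : ∀ β, H β ⟶ G₀)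

/-- the generating relation of level `t` -/
def pqRel (t : Finset B) (U : Cᵒᵖ) (x y : G₀.obj U) : Prop :=
  ∃ β ∈ t, ∃ z : (H β).obj U, (a β).app U z = x ∧ (b β).app U z = y

theorem pqRel_map (t : Finset B) {U V : Cᵒᵖ} (g : U ⟶ V) {x y : G₀.obj U}
    (h : pqRel a b t U x y) : pqRel a b t V (G₀.map g x) (G₀.map g y) := by
  obtain ⟨β, hβ, z, rfl, rfl⟩ := h
  exact ⟨β, hβ, (H β).map g z, NatTrans.naturality_apply (a β) g z,
    NatTrans.naturality_apply (b β) g z⟩

theorem pqRel_mono {t t' : Finset B} (h : t ≤ t') {U : Cᵒᵖ} {x y : G₀.obj U}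
    (hxy : pqRel a b t U x y) : pqRel a b t' U x y := by
  obtain ⟨β, hβ, z, hz⟩ := hxy
  exact ⟨β, h hβ, z, hz⟩

/-- the quotient presheaf of level `t` -/
def pqPsh (t : Finset B) : Cᵒᵖ ⥤ Type u where
  obj U := Quot (pqRel a b t U)
  map g := TypeCat.ofHom (Quot.map (G₀.map g) (fun _ _ h => pqRel_map a b t g h))
  map_id U := by
    apply ConcreteCategory.hom_ext
    rintro ⟨x⟩
    exact congrArg (Quot.mk _) (by simp)
  map_comp g h := by
    apply ConcreteCategory.hom_ext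
    rintro ⟨x⟩
    exact congrArg (Quot.mk _) (by simp)

def pqMk (t : Finset B) : G₀ ⟶ pqPsh a b t where
  app U := TypeCat.ofHom (Quot.mk _)
  naturality := by
    intros
    rfl

def pqTrans {t t' : Finset B} (h : t ≤ t') : pqPsh a b t ⟶ pqPsh a b t' where
  app U := TypeCat.ofHom (Quot.map id (fun _ _ hxy => pqRel_mono a b h hxy))
  naturality := by
    intro U V g
    apply ConcreteCategory.hom_ext
    rintro ⟨x⟩
    rfl

theorem pqMk_trans {t t' : Finset B} (h : t ≤ t') : pqMk a b t ≫ pqTrans a b h = pqMk a b t' := by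
  apply NatTrans.ext
  funext U
  apply ConcreteCategory.hom_ext
  intro x
  rfl

def pqDesc (t : Finset B) {Z : Cᵒᵖ ⥤ Type u} (f : G₀ ⟶ Z) (hf : ∀ β ∈ t, a β ≫ f = b β ≫ f) :
    pqPsh a b t ⟶ Z where
  app U := TypeCat.ofHom (Quot.lift (f.app U) (by
    rintro x y ⟨β, hβ, z, rfl, rfl⟩
    exact congrArg (fun m => m.app U z) (hf β hβ)))
  naturality := by
    intro U V k
    apply ConcreteCategory.hom_ext
    rintro ⟨x⟩
    exact NatTrans.naturality_apply f k x

theorem pqMk_desc (t : Finset B) {Z : Cᵒᵖ ⥤ Type u} (f : G₀ ⟶ Z)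
    (hf : ∀ β ∈ t, a β ≫ f = b β ≫ f) : pqMk a b t ≫ pqDesc a b t f hf = f := by
  apply NatTrans.ext
  funext U
  apply ConcreteCategory.hom_ext
  intro x
  rfl

theorem pq_hom_ext (t : Finset B) {Z : Cᵒᵖ ⥤ Type u} (m m' : pqPsh a b t ⟶ Z)
    (h : pqMk a b t ≫ m = pqMk a b t ≫ m') : m = m' := by
  apply NatTrans.ext
  funext U
  apply ConcreteCategory.hom_ext
  rintro ⟨x⟩
  exact congrArg (fun k => k.app U x) h

/-- the directed system of quotient sheaves -/
noncomputable def pqFunctor : Finset B ⥤ Sh J where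
  obj t := (presheafToSheaf J (Type u)).obj (pqPsh a b t)
  map {t t'} h := (presheafToSheaf J (Type u)).map (pqTrans a b (leOfHom h))
  map_id t := by
    rw [← (presheafToSheaf J (Type u)).map_id]
    congr 1
    apply pq_hom_ext
    rw [pqMk_trans, Category.comp_id]
  map_comp {t t' t''} h h' := by
    rw [← (presheafToSheaf J (Type u)).map_comp]
    congr 1
    apply pq_hom_ext
    rw [pqMk_trans, ← Category.assoc, pqMk_trans, pqMk_trans]

/-- the canonical map `G₀ ⟶ Q t` -/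
noncomputable def pqQ (t : Finset B) : G₀ ⟶ ((pqFunctor (J := J) a b).obj t).obj :=
  pqMk a b t ≫ toSheafify J _

theorem pqQ_map {t t' : Finset B} (h : t ⟶ t') :
    pqQ (J := J) a b t ≫ ((pqFunctor (J := J) a b).map h).hom = pqQ a b t' := by
  show (pqMk a b t ≫ toSheafify J _) ≫ sheafifyMap J (pqTrans a b (leOfHom h)) = _
  rw [Category.assoc, ← toSheafify_naturality, ← Category.assoc, pqMk_trans]
  rfl

theorem pqQ_sound (t : Finset B) {U : Cᵒᵖ} {x y : G₀.obj U} (h : pqRel a b t U x y) :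
    (pqQ (J := J) a b t).app U x = (pqQ (J := J) a b t).app U y := by
  show (toSheafify J (pqPsh a b t)).app U (Quot.mk (pqRel a b t U) x) =
    (toSheafify J (pqPsh a b t)).app U (Quot.mk (pqRel a b t U) y)
  rw [Quot.sound h]

theorem pqQ_exact (t : Finset B) {U : C} {x y : G₀.obj (op U)}
    (h : (pqQ (J := J) a b t).app (op U) x = (pqQ (J := J) a b t).app (op U) y) :
    ∃ S : Sieve U, S ∈ J U ∧ ∀ ⦃V : C⦄ (g : V ⟶ U), S g →
      (Quot.mk (pqRel a b t (op V)) (G₀.map g.op x)) = Quot.mk _ (G₀.map g.op y) := by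
  refine ⟨_, Presheaf.equalizerSieve_mem J (toSheafify J (pqPsh a b t)) (X := op U)
    (Quot.mk _ x) (Quot.mk _ y) h, ?_⟩
  intro V g hg
  exact hg

/-- maps out of `Q t` -/
noncomputable def pqLift (t : Finset B) {Z : Sh J} (f : G₀ ⟶ Z.obj)
    (hf : ∀ β ∈ t, a β ≫ f = b β ≫ f) : (pqFunctor (J := J) a b).obj t ⟶ Z :=
  ⟨sheafifyLift J (pqDesc a b t f hf) Z.2⟩

theorem pqQ_lift (t : Finset B) {Z : Sh J} (f : G₀ ⟶ Z.obj)
    (hf : ∀ β ∈ t, a β ≫ f = b β ≫ f) : pqQ (J := J) a b t ≫ (pqLift a b t f hf).hom = f := by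
  show (pqMk a b t ≫ toSheafify J _) ≫ sheafifyLift J _ _ = f
  rw [Category.assoc, toSheafify_sheafifyLift, pqMk_desc]

theorem pqQ_hom_ext (t : Finset B) {Z : Sh J} (m m' : (pqFunctor (J := J) a b).obj t ⟶ Z)
    (h : pqQ (J := J) a b t ≫ m.hom = pqQ (J := J) a b t ≫ m'.hom) : m = m' := by
  ext : 1
  apply sheafify_hom_ext J _ _ Z.2
  apply pq_hom_ext
  rw [← Category.assoc, ← Category.assoc]
  exact h

end PQ

end Groth.Agent.Lib.Lead.ToposFin
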