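import Mathlib
import Groth.Agent.Lib.Lead.ToposFinPQ

/-!
# ToposFin: injectivity of `colim Hom(X, Y_i) → Hom(X, colim Y_i)` implies quasi-compactness
-/

set_option autoImplicit false
open CategoryTheory CategoryTheory.Limits Opposite
universe u w w'

namespace Groth.Agent.Lib.Lead.ToposFin
open _root_.ToposFin

variable {C : Type u} [SmallCategory C] {J : GrothendieckTopology C}

/-- the doubled presheaf `P ⊕ P` -/
def dblPsh (P : Cᵒᵖ ⥤ Type u) : Cᵒᵖ ⥤ Type u where
  obj U := P.obj U ⊕ P.obj U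
  map g := TypeCat.ofHom (Sum.map (P.map g) (P.map g))
  map_id U := by
    apply ConcreteCategory.hom_ext
    rintro (x | x)
    · exact congrArg Sum.inl (by simp)
    · exact congrArg Sum.inr (by simp)
  map_comp g h := by
    apply ConcreteCategory.hom_ext
    rintro (x | x)
    · exact congrArg Sum.inl (by simp)
    · exact congrArg Sum.inr (by simp)

def dblInl (P : Cᵒᵖ ⥤ Type u) : P ⟶ dblPsh P where
  app U := TypeCat.ofHom Sum.inl
  naturality := by
    intros
    rfl

def dblInr (P : Cᵒᵖ ⥤ Type u) : P ⟶ dblPsh P where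
  app U := TypeCat.ofHom Sum.inr
  naturality := by
    intros
    rfl

section

variable {X : Sh J} {ι : Type u} {F : ι → Sh J} (π : ∀ i, F i ⟶ X)

/-- the two maps `X ⇉ X ⊔_{X_t} X` -/
noncomputable def dblL (t : Finset ι) :
    X ⟶ (pqFunctor (J := J) (G₀ := dblPsh X.obj) (H := fun i => (F i).obj)
      (fun i => (π i).hom ≫ dblInl X.obj) (fun i => (π i).hom ≫ dblInr X.obj)).obj t :=
  ⟨dblInl X.obj ≫ pqQ _ _ t⟩

noncomputable def dblR (t : Finset ι) :
    X ⟶ (pqFunctor (J := J) (G₀ := dblPsh X.obj) (H := fun i => (F i).obj)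
      (fun i => (π i).hom ≫ dblInl X.obj) (fun i => (π i).hom ≫ dblInr X.obj)).obj t :=
  ⟨dblInr X.obj ≫ pqQ _ _ t⟩

theorem dblL_map {t t' : Finset ι} (h : t ⟶ t') :
    dblL π t ≫ (pqFunctor (J := J) _ _).map h = dblL π t' := by
  ext : 1
  show (dblInl X.obj ≫ pqQ _ _ t) ≫ ((pqFunctor (J := J) _ _).map h).hom = _
  rw [Category.assoc, pqQ_map]
  rfl

theorem dblR_map {t t' : Finset ι} (h : t ⟶ t') :
    dblR π t ≫ (pqFunctor (J := J) _ _).map h = dblR π t' := by
  ext : 1
  show (dblInr X.obj ≫ pqQ _ _ t) ≫ ((pqFunctor (J := J) _ _).map h).hom = _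
  rw [Category.assoc, pqQ_map]
  rfl

theorem dbl_eq_of_mem {t : Finset ι} {i : ι} (hi : i ∈ t) {V : C} (y : (F i).obj.obj (op V)) :
    (dblL π t).hom.app (op V) ((π i).hom.app _ y) = (dblR π t).hom.app (op V) ((π i).hom.app _ y) :=
  pqQ_sound (J := J) (G₀ := dblPsh X.obj) (H := fun i => (F i).obj)
    (fun i => (π i).hom ≫ dblInl X.obj) (fun i => (π i).hom ≫ dblInr X.obj) t
    ⟨i, hi, y, rfl, rfl⟩

theorem JE_of_dblL_eq_dblR {t : Finset ι} (h : dblL π t = dblR π t) :
    JE (fun i : t => π i) := by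
  classical
  intro U x
  have h1 : (pqQ (J := J) (G₀ := dblPsh X.obj) (H := fun i => (F i).obj)
      (fun i => (π i).hom ≫ dblInl X.obj) (fun i => (π i).hom ≫ dblInr X.obj) t).app (op U)
      (Sum.inl x) = (pqQ (J := J) (G₀ := dblPsh X.obj) (H := fun i => (F i).obj)
      (fun i => (π i).hom ≫ dblInl X.obj) (fun i => (π i).hom ≫ dblInr X.obj) t).app (op U)
      (Sum.inr x) := congrArg (fun m => m.hom.app (op U) x) h
  obtain ⟨S, hS, hS'⟩ := pqQ_exact (J := J) _ _ t h1
  refine J.superset_covering ?_ hS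
  intro V g hg
  have h2 := hS' g hg
  -- an invariant of the relation
  let im : X.obj.obj (op V) → Prop := fun x' => ∃ i ∈ t, ∃ y : (F i).obj.obj (op V),
    (π i).hom.app _ y = x'
  let φ : (dblPsh X.obj).obj (op V) → X.obj.obj (op V) × Prop := fun w =>
    match w with
    | Sum.inl x' => (x', True)
    | Sum.inr x' => (x', im x')
  have hφ : ∀ w w', pqRel (G₀ := dblPsh X.obj) (H := fun i => (F i).obj)
      (fun i => (π i).hom ≫ dblInl X.obj) (fun i => (π i).hom ≫ dblInr X.obj) t (op V) w w' →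
      φ w = φ w' := by
    rintro w w' ⟨i, hi, z, rfl, rfl⟩
    show ((π i).hom.app _ z, True) = ((π i).hom.app _ z, im ((π i).hom.app _ z))
    have : im ((π i).hom.app _ z) := ⟨i, hi, z, rfl⟩
    simp [this]
  have h3 := congrArg (Quot.lift φ hφ) h2
  have h4 : im (X.obj.map g.op x) := by
    have h5 : (X.obj.map g.op x, True) = (X.obj.map g.op x, im (X.obj.map g.op x)) := h3
    have h6 : True = im (X.obj.map g.op x) := congrArg Prod.snd h5
    exact cast h6 trivial
  obtain ⟨i, hi, y, hy⟩ := h4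
  exact ⟨⟨i, hi⟩, y, hy⟩

end

/-- `Hom(X, -)` injective on filtered colimits implies `X` quasi-compact -/
theorem isQC_of_injective_post {X : Sh J}
    (h : ∀ (I : Type u) [SmallCategory I] [IsFiltered I] (D : I ⥤ Sh J),
      Function.Injective (colimit.post D (coyoneda.obj (op X)))) : IsQC X := by
  classical
  rw [isQC_iff]
  intro ι F π hπ
  have hA : dblL π ∅ ≫ colimit.ι (pqFunctor (J := J) _ _) ∅ =
      dblR π ∅ ≫ colimit.ι (pqFunctor (J := J) _ _) ∅ := by
    ext U x
    obtain ⟨U⟩ := U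
    refine section_ext_of_covering _ (hπ U x) ?_
    rintro V g ⟨i, y, hy⟩
    have hL : dblL π ∅ ≫ colimit.ι (pqFunctor (J := J) _ _) ∅ =
        dblL π {i} ≫ colimit.ι (pqFunctor (J := J) _ _) {i} := by
      rw [← dblL_map π (homOfLE (Finset.empty_subset {i})), Category.assoc, colimit.w]
    have hR : dblR π ∅ ≫ colimit.ι (pqFunctor (J := J) _ _) ∅ =
        dblR π {i} ≫ colimit.ι (pqFunctor (J := J) _ _) {i} := by
      rw [← dblR_map π (homOfLE (Finset.empty_subset {i})), Category.assoc, colimit.w]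
    rw [hL, hR]
    have n1 := NatTrans.naturality_apply
      (dblL π {i} ≫ colimit.ι (pqFunctor (J := J) _ _) {i}).hom g.op x
    have n2 := NatTrans.naturality_apply
      (dblR π {i} ≫ colimit.ι (pqFunctor (J := J) _ _) {i}).hom g.op x
    refine n1.symm.trans (Eq.trans ?_ n2)
    refine Eq.trans (congrArg (fun w => (dblL π {i} ≫
      colimit.ι (pqFunctor (J := J) _ _) {i}).hom.app (op V) w) hy.symm) (Eq.trans ?_
      (congrArg (fun w => (dblR π {i} ≫
      colimit.ι (pqFunctor (J := J) _ _) {i}).hom.app (op V) w) hy))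
    exact congrArg (fun w => (colimit.ι (pqFunctor (J := J) _ _) {i}).hom.app (op V) w)
      (dbl_eq_of_mem π (Finset.mem_singleton_self i) y)
  obtain ⟨k, a', b', hk⟩ := (post_injective_iff _ X).1 (h (Finset ι) _) ∅ ∅ _ _ hA
  rw [dblL_map, dblR_map] at hk
  exact ⟨k, JE_of_dblL_eq_dblR π hk⟩

end Groth.Agent.Lib.Lead.ToposFin
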