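import Mathlib
import Groth.Agent.Lib.Lead.ToposFinFC2
import Groth.Agent.Lib.Lead.ToposFinCoprod3

/-!
# ToposFin: objects of finite presentation (`Hom(X, -)` commutes with filtered colimits)
-/

set_option autoImplicit false
open CategoryTheory CategoryTheory.Limits Opposite
universe u w w'

namespace Groth.Agent.Lib.Lead.ToposFin
open _root_.ToposFin

variable {C : Type u} [SmallCategory C] {J : GrothendieckTopology C}

theorem hasQCGenerators_of_coherent (hE : HasCoherentGenerators J) : HasQCGenerators J := fun X => by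
  obtain ⟨ι, F, π, hF, h⟩ := hE X
  exact ⟨ι, F, π, fun i => (hF i).1, h⟩

theorem isCoherent_sigma {κ : Type u} [Finite κ] (F : κ → Sh J) (hF : ∀ k, IsCoherent (F k)) :
    IsCoherent (∐ F) := by
  have hc := coproductIsCoproduct F
  have hJE : JE (fun k => Sigma.ι F k) := JE_cofan _ hc
  refine ⟨isQC_of_finite_JE (fun k => Sigma.ι F k) hJE (fun k => (hF k).1), ?_⟩
  exact isQS_of_qs_cover_qc_maps' (fun k => Sigma.ι F k) hJE (fun k => (hF k).2)
    (fun k => isQCHom_cofan_inj hc k)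

theorem isQC_of_isFP {X : Sh J} (hX : IsFP X) : IsQC X :=
  isQC_of_injective_post (fun I _ _ D => (hX I D).1)

theorem isFP_of_isCoherent (hE : HasQCGenerators J) {X : Sh J} (hX : IsCoherent X) : IsFP X :=
  fun _ _ _ D => ⟨injective_post_of_isQC D hX.1, surjective_post_of_isCoherent D hE hX⟩

theorem isFP_coequalizer {X₀ X₁ : Sh J} (a b : X₁ ⟶ X₀) (h₀ : IsFP X₀) (h₁ : IsQC X₁) :
    IsFP (coequalizer a b) := by
  intro I _ _ D
  have hqcQ : IsQC (coequalizer a b) := IsQC.of_epi (coequalizer.π a b) (isQC_of_isFP h₀)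
  refine ⟨injective_post_of_isQC D hqcQ, ?_⟩
  rw [post_surjective_iff]
  intro h
  obtain ⟨i, f₀, hf₀⟩ := (post_surjective_iff D X₀).1 (h₀ I D).2 (coequalizer.π a b ≫ h)
  have e : (a ≫ f₀) ≫ colimit.ι D i = (b ≫ f₀) ≫ colimit.ι D i := by
    rw [Category.assoc, Category.assoc, hf₀, ← Category.assoc, ← Category.assoc,
      coequalizer.condition]
  obtain ⟨j, u, hu⟩ := exists_eq_of_isQC D h₁ (a ≫ f₀) (b ≫ f₀) e
  refine ⟨j, coequalizer.desc (f₀ ≫ D.map u) (by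
    rw [← Category.assoc, ← Category.assoc]; exact hu), ?_⟩
  rw [← cancel_epi (coequalizer.π a b), ← Category.assoc, coequalizer.π_desc, Category.assoc,
    colimit.w, hf₀]

theorem isFP_of_retract {X Q : Sh J} (i : X ⟶ Q) (p : Q ⟶ X) (hip : i ≫ p = 𝟙 X)
    (hQ : IsFP Q) : IsFP X := by
  intro I _ _ D
  have : IsSplitEpi p := ⟨⟨⟨i, hip⟩⟩⟩
  have hqcX : IsQC X := IsQC.of_epi p (isQC_of_isFP hQ)
  refine ⟨injective_post_of_isQC D hqcX, ?_⟩
  rw [post_surjective_iff]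
  intro h
  obtain ⟨j, g, hg⟩ := (post_surjective_iff D Q).1 (hQ I D).2 (p ≫ h)
  exact ⟨j, i ≫ g, by rw [Category.assoc, hg, ← Category.assoc, hip, Category.id_comp]⟩

/-- an object of finite presentation is a retract of a coequalizer of coherent objects -/
theorem exists_presentation_of_isFP (hE : HasCoherentGenerators J) {X : Sh J} (hX : IsFP X) :
    ∃ (X₀ X₁ : Sh J) (a b : X₁ ⟶ X₀) (i : X ⟶ coequalizer a b) (p : coequalizer a b ⟶ X),
      IsCoherent X₀ ∧ IsCoherent X₁ ∧ i ≫ p = 𝟙 X := by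
  classical
  have hqc : IsQC X := isQC_of_isFP hX
  -- the finite coherent cover
  obtain ⟨X₀, hX₀, p₀, hp₀epi⟩ : ∃ X₀ : Sh J, IsCoherent X₀ ∧ ∃ p₀ : X₀ ⟶ X, Epi p₀ := by
    obtain ⟨A, Gf, π, hG, hπ⟩ := hE X
    obtain ⟨s, hs⟩ := IsQC.exists_finset hqc (JE.of_epi_sigmaDesc hπ)
    exact ⟨∐ (fun α : s => Gf α), isCoherent_sigma _ (fun α => hG α),
      Sigma.desc (fun α : s => π α), hs.epi_sigmaDesc⟩
  -- the covering of the kernel pair
  obtain ⟨B, Hf, ρ, hH, hρ⟩ := hE (pullback p₀ p₀)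
  have hρJE : JE ρ := JE.of_epi_sigmaDesc hρ
  obtain ⟨a, ha⟩ : ∃ a : ∀ β, Hf β ⟶ X₀, ∀ β, a β = ρ β ≫ pullback.fst p₀ p₀ := ⟨_, fun _ => rfl⟩
  obtain ⟨b, hb⟩ : ∃ b : ∀ β, Hf β ⟶ X₀, ∀ β, b β = ρ β ≫ pullback.snd p₀ p₀ := ⟨_, fun _ => rfl⟩
  have hab : ∀ β, a β ≫ p₀ = b β ≫ p₀ := fun β => by
    rw [ha, hb, Category.assoc, Category.assoc, pullback.condition]
  obtain ⟨a', ha'⟩ : ∃ a' : ∀ β, (Hf β).obj ⟶ X₀.obj, ∀ β, a' β = (a β).hom := ⟨_, fun _ => rfl⟩
  obtain ⟨b', hb'⟩ : ∃ b' : ∀ β, (Hf β).obj ⟶ X₀.obj, ∀ β, b' β = (b β).hom := ⟨_, fun _ => rfl⟩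
  have hab' : ∀ β, a' β ≫ p₀.hom = b' β ≫ p₀.hom := fun β => by
    rw [ha', hb']
    exact congrArg (fun m => m.hom) (hab β)
  obtain ⟨Dq, hDq⟩ : ∃ Dq : Finset B ⥤ Sh J, Dq = pqFunctor (J := J) a' b' := ⟨_, rfl⟩
  obtain ⟨qq, hqq⟩ : ∃ qq : ∀ t, X₀ ⟶ (pqFunctor (J := J) a' b').obj t,
      ∀ t, (qq t).hom = pqQ (J := J) a' b' t := ⟨fun t => ⟨pqQ (J := J) a' b' t⟩, fun _ => rfl⟩
  obtain ⟨ψ, hψ⟩ : ∃ ψ : ∀ t, (pqFunctor (J := J) a' b').obj t ⟶ X,
      ∀ t, ψ t = pqLift (J := J) a' b' t p₀.hom (fun β _ => hab' β) := ⟨_, fun _ => rfl⟩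
  subst hDq
  have hqψ : ∀ t, qq t ≫ ψ t = p₀ := fun t => by
    ext : 1
    show (qq t).hom ≫ (ψ t).hom = p₀.hom
    rw [hqq, hψ]
    exact pqQ_lift (J := J) a' b' t p₀.hom _
  have hqmap : ∀ {t t' : Finset B} (h : t ⟶ t'),
      qq t ≫ (pqFunctor (J := J) a' b').map h = qq t' := fun {t t'} h => by
    ext : 1
    show (qq t).hom ≫ ((pqFunctor (J := J) a' b').map h).hom = (qq t').hom
    rw [hqq, hqq]
    exact pqQ_map (J := J) a' b' h
  have hqepi : ∀ t, Epi (qq t) := fun t => ⟨fun m m' hmm => by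
    apply pqQ_hom_ext (J := J) a' b' t
    rw [← hqq]
    exact congrArg (fun k => k.hom) hmm⟩
  have hψmap : ∀ {t t' : Finset B} (h : t ⟶ t'),
      (pqFunctor (J := J) a' b').map h ≫ ψ t' = ψ t := fun {t t'} h => by
    haveI := hqepi t
    rw [← cancel_epi (qq t), ← Category.assoc, hqmap, hqψ, hqψ]
  let cc : Cocone (pqFunctor (J := J) a' b') :=
    { pt := X
      ι := { app := ψ
             naturality := by
               intro t t' h
               rw [hψmap h]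
               exact (Category.comp_id _).symm } }
  obtain ⟨Ψ, hιΨ⟩ : ∃ Ψ : colimit (pqFunctor (J := J) a' b') ⟶ X,
      ∀ t, colimit.ι (pqFunctor (J := J) a' b') t ≫ Ψ = ψ t :=
    ⟨colimit.desc _ cc, fun t => colimit.ι_desc cc t⟩
  obtain ⟨Φ, hΦ0⟩ : ∃ Φ : X₀ ⟶ colimit (pqFunctor (J := J) a' b'),
      Φ = qq ∅ ≫ colimit.ι (pqFunctor (J := J) a' b') ∅ := ⟨_, rfl⟩
  have hΦ : ∀ t, qq t ≫ colimit.ι (pqFunctor (J := J) a' b') t = Φ := fun t => by
    rw [hΦ0, ← hqmap (homOfLE (Finset.empty_subset t)), Category.assoc, colimit.w]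
  have hΦΨ : Φ ≫ Ψ = p₀ := by rw [hΦ0, Category.assoc, hιΨ, hqψ]
  have hΦepi : Epi Φ := ⟨fun u v huv => colimit.hom_ext (fun t => by
    haveI := hqepi t
    rw [← cancel_epi (qq t), ← Category.assoc, ← Category.assoc, hΦ, huv])⟩
  have hΨepi : Epi Ψ := epi_of_epi_fac hΦΨ
  have hΦJE : JE (fun _ : PUnit.{1} => Φ) := (JE_single_iff Φ).2 hΦepi
  have hinj : ∀ U : C, Function.Injective (Ψ.hom.app (op U)) := by
    intro U z z' hzz
    refine section_ext_of_covering _ (J.intersection_covering (hΦJE U z) (hΦJE U z')) ?_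
    rintro V g ⟨⟨_, x, hx⟩, ⟨_, x', hx'⟩⟩
    refine hx.symm.trans (Eq.trans ?_ hx')
    have hp : p₀.hom.app (op V) x = p₀.hom.app (op V) x' := by
      have e1 : Ψ.hom.app _ (Φ.hom.app _ x) = p₀.hom.app _ x :=
        congrArg (fun m => m.hom.app (op V) x) hΦΨ
      have e1' : Ψ.hom.app _ (Φ.hom.app _ x') = p₀.hom.app _ x' :=
        congrArg (fun m => m.hom.app (op V) x') hΦΨ
      have n1 := NatTrans.naturality_apply Ψ.hom g.op z
      have n1' := NatTrans.naturality_apply Ψ.hom g.op z'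
      refine e1.symm.trans (Eq.trans ?_ e1')
      refine (congrArg (fun y => Ψ.hom.app (op V) y) hx).trans (Eq.trans ?_
        (congrArg (fun y => Ψ.hom.app (op V) y) hx').symm)
      exact n1.trans ((congrArg (fun y => X.obj.map g.op y) hzz).trans n1'.symm)
    obtain ⟨κ, hκ1, hκ2⟩ := exists_section_of_isPullback (IsPullback.of_hasPullback p₀ p₀) x x' hp
    refine section_ext_of_covering _ (hρJE V κ) ?_
    rintro W h ⟨β, w, hw⟩
    have n2 := NatTrans.naturality_apply Φ.hom h.op x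
    have n2' := NatTrans.naturality_apply Φ.hom h.op x'
    refine n2.symm.trans (Eq.trans ?_ n2')
    have ea : (a' β).app (op W) w = X₀.obj.map h.op x := by
      have n3 := NatTrans.naturality_apply (pullback.fst p₀ p₀).hom h.op κ
      rw [ha', ha]
      show (pullback.fst p₀ p₀).hom.app _ ((ρ β).hom.app _ w) = _
      exact (congrArg (fun y => (pullback.fst p₀ p₀).hom.app (op W) y) hw).trans
        (n3.trans (congrArg (fun y => X₀.obj.map h.op y) hκ1))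
    have eb : (b' β).app (op W) w = X₀.obj.map h.op x' := by
      have n3 := NatTrans.naturality_apply (pullback.snd p₀ p₀).hom h.op κ
      rw [hb', hb]
      show (pullback.snd p₀ p₀).hom.app _ ((ρ β).hom.app _ w) = _
      exact (congrArg (fun y => (pullback.snd p₀ p₀).hom.app (op W) y) hw).trans
        (n3.trans (congrArg (fun y => X₀.obj.map h.op y) hκ2))
    have hrel : pqRel a' b' {β} (op W) (X₀.obj.map h.op x) (X₀.obj.map h.op x') :=
      ⟨β, Finset.mem_singleton_self β, w, ea, eb⟩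
    have hs := pqQ_sound (J := J) a' b' {β} hrel
    rw [← hΦ {β}]
    have hs' : (qq {β}).hom.app (op W) (X₀.obj.map h.op x) =
        (qq {β}).hom.app (op W) (X₀.obj.map h.op x') := by
      rw [hqq]
      exact hs
    exact congrArg (fun y => (colimit.ι (pqFunctor (J := J) a' b') {β}).hom.app (op W) y) hs'
  haveI : IsIso Ψ := isIso_of_injective_of_epi Ψ hinj
  obtain ⟨t, f, hf⟩ := (post_surjective_iff (pqFunctor (J := J) a' b') X).1
    (hX (Finset B) (pqFunctor (J := J) a' b')).2 (inv Ψ)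
  have hfψ : f ≫ ψ t = 𝟙 X := by
    rw [← hιΨ t, ← Category.assoc, hf, IsIso.inv_hom_id]
  -- the finite presentation
  obtain ⟨a₁, ha₁⟩ : ∃ a₁ : (∐ fun β : t => Hf β) ⟶ X₀,
      ∀ β : t, Sigma.ι (fun β : t => Hf β) β ≫ a₁ = a β :=
    ⟨Sigma.desc (fun β : t => a β), fun β => Sigma.ι_desc _ _⟩
  obtain ⟨b₁, hb₁⟩ : ∃ b₁ : (∐ fun β : t => Hf β) ⟶ X₀,
      ∀ β : t, Sigma.ι (fun β : t => Hf β) β ≫ b₁ = b β :=
    ⟨Sigma.desc (fun β : t => b β), fun β => Sigma.ι_desc _ _⟩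
  have hX₁ : IsCoherent (∐ fun β : t => Hf β) := isCoherent_sigma _ (fun β => hH β)
  have hcoeq : a₁ ≫ p₀ = b₁ ≫ p₀ := Sigma.hom_ext _ _ (fun β => by
    rw [← Category.assoc, ← Category.assoc, ha₁, hb₁, hab])
  have hπ : ∀ β ∈ t, a' β ≫ (coequalizer.π a₁ b₁).hom = b' β ≫ (coequalizer.π a₁ b₁).hom := by
    intro β hβ
    have h1 := Sigma.ι (fun β : t => Hf β) ⟨β, hβ⟩ ≫= coequalizer.condition a₁ b₁
    rw [← Category.assoc, ← Category.assoc, ha₁, hb₁] at h1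
    rw [ha', hb']
    exact congrArg (fun m => m.hom) h1
  obtain ⟨θ, hθ⟩ : ∃ θ : (pqFunctor (J := J) a' b').obj t ⟶ coequalizer a₁ b₁,
      qq t ≫ θ = coequalizer.π a₁ b₁ := by
    refine ⟨pqLift (J := J) a' b' t (coequalizer.π a₁ b₁).hom hπ, ?_⟩
    ext : 1
    show (qq t).hom ≫ _ = _
    rw [hqq]
    exact pqQ_lift (J := J) a' b' t _ _
  have hθp : θ ≫ coequalizer.desc p₀ hcoeq = ψ t := by
    haveI := hqepi t
    rw [← cancel_epi (qq t), ← Category.assoc, hθ, coequalizer.π_desc, hqψ]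
  exact ⟨X₀, _, a₁, b₁, f ≫ θ, coequalizer.desc p₀ hcoeq, hX₀, hX₁, by
    rw [Category.assoc, hθp, hfψ]⟩

end Groth.Agent.Lib.Lead.ToposFin
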