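import Mathlib
import Groth.Agent.Lib.Lead.ToposFinFP

/-!
# ToposFin: generating sets stable under finite colimits and fibre products
-/

set_option autoImplicit false
open CategoryTheory CategoryTheory.Limits Opposite
universe u w w'

namespace Groth.Agent.Lib.Lead.ToposFin
open _root_.ToposFin

variable {C : Type u} [SmallCategory C] {J : GrothendieckTopology C}

theorem isCoherent_of_retract {X Q : Sh J} (i : X ⟶ Q) (p : Q ⟶ X) (hip : i ≫ p = 𝟙 X)
    (hQ : IsCoherent Q) : IsCoherent X := by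
  have : IsSplitEpi p := ⟨⟨⟨i, hip⟩⟩⟩
  have : IsSplitMono i := ⟨⟨⟨p, hip⟩⟩⟩
  exact ⟨IsQC.of_epi p hQ.1, isQS_of_mono i hQ.2⟩

/-- an epimorphism is the coequalizer of any cover of its kernel pair -/
theorem nonempty_iso_coequalizer_of_cover {G X H : Sh J} (p₀ : G ⟶ X) [Epi p₀]
    (e : H ⟶ pullback p₀ p₀) [Epi e] :
    Nonempty (X ≅ coequalizer (e ≫ pullback.fst p₀ p₀) (e ≫ pullback.snd p₀ p₀)) := by
  have hJE : JE (fun _ : PUnit.{u + 1} => p₀) := (JE_single_iff p₀).2 inferInstance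
  have hcond : pullback.fst p₀ p₀ ≫ coequalizer.π (e ≫ pullback.fst p₀ p₀) (e ≫ pullback.snd p₀ p₀) =
      pullback.snd p₀ p₀ ≫ coequalizer.π (e ≫ pullback.fst p₀ p₀) (e ≫ pullback.snd p₀ p₀) := by
    rw [← cancel_epi e, ← Category.assoc, ← Category.assoc]
    exact coequalizer.condition _ _
  obtain ⟨ψ, hψ⟩ := hJE.exists_desc (fun _ => coequalizer.π (e ≫ pullback.fst p₀ p₀)
    (e ≫ pullback.snd p₀ p₀)) (fun _ _ => hcond)
  have hψ' := hψ PUnit.unit
  have hc : (e ≫ pullback.fst p₀ p₀) ≫ p₀ = (e ≫ pullback.snd p₀ p₀) ≫ p₀ := by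
    rw [Category.assoc, Category.assoc, pullback.condition]
  refine ⟨⟨ψ, coequalizer.desc p₀ hc, ?_, ?_⟩⟩
  · rw [← cancel_epi p₀, ← Category.assoc, hψ', coequalizer.π_desc, Category.comp_id]
  · rw [← cancel_epi (coequalizer.π (e ≫ pullback.fst p₀ p₀) (e ≫ pullback.snd p₀ p₀)),
      ← Category.assoc, coequalizer.π_desc, hψ', Category.comp_id]

theorem exists_fin_cover_mem {S : Set (Sh J)} (hS : IsGenerating S) {T : Sh J} (hT : IsQC T) :
    ∃ (n : ℕ) (W : Fin n → Sh J) (ρ : ∀ k, W k ⟶ T), (∀ k, W k ∈ S) ∧ JE ρ := by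
  obtain ⟨κ, _, W, ρ, hW, hρ⟩ := IsQC.exists_finite_cover_mem hS hT
  obtain ⟨n, ⟨e⟩⟩ := Finite.exists_equiv_fin κ
  refine ⟨n, fun k => W (e.symm k), fun k => ρ (e.symm k), fun k => hW _, ?_⟩
  refine JE.of_refine hρ (fun k => e k) (fun k => eqToHom (by simp)) (fun k => ?_)
  have : ∀ (k' : κ) (h : k' = k), eqToHom (by rw [h]) ≫ ρ k' = ρ k := by
    rintro _ rfl
    simp
  exact this _ (by simp)

section Closed

variable (S : Set (Sh J)) (hqc : ∀ K ∈ S, IsQC K)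
    (hiso : ∀ ⦃K L : Sh J⦄, K ∈ S → Nonempty (K ≅ L) → L ∈ S)
    (hgen : IsGenerating S) (hpb : ClosedUnderPullbacks S)
    (hcolim : ∀ (K : Type) [SmallCategory K] [FinCategory K] (D : K ⥤ Sh J),
      (∀ k, D.obj k ∈ S) → colimit D ∈ S)

include hcolim in
theorem sigma_fin_mem {n : ℕ} (W : Fin n → Sh J) (hW : ∀ k, W k ∈ S) : (∐ W) ∈ S :=
  hcolim (Discrete (Fin n)) (Discrete.functor W) (fun k => hW k.as)

include hcolim in
theorem coequalizer_mem {A B : Sh J} (a b : A ⟶ B) (hA : A ∈ S) (hB : B ∈ S) :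
    coequalizer a b ∈ S :=
  hcolim WalkingParallelPair (parallelPair a b) (fun k => by
    cases k
    · exact hA
    · exact hB)

include hqc hiso hgen hpb hcolim in
theorem mem_of_isCoherent {X : Sh J} (hX : IsCoherent X) : X ∈ S := by
  obtain ⟨n, W, ρ, hW, hρ⟩ := exists_fin_cover_mem hgen hX.1
  have hG : (∐ W) ∈ S := sigma_fin_mem S hcolim W hW
  obtain ⟨p₀, hp₀⟩ : ∃ p₀ : (∐ W) ⟶ X, Epi p₀ := ⟨Sigma.desc ρ, hρ.epi_sigmaDesc⟩
  have hKqc : IsQC (pullback p₀ p₀) := hX.2 _ _ p₀ p₀ (hqc _ hG) (hqc _ hG)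
  obtain ⟨m, V, σ, hV, hσ⟩ := exists_fin_cover_mem hgen hKqc
  have hH : (∐ V) ∈ S := sigma_fin_mem S hcolim V hV
  obtain ⟨e, he⟩ : ∃ e : (∐ V) ⟶ pullback p₀ p₀, Epi e := ⟨Sigma.desc σ, hσ.epi_sigmaDesc⟩
  exact hiso (coequalizer_mem S hcolim _ _ hH hG) ⟨(nonempty_iso_coequalizer_of_cover p₀ e).some.symm⟩

include hqc hgen hpb in
theorem hasCoherentGenerators_of_closed : HasCoherentGenerators J := fun X => by
  obtain ⟨ι, F, π, hF, h⟩ := IsGenerating.exists_cover hgen X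
  exact ⟨ι, F, π, fun i => isCoherent_of_mem hqc hgen hpb (hF i), h.epi_sigmaDesc⟩

include hqc hiso hgen hpb hcolim in
theorem isCoherent_of_isFP_of_closed {X : Sh J} (hX : IsFP X) : IsCoherent X := by
  have hE := hasCoherentGenerators_of_closed S hqc hgen hpb
  obtain ⟨X₀, X₁, a, b, i, p, h₀, h₁, hip⟩ := exists_presentation_of_isFP hE hX
  have hQ : coequalizer a b ∈ S := coequalizer_mem S hcolim a b
    (mem_of_isCoherent S hqc hiso hgen hpb hcolim h₁) (mem_of_isCoherent S hqc hiso hgen hpb hcolim h₀)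
  exact isCoherent_of_retract i p hip (isCoherent_of_mem hqc hgen hpb hQ)

end Closed

end Groth.Agent.Lib.Lead.ToposFin
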