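import Mathlib
import Groth.Agent.Lib.Lead.ToposFinFP2

/-!
# The canonical topology of a sheaf topos, part 1

Covering sieves of the canonical topology of `Sh J` are those containing a small jointly
epimorphic family; presheaves on `Sh J` turning small coproducts into products and coequalizers
into equalizers are sheaves for the canonical topology.
-/

set_option autoImplicit false
open CategoryTheory CategoryTheory.Limits Opposite
universe u w w'

namespace Groth.Agent.Lib.Lead.CanTop
open _root_.ToposFin Groth.Agent.Lib.Lead.ToposFin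

variable {C : Type u} [SmallCategory C] {J : GrothendieckTopology C}

theorem secMap_comp {Y Z : Sh J} {U : C} (y : Y.obj.obj (op U)) (f : Y ⟶ Z) :
    secMap y ≫ f = secMap (f.hom.app _ y) := by
  apply eps_hom_ext
  show f.hom.app _ ((secMap y).hom.app _ (unitSec J (𝟙 U))) =
    (secMap (f.hom.app _ y)).hom.app _ (unitSec J (𝟙 U))
  rw [secMap_unitSec, secMap_unitSec]
  exact NatTrans.naturality_apply f.hom (𝟙 U).op y

theorem isSheafFor_yoneda_of_JE {Y Z : Sh J} (S : Sieve Y) {ι : Type u} {F : ι → Sh J}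
    (π : ∀ i, F i ⟶ Y) (hπ : JE π) (hS : ∀ i, S (π i)) :
    Presieve.IsSheafFor (yoneda.obj Z) S.arrows := by
  intro x hx
  obtain ⟨d, hd⟩ := JE.exists_desc hπ (fun i => x (π i) (hS i)) (fun i j =>
    hx (pullback.fst (π i) (π j)) (pullback.snd (π i) (π j)) (hS i) (hS j) pullback.condition)
  refine ⟨d, ?_, ?_⟩
  · intro W g hg
    show g ≫ d = x g hg
    apply JE.hom_ext (hπ.pullback g (fun i => pullback.fst (π i) g)
      (fun i => pullback.snd (π i) g) (fun i => IsPullback.of_hasPullback _ _))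
    intro i
    have e1 : pullback.fst (π i) g ≫ x (π i) (hS i) = pullback.snd (π i) g ≫ x g hg :=
      hx (pullback.fst (π i) g) (pullback.snd (π i) g) (hS i) hg pullback.condition
    have e2 : pullback.fst (π i) g ≫ π i ≫ d = pullback.snd (π i) g ≫ g ≫ d := by
      rw [← Category.assoc, pullback.condition, Category.assoc]
    rw [← e2, hd i, e1]
  · intro d' hd'
    apply JE.hom_ext hπ
    intro i
    rw [hd i]
    exact hd' (π i) (hS i)

theorem mem_canonical_of_JE {X : Sh J} (S : Sieve X) {ι : Type u} {F : ι → Sh J}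
    (π : ∀ i, F i ⟶ X) (hπ : JE π) (hS : ∀ i, S (π i)) :
    S ∈ Sheaf.canonicalTopology (Sh J) X := by
  show S ∈ Sheaf.finestTopology (Set.range yoneda.obj) X
  apply Sheaf.mem_finestTopology_of_forall_isSheafFor
  rintro P ⟨Z, rfl⟩ Y f
  refine isSheafFor_yoneda_of_JE (S.pullback f) (fun i => pullback.snd (π i) f)
    (hπ.pullback f (fun i => pullback.fst (π i) f) _ (fun i => IsPullback.of_hasPullback _ _))
    (fun i => ?_)
  show S (pullback.snd (π i) f ≫ f)
  rw [← pullback.condition]
  exact S.downward_closed (hS i) _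

/-- index of representable members of a sieve -/
def RepMem {X : Sh J} (S : Sieve X) : Type u :=
  {p : Σ U : C, X.obj.obj (op U) // S (secMap p.2)}

theorem JE_of_mem_canonical {X : Sh J} (S : Sieve X)
    (hS : S ∈ Sheaf.canonicalTopology (Sh J) X) :
    JE (fun p : RepMem S => secMap p.1.2) := by
  apply JE.of_hom_ext
  intro Z a b hab
  have hsep : Presieve.IsSeparatedFor (yoneda.obj Z) S.arrows :=
    (Sheaf.isSheaf_yoneda_obj Z S hS).isSeparatedFor
  refine hsep (fun W g _ => g ≫ a) a b (fun W g hg => rfl) (fun W g hg => ?_)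
  show g ≫ b = g ≫ a
  apply JE.hom_ext (JE_secMap W)
  rintro ⟨U, w⟩
  have hmem : S (secMap (g.hom.app _ w)) := by
    rw [← secMap_comp]; exact S.downward_closed hg _
  have h1 := hab ⟨⟨U, g.hom.app _ w⟩, hmem⟩
  rw [← Category.assoc, ← Category.assoc, secMap_comp]
  exact h1.symm

section Presentation

variable {X : Sh J} {ι : Type u} {F : ι → Sh J} (π : ∀ i, F i ⟶ X)

/-- the first map of the coequalizer presentation attached to a family -/
noncomputable def presA : (∐ fun q : ι × ι => pullback (π q.1) (π q.2)) ⟶ ∐ F :=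
  Sigma.desc (fun q : ι × ι => pullback.fst (π q.1) (π q.2) ≫ Sigma.ι F q.1)

/-- the second map of the coequalizer presentation attached to a family -/
noncomputable def presB : (∐ fun q : ι × ι => pullback (π q.1) (π q.2)) ⟶ ∐ F :=
  Sigma.desc (fun q : ι × ι => pullback.snd (π q.1) (π q.2) ≫ Sigma.ι F q.2)

theorem pres_w : presA π ≫ Sigma.desc π = presB π ≫ Sigma.desc π := by
  apply Sigma.hom_ext
  rintro ⟨i, j⟩
  unfold presA presB
  rw [Sigma.ι_desc_assoc, Sigma.ι_desc_assoc, Category.assoc, Category.assoc, Sigma.ι_desc,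
    Sigma.ι_desc]
  exact pullback.condition

theorem pres_isColimit (hπ : JE π) : Nonempty (IsColimit (Cofork.ofπ (Sigma.desc π) (pres_w π))) := by
  haveI : Epi (Sigma.desc π) := hπ.epi_sigmaDesc
  have ex : ∀ s : Cofork (presA π) (presB π), ∃ d : X ⟶ s.pt, Sigma.desc π ≫ d = s.π := by
    intro s
    obtain ⟨d, hd⟩ := JE.exists_desc hπ (fun i => Sigma.ι F i ≫ s.π) (fun i j => by
      have h1 := Sigma.ι (fun q : ι × ι => pullback (π q.1) (π q.2)) (i, j) ≫= s.condition
      unfold presA presB at h1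
      rw [Sigma.ι_desc_assoc, Sigma.ι_desc_assoc, Category.assoc, Category.assoc] at h1
      exact h1)
    refine ⟨d, ?_⟩
    apply Sigma.hom_ext
    intro i
    rw [Sigma.ι_desc_assoc, hd i]
  refine ⟨Cofork.IsColimit.mk' _ (fun s => ⟨(ex s).choose, (ex s).choose_spec, ?_⟩)⟩
  intro m hm
  rw [← cancel_epi (Sigma.desc π)]
  exact hm.trans (ex s).choose_spec.symm

end Presentation

section Res
variable (P : (Sh J)ᵒᵖ ⥤ Type w)

/-- restriction along a morphism -/
def res {X Y : Sh J} (f : X ⟶ Y) (p : P.obj (op Y)) : P.obj (op X) := P.map f.op p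

theorem res_comp {X Y Z : Sh J} (f : X ⟶ Y) (g : Y ⟶ Z) (p : P.obj (op Z)) :
    res P (f ≫ g) p = res P f (res P g p) := by
  unfold res
  rw [op_comp]
  exact FunctorToTypes.map_comp_apply P g.op f.op p

/-- `P` turns small coproducts into products. -/
def TurnsProd : Prop := ∀ {ι : Type u} (F : ι → Sh J) (c : Cofan F) (_ : IsColimit c)
    (s : ∀ i, P.obj (op (F i))), ∃! p : P.obj (op c.pt), ∀ i, res P (c.inj i) p = s i

/-- `P` turns coequalizers into equalizers. -/
def TurnsCoeq : Prop := ∀ {A B Q : Sh J} (a b : A ⟶ B) (q : B ⟶ Q) (w : a ≫ q = b ≫ q)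
    (_ : IsColimit (Cofork.ofπ q w)) (s : P.obj (op B)), res P a s = res P b s →
      ∃! p : P.obj (op Q), res P q p = s

variable {P}

theorem res_sigma_ext (h1 : TurnsProd P) {ι : Type u} (F : ι → Sh J) (t t' : P.obj (op (∐ F)))
    (h : ∀ i, res P (Sigma.ι F i) t = res P (Sigma.ι F i) t') : t = t' := by
  obtain ⟨t₀, _, ht₀⟩ := h1 F (Cofan.mk (∐ F) (Sigma.ι F)) (coproductIsCoproduct F)
    (fun i => res P (Sigma.ι F i) t)
  rw [ht₀ t (fun i => rfl), ht₀ t' (fun i => (h i).symm)]

theorem sep_of_turns (h1 : TurnsProd P) (h2 : TurnsCoeq P) {Y : Sh J} {κ : Type u}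
    {G : κ → Sh J} (ρ : ∀ k, G k ⟶ Y) (hρ : JE ρ) (p p' : P.obj (op Y))
    (h : ∀ k, res P (ρ k) p = res P (ρ k) p') : p = p' := by
  obtain ⟨hc⟩ := pres_isColimit ρ hρ
  have hσ : res P (Sigma.desc ρ) p = res P (Sigma.desc ρ) p' := by
    apply res_sigma_ext h1
    intro k
    rw [← res_comp, ← res_comp, Sigma.ι_desc]
    exact h k
  obtain ⟨t, _, ht⟩ := h2 _ _ (Sigma.desc ρ) (pres_w ρ) hc (res P (Sigma.desc ρ) p)
    (by rw [← res_comp, ← res_comp, pres_w])
  rw [ht p rfl, ht p' hσ.symm]

theorem glue_of_turns (h1 : TurnsProd P) (h2 : TurnsCoeq P) {X : Sh J} {ι : Type u}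
    {F : ι → Sh J} (π : ∀ i, F i ⟶ X) (hπ : JE π) (s : ∀ i, P.obj (op (F i)))
    (hs : ∀ i j, res P (pullback.fst (π i) (π j)) (s i) =
      res P (pullback.snd (π i) (π j)) (s j)) :
    ∃ p : P.obj (op X), ∀ i, res P (π i) p = s i := by
  obtain ⟨hc⟩ := pres_isColimit π hπ
  obtain ⟨t, ht, -⟩ := h1 F (Cofan.mk (∐ F) (Sigma.ι F)) (coproductIsCoproduct F) s
  have ht' : ∀ i, res P (Sigma.ι F i) t = s i := ht
  have key : res P (presA π) t = res P (presB π) t := by
    apply res_sigma_ext h1
    rintro ⟨i, j⟩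
    rw [← res_comp, ← res_comp]
    unfold presA presB
    rw [Sigma.ι_desc, Sigma.ι_desc, res_comp, res_comp, ht', ht']
    exact hs i j
  obtain ⟨p, hp, -⟩ := h2 _ _ (Sigma.desc π) (pres_w π) hc t key
  refine ⟨p, fun i => ?_⟩
  have h3 : π i = Sigma.ι F i ≫ Sigma.desc π := (Sigma.ι_desc π i).symm
  have hp' : res P (Sigma.desc π) p = t := hp
  rw [h3, res_comp, hp', ht']

theorem isSheaf_of_turns (h1 : TurnsProd P) (h2 : TurnsCoeq P) :
    Presieve.IsSheaf (Sheaf.canonicalTopology (Sh J)) P := by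
  intro X S hS
  have hJE := JE_of_mem_canonical S hS
  intro x hx
  obtain ⟨t, ht⟩ := glue_of_turns h1 h2 (fun p : RepMem S => secMap p.1.2) hJE
    (fun p => x _ p.2)
    (fun p q => hx (pullback.fst _ _) (pullback.snd _ _) p.2 q.2 pullback.condition)
  refine ⟨t, ?_, ?_⟩
  · intro W g hg
    apply sep_of_turns h1 h2 (fun p : RepMem S => pullback.snd (secMap p.1.2) g)
      (hJE.pullback g (fun p => pullback.fst (secMap p.1.2) g) _
        (fun p => IsPullback.of_hasPullback _ _))
    intro p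
    show res P (pullback.snd (secMap p.1.2) g) (res P g t) =
      res P (pullback.snd (secMap p.1.2) g) (x g hg)
    rw [← res_comp, ← pullback.condition, res_comp, ht p]
    exact hx (pullback.fst _ g) (pullback.snd _ g) p.2 hg pullback.condition
  · intro t' ht'
    apply sep_of_turns h1 h2 _ hJE
    intro p
    rw [ht p]
    exact ht' _ p.2

end Res

end Groth.Agent.Lib.Lead.CanTop
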