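import Mathlib
import Groth.Agent.Lib.Lead.CanTop1

/-!
# The canonical topology of a sheaf topos, part 2

Sheaves for the canonical topology of `Sh J` turn small colimits into limits.
-/

set_option autoImplicit false
open CategoryTheory CategoryTheory.Limits Opposite
universe u w w' v w₁ w₂

namespace Groth.Agent.Lib.Lead.CanTop
open _root_.ToposFin Groth.Agent.Lib.Lead.ToposFin

variable {C : Type u} [SmallCategory C] {J : GrothendieckTopology C}

theorem isColimit_eq_eqvGen {I : Type w₁} [Category.{w₂} I] {F : I ⥤ Type u} [HasColimit F]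
    {t : Cocone F}
    (ht : IsColimit t) {i j : I} (x : F.obj i) (y : F.obj j)
    (h : t.ι.app i x = t.ι.app j y) :
    Relation.EqvGen F.ColimitTypeRel ⟨i, x⟩ ⟨j, y⟩ := by
  apply Limits.Types.colimit_eq
  have hi := ConcreteCategory.congr_hom (colimit.isoColimitCocone_ι_inv ⟨t, ht⟩ i) x
  have hj := ConcreteCategory.congr_hom (colimit.isoColimitCocone_ι_inv ⟨t, ht⟩ j) y
  rw [ConcreteCategory.comp_apply] at hi hj
  rw [← hi, ← hj]
  exact congrArg _ h

/-- two sections which agree in a colimit of sheaves are locally connected by a zigzag -/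
theorem eq_locally {I : Type w₁} [Category.{w₂} I] [HasColimitsOfShape I (Type u)]
    (D : I ⥤ Sh J) (c : Cocone D)
    (hc : IsColimit c) {U : C} {i j : I}
    (x : (D.obj i).obj.obj (op U)) (y : (D.obj j).obj.obj (op U))
    (h : (c.ι.app i).hom.app _ x = (c.ι.app j).hom.app _ y) :
    ∃ S : Sieve U, S ∈ J U ∧ ∀ ⦃V : C⦄ (g : V ⟶ U), S g →
      Relation.EqvGen ((D ⋙ sheafToPresheaf J (Type u)) ⋙
          (evaluation Cᵒᵖ (Type u)).obj (op V)).ColimitTypeRel
        ⟨i, (D.obj i).obj.map g.op x⟩ ⟨j, (D.obj j).obj.map g.op y⟩ := by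
  let E := colimit.cocone (D ⋙ sheafToPresheaf J (Type u))
  have hE : IsColimit E := colimit.isColimit _
  have hc' := Sheaf.isColimitSheafifyCocone E hE
  let e := hc.coconePointUniqueUpToIso hc'
  have he : ∀ k, c.ι.app k ≫ e.hom = (Sheaf.sheafifyCocone E).ι.app k := fun k =>
    IsColimit.comp_coconePointUniqueUpToIso_hom hc hc' k
  have h1 : ((Sheaf.sheafifyCocone E).ι.app i).hom.app (op U) x =
      ((Sheaf.sheafifyCocone E).ι.app j).hom.app (op U) y := by
    rw [← he i, ← he j]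
    exact congrArg (e.hom.hom.app (op U)) h
  rw [Sheaf.sheafifyCocone_ι_app_val, Sheaf.sheafifyCocone_ι_app_val] at h1
  have h2 : (toSheafify J E.pt).app (op U) ((E.ι.app i).app (op U) x) =
      (toSheafify J E.pt).app (op U) ((E.ι.app j).app (op U) y) := h1
  refine ⟨_, Presheaf.equalizerSieve_mem J (toSheafify J E.pt) (X := op U) _ _ h2, ?_⟩
  intro V g hg
  have hg' : E.pt.map g.op ((E.ι.app i).app (op U) x) = E.pt.map g.op ((E.ι.app j).app (op U) y) :=
    hg
  have n1 := NatTrans.naturality_apply (E.ι.app i) g.op x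
  have n2 := NatTrans.naturality_apply (E.ι.app j) g.op y
  have h3 : (E.ι.app i).app (op V) ((D.obj i).obj.map g.op x) =
      (E.ι.app j).app (op V) ((D.obj j).obj.map g.op y) := n1.trans (hg'.trans n2.symm)
  have hV : IsColimit (((evaluation Cᵒᵖ (Type u)).obj (op V)).mapCocone E) :=
    isColimitOfPreserves _ hE
  exact isColimit_eq_eqvGen hV _ _ h3

section Res
variable (P : (Sh J)ᵒᵖ ⥤ Type w)

/-- `P` turns the cocone `c` into a limit cone (elementwise). -/
def Turns {I : Type w₁} [Category.{w₂} I] (D : I ⥤ Sh J) (c : Cocone D) : Prop :=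
  ∀ s : ∀ i, P.obj (op (D.obj i)), (∀ i j (f : i ⟶ j), res P (D.map f) (s j) = s i) →
    ∃! p : P.obj (op c.pt), ∀ i, res P (c.ι.app i) p = s i

variable {P}

theorem sep_of_isSheaf (hP : Presieve.IsSheaf (Sheaf.canonicalTopology (Sh J)) P) {Y : Sh J}
    {κ : Type u} {G : κ → Sh J} (ρ : ∀ k, G k ⟶ Y) (hρ : JE ρ) (p p' : P.obj (op Y))
    (h : ∀ k, res P (ρ k) p = res P (ρ k) p') : p = p' := by
  have hS : Sieve.generate (Presieve.ofArrows G ρ) ∈ Sheaf.canonicalTopology (Sh J) Y :=
    mem_canonical_of_JE _ ρ hρ (fun k => ⟨_, 𝟙 _, _, Presieve.ofArrows.mk k, Category.id_comp _⟩)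
  apply (hP _ hS).isSeparatedFor.ext
  rintro W g ⟨W', a, b, hb, rfl⟩
  obtain ⟨k⟩ := hb
  show res P (a ≫ ρ k) p = res P (a ≫ ρ k) p'
  rw [res_comp, res_comp, h k]

theorem eqvGen_res {I : Type w₁} [Category.{w₂} I] (D : I ⥤ Sh J)
    (s : ∀ i, P.obj (op (D.obj i))) (hs : ∀ i j (f : i ⟶ j), res P (D.map f) (s j) = s i)
    {V : C} {p q : Σ i, ((D ⋙ sheafToPresheaf J (Type u)) ⋙
          (evaluation Cᵒᵖ (Type u)).obj (op V)).obj i}
    (h : Relation.EqvGen ((D ⋙ sheafToPresheaf J (Type u)) ⋙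
          (evaluation Cᵒᵖ (Type u)).obj (op V)).ColimitTypeRel p q) :
    res P (secMap (Z := D.obj p.1) p.2) (s p.1) = res P (secMap (Z := D.obj q.1) q.2) (s q.1) := by
  induction h with
  | rel p q hpq =>
    obtain ⟨i, x⟩ := p
    obtain ⟨j, y⟩ := q
    obtain ⟨f, hf⟩ : ∃ f : i ⟶ j, y = (D.map f).hom.app (op V) x := hpq
    subst hf
    show res P (secMap x) (s i) = res P (secMap ((D.map f).hom.app (op V) x)) (s j)
    rw [← secMap_comp, res_comp, hs]
  | refl => rfl
  | symm _ _ _ ih => exact ih.symm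
  | trans _ _ _ _ _ ih1 ih2 => exact ih1.trans ih2

theorem turns_of_isSheaf (hP : Presieve.IsSheaf (Sheaf.canonicalTopology (Sh J)) P)
    {I : Type w₁} [Category.{w₂} I] [HasColimitsOfShape I (Type u)] [Small.{u} I]
    (D : I ⥤ Sh J) (c : Cocone D) (hc : IsColimit c) :
    Turns P D c := by
  intro s hs
  have hJE : JE (fun k : Shrink.{u} I => c.ι.app ((equivShrink I).symm k)) :=
    JE.of_hom_ext (fun Z a b hab => hc.hom_ext (fun i => by
      have h0 := hab (equivShrink I i)
      rw [Equiv.symm_apply_apply] at h0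
      exact h0))
  have hS : Sieve.generate (Presieve.ofArrows (fun i => D.obj i) (fun i => c.ι.app i)) ∈
      Sheaf.canonicalTopology (Sh J) c.pt :=
    mem_canonical_of_JE _ _ hJE (fun k => ⟨_, 𝟙 _, _,
      Presieve.ofArrows.mk ((equivShrink I).symm k), Category.id_comp _⟩)
  have hsf := hP _ hS
  rw [← Presieve.isSheafFor_iff_generate, Presieve.isSheafFor_arrows_iff] at hsf
  have hcompat : Presieve.Arrows.Compatible P (fun i => c.ι.app i) s := by
    intro i j W a b hab
    show res P a (s i) = res P b (s j)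
    have hκ : JE (fun q : {q : Σ V : C, W.obj.obj (op V) //
        Relation.EqvGen ((D ⋙ sheafToPresheaf J (Type u)) ⋙
          (evaluation Cᵒᵖ (Type u)).obj (op q.1)).ColimitTypeRel
            ⟨i, a.hom.app _ q.2⟩ ⟨j, b.hom.app _ q.2⟩} => secMap q.1.2) := by
      intro U w
      have hw : (c.ι.app i).hom.app _ (a.hom.app _ w) =
          (c.ι.app j).hom.app _ (b.hom.app _ w) :=
        congrArg (fun m => m.hom.app (op U) w) hab
      obtain ⟨S', hS', hS''⟩ := eq_locally D c hc _ _ hw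
      refine J.superset_covering ?_ hS'
      intro V g hg
      have h4 := hS'' g hg
      rw [← NatTrans.naturality_apply a.hom g.op w, ← NatTrans.naturality_apply b.hom g.op w] at h4
      refine ⟨⟨⟨V, W.obj.map g.op w⟩, h4⟩, unitSec J (𝟙 V), ?_⟩
      rw [secMap_unitSec]
      simp
    apply sep_of_isSheaf hP _ hκ
    rintro ⟨⟨V, w⟩, hq⟩
    show res P (secMap w) (res P a (s i)) = res P (secMap w) (res P b (s j))
    rw [← res_comp, ← res_comp, secMap_comp, secMap_comp]
    exact eqvGen_res D s hs hq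
  exact hsf s hcompat

theorem turnsProd_of_preservesLimits (P : (Sh J)ᵒᵖ ⥤ Type w) [PreservesLimitsOfSize.{u, u} P] :
    TurnsProd P := by
  intro ι F c hc s
  have hl : IsLimit (P.mapCone c.op) := isLimitOfPreserves P (Cofan.IsColimit.op hc)
  have h1 := (Types.isLimit_iff (P.mapCone c.op)).1 ⟨hl⟩ (fun j => s j.as) (by
    rintro ⟨i⟩ ⟨j⟩ f
    obtain rfl : i = j := Discrete.eq_of_hom f
    have hf : f = 𝟙 _ := Subsingleton.elim _ _
    subst hf
    rw [CategoryTheory.Functor.map_id]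
    rfl)
  obtain ⟨p, hp, hp'⟩ := h1
  exact ⟨p, fun i => hp ⟨i⟩, fun p' hp'' => hp' p' (fun j => hp'' j.as)⟩

theorem turnsCoeq_of_preservesLimits (P : (Sh J)ᵒᵖ ⥤ Type w) [PreservesLimitsOfSize.{u, u} P] :
    TurnsCoeq P := by
  intro A B Q a b q w hq s hs
  have w' : q.op ≫ a.op = q.op ≫ b.op := by rw [← op_comp, ← op_comp, w]
  have hl : IsLimit (Fork.ofι q.op w') := Cofork.isColimitOfπEquivIsLimitOp q q w w' rfl hq
  have : PreservesLimitsOfSize.{0, 0} P := preservesSmallestLimits_of_preservesLimits P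
  have hl3 := isLimitForkMapOfIsLimit P w' hl
  exact Types.unique_of_type_equalizer _ _ hl3 s hs

theorem preservesLimits_of_turns {E' : Type v} [Category.{w} E'] (F : (Sh J)ᵒᵖ ⥤ E')
    (h : ∀ (T : E') {I : Type u} [SmallCategory I] (D : I ⥤ Sh J) (c : Cocone D),
      IsColimit c → Turns (F ⋙ coyoneda.obj (op T)) D c) :
    PreservesLimitsOfSize.{u, u} F := by
  refine ⟨fun {K} _ => ⟨fun {G} => ?_⟩⟩
  let c := colimit.cocone G.leftOp
  have hc : IsColimit c := colimit.isColimit _
  have ht : IsLimit (coneOfCoconeLeftOp c) := isLimitConeOfCoconeLeftOp G hc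
  refine preservesLimit_of_preserves_limit_cone ht ?_
  refine coyonedaJointlyReflectsLimits _ _ (fun T => ?_)
  refine Nonempty.some ?_
  rw [Types.isLimit_iff]
  intro s hs
  have h1 := h T.unop G.leftOp c hc (fun i => s i.unop) (by
    intro i j f
    exact hs f.unop)
  obtain ⟨p, hp, hp'⟩ := h1
  exact ⟨p, fun k => hp (op k), fun p' hp'' => hp' p' (fun i => hp'' i.unop)⟩

end Res

end Groth.Agent.Lib.Lead.CanTop
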