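import Mathlib

/-!
# Left exact reflective subcategories of presheaf categories and topologies

For `P` a strictly full reflective subcategory of `Cᵒᵖ ⥤ Type u` with left exact reflector `a`,
the sieves inverted by `a` form the topology `finestTopology {F | P F}`, and its sheaves are exactly
the objects of `P`.
-/

set_option autoImplicit false
open CategoryTheory CategoryTheory.Limits Opposite
universe u

namespace Groth.Agent.Lib.Lead.LexRefl

section
variable {C : Type u} [SmallCategory C] (P : ObjectProperty (Cᵒᵖ ⥤ Type u))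
  [P.IsClosedUnderIsomorphisms] [Reflective P.ι] [PreservesFiniteLimits (reflector P.ι)]

lemma isIso_map_iff {G₁ G₂ : Cᵒᵖ ⥤ Type u} (φ : G₁ ⟶ G₂) :
    IsIso ((reflector P.ι).map φ) ↔
      ∀ F : Cᵒᵖ ⥤ Type u, P F → Function.Bijective (fun g : G₂ ⟶ F => φ ≫ g) := by
  have adj := reflectorAdjunction P.ι
  rw [isIso_iff_coyoneda_map_bijective]
  constructor
  · intro h F hF
    obtain ⟨F', hF'⟩ : ∃ F' : P.FullSubcategory, P.ι.obj F' = F := ⟨⟨F, hF⟩, rfl⟩
    subst hF'
    have h1 := h F'
    have e : (fun g : G₂ ⟶ P.ι.obj F' => φ ≫ g) =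
        (adj.homEquiv G₁ F') ∘ (fun x => (reflector P.ι).map φ ≫ x) ∘
          (adj.homEquiv G₂ F').symm := by
      funext g
      simp only [Function.comp_apply]
      rw [adj.homEquiv_naturality_left, Equiv.apply_symm_apply]
    rw [e]
    exact (adj.homEquiv _ _).bijective.comp (h1.comp (adj.homEquiv _ _).symm.bijective)
  · intro h T
    have h1 := h (P.ι.obj T) T.property
    have e : (fun x : (reflector P.ι).obj G₂ ⟶ T => (reflector P.ι).map φ ≫ x) =
        (adj.homEquiv G₁ T).symm ∘ (fun g : G₂ ⟶ P.ι.obj T => φ ≫ g) ∘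
          (adj.homEquiv G₂ T) := by
      funext x
      simp only [Function.comp_apply]
      rw [← adj.homEquiv_naturality_left, Equiv.symm_apply_apply]
    rw [e]
    exact (adj.homEquiv _ _).symm.bijective.comp (h1.comp (adj.homEquiv _ _).bijective)

omit [P.IsClosedUnderIsomorphisms] [Reflective P.ι] [PreservesFiniteLimits (reflector P.ι)] in
/-- The top map of the pullback square of sieve functors. -/
def pbTop {X Y : C} (S : Sieve X) (f : Y ⟶ X) : (S.pullback f).functor ⟶ S.functor where
  app Z := TypeCat.ofHom (fun g => (⟨g.1 ≫ f, g.2⟩ : {g : Z.unop ⟶ X // S g}))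
  naturality := by
    intro Z W h
    apply ConcreteCategory.hom_ext
    intro g
    apply Subtype.ext
    exact Category.assoc _ _ _

lemma isPullback_pb {X Y : C} (S : Sieve X) (f : Y ⟶ X) :
    IsPullback (pbTop S f) (S.pullback f).functorInclusion S.functorInclusion (yoneda.map f) := by
  refine IsPullback.of_forall_isPullback_app fun Z => ?_
  rw [Types.isPullback_iff]
  refine ⟨?_, ?_, ?_⟩
  · apply ConcreteCategory.hom_ext
    intro g
    rfl
  · rintro g₁ g₂ ⟨-, h⟩
    exact Subtype.ext h
  · intro s g h
    have hg : S (g ≫ f) := by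
      have : s.1 = g ≫ f := h
      rw [← this]
      exact s.2
    exact ⟨⟨g, hg⟩, Subtype.ext h.symm, rfl⟩

lemma isIso_pullback {X Y : C} (S : Sieve X) (f : Y ⟶ X)
    (h : IsIso ((reflector P.ι).map S.functorInclusion)) :
    IsIso ((reflector P.ι).map (S.pullback f).functorInclusion) := by
  have sq := (isPullback_pb S f).map (reflector P.ι)
  exact sq.isIso_snd_of_isIso

/-- The topology. -/
def topology : GrothendieckTopology C := Sheaf.finestTopology {F | P F}

lemma mem_topology_iff {X : C} (S : Sieve X) :
    S ∈ topology P X ↔ IsIso ((reflector P.ι).map S.functorInclusion) := by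
  constructor
  · intro hS
    rw [isIso_map_iff]
    intro F hF
    have h1 : Presieve.IsSheafFor F S.arrows :=
      Sheaf.sheaf_for_finestTopology {F | P F} hF S hS
    rw [Presieve.isSheafFor_iff_yonedaSheafCondition] at h1
    rw [Function.bijective_iff_existsUnique]
    exact h1
  · intro h
    apply Sheaf.mem_finestTopology_of_forall_isSheafFor
    intro F hF Y f
    rw [Presieve.isSheafFor_iff_yonedaSheafCondition]
    have h2 := (isIso_map_iff P _).1 (isIso_pullback P S f h) F hF
    rw [Function.bijective_iff_existsUnique] at h2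
    exact h2

lemma isSheaf_of_prop (F : Cᵒᵖ ⥤ Type u) (hF : P F) : Presieve.IsSheaf (topology P) F :=
  Sheaf.sheaf_for_finestTopology {F | P F} hF

/-- Equalizer sieves of sections identified by a morphism inverted by `a` are covering. -/
lemma isIso_equalizerSieve {F G : Cᵒᵖ ⥤ Type u} (η : F ⟶ G)
    (hη : IsIso ((reflector P.ι).map η))
    {X : C} (x y : F.obj (op X)) (h : η.app (op X) x = η.app (op X) y) :
    IsIso ((reflector P.ι).map
      (Presheaf.equalizerSieve (F := F) (X := op X) x y).functorInclusion) := by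
  obtain ⟨E, hE⟩ : ∃ E : Sieve X, E = Presheaf.equalizerSieve (F := F) (X := op X) x y :=
    ⟨_, rfl⟩
  rw [← hE]
  have hEmem : ∀ {Z : C} (g : Z ⟶ X), E g ↔ F.map g.op x = F.map g.op y := by
    intro Z g; rw [hE]; rfl
  let xh : yoneda.obj X ⟶ F := yonedaEquiv.symm x
  let yh : yoneda.obj X ⟶ F := yonedaEquiv.symm y
  have w : E.functorInclusion ≫ xh = E.functorInclusion ≫ yh := by
    ext Z g
    exact (hEmem g.1).1 g.2
  have hlim : IsLimit (Fork.ofι E.functorInclusion w) := by
    refine Fork.IsLimit.mk _ (fun s => ?_) (fun s => ?_) (fun s m hm => ?_)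
    · refine
        { app := fun Z => TypeCat.ofHom (fun t => (⟨s.ι.app Z t, ?_⟩ : {g : Z.unop ⟶ X // E g}))
          naturality := ?_ }
      · rw [hEmem]
        have h0 := ConcreteCategory.congr_hom (NatTrans.congr_app s.condition Z) t
        simp only [NatTrans.comp_app, ConcreteCategory.comp_apply] at h0
        exact h0
      · intro Z W k
        apply ConcreteCategory.hom_ext
        intro t
        apply Subtype.ext
        exact NatTrans.naturality_apply s.ι k t
    · ext Z t
      rfl
    · rw [← cancel_mono E.functorInclusion]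
      have hm' : m ≫ E.functorInclusion = s.ι := hm
      rw [hm']
      ext Z t
      rfl
  have hxy : xh ≫ η = yh ≫ η := by
    apply yonedaEquiv.injective
    rw [yonedaEquiv_comp, yonedaEquiv_comp]
    simpa [xh, yh] using h
  have hEq : (reflector P.ι).map xh = (reflector P.ι).map yh := by
    rw [← cancel_mono ((reflector P.ι).map η), ← Functor.map_comp, ← Functor.map_comp, hxy]
  have hl2 := isLimitForkMapOfIsLimit (reflector P.ι) w hlim
  exact isIso_limit_cone_parallelPair_of_eq hEq hl2

omit [P.IsClosedUnderIsomorphisms] in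
/-- Image sieves of sections along a morphism inverted by `a` are covering. -/
lemma isIso_imageSieve {F G : Cᵒᵖ ⥤ Type u} (η : F ⟶ G)
    (hη : IsIso ((reflector P.ι).map η))
    {X : C} (s : G.obj (op X)) :
    IsIso ((reflector P.ι).map (Presheaf.imageSieve η s).functorInclusion) := by
  obtain ⟨I, hI⟩ : ∃ I : Sieve X, I = Presheaf.imageSieve η s := ⟨_, rfl⟩
  rw [← hI]
  have hImem : ∀ {Z : C} (g : Z ⟶ X), I g ↔ ∃ t : F.obj (op Z), η.app _ t = G.map g.op s := by
    intro Z g; rw [hI]; rfl
  let sh : yoneda.obj X ⟶ G := yonedaEquiv.symm s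
  have sq : IsPullback (pullback.fst sh η) (pullback.snd sh η) sh η := IsPullback.of_hasPullback _ _
  have h1 : IsIso ((reflector P.ι).map (pullback.fst sh η)) :=
    (sq.map (reflector P.ι)).isIso_fst_of_isIso
  let q : pullback sh η ⟶ I.functor :=
    { app := fun Z => TypeCat.ofHom (fun t =>
        (⟨(pullback.fst sh η).app Z t, (hImem _).2 ⟨(pullback.snd sh η).app Z t,
          (ConcreteCategory.congr_hom (NatTrans.congr_app sq.w Z) t).symm⟩⟩ : {g : Z.unop ⟶ X // I g}))
      naturality := by
        intro Z W k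
        apply ConcreteCategory.hom_ext
        intro t
        apply Subtype.ext
        exact NatTrans.naturality_apply (pullback.fst sh η) k t }
  have hq : q ≫ I.functorInclusion = pullback.fst sh η := by
    ext Z t
    rfl
  have : Mono ((reflector P.ι).map I.functorInclusion) := inferInstance
  have : IsSplitEpi ((reflector P.ι).map I.functorInclusion) :=
    IsSplitEpi.mk' ⟨inv ((reflector P.ι).map (pullback.fst sh η)) ≫ (reflector P.ι).map q, by
      rw [Category.assoc, ← Functor.map_comp, hq, IsIso.inv_hom_id]⟩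
  exact isIso_of_mono_of_isSplitEpi _

lemma prop_of_isSheaf (F : Cᵒᵖ ⥤ Type u) (hF : Presieve.IsSheaf (topology P) F) : P F := by
  have adj := reflectorAdjunction P.ι
  obtain ⟨η, hη⟩ : ∃ η : F ⟶ P.ι.obj ((reflector P.ι).obj F), η = adj.unit.app F := ⟨_, rfl⟩
  have haη : IsIso ((reflector P.ι).map η) := by
    have h1 : (reflector P.ι).map η ≫ adj.counit.app ((reflector P.ι).obj F) = 𝟙 _ := by
      rw [hη]; exact adj.left_triangle_components F
    have : IsIso ((reflector P.ι).map η ≫ adj.counit.app ((reflector P.ι).obj F)) := by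
      rw [h1]; infer_instance
    exact IsIso.of_isIso_comp_right _ (adj.counit.app ((reflector P.ι).obj F))
  have hinj : Presheaf.IsLocallyInjective (topology P) η := by
    refine ⟨fun {X} x y h => ?_⟩
    rw [mem_topology_iff]
    exact isIso_equalizerSieve P η haη (X := X.unop) x y h
  have hsurj : Presheaf.IsLocallySurjective (topology P) η := by
    refine ⟨fun {U} s => ?_⟩
    rw [mem_topology_iff]
    exact isIso_imageSieve P η haη s
  have hG : Presieve.IsSheaf (topology P) (P.ι.obj ((reflector P.ι).obj F)) :=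
    isSheaf_of_prop P _ ((reflector P.ι).obj F).property
  let Fs : Sheaf (topology P) (Type u) := ⟨F, (isSheaf_iff_isSheaf_of_type _ F).2 hF⟩
  let Gs : Sheaf (topology P) (Type u) := ⟨_, (isSheaf_iff_isSheaf_of_type _ _).2 hG⟩
  let ηs : Fs ⟶ Gs := ⟨η⟩
  have h3 : IsIso ηs := (Sheaf.isLocallyBijective_iff_isIso ηs).1 ⟨hinj, hsurj⟩
  have h4 : IsIso η := by
    have := (sheafToPresheaf (topology P) (Type u)).map_isIso ηs
    exact this
  exact P.prop_of_iso (asIso η).symm ((reflector P.ι).obj F).property

end

end Groth.Agent.Lib.Lead.LexRefl
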