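import Mathlib
import Groth.Prelude.Def_SGA4a
import Groth.Agent.Lib.Lead.LexRefl

/-!
# Left exact reflective subcategories of presheaf categories are topoi

General version of `LexRefl`: for an adjunction `a ⊣ i` with `i : B ⥤ (Cᵒᵖ ⥤ Type u)` fully faithful
and `a` left exact, `B` is equivalent to the category of sheaves for the finest topology making all
`i.obj T` sheaves.
-/

set_option autoImplicit false
open CategoryTheory CategoryTheory.Limits Opposite
universe w v u

namespace Groth.Agent.Lib.Lead.LexRefl2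

open Groth.Agent.Lib.Lead.LexRefl

section
variable {C : Type u} [SmallCategory C] {B : Type v} [Category.{w} B]
  {a : (Cᵒᵖ ⥤ Type u) ⥤ B} {i : B ⥤ (Cᵒᵖ ⥤ Type u)} (adj : a ⊣ i)

include adj in
lemma isIso_map_iff {G₁ G₂ : Cᵒᵖ ⥤ Type u} (φ : G₁ ⟶ G₂) :
    IsIso (a.map φ) ↔ ∀ T : B, Function.Bijective (fun g : G₂ ⟶ i.obj T => φ ≫ g) := by
  rw [isIso_iff_coyoneda_map_bijective]
  refine forall_congr' fun T => ?_
  have e : (fun x : a.obj G₂ ⟶ T => a.map φ ≫ x) =
      (adj.homEquiv G₁ T).symm ∘ (fun g : G₂ ⟶ i.obj T => φ ≫ g) ∘ (adj.homEquiv G₂ T) := by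
    funext x
    simp only [Function.comp_apply]
    rw [← adj.homEquiv_naturality_left, Equiv.symm_apply_apply]
  rw [e, Equiv.comp_bijective, Equiv.bijective_comp]

lemma isIso_pullback [PreservesFiniteLimits a] {X Y : C} (S : Sieve X) (f : Y ⟶ X)
    (h : IsIso (a.map S.functorInclusion)) :
    IsIso (a.map (S.pullback f).functorInclusion) := by
  have sq := (isPullback_pb S f).map a
  exact sq.isIso_snd_of_isIso

variable (i) in
/-- The topology. -/
def topology : GrothendieckTopology C := Sheaf.finestTopology (Set.range i.obj)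

include adj in
lemma mem_topology_iff [PreservesFiniteLimits a] {X : C} (S : Sieve X) :
    S ∈ topology i X ↔ IsIso (a.map S.functorInclusion) := by
  constructor
  · intro hS
    rw [isIso_map_iff adj]
    intro T
    have h1 : Presieve.IsSheafFor (i.obj T) S.arrows :=
      Sheaf.sheaf_for_finestTopology (Set.range i.obj) ⟨T, rfl⟩ S hS
    rw [Presieve.isSheafFor_iff_yonedaSheafCondition] at h1
    rw [Function.bijective_iff_existsUnique]
    exact h1
  · intro h
    apply Sheaf.mem_finestTopology_of_forall_isSheafFor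
    rintro F ⟨T, rfl⟩ Y f
    rw [Presieve.isSheafFor_iff_yonedaSheafCondition]
    have h2 := (isIso_map_iff adj _).1 (isIso_pullback S f h) T
    rw [Function.bijective_iff_existsUnique] at h2
    exact h2

lemma isSheaf_obj (T : B) : Presieve.IsSheaf (topology i) (i.obj T) :=
  Sheaf.sheaf_for_finestTopology (Set.range i.obj) ⟨T, rfl⟩

/-- Equalizer sieves of sections identified by a morphism inverted by `a` are covering. -/
lemma isIso_equalizerSieve [PreservesFiniteLimits a] {F G : Cᵒᵖ ⥤ Type u} (η : F ⟶ G)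
    (hη : IsIso (a.map η))
    {X : C} (x y : F.obj (op X)) (h : η.app (op X) x = η.app (op X) y) :
    IsIso (a.map
      (Presheaf.equalizerSieve (F := F) (X := op X) x y).functorInclusion) := by
  obtain ⟨E, hE⟩ : ∃ E : Sieve X, E = Presheaf.equalizerSieve (F := F) (X := op X) x y :=
    ⟨_, rfl⟩
  rw [← hE]
  have hEmem : ∀ {Z : C} (g : Z ⟶ X), E g ↔ F.map g.op x = F.map g.op y := by
    intro Z g; rw [hE]; rfl
  let xh : yoneda.obj X ⟶ F := yonedaEquiv.symm x
  let yh : yoneda.obj X ⟶ F := yonedaEquiv.symm y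
  have w : E.functorInclusion ≫ xh = E.functorInclusion ≫ yh := by
    ext Z g
    exact (hEmem g.1).1 g.2
  have hlim : IsLimit (Fork.ofι E.functorInclusion w) := by
    refine Fork.IsLimit.mk _ (fun s => ?_) (fun s => ?_) (fun s m hm => ?_)
    · refine
        { app := fun Z => TypeCat.ofHom (fun t => (⟨s.ι.app Z t, ?_⟩ : {g : Z.unop ⟶ X // E g}))
          naturality := ?_ }
      · rw [hEmem]
        have h0 := ConcreteCategory.congr_hom (NatTrans.congr_app s.condition Z) t
        simp only [NatTrans.comp_app, ConcreteCategory.comp_apply] at h0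
        exact h0
      · intro Z W k
        apply ConcreteCategory.hom_ext
        intro t
        apply Subtype.ext
        exact NatTrans.naturality_apply s.ι k t
    · ext Z t
      rfl
    · rw [← cancel_mono E.functorInclusion]
      have hm' : m ≫ E.functorInclusion = s.ι := hm
      rw [hm']
      ext Z t
      rfl
  have hxy : xh ≫ η = yh ≫ η := by
    apply yonedaEquiv.injective
    rw [yonedaEquiv_comp, yonedaEquiv_comp]
    simpa [xh, yh] using h
  have hEq : a.map xh = a.map yh := by
    rw [← cancel_mono (a.map η), ← Functor.map_comp, ← Functor.map_comp, hxy]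
  have hl2 := isLimitForkMapOfIsLimit a w hlim
  exact isIso_limit_cone_parallelPair_of_eq hEq hl2

/-- Image sieves of sections along a morphism inverted by `a` are covering. -/
lemma isIso_imageSieve [PreservesFiniteLimits a] {F G : Cᵒᵖ ⥤ Type u} (η : F ⟶ G)
    (hη : IsIso (a.map η))
    {X : C} (s : G.obj (op X)) :
    IsIso (a.map (Presheaf.imageSieve η s).functorInclusion) := by
  obtain ⟨I, hI⟩ : ∃ I : Sieve X, I = Presheaf.imageSieve η s := ⟨_, rfl⟩
  rw [← hI]
  have hImem : ∀ {Z : C} (g : Z ⟶ X), I g ↔ ∃ t : F.obj (op Z), η.app _ t = G.map g.op s := by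
    intro Z g; rw [hI]; rfl
  let sh : yoneda.obj X ⟶ G := yonedaEquiv.symm s
  have sq : IsPullback (pullback.fst sh η) (pullback.snd sh η) sh η := IsPullback.of_hasPullback _ _
  have h1 : IsIso (a.map (pullback.fst sh η)) :=
    (sq.map a).isIso_fst_of_isIso
  let q : pullback sh η ⟶ I.functor :=
    { app := fun Z => TypeCat.ofHom (fun t =>
        (⟨(pullback.fst sh η).app Z t, (hImem _).2 ⟨(pullback.snd sh η).app Z t,
          (ConcreteCategory.congr_hom (NatTrans.congr_app sq.w Z) t).symm⟩⟩ :
            {g : Z.unop ⟶ X // I g}))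
      naturality := by
        intro Z W k
        apply ConcreteCategory.hom_ext
        intro t
        apply Subtype.ext
        exact NatTrans.naturality_apply (pullback.fst sh η) k t }
  have hq : q ≫ I.functorInclusion = pullback.fst sh η := by
    ext Z t
    rfl
  have : Mono (a.map I.functorInclusion) := inferInstance
  have : IsSplitEpi (a.map I.functorInclusion) :=
    IsSplitEpi.mk' ⟨inv (a.map (pullback.fst sh η)) ≫ a.map q, by
      rw [Category.assoc, ← Functor.map_comp, hq, IsIso.inv_hom_id]⟩
  exact isIso_of_mono_of_isSplitEpi _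

include adj in
lemma isIso_unit_of_isSheaf [PreservesFiniteLimits a] [i.Full] [i.Faithful]
    (F : Cᵒᵖ ⥤ Type u) (hF : Presieve.IsSheaf (topology i) F) :
    IsIso (adj.unit.app F) := by
  obtain ⟨η, hη⟩ : ∃ η : F ⟶ i.obj (a.obj F), η = adj.unit.app F := ⟨_, rfl⟩
  rw [← hη]
  have haη : IsIso (a.map η) := by
    have h1 : a.map η ≫ adj.counit.app (a.obj F) = 𝟙 _ := by
      rw [hη]; exact adj.left_triangle_components F
    have : IsIso (a.map η ≫ adj.counit.app (a.obj F)) := by
      rw [h1]; infer_instance
    exact IsIso.of_isIso_comp_right _ (adj.counit.app (a.obj F))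
  have hinj : Presheaf.IsLocallyInjective (topology i) η := by
    refine ⟨fun {X} x y h => ?_⟩
    rw [mem_topology_iff adj]
    exact isIso_equalizerSieve η haη (X := X.unop) x y h
  have hsurj : Presheaf.IsLocallySurjective (topology i) η := by
    refine ⟨fun {U} s => ?_⟩
    rw [mem_topology_iff adj]
    exact isIso_imageSieve η haη s
  have hG : Presieve.IsSheaf (topology i) (i.obj (a.obj F)) := isSheaf_obj _
  let Fs : Sheaf (topology i) (Type u) := ⟨F, (isSheaf_iff_isSheaf_of_type _ F).2 hF⟩
  let Gs : Sheaf (topology i) (Type u) := ⟨_, (isSheaf_iff_isSheaf_of_type _ _).2 hG⟩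
  let ηs : Fs ⟶ Gs := ⟨η⟩
  have h3 : IsIso ηs := (Sheaf.isLocallyBijective_iff_isIso ηs).1 ⟨hinj, hsurj⟩
  have := (sheafToPresheaf (topology i) (Type u)).map_isIso ηs
  exact this

variable (i) in
/-- The comparison functor to sheaves. -/
def toSheaf : B ⥤ Sheaf (topology i) (Type u) :=
  ObjectProperty.lift (Presheaf.IsSheaf (topology i)) i
    (fun T => (isSheaf_iff_isSheaf_of_type _ _).2 (isSheaf_obj T))

instance [i.Full] : (toSheaf i).Full := by
  unfold toSheaf; infer_instance

instance [i.Faithful] : (toSheaf i).Faithful := by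
  unfold toSheaf; infer_instance

include adj in
lemma essSurj_toSheaf [PreservesFiniteLimits a] [i.Full] [i.Faithful] : (toSheaf i).EssSurj := by
  refine ⟨fun F => ⟨a.obj F.obj, ⟨?_⟩⟩⟩
  have h := isIso_unit_of_isSheaf adj F.obj ((isSheaf_iff_isSheaf_of_type _ _).1 F.property)
  have e : i.obj (a.obj F.obj) ≅ F.obj := (asIso (adj.unit.app F.obj)).symm
  exact (fullyFaithfulSheafToPresheaf _ _).preimageIso e

include adj in
lemma isEquivalence_toSheaf [PreservesFiniteLimits a] [i.Full] [i.Faithful] :
    (toSheaf i).IsEquivalence := by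
  have := essSurj_toSheaf adj
  exact { }

end

section
variable {C : Type u} [SmallCategory C] {B : Type v} [Category.{u} B]
  {a : (Cᵒᵖ ⥤ Type u) ⥤ B} {i : B ⥤ (Cᵒᵖ ⥤ Type u)} (adj : a ⊣ i)

include adj in
theorem isTopos [PreservesFiniteLimits a] [i.Full] [i.Faithful] : SGA4.IsTopos B := by
  have := isEquivalence_toSheaf adj
  exact ⟨C, inferInstance, topology i, ⟨(toSheaf i).asEquivalence⟩⟩

end

end Groth.Agent.Lib.Lead.LexRefl2
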