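import Mathlib
import Groth.Agent.Lib.Lead.CanTop2
import Groth.Agent.Lib.Lead.LexRefl2

/-!
# The canonical topology of a sheaf topos, part 3

Functors between sheaf topoi: colimit preservation versus continuity for the canonical topologies,
and existence of right adjoints.
-/

set_option autoImplicit false
open CategoryTheory CategoryTheory.Limits Opposite
universe u w w' v w₁ w₂

namespace Groth.Agent.Lib.Lead.CanTop
open _root_.ToposFin Groth.Agent.Lib.Lead.ToposFin

variable {C : Type u} [SmallCategory C] {J : GrothendieckTopology C}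
variable {D : Type u} [SmallCategory D] {K : GrothendieckTopology D}

section Res
variable {P : (Sh J)ᵒᵖ ⥤ Type w}

theorem res_id {X : Sh J} (p : P.obj (op X)) : res P (𝟙 X) p = p := by
  unfold res
  rw [op_id, CategoryTheory.Functor.map_id]
  rfl

theorem turnsProd_of_turns
    (h : ∀ {ι : Type u} (F : Discrete ι ⥤ Sh J) (c : Cocone F), IsColimit c → Turns P F c) :
    TurnsProd P := by
  intro ι F c hc s
  have h1 := h (Discrete.functor F) c hc (fun i => s i.as) (by
    rintro ⟨i⟩ ⟨j⟩ f
    obtain rfl : i = j := Discrete.eq_of_hom f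
    have hf : f = 𝟙 _ := Subsingleton.elim _ _
    subst hf
    show res P ((Discrete.functor F).map (𝟙 _)) (s i) = s i
    rw [CategoryTheory.Functor.map_id]
    unfold res
    rw [op_id, CategoryTheory.Functor.map_id]
    rfl)
  obtain ⟨p, hp, hp'⟩ := h1
  exact ⟨p, fun i => hp ⟨i⟩, fun p' hp'' => hp' p' (fun i => hp'' i.as)⟩

theorem turnsCoeq_of_turns
    (h : ∀ (F : WalkingParallelPair ⥤ Sh J) (c : Cocone F), IsColimit c → Turns P F c) :
    TurnsCoeq P := by
  intro A B Q a b q w hq sB hs
  have h1 := h (parallelPair a b) (Cofork.ofπ q w) hq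
    (fun i => match i with
      | .zero => (res P a sB : P.obj (op ((parallelPair a b).obj .zero)))
      | .one => (sB : P.obj (op ((parallelPair a b).obj .one))))
    (by
      rintro _ _ (_ | _ | _)
      · rfl
      · exact hs.symm
      · rename_i i
        cases i
        · exact (congrArg (fun m => res P m (res P a sB))
            ((parallelPair a b).map_id .zero)).trans (res_id _)
        · exact (congrArg (fun m => res P m sB)
            ((parallelPair a b).map_id .one)).trans (res_id _))
  obtain ⟨p, hp, hp'⟩ := h1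
  refine ⟨p, hp .one, fun p' hp'' => hp' p' (fun i => ?_)⟩
  cases i
  · show res P (a ≫ q) p' = res P a sB
    rw [res_comp]
    exact congrArg (res P a) hp''
  · exact hp''

end Res

theorem turns_comp (f : Sh J ⥤ Sh K) (P : (Sh K)ᵒᵖ ⥤ Type w) {I : Type w₁} [Category.{w₂} I]
    (F : I ⥤ Sh J) (c : Cocone F) (h : Turns P (F ⋙ f) (f.mapCocone c)) :
    Turns (f.op ⋙ P) F c := by
  intro s hs
  exact h s hs

theorem isSheaf_comp_of_preservesColimits (f : Sh J ⥤ Sh K)
    [∀ ι : Type u, PreservesColimitsOfShape (Discrete ι) f]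
    [PreservesColimitsOfShape WalkingParallelPair f]
    (P : (Sh K)ᵒᵖ ⥤ Type w) (hP : Presieve.IsSheaf (Sheaf.canonicalTopology (Sh K)) P) :
    Presieve.IsSheaf (Sheaf.canonicalTopology (Sh J)) (f.op ⋙ P) := by
  apply isSheaf_of_turns
  · apply turnsProd_of_turns
    intro ι F c hc
    exact turns_comp f P F c (turns_of_isSheaf hP _ _ (isColimitOfPreserves f hc))
  · apply turnsCoeq_of_turns
    intro F c hc
    exact turns_comp f P F c (turns_of_isSheaf hP _ _ (isColimitOfPreserves f hc))

theorem preservesColimits_of_isSheaf_comp (f : Sh J ⥤ Sh K)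
    (h : ∀ Z : Sh K, Presieve.IsSheaf (Sheaf.canonicalTopology (Sh J)) (f.op ⋙ yoneda.obj Z)) :
    PreservesColimitsOfSize.{u, u} f := by
  refine ⟨fun {I} _ => ⟨fun {F} => ?_⟩⟩
  refine preservesColimit_of_preserves_colimit_cocone (colimit.isColimit F) ?_
  refine IsColimit.ofExistsUnique (fun s => ?_)
  have h1 := turns_of_isSheaf (h s.pt) F (colimit.cocone F) (colimit.isColimit F)
    (fun i => s.ι.app i) (by
      intro i j g
      show f.map (F.map g) ≫ s.ι.app j = s.ι.app i
      exact s.w g)
  exact h1

theorem isIso_sheafify_functorInclusion {c : C} (S : Sieve c) (hS : S ∈ J c) :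
    IsIso ((presheafToSheaf J (Type u)).map S.functorInclusion) := by
  rw [LexRefl2.isIso_map_iff (sheafificationAdjunction J (Type u))]
  intro T
  rw [Function.bijective_iff_existsUnique]
  have h1 := ((isSheaf_iff_isSheaf_of_type J _).1 T.property) S hS
  rw [Presieve.isSheafFor_iff_yonedaSheafCondition] at h1
  exact h1

theorem isLeftAdjoint_of_preservesColimits (f : Sh J ⥤ Sh K) [PreservesColimitsOfSize.{u, u} f] :
    f.IsLeftAdjoint := by
  have : PreservesColimitsOfSize.{u, u} (presheafToSheaf J (Type u)) :=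
    (sheafificationAdjunction J (Type u)).leftAdjoint_preservesColimits
  have hL : (presheafToSheaf J (Type u) ⋙ f).IsLeftAdjoint :=
    Presheaf.isLeftAdjoint_of_preservesColimits.{u} (presheafToSheaf J (Type u) ⋙ f)
  let adj := Adjunction.ofIsLeftAdjoint (presheafToSheaf J (Type u) ⋙ f)
  have hR : ∀ Z : Sh K,
      Presheaf.IsSheaf J ((presheafToSheaf J (Type u) ⋙ f).rightAdjoint.obj Z) := by
    intro Z
    rw [isSheaf_iff_isSheaf_of_type]
    intro c S hS
    rw [Presieve.isSheafFor_iff_yonedaSheafCondition]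
    have hiso : IsIso ((presheafToSheaf J (Type u) ⋙ f).map S.functorInclusion) := by
      have := isIso_sheafify_functorInclusion S hS
      exact Functor.map_isIso f _
    have hb := (LexRefl2.isIso_map_iff adj S.functorInclusion).1 hiso Z
    rw [Function.bijective_iff_existsUnique] at hb
    exact hb
  let R' : Sh K ⥤ Sh J :=
    ObjectProperty.lift _ (presheafToSheaf J (Type u) ⋙ f).rightAdjoint hR
  have comm1 : sheafToPresheaf J (Type u) ⋙ (presheafToSheaf J (Type u) ⋙ f) ≅ f ⋙ 𝟭 _ :=
    (Functor.associator _ _ _).symm ≪≫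
      Functor.isoWhiskerRight (asIso (sheafificationAdjunction J (Type u)).counit) f ≪≫
      f.leftUnitor ≪≫ f.rightUnitor.symm
  have comm2 : 𝟭 (Sh K) ⋙ (presheafToSheaf J (Type u) ⋙ f).rightAdjoint ≅
      R' ⋙ sheafToPresheaf J (Type u) :=
    Functor.leftUnitor _
  exact (adj.restrictFullyFaithful (fullyFaithfulSheafToPresheaf J (Type u))
    (Functor.FullyFaithful.id _) comm1 comm2).isLeftAdjoint

end Groth.Agent.Lib.Lead.CanTop
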