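import Groth.Agent.Lib.Lead.CartanExt
import Groth.Agent.Lib.Lead.AdeqModInst

/-!
# Vanishing of higher cohomology of adequate modules on affine objects
-/

set_option autoImplicit false

universe u

open CategoryTheory CategoryTheory.Limits Opposite AlgebraicGeometry

namespace Groth.Agent.Lib.Lead.Cartan

open Adeq Groth.Agent.Lib.Lead.Cech Groth.Agent.Lib.Lead.CechAffine
  Groth.Agent.Lib.Lead.CechAdeq

noncomputable section

theorem cechGood_pull {S : Scheme.{u}} (M : BigSite.Mod Scheme.fppfPrecoverage S)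
    (hM : adequateMod Scheme.fppfPrecoverage S M) (U : Over S) :
    CechGood ((BigSite.pullBig Scheme.fppfPrecoverage U.hom AddCommGrpCat.{u + 1}).obj
      ((BigSite.toAbMod Scheme.fppfPrecoverage S).obj M)) := by
  intro R a B _ _ _ m
  have hF := Groth.Agent.Lib.Lead.AdeqModMain.adequate_toMVF Scheme.fppfPrecoverage
    Groth.Agent.Lib.Lead.AdeqModInst.hasAffineRefinements_fppf M hM R (a ≫ U.hom)
  have h1 := acyc_PM Scheme.fppfPrecoverage M (a ≫ U.hom) B hF m
  refine acyc_of_iso _ ?_ m h1
  exact (Functor.isoWhiskerRight (NatIso.op (Over.mapComp a U.hom))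
    ((BigSite.toAbMod Scheme.fppfPrecoverage S).obj M).obj).symm

theorem subsingleton_HU {S : Scheme.{u}} (M : BigSite.Mod Scheme.fppfPrecoverage S)
    (hM : adequateMod Scheme.fppfPrecoverage S M) (U : Over S) [IsAffine U.left] (n : ℕ) :
    Subsingleton (BigSite.HU Scheme.fppfPrecoverage
      ((BigSite.toAbMod Scheme.fppfPrecoverage S).obj M) (n + 1) U) :=
  subsingleton_of_forall_eq 0 fun x =>
    H_succ_eq_zero (T := U.left) n _ (cechGood_pull M hM U) x

end

end Groth.Agent.Lib.Lead.Cartan
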