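import Mathlib
import Groth.Prelude.Def_Adeq2
import Groth.Agent.Lib.Lead.AdeqDescentMVF

/-!
# Affine objects of `Over (Spec R)`: the functor `sR`, fullness, affineness of finite products
-/

set_option autoImplicit false

universe u

open CategoryTheory CategoryTheory.Limits Opposite AlgebraicGeometry

namespace Groth.Agent.Lib.Lead.CechAffine

open Adeq

noncomputable section

variable (R : CommRingCat.{u})

/-- `Spec T → Spec R` for an `R`-algebra `T`, as an object of `Over (Spec R)`. -/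
def sR : (Alg R)ᵒᵖ ⥤ Over (Spec R) where
  obj T := Over.mk (Spec.map (CommRingCat.ofHom (algebraMap R T.unop)))
  map {T T'} φ := Over.homMk (Spec.map (CommRingCat.ofHom φ.unop.hom.toRingHom)) (by
    change Spec.map (CommRingCat.ofHom φ.unop.hom.toRingHom) ≫
        Spec.map (CommRingCat.ofHom (algebraMap R T'.unop)) =
      Spec.map (CommRingCat.ofHom (algebraMap R T.unop))
    rw [← Spec.map_comp, ← CommRingCat.ofHom_comp, AlgHom.toRingHom_eq_coe,
      AlgHom.comp_algebraMap])
  map_id T := by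
    ext : 1
    change Spec.map (CommRingCat.ofHom (RingHom.id _)) = 𝟙 _
    rw [CommRingCat.ofHom_id]
    exact Spec.map_id _
  map_comp {T T' T''} φ ψ := by
    ext : 1
    change Spec.map (CommRingCat.ofHom (φ.unop.hom.comp ψ.unop.hom).toRingHom) =
      Spec.map (CommRingCat.ofHom φ.unop.hom.toRingHom) ≫
        Spec.map (CommRingCat.ofHom ψ.unop.hom.toRingHom)
    rw [← Spec.map_comp, ← CommRingCat.ofHom_comp]
    rfl

variable {R}

lemma overMap_sR_obj {S : Scheme.{u}} (a : Spec R ⟶ S) (T : Alg R) :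
    (Over.map a).obj ((sR R).obj (op T)) = (specOver a).obj (op T) := rfl

lemma overMap_sR_map {S : Scheme.{u}} (a : Spec R ⟶ S) {T T' : Alg R} (φ : T ⟶ T') :
    (Over.map a).map ((sR R).map φ.op) = (specOver a).map φ.op := rfl

/-- `sR` is full. -/
lemma sR_full {T₀ T₁ : Alg R} (g : (sR R).obj (op T₁) ⟶ (sR R).obj (op T₀)) :
    ∃ φ : T₀ ⟶ T₁, (sR R).map φ.op = g := by
  have hg : ∃ ψ : CommRingCat.of (T₀ : Type u) ⟶ CommRingCat.of (T₁ : Type u),
      Spec.map ψ = g.left := Spec.map_surjective _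
  obtain ⟨ψ, hψ⟩ := hg
  have hw : Spec.map ψ ≫ Spec.map (CommRingCat.ofHom (algebraMap R T₀)) =
      Spec.map (CommRingCat.ofHom (algebraMap R T₁)) := by
    rw [hψ]
    exact Over.w g
  rw [← Spec.map_comp] at hw
  have hw' := Spec.map_injective hw
  let φ' : (T₀ : Type u) →ₐ[R] (T₁ : Type u) :=
    { ψ.hom with
      commutes' := fun r => by
        have := congrArg (fun f => f.hom r) hw'
        exact this }
  refine ⟨CommAlgCat.ofHom φ', ?_⟩
  ext : 1
  change Spec.map (CommRingCat.ofHom (φ' : (T₀ : Type u) →+* (T₁ : Type u))) = g.left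
  rw [← hψ]
  rfl

/-- The `R`-algebra of global sections of an object of `Over (Spec R)`. -/
def ΓAlg (Y : Over (Spec R)) : Alg R :=
  letI : Algebra R Γ(Y.left, ⊤) :=
    RingHom.toAlgebra ((Scheme.ΓSpecIso R).inv ≫ Y.hom.appTop).hom
  CommAlgCat.of R Γ(Y.left, ⊤)

/-- An object of `Over (Spec R)` with affine source is in the essential image of `sR`. -/
def affIso (Y : Over (Spec R)) [IsAffine Y.left] : Y ≅ (sR R).obj (op (ΓAlg Y)) :=
  Over.isoMk Y.left.isoSpec (by
    change Y.left.isoSpec.hom ≫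
      Spec.map (CommRingCat.ofHom ((Scheme.ΓSpecIso R).inv ≫ Y.hom.appTop).hom) = Y.hom
    rw [CommRingCat.ofHom_hom, Spec.map_comp, Scheme.isoSpec_hom]
    rw [← Scheme.toSpecΓ_naturality_assoc]
    simp)

lemma isAffine_prod_left (Y Z : Over (Spec R)) [IsAffine Y.left] [IsAffine Z.left] :
    IsAffine (Y ⨯ Z).left :=
  .of_isIso (Over.prodLeftIsoPullback Y Z).hom

lemma isAffine_of_iso {Y Z : Over (Spec R)} (e : Y ≅ Z) [IsAffine Z.left] : IsAffine Y.left := by
  haveI : IsIso e.hom.left := inferInstanceAs (IsIso ((Over.forget _).map e.hom))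
  exact .of_isIso e.hom.left

lemma isAffine_pi_left : ∀ (n : ℕ) (f : Fin n → Over (Spec R)), (∀ i, IsAffine (f i).left) →
    IsAffine (∏ᶜ f).left
  | 0, f, _ => by
    have hT : IsTerminal (∏ᶜ f) :=
      IsTerminal.ofUniqueHom (fun X => Pi.lift (fun i => i.elim0))
        (fun X m => Pi.hom_ext _ _ (fun i => i.elim0))
    have e : ∏ᶜ f ≅ Over.mk (𝟙 (Spec R)) := hT.uniqueUpToIso Over.mkIdTerminal
    haveI : IsAffine (Over.mk (𝟙 (Spec R))).left := inferInstanceAs (IsAffine (Spec R))
    exact isAffine_of_iso e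
  | (n + 1), f, hf => by
    haveI : IsAffine (∏ᶜ fun i : Fin n => f i.succ).left :=
      isAffine_pi_left n (fun i => f i.succ) (fun i => hf i.succ)
    haveI : IsAffine (f 0).left := hf 0
    have hl := extendFanIsLimit f (limit.isLimit (Discrete.functor fun i : Fin n => f i.succ))
      (limit.isLimit (pair (f 0) (∏ᶜ fun i : Fin n => f i.succ)))
    have e : ∏ᶜ f ≅ (f 0) ⨯ (∏ᶜ fun i : Fin n => f i.succ) :=
      IsLimit.conePointUniqueUpToIso (limit.isLimit _) hl
    haveI := isAffine_prod_left (f 0) (∏ᶜ fun i : Fin n => f i.succ)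
    exact isAffine_of_iso e

end

end Groth.Agent.Lib.Lead.CechAffine
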