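import Groth.Agent.Lib.Lead.CechSingle
import Groth.Agent.Lib.Lead.CechAffine

/-!
# Čech acyclicity of adequate modules for a faithfully flat single cover of an affine
-/

set_option autoImplicit false

universe u

open CategoryTheory CategoryTheory.Limits Opposite AlgebraicGeometry TensorProduct

namespace Groth.Agent.Lib.Lead.CechAdeq

open Adeq Groth.Agent.Lib.Lead.Cech Groth.Agent.Lib.Lead.CechAffine
  Groth.Agent.Lib.Lead.AdeqBasic Groth.Agent.Lib.Lead.AdeqFBC Groth.Agent.Lib.Lead.AdeqDescentMVF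

noncomputable section

variable (K : Precoverage Scheme.{u}) [BigSite.OSh K] {S : Scheme.{u}} (M : BigSite.Mod K S)
  {R : CommRingCat.{u}} (a : Spec R ⟶ S)

/-- The abelian presheaf on `Over (Spec R)` obtained from `M` by restriction along `Over.map a`. -/
abbrev PM : (Over (Spec R))ᵒᵖ ⥤ AddCommGrpCat.{u+1} :=
  (Over.map a).op ⋙ ((BigSite.toAbMod K S).obj M).obj

variable (B : Type u) [CommRing B] [Algebra R B]

/-- `b ↦ 1 ⊗ b`. -/
abbrev ir (T : Alg R) : algOf R B ⟶ TB T B :=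
  CommAlgCat.ofHom (Algebra.TensorProduct.includeRight : B →ₐ[R] (T : Type u) ⊗[R] B)

lemma ir_tmap {T T' : Alg R} (φ : T ⟶ T') : ir B T ≫ tmap B φ = ir B T' := by
  apply CommAlgCat.hom_ext
  exact Algebra.TensorProduct.map_comp_includeRight _ _

/-- descent, in terms of the presheaf `PM` and the functor `sR`. -/
lemma desc_sR [Module.FaithfullyFlat R B] (hF : adequate R ((toMVF K a).obj M)) {m : ℕ}
    (c : Fin m → ℤ) {T₀ T₁ : Alg R} (φ : Fin m → (T₀ ⟶ T₁))
    (x : (PM K M a).obj (op ((sR R).obj (op T₁))))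
    (y' : (PM K M a).obj (op ((sR R).obj (op (TB T₀ B)))))
    (h : ∑ k, c k • (PM K M a).map ((sR R).map (tmap B (φ k)).op).op y' =
      (PM K M a).map ((sR R).map (il T₁ B).op).op x) :
    ∃ y : (PM K M a).obj (op ((sR R).obj (op T₀))),
      ∑ k, c k • (PM K M a).map ((sR R).map (φ k).op).op y = x := by
  obtain ⟨y, hy⟩ := descent ((toMVF K a).obj M) B c φ hF x
    ⟨y', by rw [delta'_apply]; exact h⟩
  refine ⟨y, ?_⟩
  rw [delta_apply] at hy
  exact hy

/-- The comparison map `Spec (T ⊗ B) ⟶ Spec T ⨯ Spec B` over `Spec R`. -/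
def μ (T : Alg R) : (sR R).obj (op (TB T B)) ⟶ (sR R).obj (op T) ⨯ (sR R).obj (op (algOf R B)) :=
  prod.lift ((sR R).map (il T B).op) ((sR R).map (ir B T).op)

@[reassoc]
lemma μ_fst (T : Alg R) : μ B T ≫ prod.fst = (sR R).map (il T B).op := prod.lift_fst _ _

@[reassoc]
lemma μ_natural {T₀ T₁ : Alg R} (φ : T₀ ⟶ T₁) :
    μ B T₁ ≫ prod.map ((sR R).map φ.op) (𝟙 _) = (sR R).map (tmap B φ).op ≫ μ B T₀ := by
  unfold μ
  apply prod.hom_ext
  · rw [Category.assoc, prod.map_fst, prod.lift_fst_assoc, Category.assoc, prod.lift_fst,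
      ← (sR R).map_comp, ← (sR R).map_comp, ← op_comp, ← op_comp, il_tmap]
  · rw [Category.assoc, prod.map_snd, prod.lift_snd_assoc, Category.assoc, prod.lift_snd,
      Category.comp_id, ← (sR R).map_comp, ← op_comp, ir_tmap]

variable (R) in
/-- The single-cover object. -/
abbrev VB : Over (Spec R) := (sR R).obj (op (algOf R B))

lemma isAffine_Wn (n : ℕ) : IsAffine (Wn (VB R B) n).left :=
  isAffine_pi_left (n + 1) (fun _ => VB R B) (fun _ => inferInstanceAs (IsAffine (Spec _)))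

theorem acyc_PM [Module.FaithfullyFlat R B] (hF : adequate R ((toMVF K a).obj M)) (n : ℕ) :
    Acyc (U1 (VB R B)) (PM K M a) n := by
  apply acyc_of_desc
  intro x₁ y' hxy
  haveI := isAffine_Wn (R := R) B n
  haveI := isAffine_Wn (R := R) B (n + 1)
  let e₀ := affIso (Wn (VB R B) n)
  let e₁ := affIso (Wn (VB R B) (n + 1))
  choose φ hφ using fun k : Fin (n + 2) => sR_full (e₁.inv ≫ fc (VB R B) n k ≫ e₀.hom)
  let P := PM K M a
  -- transport
  let ν₀ := μ B (ΓAlg (Wn (VB R B) n)) ≫ prod.map e₀.inv (𝟙 (VB R B))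
  let ν₁ := μ B (ΓAlg (Wn (VB R B) (n + 1))) ≫ prod.map e₁.inv (𝟙 (VB R B))
  have hν : ∀ k, (sR R).map (tmap B (φ k)).op ≫ ν₀ = ν₁ ≫ prod.map (fc (VB R B) n k) (𝟙 (VB R B)) := by
    intro k
    show (sR R).map (tmap B (φ k)).op ≫ μ B _ ≫ prod.map e₀.inv (𝟙 (VB R B)) =
      (μ B _ ≫ prod.map e₁.inv (𝟙 (VB R B))) ≫ prod.map (fc (VB R B) n k) (𝟙 (VB R B))
    rw [← μ_natural_assoc, hφ k, Category.assoc, prod.map_map, prod.map_map, Category.comp_id,
      Category.assoc, Category.assoc, Iso.hom_inv_id, Category.comp_id]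
  have hν₁ : ν₁ ≫ prod.fst = (sR R).map (il _ B).op ≫ e₁.inv := by
    show (μ B _ ≫ prod.map e₁.inv (𝟙 (VB R B))) ≫ prod.fst = _
    rw [Category.assoc, prod.map_fst, μ_fst_assoc]
  have key : ∑ k : Fin (n + 2), (-1 : ℤ) ^ (k : ℕ) •
      P.map ((sR R).map (tmap B (φ k)).op).op (P.map ν₀.op y') =
      P.map ((sR R).map (il _ B).op).op (P.map e₁.inv.op x₁) := by
    have h2 := congrArg (P.map ν₁.op) hxy
    rw [map_sum] at h2
    have h3 : P.map ν₁.op (P.map (prod.fst : Wn (VB R B) (n + 1) ⨯ VB R B ⟶ _).op x₁) =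
        P.map ((sR R).map (il _ B).op).op (P.map e₁.inv.op x₁) := by
      rw [← ConcreteCategory.comp_apply, ← ConcreteCategory.comp_apply, ← P.map_comp,
        ← P.map_comp, ← op_comp, ← op_comp, hν₁]
    rw [h3] at h2
    rw [← h2]
    refine Finset.sum_congr rfl fun k _ => ?_
    rw [map_zsmul]
    congr 1
    rw [← ConcreteCategory.comp_apply, ← ConcreteCategory.comp_apply, ← P.map_comp,
      ← P.map_comp, ← op_comp, ← op_comp, hν k]
  obtain ⟨y₀, hy₀⟩ := desc_sR K M a B hF (fun k : Fin (n + 2) => (-1 : ℤ) ^ (k : ℕ)) φ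
    (P.map e₁.inv.op x₁) (P.map ν₀.op y') key
  refine ⟨P.map e₀.hom.op y₀, ?_⟩
  have h4 := congrArg (P.map e₁.hom.op) hy₀
  rw [map_sum] at h4
  have h5 : P.map e₁.hom.op (P.map e₁.inv.op x₁) = x₁ := by
    rw [← ConcreteCategory.comp_apply, ← P.map_comp, ← op_comp, Iso.hom_inv_id, op_id, P.map_id]
    rfl
  rw [h5] at h4
  rw [← h4]
  refine Finset.sum_congr rfl fun k _ => ?_
  rw [map_zsmul]
  congr 1
  rw [← ConcreteCategory.comp_apply, ← ConcreteCategory.comp_apply, ← P.map_comp,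
    ← P.map_comp, ← op_comp, ← op_comp, hφ k, Iso.hom_inv_id_assoc]

end

end Groth.Agent.Lib.Lead.CechAdeq
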