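import Groth.Agent.Lib.Lead.CechOverMapInj
import Groth.Agent.Lib.Lead.CechAdeq
import Groth.Agent.Lib.Lead.AdeqSheafProd
import Groth.Agent.Lib.Helper22.ExtCompare

/-!
# Cartan's criterion on the big fppf site: the Čech side
-/

set_option autoImplicit false

universe u

open CategoryTheory CategoryTheory.Limits Opposite AlgebraicGeometry TensorProduct

namespace Groth.Agent.Lib.Lead.Cartan

open Adeq Groth.Agent.Lib.Lead.Cech Groth.Agent.Lib.Lead.CechAffine
  Groth.Agent.Lib.Lead.CechAdeq Groth.Agent.Lib.Lead.AdeqBasic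
  Groth.Agent.Lib.Lead.AdeqModBase Groth.Agent.Lib.Lead.AdeqFpqc Groth.Agent.Lib.Lead.AdeqProd
  Groth.Agent.Lib.Lead.AdeqProdFF Groth.Agent.Lib.Lead.AdeqSheafify
  Groth.Agent.Lib.Lead.AdeqSheafProd

noncomputable section

variable {T : Scheme.{u}}

/-- Abelian sheaves on the big fppf site of `T`. -/
abbrev AbT (T : Scheme.{u}) : Type (u + 2) := BigSite.Ab Scheme.fppfPrecoverage T

/-- Restriction of an abelian presheaf along `Over.map a`. -/
abbrev rP {R : CommRingCat.{u}} (a : Spec R ⟶ T) (G : (Over T)ᵒᵖ ⥤ AddCommGrpCat.{u + 1}) :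
    (Over (Spec R))ᵒᵖ ⥤ AddCommGrpCat.{u + 1} := (Over.map a).op ⋙ G

/-- Restriction of a map of abelian presheaves. -/
abbrev rMap {R : CommRingCat.{u}} (a : Spec R ⟶ T) {G G' : (Over T)ᵒᵖ ⥤ AddCommGrpCat.{u + 1}}
    (f : G ⟶ G') : rP a G ⟶ rP a G' := Functor.whiskerLeft (Over.map a).op f

/-- Čech-acyclicity for all faithfully flat single covers of affine objects. -/
def CechGood (F : AbT T) : Prop :=
  ∀ (R : CommRingCat.{u}) (a : Spec R ⟶ T) (B : Type u) [CommRing B] [Algebra R B]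
    [Module.FaithfullyFlat R B] (n : ℕ), Acyc (U1 (VB R B)) (rP a F.obj) n

theorem cechGood_of_injective (I : AbT T) [Injective I] : CechGood I := by
  intro R a B _ _ _ n
  haveI : Injective (C := (Over T)ᵒᵖ ⥤ AddCommGrpCat.{u + 1}) I.obj :=
    Injective.injective_of_adjoint
      (sheafificationAdjunction (QuotSh.J Scheme.fppfPrecoverage T) AddCommGrpCat.{u + 1}) I
  haveI := injective_overMap a I.obj
  exact acyc_of_injective _ _ n

section exactness

/-- A monomorphism of sheaves is injective on sections. -/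
lemma injective_app_of_mono {F G : AbT T} (f : F ⟶ G) [Mono f] (W : Over T) :
    Function.Injective (f.hom.app (op W)) := by
  have h1 : Mono ((sheafToPresheaf _ AddCommGrpCat.{u + 1}).map f) := inferInstance
  have h2 : Mono (((sheafToPresheaf _ AddCommGrpCat.{u + 1}).map f).app (op W)) := inferInstance
  exact (AddCommGrpCat.mono_iff_injective _).mp h2

/-- Left exactness of sections. -/
lemma sections_exact_of_left_exact {S : ShortComplex (AbT T)}
    (hS : S.Exact) (hf : Mono S.f) (W : Over T) (y : S.X₂.obj.obj (op W))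
    (hy : S.g.hom.app (op W) y = 0) : ∃ x, S.f.hom.app (op W) x = y := by
  have h1 := ((Functor.preservesFiniteLimits_tfae
    (sheafToPresheaf (QuotSh.J Scheme.fppfPrecoverage T) AddCommGrpCat.{u + 1})).out 1 3
    rfl rfl).mpr inferInstance S ⟨hS, hf⟩
  let F := (evaluation (Over T)ᵒᵖ AddCommGrpCat.{u + 1}).obj (op W)
  exact (ShortComplex.ab_exact_iff ((S.map (sheafToPresheaf _ AddCommGrpCat.{u + 1})).map F)).mp
    (((Functor.exact_tfae F).out 1 3 rfl rfl).mpr ⟨inferInstance, inferInstance⟩ _ h1.1) _ hy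

lemma sections_zero (S : ShortComplex (AbT T)) (W : Over T) (x : S.X₁.obj.obj (op W)) :
    S.g.hom.app (op W) (S.f.hom.app (op W) x) = 0 := by
  have h2 : (S.f ≫ S.g).hom.app (op W) x = 0 := by
    rw [S.zero]
    rfl
  exact h2

variable {R : CommRingCat.{u}} (a : Spec R ⟶ T) {ι : Type (u + 1)} (Y : ι → Over (Spec R))

lemma secLeftExact_of_shortExact (S : ShortComplex (AbT T)) (hS : S.ShortExact) :
    SecLeftExact Y (rMap a S.f.hom) (rMap a S.g.hom) where
  inj n σ := by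
    have := hS.mono_f
    exact injective_app_of_mono S.f _
  zero n σ x := sections_zero S _ x
  exact n σ y hy := by
    have := hS.mono_f
    exact sections_exact_of_left_exact hS.1 this _ y hy

lemma secExact_of_shortExact (S : ShortComplex (AbT T)) (hS : S.ShortExact)
    (hsurj : ∀ (n : ℕ) (σ : Fin (n + 1) → ι),
      Function.Surjective (S.g.hom.app (op ((Over.map a).obj (Uσ Y σ))))) :
    SecExact Y (rMap a S.f.hom) (rMap a S.g.hom) where
  inj := (secLeftExact_of_shortExact a Y S hS).inj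
  surj := hsurj
  zero := (secLeftExact_of_shortExact a Y S hS).zero
  exact := (secLeftExact_of_shortExact a Y S hS).exact

end exactness

section lift

variable {D : CommRingCat.{u}} (t : Spec D ⟶ T)

/-- The structure map of the image of an object of `Over (Spec D)`. -/
def hΦ (Y : Over (Spec D)) : (Over.map t).obj Y ⟶ Over.mk t := Over.homMk Y.hom rfl

lemma map_comp_hΦ {Y Y' : Over (Spec D)} (f : Y' ⟶ Y) :
    (Over.map t).map f ≫ hΦ t Y = hΦ t Y' := by
  apply Over.OverMorphism.ext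
  exact Over.w f

variable (E : Type u) [CommRing E] [Algebra D E]

lemma hΦ_VB : hΦ t (VB D E) = uB t E := by
  apply Over.OverMorphism.ext
  rw [uB_left]
  rfl

lemma map_comp_uB {Y : Over (Spec D)} (f : Y ⟶ VB D E) :
    (Over.map t).map f ≫ uB t E = hΦ t Y := by
  rw [← hΦ_VB, map_comp_hΦ]

variable (G : (Over T)ᵒᵖ ⥤ AddCommGrpCat.{u + 1})

/-- The `0`-cochain attached to a section over the cover. -/
def cochain0 (x : (rP t G).obj (op (VB D E))) :
    (CK (U1 (VB D E)) (rP t G)).X 0 :=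
  Cech.mk (U1 (VB D E)) (rP t G) (fun σ => (rP t G).map (Pi.π (U1 (VB D E) ∘ σ) 0).op x)

/-- The distinguished one-element tuple. -/
def τ0 : Cech.T (U1 (VB D E)) 0 (VB D E) := sing (U1 (VB D E)) ⟨PUnit.unit, 𝟙 (VB D E)⟩

lemma ev_cochain0 (x : (rP t G).obj (op (VB D E))) :
    ev (U1 (VB D E)) (rP t G) (cochain0 t E G x) (τ0 E) = x := by
  unfold ev cochain0
  rw [proj_mk]
  have h : toProd (U1 (VB D E)) (τ0 (D := D) E) ≫
      Pi.π (U1 (VB D E) ∘ idx (U1 (VB D E)) (τ0 (D := D) E)) 0 = 𝟙 (VB D E) :=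
    toProd_π (U1 (VB D E)) (τ0 (D := D) E) 0
  have h2 : (rP t G).map (Pi.π (U1 (VB D E) ∘ idx (U1 (VB D E)) (τ0 (D := D) E)) 0).op ≫
      (rP t G).map (toProd (U1 (VB D E)) (τ0 (D := D) E)).op = 𝟙 ((rP t G).obj (op (VB D E))) := by
    rw [← (rP t G).map_comp, ← op_comp, h, op_id]
    exact (rP t G).map_id _
  exact ConcreteCategory.congr_hom h2 x

lemma ev_sing_eq {a : (CK (U1 (VB D E)) (rP t G)).X 0} {z : Over (Spec D)} (g : z ⟶ VB D E) :
    ev (U1 (VB D E)) (rP t G) a (sing (U1 (VB D E)) ⟨PUnit.unit, g⟩) =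
      (rP t G).map g.op (ev (U1 (VB D E)) (rP t G) a (τ0 E)) := by
  have h : sing (U1 (VB D E)) (⟨PUnit.unit, g⟩ : SV (U1 (VB D E)) z) =
      Cech.T.pre (U1 (VB D E)) g (τ0 (D := D) E) := by
    funext k
    show (⟨PUnit.unit, g⟩ : SV (U1 (VB D E)) z) = ⟨PUnit.unit, g ≫ 𝟙 _⟩
    rw [Category.comp_id]
  rw [h, ev_pre]

end lift

section liftSingle

variable {D : CommRingCat.{u}} (t : Spec D ⟶ T) (E : Type u) [CommRing E] [Algebra D E]

lemma sheaf_isSheaf (F : AbT T) :
    Presheaf.IsSheaf (QuotSh.J Scheme.fppfPrecoverage T) F.obj := F.property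

/-- A `0`-cocycle takes the same value on two maps to the cover which agree over the base. -/
lemma compat_aux (G : (Over T)ᵒᵖ ⥤ AddCommGrpCat.{u + 1})
    (α' : (CK (U1 (VB D E)) (rP t G)).X 0)
    (hα' : (CK (U1 (VB D E)) (rP t G)).d 0 1 α' = 0)
    (Z : Over T) (g₁ g₂ : Z ⟶ (Over.map t).obj (VB D E))
    (hgg : g₁ ≫ hΦ t (VB D E) = g₂ ≫ hΦ t (VB D E)) :
    G.map g₁.op (ev (U1 (VB D E)) (rP t G) α' (τ0 E)) =
      G.map g₂.op (ev (U1 (VB D E)) (rP t G) α' (τ0 E)) := by
  have hl := congrArg (fun k => k.left) hgg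
  simp only [Over.comp_left] at hl
  have hl' : g₁.left ≫ (VB D E).hom = g₂.left ≫ (VB D E).hom := hl
  let z' : Over (Spec D) := Over.mk (g₁.left ≫ (VB D E).hom)
  let G₁ : z' ⟶ VB D E := Over.homMk g₁.left rfl
  let G₂ : z' ⟶ VB D E := Over.homMk g₂.left hl'.symm
  let tt : Cech.T (U1 (VB D E)) 1 z' := ![⟨PUnit.unit, G₁⟩, ⟨PUnit.unit, G₂⟩]
  have h3 := ev_d_zero (U1 (VB D E)) (rP t G) α' tt
  rw [hα', ev_zero] at h3
  have h4 : ev (U1 (VB D E)) (rP t G) α' (sing (U1 (VB D E)) (tt 0)) =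
      (rP t G).map G₁.op (ev (U1 (VB D E)) (rP t G) α' (τ0 E)) := ev_sing_eq t E G G₁
  have h5 : ev (U1 (VB D E)) (rP t G) α' (sing (U1 (VB D E)) (tt 1)) =
      (rP t G).map G₂.op (ev (U1 (VB D E)) (rP t G) α' (τ0 E)) := ev_sing_eq t E G G₂
  rw [h4, h5] at h3
  have h6 : G.map ((Over.map t).map G₁).op (ev (U1 (VB D E)) (rP t G) α' (τ0 E)) =
      G.map ((Over.map t).map G₂).op (ev (U1 (VB D E)) (rP t G) α' (τ0 E)) :=
    (sub_eq_zero.mp h3.symm).symm
  -- transport along `Z ≅ Φ z'`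
  let iz : Z ⟶ (Over.map t).obj z' := Over.homMk (𝟙 Z.left) (by
    show 𝟙 Z.left ≫ ((g₁.left ≫ (VB D E).hom) ≫ t) = Z.hom
    rw [Category.id_comp, Category.assoc]
    exact Over.w g₁)
  have e1 : g₁ = iz ≫ (Over.map t).map G₁ := by
    apply Over.OverMorphism.ext
    show g₁.left = 𝟙 Z.left ≫ g₁.left
    rw [Category.id_comp]
  have e2 : g₂ = iz ≫ (Over.map t).map G₂ := by
    apply Over.OverMorphism.ext
    show g₂.left = 𝟙 Z.left ≫ g₂.left
    rw [Category.id_comp]
  rw [e1, e2, map_comp_apply', map_comp_apply', h6]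

variable (S : ShortComplex (AbT T)) (hS : S.ShortExact)

include hS in
/-- The `Ȟ¹` argument for a single cover. -/
theorem lift_single
    (hcov : Sieve.ofArrows (fun _ : PUnit.{1} => (Over.map t).obj (VB D E))
      (fun _ => hΦ t (VB D E)) ∈ QuotSh.J Scheme.fppfPrecoverage T (Over.mk t))
    (hacyc : Acyc (U1 (VB D E)) (rP t S.X₁.obj) 0)
    (s : S.X₃.obj.obj (op (Over.mk t)))
    (x' : (rP t S.X₂.obj).obj (op (VB D E)))
    (hx' : (rMap t S.g.hom).app (op (VB D E)) x' = S.X₃.obj.map (hΦ t (VB D E)).op s) :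
    ∃ z : S.X₂.obj.obj (op (Over.mk t)), S.g.hom.app _ z = s := by
  have hle := secLeftExact_of_shortExact t (U1 (VB D E)) S hS
  -- the image cochain is a cocycle
  have hβ : ∀ (n : ℕ) (σ : Fin (n + 1) → PUnit.{u + 2}) (f : Uσ (U1 (VB D E)) σ ⟶ VB D E),
      (rMap t S.g.hom).app _ ((rP t S.X₂.obj).map f.op x') =
        S.X₃.obj.map (hΦ t (Uσ (U1 (VB D E)) σ)).op s := by
    intro n σ f
    have h1 := NatTrans.naturality_apply (rMap t S.g.hom) f.op x'
    refine h1.trans ?_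
    have h2 := congrArg (S.X₃.obj.map ((Over.map t).map f).op) hx'
    refine h2.trans ?_
    rw [← map_comp_apply', map_comp_hΦ]
  have hd : (CK (U1 (VB D E)) (rP t S.X₃.obj)).d 0 1
      (cmap (U1 (VB D E)) (rMap t S.g.hom) 0 (cochain0 t E S.X₂.obj x')) = 0 := by
    apply ext_proj
    intro σ
    rw [proj_d, Fin.sum_univ_two, map_zero]
    have hk : ∀ k : Fin 2, (rP t S.X₃.obj).map (face (U1 (VB D E)) σ k).op
        (proj (U1 (VB D E)) (rP t S.X₃.obj) 0 (σ ∘ k.succAbove)
          (cmap (U1 (VB D E)) (rMap t S.g.hom) 0 (cochain0 t E S.X₂.obj x'))) =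
        S.X₃.obj.map (hΦ t (Uσ (U1 (VB D E)) σ)).op s := by
      intro k
      rw [proj_map]
      unfold cochain0
      rw [proj_mk]
      have h2 := hβ 0 (σ ∘ k.succAbove) (Pi.π (U1 (VB D E) ∘ (σ ∘ k.succAbove)) 0)
      refine (congrArg _ h2).trans ?_
      show S.X₃.obj.map ((Over.map t).map (face (U1 (VB D E)) σ k)).op
        (S.X₃.obj.map (hΦ t (Uσ (U1 (VB D E)) (σ ∘ k.succAbove))).op s) = _
      rw [← map_comp_apply', map_comp_hΦ]
    rw [hk 0, hk 1]
    simp
  obtain ⟨α', hα'1, hα'2⟩ := hle.exists_cocycle_lift hacyc _ hd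
  -- glue
  have hG₂ := sheaf_isSheaf S.X₂
  have hG₃ := sheaf_isSheaf S.X₃
  have hG' : Presieve.IsSheaf (QuotSh.J Scheme.fppfPrecoverage T)
      (S.X₂.obj ⋙ forget AddCommGrpCat) :=
    (isSheaf_iff_isSheaf_of_type _ _).1
      ((Presheaf.isSheaf_iff_isSheaf_forget _ S.X₂.obj (forget AddCommGrpCat)).1 hG₂)
  have h1 : Presieve.IsSheafFor (S.X₂.obj ⋙ forget AddCommGrpCat)
      (Presieve.ofArrows (fun _ : PUnit.{1} => (Over.map t).obj (VB D E))
        (fun _ => hΦ t (VB D E))) :=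
    (Presieve.isSheafFor_iff_generate _).2 (hG' _ hcov)
  rw [Presieve.isSheafFor_arrows_iff] at h1
  have hc : Presieve.Arrows.Compatible (S.X₂.obj ⋙ forget AddCommGrpCat)
      (fun _ : PUnit.{1} => hΦ t (VB D E))
      (fun _ => ev (U1 (VB D E)) (rP t S.X₂.obj) α' (τ0 E)) := by
    intro _ _ Z g₁ g₂ hgg
    exact compat_aux t E S.X₂.obj α' hα'1 Z g₁ g₂ hgg
  obtain ⟨z, hz, -⟩ := h1 (fun _ => ev (U1 (VB D E)) (rP t S.X₂.obj) α' (τ0 E)) hc
  have hz' : S.X₂.obj.map (hΦ t (VB D E)).op z = ev (U1 (VB D E)) (rP t S.X₂.obj) α' (τ0 E) :=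
    hz PUnit.unit
  refine ⟨z, ?_⟩
  apply sheaf_sep (QuotSh.J Scheme.fppfPrecoverage T) S.X₃.obj hG₃ _ _ hcov
  rintro ⟨⟩
  rw [← nat_apply, hz']
  have h8 : (rMap t S.g.hom).app (op (VB D E)) (ev (U1 (VB D E)) (rP t S.X₂.obj) α' (τ0 E)) =
      (rMap t S.g.hom).app (op (VB D E)) x' := by
    rw [← ev_map, hα'2, ev_map, ev_cochain0]
  exact h8.trans hx'

end liftSingle

section surj

variable (S : ShortComplex (AbT T)) (hS : S.ShortExact)

include hS in
/-- Sections of the quotient over affine objects lift, if the sub is Čech-acyclic in degree one. -/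
theorem sections_surjective_ab (hF : CechGood S.X₁) {D : CommRingCat.{u}} (t : Spec D ⟶ T)
    (s : S.X₃.obj.obj (op (Over.mk t))) :
    ∃ x : S.X₂.obj.obj (op (Over.mk t)), S.g.hom.app _ x = s := by
  have hG₂ := sheaf_isSheaf S.X₂
  have hG₃ := sheaf_isSheaf S.X₃
  have hepi : Epi S.g := hS.epi_g
  haveI hls : Presheaf.IsLocallySurjective (QuotSh.J Scheme.fppfPrecoverage T) S.g.hom :=
    (Sheaf.isLocallySurjective_iff_epi' (A := AddCommGrpCat.{u + 1}) S.g).2 hepi
  have hmem : Presheaf.imageSieve S.g.hom s ∈ QuotSh.J Scheme.fppfPrecoverage T (Over.mk t) :=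
    Presheaf.imageSieve_mem (QuotSh.J Scheme.fppfPrecoverage T) S.g.hom (U := op (Over.mk t)) s
  obtain ⟨n, B, ψ, hcov, hB⟩ := exists_refinement t _ hmem
  let _ : ∀ j, Algebra D (B j) := fun j => (ψ j).hom.toAlgebra
  have hcov' : Presieve.ofArrows (fun j => Spec (CommRingCat.of (B j)))
      (fun j => Spec.map (CommRingCat.ofHom (algebraMap D (B j)))) ∈
        Scheme.fppfPrecoverage.coverings (Spec D) := hcov
  have : Module.FaithfullyFlat D (Π j, B j) := pi_faithfullyFlat (fun j => (B j : Type u)) hcov'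
  have hxj : ∀ j, ∃ xj : S.X₂.obj.obj (op ((specOver t).obj (op (algOf D (B j))))),
      S.g.hom.app _ xj = S.X₃.obj.map (uB t (B j)).op s := by
    intro j
    have h1 : ∃ s', S.g.hom.app _ s' = S.X₃.obj.map (Over.homMk (Spec.map (ψ j)) rfl :
        Over.mk (Spec.map (ψ j) ≫ t) ⟶ Over.mk t).op s := hB j
    have e := uB_eq t (ψ j)
    rw [e]
    exact h1
  choose xj hxj using hxj
  obtain ⟨x', hx'⟩ := sheaf_prod_surj S.X₂.obj hG₂ t (fun j => (B j : Type u)) xj
  have h5 : S.g.hom.app _ x' = S.X₃.obj.map (uB t (Π j, B j)).op s := by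
    apply sheaf_sep (QuotSh.J Scheme.fppfPrecoverage T) S.X₃.obj hG₃ _ _
      (cover_pi t (fun j => (B j : Type u)))
    intro j
    rw [← nat_apply, hx' j, hxj j, ← map_comp_apply', p_comp_uB]
  have hcovE := cover_uB_pi t (fun j => (B j : Type u)) hcov'
  rw [← hΦ_VB] at hcovE h5
  exact lift_single t (Π j, B j) S hS hcovE (hF D t (Π j, B j) 0) s x' h5

end surj

section quot

lemma surjective_of_iso {G Q : (Over T)ᵒᵖ ⥤ AddCommGrpCat.{u + 1}} (g : G ⟶ Q) {X X' : Over T}
    (e : X ≅ X') (h : Function.Surjective (g.app (op X'))) :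
    Function.Surjective (g.app (op X)) := by
  intro y
  obtain ⟨x', hx'⟩ := h (Q.map e.inv.op y)
  refine ⟨G.map e.hom.op x', ?_⟩
  rw [nat_apply, hx', ← map_comp_apply', Iso.hom_inv_id]
  have : Q.map (𝟙 X).op = 𝟙 _ := Q.map_id _
  exact ConcreteCategory.congr_hom this y

variable (S : ShortComplex (AbT T)) (hS : S.ShortExact)

include hS in
/-- Sections of the quotient lift over every object with affine source. -/
theorem sections_surjective_affine (hF : CechGood S.X₁) {R : CommRingCat.{u}} (a : Spec R ⟶ T)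
    (Y : Over (Spec R)) [IsAffine Y.left] :
    Function.Surjective (S.g.hom.app (op ((Over.map a).obj Y))) := by
  have e : (Over.map a).obj Y ≅ (Over.map a).obj ((sR R).obj (op (ΓAlg Y))) :=
    (Over.map a).mapIso (affIso Y)
  apply surjective_of_iso S.g.hom e
  intro s
  exact sections_surjective_ab S hS hF
    (Spec.map (CommRingCat.ofHom (algebraMap R (ΓAlg Y))) ≫ a) s

include hS in
theorem secExact_of_cechGood (hF : CechGood S.X₁) {R : CommRingCat.{u}} (a : Spec R ⟶ T)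
    (B : Type u) [CommRing B] [Algebra R B] :
    SecExact (U1 (VB R B)) (rMap a S.f.hom) (rMap a S.g.hom) := by
  apply secExact_of_shortExact a (U1 (VB R B)) S hS
  intro n σ
  haveI : IsAffine (Uσ (U1 (VB R B)) σ).left :=
    isAffine_pi_left (n + 1) (U1 (VB R B) ∘ σ) (fun _ => inferInstanceAs (IsAffine (Spec _)))
  exact sections_surjective_affine S hS hF a _

/-- The quotient of an injective sheaf by a Čech-good subsheaf is Čech-good. -/
theorem cechGood_quot (F : AbT T) (hF : CechGood F) :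
    CechGood (Groth.Agent.Lib.Helper22.ExtCompare.injSC F).X₃ := by
  intro R a B _ _ _ n
  have hS := Groth.Agent.Lib.Helper22.ExtCompare.injSC_shortExact F
  have hse := secExact_of_cechGood (Groth.Agent.Lib.Helper22.ExtCompare.injSC F) hS hF a B
  exact hse.acyc_quot n
    (cechGood_of_injective (Groth.Agent.Lib.Helper22.ExtCompare.injSC F).X₂ R a B n)
    (hF R a B (n + 1))

end quot

end

end Groth.Agent.Lib.Lead.Cartan
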