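import Groth.Agent.Lib.Lead.CartanCech

/-!
# Cartan's criterion on the big fppf site: vanishing of cohomology of Čech-good sheaves on affines
-/

set_option autoImplicit false

universe u

open CategoryTheory CategoryTheory.Limits Opposite AlgebraicGeometry Abelian

namespace Groth.Agent.Lib.Lead.Cartan

open Adeq Groth.Agent.Lib.Lead.Cech Groth.Agent.Lib.Lead.CechAffine
  Groth.Agent.Lib.Lead.CechAdeq Groth.Agent.Lib.Helper22.ExtCompare

noncomputable section

variable {T : Scheme.{u}}

/-- Acyclicity is invariant under isomorphism of presheaves. -/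
lemma acyc_of_iso {C : Type (u + 1)} [Category.{u} C] [HasFiniteProducts C] {ι : Type (u + 1)}
    (U : ι → C) {P P' : Cᵒᵖ ⥤ AddCommGrpCat.{u + 1}} (e : P ≅ P') (n : ℕ) (h : Acyc U P n) :
    Acyc U P' n := by
  intro x' hx'
  have h1 : (CK U P).d (n + 1) (n + 2) (cmap U e.inv (n + 1) x') = 0 := by
    rw [← map_d, hx', map_zero]
  obtain ⟨y, hy⟩ := h _ h1
  refine ⟨cmap U e.hom n y, ?_⟩
  rw [← map_d, hy]
  have h2 : (cechComplexFunctor U).map e.inv ≫ (cechComplexFunctor U).map e.hom = 𝟙 _ := by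
    rw [← CategoryTheory.Functor.map_comp, e.inv_hom_id, CategoryTheory.Functor.map_id]
  have h3 := congrArg (fun φ => φ.f (n + 1)) h2
  exact ConcreteCategory.congr_hom h3 x'

section main

variable [IsAffine T]

/-- Sections lift over the terminal object of the big site of an affine scheme. -/
theorem surjective_terminal (S : ShortComplex (AbT T)) (hS : S.ShortExact) (hF : CechGood S.X₁) :
    Function.Surjective (S.g.hom.app (op (Over.mk (𝟙 T)))) := by
  have e : Over.mk (𝟙 T) ≅ Over.mk T.isoSpec.inv :=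
    Over.isoMk T.isoSpec (by simp)
  apply surjective_of_iso S.g.hom e
  intro s
  exact sections_surjective_ab S hS hF T.isoSpec.inv s

theorem H_succ_eq_zero (n : ℕ) : ∀ F : AbT T, CechGood F → ∀ x : Sheaf.H F (n + 1), x = 0 := by
  induction n with
  | zero =>
    intro F hF x
    have hS := injSC_shortExact F
    have h0 : x.comp (Ext.mk₀ (injSC F).f) (add_zero 1) = 0 := Ext.eq_zero_of_injective _
    obtain ⟨x₃, hx₃⟩ := Ext.covariant_sequence_exact₁ _ hS x h0 (zero_add 1)
    have hT : IsTerminal (Over.mk (𝟙 T)) := Over.mkIdTerminal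
    obtain ⟨s, hs⟩ := surjective_terminal (injSC F) hS hF (Sheaf.H.equiv₀ _ hT x₃)
    have hz : Sheaf.H.map (injSC F).g 0 ((Sheaf.H.equiv₀ _ hT).symm s) = x₃ := by
      rw [Sheaf.H.equiv₀_symm_naturality, hs, AddEquiv.symm_apply_apply]
    rw [← hx₃, ← hz, Sheaf.H.map_apply, Ext.comp_assoc_of_second_deg_zero, hS.comp_extClass,
      Ext.comp_zero]
  | succ n ih =>
    intro F hF x
    have hS := injSC_shortExact F
    have h0 : x.comp (Ext.mk₀ (injSC F).f) (add_zero (n + 1 + 1)) = 0 :=
      Ext.eq_zero_of_injective _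
    obtain ⟨x₃, hx₃⟩ := Ext.covariant_sequence_exact₁ _ hS x h0 (n₀ := n + 1) rfl
    rw [← hx₃, ih (injSC F).X₃ (cechGood_quot F hF) x₃, Ext.zero_comp]

end main

end

end Groth.Agent.Lib.Lead.Cartan
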