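import Groth.Agent.Lib.Lead.CechEval

/-!
# The Čech complex of the décalage presheaf `W ↦ P (W ⨯ U i₀)` is contractible in positive degrees
-/

set_option autoImplicit false

universe u

open CategoryTheory CategoryTheory.Limits Opposite

namespace Groth.Agent.Lib.Lead.Cech

variable {C : Type (u+1)} [Category.{u} C] [HasFiniteProducts C] {ι : Type (u+1)} (U : ι → C)
  (i₀ : ι) (P : Cᵒᵖ ⥤ AddCommGrpCat.{u+1})

/-- The functor `W ↦ W ⨯ U i₀`. -/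
noncomputable abbrev dec : C ⥤ C := prod.functor.flip.obj (U i₀)

/-- The décalage presheaf `W ↦ P (W ⨯ U i₀)`. -/
noncomputable abbrev Pdec : Cᵒᵖ ⥤ AddCommGrpCat.{u+1} := (dec U i₀).op ⋙ P

lemma dec_map {W W' : C} (f : W ⟶ W') : (dec U i₀).map f = prod.map f (𝟙 (U i₀)) := rfl

/-- The natural map `P ⟶ Pdec` induced by the first projections. -/
noncomputable def πN : P ⟶ Pdec U i₀ P where
  app W := P.map (prod.fst : W.unop ⨯ U i₀ ⟶ W.unop).op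
  naturality {W W'} f := by
    show P.map f ≫ P.map (prod.fst : W'.unop ⨯ U i₀ ⟶ W'.unop).op =
      P.map (prod.fst : W.unop ⨯ U i₀ ⟶ W.unop).op ≫ P.map (prod.map f.unop (𝟙 (U i₀))).op
    rw [← P.map_comp, ← P.map_comp, ← op_comp, prod.map_fst]
    rfl

lemma πN_app (W : C) (p : P.obj (op W)) :
    (πN U i₀ P).app (op W) p = P.map (prod.fst : W ⨯ U i₀ ⟶ W).op p := rfl

/-- Extension of a tuple on `W` to a tuple on `W ⨯ U i₀` by the second projection. -/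
noncomputable def extT {n : ℕ} {W : C} (t : T U n W) : T U (n + 1) (W ⨯ U i₀) :=
  (Fin.cons (⟨i₀, prod.snd⟩ : SV U (W ⨯ U i₀)) (T.pre U prod.fst t) :
    Fin (n + 2) → SV U (W ⨯ U i₀))

lemma extT_comp_zero {n : ℕ} {W : C} (t : T U n W) :
    extT U i₀ t ∘ (0 : Fin (n + 2)).succAbove = T.pre U prod.fst t :=
  cons_comp_succAbove_zero U _ _

lemma extT_comp_succ {n : ℕ} {W : C} (t : T U (n + 1) W) (k : Fin (n + 2)) :
    extT U i₀ t ∘ k.succ.succAbove = extT U i₀ (t ∘ k.succAbove) := by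
  unfold extT
  rw [cons_comp_succAbove_succ]
  rfl

lemma extT_pre {n : ℕ} {W W' : C} (h : W' ⟶ W) (t : T U n W) :
    T.pre U (prod.map h (𝟙 (U i₀))) (extT U i₀ t) = extT U i₀ (T.pre U h t) := by
  funext j
  refine Fin.cases ?_ (fun j => ?_) j
  · show (⟨i₀, prod.map h (𝟙 (U i₀)) ≫ prod.snd⟩ : SV U (W' ⨯ U i₀)) = ⟨i₀, prod.snd⟩
    rw [prod.map_snd, Category.comp_id]
  · show (⟨(t j).1, prod.map h (𝟙 (U i₀)) ≫ prod.fst ≫ (t j).2⟩ : SV U (W' ⨯ U i₀)) =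
      ⟨(t j).1, prod.fst ≫ h ≫ (t j).2⟩
    rw [prod.map_fst_assoc]

/-- The diagonal-type map `W ⨯ U i₀ ⟶ (W ⨯ U i₀) ⨯ U i₀`. -/
noncomputable def θ (W : C) : W ⨯ U i₀ ⟶ (W ⨯ U i₀) ⨯ U i₀ := prod.lift (𝟙 _) prod.snd

lemma θ_natural {W W' : C} (h : W' ⟶ W) :
    prod.map h (𝟙 (U i₀)) ≫ θ U i₀ W =
      θ U i₀ W' ≫ prod.map (prod.map h (𝟙 (U i₀))) (𝟙 (U i₀)) := by
  unfold θ
  apply prod.hom_ext
  · simp
  · simp

lemma θ_fst (W : C) : θ U i₀ W ≫ prod.map (prod.fst : W ⨯ U i₀ ⟶ W) (𝟙 (U i₀)) = 𝟙 _ := by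
  unfold θ
  apply prod.hom_ext
  · simp
  · simp

/-- evaluation of a cochain of `Pdec`, typed in `P`. -/
noncomputable def ev' {n : ℕ} (a : (CK U (Pdec U i₀ P)).X n) {W : C} (t : T U n W) :
    P.obj (op (W ⨯ U i₀)) := ev U (Pdec U i₀ P) a t

lemma ev'_pre {n : ℕ} (a : (CK U (Pdec U i₀ P)).X n) {W W' : C} (h : W' ⟶ W) (t : T U n W) :
    ev' U i₀ P a (T.pre U h t) = P.map (prod.map h (𝟙 (U i₀))).op (ev' U i₀ P a t) :=
  ev_pre U (Pdec U i₀ P) a h t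

/-- The contracting homotopy. -/
noncomputable def hc {n : ℕ} (y : (CK U (Pdec U i₀ P)).X (n + 1)) : (CK U (Pdec U i₀ P)).X n :=
  mk U (Pdec U i₀ P) (fun σ =>
    (P.map (θ U i₀ (Uσ U σ)).op (ev' U i₀ P y (extT U i₀ (can U σ))) :
      P.obj (op (Uσ U σ ⨯ U i₀))))

lemma ev'_hc {n : ℕ} (y : (CK U (Pdec U i₀ P)).X (n + 1)) {W : C} (t : T U n W) :
    ev' U i₀ P (hc U i₀ P y) t = P.map (θ U i₀ W).op (ev' U i₀ P y (extT U i₀ t)) := by
  have h1 : ev' U i₀ P (hc U i₀ P y) t =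
      P.map (prod.map (toProd U t) (𝟙 (U i₀))).op
        (P.map (θ U i₀ (Uσ U (idx U t))).op (ev' U i₀ P y (extT U i₀ (can U (idx U t))))) := by
    unfold ev' ev hc
    rw [proj_mk]
    rfl
  rw [h1]
  have h2 : extT U i₀ t = T.pre U (prod.map (toProd U t) (𝟙 (U i₀)))
      (extT U i₀ (can U (idx U t))) := by
    rw [extT_pre, pre_can]
  rw [h2, ev'_pre]
  have h3 := θ_natural U i₀ (toProd U t)
  have h4 : ∀ z, P.map (prod.map (toProd U t) (𝟙 (U i₀))).op (P.map (θ U i₀ (Uσ U (idx U t))).op z) =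
      P.map (θ U i₀ W).op (P.map (prod.map (prod.map (toProd U t) (𝟙 (U i₀))) (𝟙 (U i₀))).op z) := by
    intro z
    have e1 : P.map (θ U i₀ (Uσ U (idx U t))).op ≫ P.map (prod.map (toProd U t) (𝟙 (U i₀))).op =
        P.map (prod.map (prod.map (toProd U t) (𝟙 (U i₀))) (𝟙 (U i₀))).op ≫ P.map (θ U i₀ W).op := by
      rw [← P.map_comp, ← P.map_comp, ← op_comp, ← op_comp, h3]
    exact ConcreteCategory.congr_hom e1 z
  exact h4 _

lemma ext_ev' {n : ℕ} (a b : (CK U (Pdec U i₀ P)).X n)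
    (h : ∀ (W : C) (t : T U n W), ev' U i₀ P a t = ev' U i₀ P b t) : a = b := by
  apply ext_proj
  intro σ
  have := h _ (can U σ)
  unfold ev' at this
  rw [ev_can, ev_can] at this
  exact this

lemma ev'_d {n : ℕ} (a : (CK U (Pdec U i₀ P)).X n) {W : C} (t : T U (n + 1) W) :
    ev' U i₀ P ((CK U (Pdec U i₀ P)).d n (n + 1) a) t =
      ∑ k : Fin (n + 2), (-1 : ℤ) ^ (k : ℕ) • ev' U i₀ P a (t ∘ k.succAbove) :=
  ev_d U (Pdec U i₀ P) a t

lemma ev'_add {n : ℕ} (a b : (CK U (Pdec U i₀ P)).X n) {W : C} (t : T U n W) :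
    ev' U i₀ P (a + b) t = ev' U i₀ P a t + ev' U i₀ P b t := ev_add U (Pdec U i₀ P) a b t

lemma ev'_zero {n : ℕ} {W : C} (t : T U n W) :
    ev' U i₀ P (0 : (CK U (Pdec U i₀ P)).X n) t = 0 := ev_zero U (Pdec U i₀ P) t

lemma ev'_hc_d {n : ℕ} (x : (CK U (Pdec U i₀ P)).X (n + 1)) {W : C} (t : T U (n + 1) W) :
    ev' U i₀ P (hc U i₀ P ((CK U (Pdec U i₀ P)).d (n + 1) (n + 2) x)) t =
      ev' U i₀ P x t -
        ∑ k : Fin (n + 2), (-1 : ℤ) ^ (k : ℕ) • ev' U i₀ P (hc U i₀ P x) (t ∘ k.succAbove) := by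
  rw [ev'_hc, ev'_d, Fin.sum_univ_succ, map_add, map_sum]
  have h0 : P.map (θ U i₀ W).op
      ((-1 : ℤ) ^ ((0 : Fin (n + 3)) : ℕ) • ev' U i₀ P x (extT U i₀ t ∘ (0 : Fin (n + 3)).succAbove)) =
      ev' U i₀ P x t := by
    rw [extT_comp_zero, ev'_pre]
    simp only [Fin.val_zero, pow_zero, one_smul]
    have e1 : P.map (prod.map (prod.fst : W ⨯ U i₀ ⟶ W) (𝟙 (U i₀))).op ≫ P.map (θ U i₀ W).op =
        𝟙 _ := by
      rw [← P.map_comp, ← op_comp, θ_fst, op_id, P.map_id]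
    exact ConcreteCategory.congr_hom e1 _
  rw [h0]
  have h1 : ∀ k : Fin (n + 2),
      P.map (θ U i₀ W).op ((-1 : ℤ) ^ ((k.succ : Fin (n + 3)) : ℕ) •
        ev' U i₀ P x (extT U i₀ t ∘ k.succ.succAbove)) =
      - ((-1 : ℤ) ^ (k : ℕ) • ev' U i₀ P (hc U i₀ P x) (t ∘ k.succAbove)) := by
    intro k
    rw [extT_comp_succ, ev'_hc, map_zsmul, Fin.val_succ, pow_succ, mul_neg_one, neg_smul]
  rw [Finset.sum_congr rfl (fun k _ => h1 k), Finset.sum_neg_distrib, sub_eq_add_neg]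

/-- The homotopy identity `d h + h d = id` in positive degrees. -/
theorem d_hc_add_hc_d {n : ℕ} (x : (CK U (Pdec U i₀ P)).X (n + 1)) :
    (CK U (Pdec U i₀ P)).d n (n + 1) (hc U i₀ P x) +
      hc U i₀ P ((CK U (Pdec U i₀ P)).d (n + 1) (n + 2) x) = x := by
  apply ext_ev'
  intro W t
  rw [ev'_add, ev'_d, ev'_hc_d]
  abel

/-- The Čech complex of the décalage presheaf is acyclic in positive degrees. -/
theorem acyc_dec (n : ℕ) : Acyc U (Pdec U i₀ P) n := by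
  intro x hx
  refine ⟨hc U i₀ P x, ?_⟩
  have h := d_hc_add_hc_d U i₀ P x
  rw [hx] at h
  have hz : hc U i₀ P (0 : (CK U (Pdec U i₀ P)).X (n + 2)) = 0 := by
    apply ext_ev'
    intro W t
    rw [ev'_hc, ev'_zero, ev'_zero, map_zero]
  rw [hz, add_zero] at h
  exact h

end Groth.Agent.Lib.Lead.Cech
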