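import Mathlib
import Groth.Prelude.Def_NonAbH1
import Groth.Agent.Lib.Lead.Boundary

/-! Torsors with the same Čech class on a family covering the site are isomorphic. -/

set_option autoImplicit false
universe w' w v u
open CategoryTheory Opposite NonAbH1

namespace Groth.Agent.Lib.Lead.CechIso

open Groth.Agent.Lib.Lead.Boundary

variable {C : Type u} [Category.{v} C] {J : GrothendieckTopology C} {G : Sheaf J GrpCat.{w}}
  {I : Type w'} {U : I → C}

theorem smul_cancel {P : GSheaf G} (hP : P.IsPseudoTorsor) {V : Cᵒᵖ} {g g' : G.obj.obj V}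
    (p : P.P.obj.obj V) (h : P.smul g p = P.smul g' p) : g = g' := by
  obtain ⟨x, -, hx⟩ := hP V p (P.smul g p)
  exact (hx g rfl).trans (hx g' h.symm).symm

theorem map_comp_apply (P : GSheaf G) {X Y Z : Cᵒᵖ} (f : X ⟶ Y) (g : Y ⟶ Z)
    (p : P.P.obj.obj X) :
    P.P.obj.map (f ≫ g) p = P.P.obj.map g (P.P.obj.map f p) := by
  rw [Functor.map_comp]; rfl

theorem isCocycleOf_twist {P : GSheaf G} (s : ∀ i, P.P.obj.obj (op (U i)))
    {γ₁ γ₂ : PresheafOfGroups.OneCocycle G.obj U} (h : P.IsCocycleOf U s γ₁)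
    (α : PresheafOfGroups.ZeroCochain G.obj U)
    (hα : PresheafOfGroups.OneCohomologyRelation γ₁.toOneCochain γ₂.toOneCochain α) :
    P.IsCocycleOf U (fun i => P.smul (α i) (s i)) γ₂ := by
  intro i j T a b
  show P.smul (γ₂.ev i j a b) (P.P.obj.map b.op (P.smul (α j) (s j))) =
    P.P.obj.map a.op (P.smul (α i) (s i))
  rw [P.map_smul, P.map_smul, ← P.mul_smul, ← hα i j a b, P.mul_smul, h i j a b]

section Main

variable (P Q : GSheaf G) (s : ∀ i, P.P.obj.obj (op (U i))) (s' : ∀ i, Q.P.obj.obj (op (U i)))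

/-- the local relation between sections of `P` and of `Q` -/
def Rel₀ {V : C} (p : P.P.obj.obj (op V)) (q : Q.P.obj.obj (op V)) : Prop :=
  ∃ (i : I) (a : V ⟶ U i) (g : G.obj.obj (op V)),
    p = P.smul g (P.P.obj.map a.op (s i)) ∧ q = Q.smul g (Q.P.obj.map a.op (s' i))

variable {P Q s s'}

theorem Rel₀.unique (hP : P.IsPseudoTorsor) {γ₀ : PresheafOfGroups.OneCocycle G.obj U}
    (hs : P.IsCocycleOf U s γ₀) (hs' : Q.IsCocycleOf U s' γ₀)
    {V : C} {p : P.P.obj.obj (op V)} {q q' : Q.P.obj.obj (op V)}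
    (h : Rel₀ P Q s s' p q) (h' : Rel₀ P Q s s' p q') : q = q' := by
  obtain ⟨i, a, g, rfl, rfl⟩ := h
  obtain ⟨j, b, g', hp, rfl⟩ := h'
  rw [← hs i j a b, ← P.mul_smul] at hp
  have h3 := smul_cancel hP _ hp
  rw [← h3, Q.mul_smul, hs' i j a b]

theorem Rel₀.map {V W : C} (h : W ⟶ V) {p : P.P.obj.obj (op V)} {q : Q.P.obj.obj (op V)}
    (hr : Rel₀ P Q s s' p q) :
    Rel₀ P Q s s' (P.P.obj.map h.op p) (Q.P.obj.map h.op q) := by
  obtain ⟨i, a, g, rfl, rfl⟩ := hr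
  refine ⟨i, h ≫ a, G.obj.map h.op g, ?_, ?_⟩
  · rw [P.map_smul, op_comp, map_comp_apply]
  · rw [Q.map_smul, op_comp, map_comp_apply]

theorem Rel₀.exists (hP : P.IsPseudoTorsor) {V : C} {i : I} (a : V ⟶ U i)
    (p : P.P.obj.obj (op V)) : ∃ q, Rel₀ P Q s s' p q := by
  obtain ⟨g, hg, -⟩ := hP (op V) (P.P.obj.map a.op (s i)) p
  exact ⟨_, i, a, g, hg.symm, rfl⟩

theorem Rel₀.smul {V : C} (g : G.obj.obj (op V)) {p : P.P.obj.obj (op V)}
    {q : Q.P.obj.obj (op V)} (hr : Rel₀ P Q s s' p q) :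
    Rel₀ P Q s s' (P.smul g p) (Q.smul g q) := by
  obtain ⟨i, a, g', rfl, rfl⟩ := hr
  exact ⟨i, a, g * g', (P.mul_smul _ _ _).symm, (Q.mul_smul _ _ _).symm⟩

theorem Rel₀.symm {V : C} {p : P.P.obj.obj (op V)} {q : Q.P.obj.obj (op V)}
    (hr : Rel₀ P Q s s' p q) : Rel₀ Q P s' s q p := by
  obtain ⟨i, a, g, h1, h2⟩ := hr
  exact ⟨i, a, g, h2, h1⟩

variable (P Q s s')

/-- the relation "locally related" -/
def Loc {W : C} (p : P.P.obj.obj (op W)) (q : Q.P.obj.obj (op W)) : Prop :=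
  ∀ ⦃V : C⦄ (f : V ⟶ W), Sieve.ofObjects U W f →
    Rel₀ P Q s s' (P.P.obj.map f.op p) (Q.P.obj.map f.op q)

variable {P Q s s'}

theorem Loc.symm {W : C} {p : P.P.obj.obj (op W)} {q : Q.P.obj.obj (op W)}
    (h : Loc P Q s s' p q) : Loc Q P s' s q p :=
  fun _ f hf => (h f hf).symm

theorem Loc.unique (hU : J.CoversTop U) (hP : P.IsPseudoTorsor)
    {γ₀ : PresheafOfGroups.OneCocycle G.obj U}
    (hs : P.IsCocycleOf U s γ₀) (hs' : Q.IsCocycleOf U s' γ₀)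
    {W : C} {p : P.P.obj.obj (op W)} {q q' : Q.P.obj.obj (op W)}
    (h : Loc P Q s s' p q) (h' : Loc P Q s s' p q') : q = q' :=
  sep Q.P (Sieve.ofObjects U W) (hU W) q q'
    (fun _ f hf => Rel₀.unique hP hs hs' (h f hf) (h' f hf))

theorem Loc.exists (hU : J.CoversTop U) (hP : P.IsPseudoTorsor)
    {γ₀ : PresheafOfGroups.OneCocycle G.obj U}
    (hs : P.IsCocycleOf U s γ₀) (hs' : Q.IsCocycleOf U s' γ₀)
    {W : C} (p : P.P.obj.obj (op W)) : ∃ q, Loc P Q s s' p q := by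
  obtain ⟨q, hq⟩ := glue Q.P (Sieve.ofObjects U W) (hU W)
    (fun V f x => Rel₀ P Q s s' (P.P.obj.map f.op p) x)
    (fun V f hf => by
      obtain ⟨i, ⟨a⟩⟩ := hf
      exact Rel₀.exists hP a _)
    (fun V f x x' hx hx' => Rel₀.unique hP hs hs' hx hx')
    (fun V W' f g x hx => by
      have h1 := Rel₀.map g hx
      have h2 : P.P.obj.map (g ≫ f).op p = P.P.obj.map g.op (P.P.obj.map f.op p) := by
        rw [op_comp, map_comp_apply]
      show Rel₀ P Q s s' (P.P.obj.map (g ≫ f).op p) (Q.P.obj.map g.op x)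
      rw [h2]
      exact h1)
  exact ⟨q, hq⟩

theorem Loc.map {W W' : C} (h : W' ⟶ W) {p : P.P.obj.obj (op W)} {q : Q.P.obj.obj (op W)}
    (hl : Loc P Q s s' p q) :
    Loc P Q s s' (P.P.obj.map h.op p) (Q.P.obj.map h.op q) := by
  intro V f hf
  have hf' : Sieve.ofObjects U W (f ≫ h) := by
    obtain ⟨i, ⟨a⟩⟩ := hf
    exact ⟨i, ⟨a⟩⟩
  have h1 := hl (f ≫ h) hf'
  rw [op_comp, map_comp_apply, map_comp_apply] at h1
  exact h1

theorem Loc.smul {W : C} (g : G.obj.obj (op W)) {p : P.P.obj.obj (op W)}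
    {q : Q.P.obj.obj (op W)} (hl : Loc P Q s s' p q) :
    Loc P Q s s' (P.smul g p) (Q.smul g q) := by
  intro V f hf
  rw [P.map_smul, Q.map_smul]
  exact Rel₀.smul _ (hl f hf)

theorem nonempty_iso (hU : J.CoversTop U) (hP : P.IsPseudoTorsor) (hQ : Q.IsPseudoTorsor)
    {γ₀ : PresheafOfGroups.OneCocycle G.obj U}
    (hs : P.IsCocycleOf U s γ₀) (hs' : Q.IsCocycleOf U s' γ₀) : Nonempty (P ≅ Q) := by
  have hex : ∀ (W : Cᵒᵖ) (p : P.P.obj.obj W), ∃ q : Q.P.obj.obj W,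
      Loc P Q s s' (W := unop W) p q := fun W p => Loc.exists hU hP hs hs' (W := unop W) p
  choose θ hθ using hex
  let θh : P.P ⟶ Q.P := mkHom P.P Q.P θ (by
    intro W W' f p
    exact Loc.unique hU hP hs hs' (W := unop W') (Loc.map f.unop (hθ W p)) (hθ W' _))
  let θm : P ⟶ Q := ⟨θh, by
    intro W g p
    show θ W (P.smul g p) = Q.smul g (θ W p)
    exact Loc.unique hU hP hs hs' (W := unop W) (hθ W _) (Loc.smul g (hθ W p))⟩
  refine ⟨gsheafIso θm (fun W => ⟨?_, ?_⟩)⟩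
  · intro p p' h
    have h' : θ W p = θ W p' := h
    have h1 := (hθ W p).symm
    have h2 := (hθ W p').symm
    rw [← h'] at h2
    exact Loc.unique hU hQ hs' hs (W := unop W) h1 h2
  · intro q
    obtain ⟨p, hp⟩ := Loc.exists hU hQ hs' hs (W := unop W) q
    exact ⟨p, Loc.unique hU hP hs hs' (W := unop W) (hθ W p) hp.symm⟩

end Main

theorem main (hU : J.CoversTop U) (P Q : NonAbH1.Torsor G) (c : PresheafOfGroups.H1 G.obj U)
    (hPc : P.toGSheaf.HasCechClass U c) (hQc : Q.toGSheaf.HasCechClass U c) :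
    Nonempty (P.toGSheaf ≅ Q.toGSheaf) := by
  obtain ⟨s, γ₁, hs, hγ⟩ := hPc
  obtain ⟨s', γ₂, hs', hγ'⟩ := hQc
  have hcl : γ₁.class = γ₂.class := hγ.trans hγ'.symm
  rw [PresheafOfGroups.OneCocycle.class_eq_iff] at hcl
  obtain ⟨α, hα⟩ := hcl
  have hs2 := isCocycleOf_twist s hs α hα
  exact nonempty_iso hU P.isTorsor.1 Q.isTorsor.1 hs2 hs'

end Groth.Agent.Lib.Lead.CechIso
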