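import Groth.Agent.Lib.Lead.CechOverInj

/-!
# Restriction of presheaves along `Over.map a` preserves injectives
-/

set_option autoImplicit false

universe u u'

open CategoryTheory CategoryTheory.Limits Opposite

namespace Groth.Agent.Lib.Lead.Cech

variable {C : Type u'} [Category.{u} C] {X T : C} (a : X ⟶ T)

theorem injective_overMap (I : (Over T)ᵒᵖ ⥤ AddCommGrpCat.{u+1}) [Injective I] :
    Injective ((Over.map a).op ⋙ I) := by
  have h1 : Injective ((Over.forget (Over.mk a)).op ⋙ I) :=
    OverInj.injective_res (U := Over.mk a) I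
  let e : (Over (Over.mk a))ᵒᵖ ≌ (Over X)ᵒᵖ := (Over.iteratedSliceEquiv (Over.mk a)).op
  have h2 : Injective ((e.congrLeft (E := AddCommGrpCat.{u+1})).functor.obj
      ((Over.forget (Over.mk a)).op ⋙ I)) :=
    (Equivalence.map_injective_iff _ _).2 h1
  have h3 : (e.congrLeft (E := AddCommGrpCat.{u+1})).functor.obj
      ((Over.forget (Over.mk a)).op ⋙ I) = (Over.map a).op ⋙ I := by
    show (Over.iteratedSliceBackward (Over.mk a)).op ⋙ (Over.forget (Over.mk a)).op ⋙ I =
      (Over.map a).op ⋙ I
    have h4 : (Over.iteratedSliceBackward (Over.mk a)).op ⋙ (Over.forget (Over.mk a)).op =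
        (Over.map a).op := by
      have := congrArg Functor.op (Over.iteratedSliceBackward_forget (Over.mk a))
      exact this
    rw [← Functor.assoc, h4]
  rw [← h3]
  exact h2

end Groth.Agent.Lib.Lead.Cech
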