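import Groth.Agent.Lib.Lead.CechContract

/-!
# Čech complex of a single-object cover: acyclicity from a descent hypothesis
-/

set_option autoImplicit false

universe u

open CategoryTheory CategoryTheory.Limits Opposite

namespace Groth.Agent.Lib.Lead.Cech

variable {C : Type (u+1)} [Category.{u} C] [HasFiniteProducts C] (V : C)
  (P : Cᵒᵖ ⥤ AddCommGrpCat.{u+1})

/-- The one-member family. -/
abbrev U1 : PUnit.{u+2} → C := fun _ => V

/-- The unique index tuple. -/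
abbrev σu (n : ℕ) : Fin (n + 1) → PUnit.{u+2} := fun _ => PUnit.unit

/-- The `(n+1)`-fold power of `V`. -/
noncomputable abbrev Wn (n : ℕ) : C := ∏ᶜ (fun _ : Fin (n + 1) => V)

/-- The `k`-th face map `V^{n+2} ⟶ V^{n+1}`. -/
noncomputable abbrev fc (n : ℕ) (k : Fin (n + 2)) : Wn V (n + 1) ⟶ Wn V n :=
  face (U1 V) (σu (n + 1)) k

theorem acyc_of_desc (n : ℕ)
    (H : ∀ (x₁ : P.obj (op (Wn V (n + 1)))) (y' : P.obj (op (Wn V n ⨯ V))),
      ∑ k : Fin (n + 2), (-1 : ℤ) ^ (k : ℕ) • P.map (prod.map (fc V n k) (𝟙 V)).op y' =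
        P.map (prod.fst : Wn V (n + 1) ⨯ V ⟶ Wn V (n + 1)).op x₁ →
      ∃ y : P.obj (op (Wn V n)),
        ∑ k : Fin (n + 2), (-1 : ℤ) ^ (k : ℕ) • P.map (fc V n k).op y = x₁) :
    Acyc (U1 V) P n := by
  intro x hx
  have hx' : (CK (U1 V) (Pdec (U1 V) PUnit.unit P)).d (n + 1) (n + 2)
      (cmap (U1 V) (πN (U1 V) PUnit.unit P) (n + 1) x) = 0 := by
    rw [← map_d, hx, map_zero]
  obtain ⟨y', hy'⟩ := acyc_dec (U1 V) PUnit.unit P n _ hx'
  have h1 := congrArg (proj (U1 V) (Pdec (U1 V) PUnit.unit P) (n + 1) (σu (n + 1))) hy'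
  rw [proj_d, proj_map] at h1
  obtain ⟨y₀, hy₀⟩ := H (proj (U1 V) P (n + 1) (σu (n + 1)) x)
    (proj (U1 V) (Pdec (U1 V) PUnit.unit P) n (σu n) y') h1
  refine ⟨mk (U1 V) P (fun σ => y₀), ?_⟩
  apply ext_proj
  intro σ
  rw [proj_d]
  simp only [proj_mk]
  exact hy₀

end Groth.Agent.Lib.Lead.Cech
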