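import Mathlib
import Groth.Prelude.Def_NonAbH1
import Groth.Agent.Lib.Lead.Boundary

/-! The torsor cut out by a Čech 1-cocycle on a family covering the site. -/

set_option autoImplicit false
universe w' w v u
open CategoryTheory Opposite NonAbH1

namespace Groth.Agent.Lib.Lead.CechTorsor

open Groth.Agent.Lib.Lead.Boundary

variable {C : Type u} [Category.{v} C] {J : GrothendieckTopology C} (G : Sheaf J GrpCat.{w})
  {I : Type w'} (U : I → C) (z : PresheafOfGroups.OneCocycle G.obj U)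

theorem Gmap_comp {X Y Z : C} (f : X ⟶ Y) (h : Y ⟶ Z) (g : G.obj.obj (op Z)) :
    G.obj.map (f ≫ h).op g = G.obj.map f.op (G.obj.map h.op g) := by
  rw [op_comp, CategoryTheory.Functor.map_comp]; rfl

theorem Gmap_id {X : C} (g : G.obj.obj (op X)) : G.obj.map (𝟙 X).op g = g := by
  rw [op_id, CategoryTheory.Functor.map_id]; rfl

/-- sections of the torsor of the cocycle `z` over `W` (in a large universe) -/
@[ext]
structure Sec (W : C) where
  x : ∀ (i : I) ⦃T : C⦄ (_ : T ⟶ W) (_ : T ⟶ U i), G.obj.obj (op T)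
  precomp : ∀ (i : I) ⦃T T' : C⦄ (φ : T' ⟶ T) (f : T ⟶ W) (a : T ⟶ U i),
    G.obj.map φ.op (x i f a) = x i (φ ≫ f) (φ ≫ a)
  trans : ∀ (i j : I) ⦃T : C⦄ (f : T ⟶ W) (a : T ⟶ U i) (b : T ⟶ U j),
    x i f a * z.ev i j a b = x j f b

section SecOps

variable {G U z}

namespace Sec

def res {W W' : C} (h : W' ⟶ W) (x : Sec G U z W) : Sec G U z W' where
  x i T f a := x.x i (f ≫ h) a
  precomp i T T' φ f a := by
    rw [x.precomp i φ (f ≫ h) a, Category.assoc]
  trans i j T f a b := x.trans i j (f ≫ h) a b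

@[simp] theorem res_x {W W' : C} (h : W' ⟶ W) (x : Sec G U z W) (i : I) {T : C}
    (f : T ⟶ W') (a : T ⟶ U i) : (res h x).x i f a = x.x i (f ≫ h) a := rfl

theorem res_id {W : C} (x : Sec G U z W) : res (𝟙 W) x = x := by
  ext i T f a
  rw [res_x, Category.comp_id]

theorem res_comp {W W' W'' : C} (h : W' ⟶ W) (h' : W'' ⟶ W') (x : Sec G U z W) :
    res h' (res h x) = res (h' ≫ h) x := by
  ext i T f a
  rw [res_x, res_x, res_x, Category.assoc]

def smul {W : C} (g : G.obj.obj (op W)) (x : Sec G U z W) : Sec G U z W where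
  x i T f a := G.obj.map f.op g * x.x i f a
  precomp i T T' φ f a := by
    rw [map_mul, x.precomp i φ f a, Gmap_comp]
  trans i j T f a b := by
    rw [mul_assoc, x.trans i j f a b]

@[simp] theorem smul_x {W : C} (g : G.obj.obj (op W)) (x : Sec G U z W) (i : I) {T : C}
    (f : T ⟶ W) (a : T ⟶ U i) : (smul g x).x i f a = G.obj.map f.op g * x.x i f a := rfl

theorem one_smul' {W : C} (x : Sec G U z W) : smul 1 x = x := by
  ext i T f a
  rw [smul_x, map_one, one_mul]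

theorem mul_smul' {W : C} (g h : G.obj.obj (op W)) (x : Sec G U z W) :
    smul (g * h) x = smul g (smul h x) := by
  ext i T f a
  rw [smul_x, smul_x, smul_x, map_mul, mul_assoc]

theorem res_smul {W W' : C} (h : W' ⟶ W) (g : G.obj.obj (op W)) (x : Sec G U z W) :
    res h (smul g x) = smul (G.obj.map h.op g) (res h x) := by
  ext i T f a
  rw [res_x, smul_x, smul_x, res_x, Gmap_comp]

theorem diff_indep {W : C} (x y : Sec G U z W) (i j : I) {T : C} (f : T ⟶ W) (a : T ⟶ U i)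
    (b : T ⟶ U j) : y.x j f b * (x.x j f b)⁻¹ = y.x i f a * (x.x i f a)⁻¹ := by
  rw [← y.trans i j f a b, ← x.trans i j f a b, mul_inv_rev, mul_assoc, mul_inv_cancel_left]

theorem exists_smul (hU : J.CoversTop U) {W : C} (x y : Sec G U z W) :
    ∃ g : G.obj.obj (op W), smul g x = y := by
  obtain ⟨g, hg⟩ := glue (GSheaf.uSh.{w, v, u} G) (Sieve.ofObjects U W) (hU W)
    (fun V f g' => ∃ (i : I) (a : V ⟶ U i), GSheaf.toGrp.{w, v, u} g' = y.x i f a * (x.x i f a)⁻¹)
    (fun V f hf => by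
      obtain ⟨i, ⟨a⟩⟩ := hf
      exact ⟨GSheaf.ofGrp.{w, v, u} (y.x i f a * (x.x i f a)⁻¹), i, a, rfl⟩)
    (fun V f g₁ g₂ h₁ h₂ => by
      obtain ⟨i, a, h₁⟩ := h₁
      obtain ⟨j, b, h₂⟩ := h₂
      show GSheaf.toGrp.{w, v, u} g₁ = GSheaf.toGrp.{w, v, u} g₂
      rw [h₁, h₂, diff_indep x y i j f a b])
    (fun V V' f k g' hg' => by
      obtain ⟨i, a, h₁⟩ := hg'
      refine ⟨i, k ≫ a, ?_⟩
      show G.obj.map k.op (GSheaf.toGrp.{w, v, u} g') = _
      rw [h₁, map_mul, map_inv, y.precomp, x.precomp])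
  refine ⟨GSheaf.toGrp.{w, v, u} g, ?_⟩
  ext i T f a
  obtain ⟨j, b, hj⟩ := hg f ⟨i, ⟨a⟩⟩
  have hj' : G.obj.map f.op (GSheaf.toGrp.{w, v, u} g) = y.x j f b * (x.x j f b)⁻¹ := hj
  rw [smul_x, hj', diff_indep x y i j f a b, inv_mul_cancel_right]

theorem smul_inj (hU : J.CoversTop U) {W : C} (x : Sec G U z W) {g g' : G.obj.obj (op W)}
    (h : smul g x = smul g' x) : g = g' := by
  refine sep (GSheaf.uSh.{w, v, u} G) (Sieve.ofObjects U W) (hU W) (GSheaf.ofGrp.{w, v, u} g) (GSheaf.ofGrp.{w, v, u} g') ?_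
  intro V f hf
  obtain ⟨i, ⟨a⟩⟩ := hf
  have h1 := congrArg (fun s : Sec G U z W => s.x i f a) h
  have h2 : G.obj.map f.op g * x.x i f a = G.obj.map f.op g' * x.x i f a := h1
  show G.obj.map f.op g = G.obj.map f.op g'
  exact mul_right_cancel h2

end Sec

open Sec

theorem small_sec (hU : J.CoversTop U) (W : C) : Small.{w} (Sec G U z W) := by
  by_cases h : Nonempty (Sec G U z W)
  · obtain ⟨x₀⟩ := h
    exact small_of_surjective (f := fun g : G.obj.obj (op W) => smul g x₀)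
      (fun y => exists_smul hU x₀ y)
  · haveI : IsEmpty (Sec G U z W) := not_nonempty_iff.1 h
    infer_instance

theorem sec_sep {W : C} (S : Sieve W) (hS : S ∈ J W) (x x' : Sec G U z W)
    (h : ∀ ⦃V : C⦄ (f : V ⟶ W), S f → res f x = res f x') : x = x' := by
  ext i T t a
  refine sep (GSheaf.uSh.{w, v, u} G) (S.pullback t) (J.pullback_stable t hS)
    (GSheaf.ofGrp.{w, v, u} (x.x i t a)) (GSheaf.ofGrp.{w, v, u} (x'.x i t a)) ?_
  intro V k hk
  have hk' : S (k ≫ t) := hk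
  have h1 := congrArg (fun s : Sec G U z V => s.x i (𝟙 V) (k ≫ a)) (h (k ≫ t) hk')
  have h2 : x.x i (𝟙 V ≫ k ≫ t) (k ≫ a) = x'.x i (𝟙 V ≫ k ≫ t) (k ≫ a) := h1
  rw [Category.id_comp] at h2
  show G.obj.map k.op (x.x i t a) = G.obj.map k.op (x'.x i t a)
  rw [x.precomp, x'.precomp]
  exact h2

theorem sec_amalg {W : C} (S : Sieve W) (hS : S ∈ J W)
    (y : ∀ ⦃V : C⦄ (f : V ⟶ W), S f → Sec G U z V)
    (hy : ∀ ⦃V V' : C⦄ (f : V ⟶ W) (k : V' ⟶ V) (hf : S f),
      res k (y f hf) = y (k ≫ f) (S.downward_closed hf k)) :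
    ∃ x : Sec G U z W, ∀ ⦃V : C⦄ (f : V ⟶ W) (hf : S f), res f x = y f hf := by
  have ycongr : ∀ {V : C} {f f' : V ⟶ W} (_ : f = f') (hf : S f) (hf' : S f'),
      y f hf = y f' hf' := by
    intro V f f' e hf hf'; subst e; rfl
  have key : ∀ ⦃V V' : C⦄ (f : V ⟶ W) (k : V' ⟶ V) (hf : S f) (hkf : S (k ≫ f)) (i : I)
      ⦃T : C⦄ (c : T ⟶ V') (d : T ⟶ U i),
      (y (k ≫ f) hkf).x i c d = (y f hf).x i (c ≫ k) d := by
    intro V V' f k hf hkf i T c d
    have h1 := congrArg (fun s : Sec G U z V' => s.x i c d) (hy f k hf)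
    exact h1.symm
  have hX : ∀ (i : I) ⦃T : C⦄ (t : T ⟶ W) (a : T ⟶ U i), ∃ g : G.obj.obj (op T),
      ∀ ⦃V : C⦄ (k : V ⟶ T) (hk : S (k ≫ t)),
        G.obj.map k.op g = (y (k ≫ t) hk).x i (𝟙 V) (k ≫ a) := by
    intro i T t a
    obtain ⟨g, hg⟩ := glue (GSheaf.uSh.{w, v, u} G) (S.pullback t) (J.pullback_stable t hS)
      (fun V k g' => ∃ hk : S (k ≫ t),
        GSheaf.toGrp.{w, v, u} g' = (y (k ≫ t) hk).x i (𝟙 V) (k ≫ a))
      (fun V k hk => ⟨GSheaf.ofGrp.{w, v, u} ((y (k ≫ t) hk).x i (𝟙 V) (k ≫ a)), hk, rfl⟩)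
      (fun V k g₁ g₂ h₁ h₂ => by
        obtain ⟨hk, h₁⟩ := h₁
        obtain ⟨hk', h₂⟩ := h₂
        show GSheaf.toGrp.{w, v, u} g₁ = GSheaf.toGrp.{w, v, u} g₂
        rw [h₁, h₂])
      (fun V V' k l g' hg' => by
        obtain ⟨hk, h₁⟩ := hg'
        have hlk : S ((l ≫ k) ≫ t) := by
          rw [Category.assoc]; exact S.downward_closed hk l
        refine ⟨hlk, ?_⟩
        show G.obj.map l.op (GSheaf.toGrp.{w, v, u} g') = _
        rw [h₁, (y (k ≫ t) hk).precomp]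
        have e : y ((l ≫ k) ≫ t) hlk = y (l ≫ (k ≫ t)) (S.downward_closed hk l) :=
          ycongr (Category.assoc _ _ _) _ _
        have e2 := key (k ≫ t) l hk (S.downward_closed hk l) i (𝟙 V') ((l ≫ k) ≫ a)
        rw [e, e2, Category.comp_id, Category.id_comp, Category.assoc])
    exact ⟨GSheaf.toGrp.{w, v, u} g, fun V k hk => by
      obtain ⟨_, h⟩ := hg k hk
      exact h⟩
  choose X hXs using hX
  have Xpre : ∀ (i : I) ⦃T T' : C⦄ (φ : T' ⟶ T) (t : T ⟶ W) (a : T ⟶ U i),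
      G.obj.map φ.op (X i t a) = X i (φ ≫ t) (φ ≫ a) := by
    intro i T T' φ t a
    refine sep (GSheaf.uSh.{w, v, u} G) (S.pullback (φ ≫ t)) (J.pullback_stable (φ ≫ t) hS)
      (GSheaf.ofGrp.{w, v, u} (G.obj.map φ.op (X i t a))) (GSheaf.ofGrp.{w, v, u} (X i (φ ≫ t) (φ ≫ a))) ?_
    intro V k hk
    have hk1 : S (k ≫ φ ≫ t) := hk
    have hk2 : S ((k ≫ φ) ≫ t) := by rw [Category.assoc]; exact hk1
    show G.obj.map k.op (G.obj.map φ.op (X i t a)) = G.obj.map k.op (X i (φ ≫ t) (φ ≫ a))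
    rw [← Gmap_comp, hXs i t a (k ≫ φ) hk2, hXs i (φ ≫ t) (φ ≫ a) k hk1,
      ycongr (Category.assoc k φ t) hk2 hk1, Category.assoc]
  have Xtrans : ∀ (i j : I) ⦃T : C⦄ (t : T ⟶ W) (a : T ⟶ U i) (b : T ⟶ U j),
      X i t a * z.ev i j a b = X j t b := by
    intro i j T t a b
    refine sep (GSheaf.uSh.{w, v, u} G) (S.pullback t) (J.pullback_stable t hS)
      (GSheaf.ofGrp.{w, v, u} (X i t a * z.ev i j a b)) (GSheaf.ofGrp.{w, v, u} (X j t b)) ?_
    intro V k hk
    have hk1 : S (k ≫ t) := hk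
    show G.obj.map k.op (X i t a * z.ev i j a b) = G.obj.map k.op (X j t b)
    rw [map_mul, hXs i t a k hk1, hXs j t b k hk1, z.ev_precomp, (y (k ≫ t) hk1).trans]
  refine ⟨⟨X, Xpre, Xtrans⟩, ?_⟩
  intro V f hf
  ext i T t a
  show X i (t ≫ f) a = (y f hf).x i t a
  have htf : S (t ≫ f) := S.downward_closed hf t
  have hid : S (𝟙 T ≫ t ≫ f) := by rw [Category.id_comp]; exact htf
  have h1 := hXs i (t ≫ f) a (𝟙 T) hid
  rw [Gmap_id] at h1
  rw [h1, ycongr (Category.id_comp (t ≫ f)) hid htf, key f t hf htf, Category.id_comp,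
    Category.id_comp]

end SecOps

section Shrunk

variable [hUf : Fact (J.CoversTop U)]

instance smallSec (W : C) : Small.{w} (Sec G U z W) := small_sec hUf.out W

/-- sections, shrunk to the universe of `G` -/
def PObj (W : C) : Type w := Shrink.{w} (Sec G U z W)

variable {G U z}

noncomputable def toP {W : C} (x : Sec G U z W) : PObj G U z W := equivShrink.{w} _ x

noncomputable def ofP {W : C} (p : PObj G U z W) : Sec G U z W := (equivShrink.{w} _).symm p

@[simp] theorem ofP_toP {W : C} (x : Sec G U z W) : ofP (toP x) = x :=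
  Equiv.symm_apply_apply _ _

@[simp] theorem toP_ofP {W : C} (p : PObj G U z W) : toP (ofP p) = p :=
  Equiv.apply_symm_apply _ _

theorem ofP_injective {W : C} : Function.Injective (ofP : PObj G U z W → Sec G U z W) :=
  (equivShrink.{w} _).symm.injective

variable (G U z)

/-- the presheaf of (shrunk) sections -/
noncomputable def Pfun : Cᵒᵖ ⥤ Type w where
  obj W := PObj G U z (unop W)
  map {W W'} h := TypeCat.ofHom (fun p => toP (Sec.res h.unop (ofP p)))
  map_id W := by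
    ext p
    show toP (Sec.res (𝟙 (unop W)) (ofP p)) = p
    rw [Sec.res_id, toP_ofP]
  map_comp {W W' W''} h h' := by
    ext p
    show toP (Sec.res (h'.unop ≫ h.unop) (ofP p)) =
      toP (Sec.res h'.unop (ofP (toP (Sec.res h.unop (ofP p)))))
    rw [ofP_toP, Sec.res_comp]

theorem Pfun_isSheaf : Presieve.IsSheaf J (Pfun G U z) := by
  intro W S hS xs hxs
  rw [Presieve.compatible_iff_sieveCompatible] at hxs
  obtain ⟨x, hx⟩ := sec_amalg S hS (fun V f hf => ofP (xs f hf)) (by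
    intro V V' f k hf
    have h1 := hxs f k hf
    show Sec.res k (ofP (xs f hf)) = ofP (xs (k ≫ f) _)
    rw [h1]
    show _ = ofP (toP (Sec.res k (ofP (xs f hf))))
    rw [ofP_toP])
  have hx' : ∀ ⦃V : C⦄ (f : V ⟶ W) (hf : S f), Sec.res f x = ofP (xs f hf) := hx
  refine ⟨toP x, ?_, ?_⟩
  · intro V f hf
    show toP (Sec.res f (ofP (toP x))) = xs f hf
    rw [ofP_toP, hx' f hf, toP_ofP]
  · intro t ht
    apply ofP_injective
    rw [ofP_toP]
    refine sec_sep S hS _ _ ?_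
    intro V f hf
    rw [hx' f hf]
    have h2 : toP (Sec.res f (ofP t)) = xs f hf := ht f hf
    rw [← h2, ofP_toP]

/-- the `G`-sheaf of the cocycle -/
noncomputable def PG : GSheaf G where
  P := ⟨Pfun G U z, (isSheaf_iff_isSheaf_of_type J _).2 (Pfun_isSheaf G U z)⟩
  smul {W} g p := toP (Sec.smul g (ofP p))
  one_smul {W} p := by
    show toP (Sec.smul 1 (ofP p)) = p
    rw [Sec.one_smul', toP_ofP]
  mul_smul {W} g h p := by
    show toP (Sec.smul (g * h) (ofP p)) = toP (Sec.smul g (ofP (toP (Sec.smul h (ofP p)))))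
    rw [Sec.mul_smul', ofP_toP]
  map_smul {W W'} f g p := by
    show toP (Sec.res f.unop (ofP (toP (Sec.smul g (ofP p))))) =
      toP (Sec.smul (G.obj.map f g) (ofP (toP (Sec.res f.unop (ofP p)))))
    rw [ofP_toP, ofP_toP, Sec.res_smul]
    rfl

/-- the tautological section over `U k` -/
def base (k : I) : Sec G U z (U k) where
  x i T f a := z.ev k i f a
  precomp i T T' φ f a := z.ev_precomp k i φ f a
  trans i j T f a b := z.ev_trans k i j f a b

theorem PG_isTorsor : (PG G U z).IsTorsor := by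
  constructor
  · intro W p q
    obtain ⟨g, hg⟩ := Sec.exists_smul hUf.out (ofP p) (ofP q)
    refine ⟨g, ?_, ?_⟩
    · show toP (Sec.smul g (ofP p)) = q
      rw [hg, toP_ofP]
    · intro g' hg'
      have h1 : toP (Sec.smul g' (ofP p)) = q := hg'
      apply Sec.smul_inj hUf.out (ofP p)
      rw [hg, ← h1, ofP_toP]
  · intro W
    refine ⟨Sieve.ofObjects U W, hUf.out W, ?_⟩
    rintro V f ⟨i, ⟨a⟩⟩
    exact ⟨toP (Sec.res a (base G U z i))⟩

theorem isCocycle : (PG G U z).IsCocycleOf U (fun i => toP (base G U z i)) z := by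
  intro i j T a b
  show toP (Sec.smul (z.ev i j a b) (ofP (toP (Sec.res b (ofP (toP (base G U z j))))))) =
    toP (Sec.res a (ofP (toP (base G U z i))))
  rw [ofP_toP, ofP_toP, ofP_toP]
  congr 1
  ext k T' f c
  show G.obj.map f.op (z.ev i j a b) * z.ev j k (f ≫ b) c = z.ev i k (f ≫ a) c
  rw [z.ev_precomp, z.ev_trans]

end Shrunk

theorem main (G : Sheaf J GrpCat.{w}) {I : Type w'} (U : I → C) (hU : J.CoversTop U)
    (c : PresheafOfGroups.H1 G.obj U) :
    ∃ P : NonAbH1.Torsor G, P.toGSheaf.TrivialisedBy U ∧ P.toGSheaf.HasCechClass U c := by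
  obtain ⟨z, rfl⟩ := Quot.exists_rep c
  haveI : Fact (J.CoversTop U) := ⟨hU⟩
  exact ⟨⟨PG G U z, PG_isTorsor G U z⟩, fun i => ⟨toP (base G U z i)⟩,
    fun i => toP (base G U z i), z, isCocycle G U z, rfl⟩

end Groth.Agent.Lib.Lead.CechTorsor
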