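import Mathlib
import Groth.Agent.Lib.Lead.LexRefl2

/-!
# Cocontinuity from right Kan extensions preserving sheaves
-/

set_option autoImplicit false
open CategoryTheory CategoryTheory.Limits Opposite
universe u

namespace Groth.Agent.Lib.Lead.CocontRan

variable {C : Type u} [SmallCategory C] {C' : Type u} [SmallCategory C']

/-- the top map of the comparison square -/
def topMap (G : C ⥤ C') {Y : C} (R : Sieve (G.obj Y)) :
    (R.functorPullback G).functor ⟶ G.op ⋙ R.functor where
  app Z := TypeCat.ofHom (fun g =>
    (⟨G.map g.1, g.2⟩ : {h : G.obj Z.unop ⟶ G.obj Y // R h}))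
  naturality := by
    intro Z W k
    apply ConcreteCategory.hom_ext
    intro g
    apply Subtype.ext
    exact G.map_comp _ _

/-- the bottom map of the comparison square -/
def botMap (G : C ⥤ C') (Y : C) : yoneda.obj Y ⟶ G.op ⋙ yoneda.obj (G.obj Y) where
  app Z := TypeCat.ofHom (fun g => G.map g)
  naturality := by
    intro Z W k
    apply ConcreteCategory.hom_ext
    intro g
    exact G.map_comp _ _

lemma isPullback_sq (G : C ⥤ C') {Y : C} (R : Sieve (G.obj Y)) :
    IsPullback (topMap G R) (R.functorPullback G).functorInclusion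
      (Functor.whiskerLeft G.op R.functorInclusion) (botMap G Y) := by
  refine IsPullback.of_forall_isPullback_app fun Z => ?_
  rw [Types.isPullback_iff]
  refine ⟨?_, ?_, ?_⟩
  · apply ConcreteCategory.hom_ext
    intro g
    rfl
  · rintro g₁ g₂ ⟨-, h⟩
    exact Subtype.ext h
  · intro s g h
    have h' : s.1 = G.map g := h
    have hg : R (G.map g) := by
      rw [← h']
      exact s.2
    exact ⟨⟨g, hg⟩, Subtype.ext h'.symm, rfl⟩

theorem isCocontinuous_of_ran_isSheaf (J : GrothendieckTopology C) (J' : GrothendieckTopology C')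
    (G : C ⥤ C')
    (h : ∀ T : Sheaf J (Type u), Presheaf.IsSheaf J' ((G.op.ran).obj T.obj)) :
    G.IsCocontinuous J J' := by
  refine ⟨fun {Y R} hR => ?_⟩
  have hiso1 : IsIso ((presheafToSheaf J (Type u)).map
      (Functor.whiskerLeft G.op R.functorInclusion)) := by
    rw [LexRefl2.isIso_map_iff (sheafificationAdjunction J (Type u))]
    intro T
    have h0 := (G.op.ranAdjunction (Type u)).map_comp_bijective_iff R.functorInclusion T.obj
    refine h0.2 ?_
    rw [Function.bijective_iff_existsUnique]
    have h1 := ((isSheaf_iff_isSheaf_of_type J' _).1 (h T)) R hR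
    rw [Presieve.isSheafFor_iff_yonedaSheafCondition] at h1
    exact h1
  have hiso2 : IsIso ((presheafToSheaf J (Type u)).map
      (R.functorPullback G).functorInclusion) := by
    have sq := (isPullback_sq G R).map (presheafToSheaf J (Type u))
    exact sq.isIso_snd_of_isIso
  have hW : J.W (R.functorPullback G).functorInclusion := (J.W_iff _).2 hiso2
  haveI := hW.isLocallySurjective
  have h3 := Presheaf.imageSieve_mem J (R.functorPullback G).functorInclusion (U := op Y) (𝟙 Y)
  refine J.superset_covering ?_ h3
  rintro Z g ⟨t, ht⟩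
  have h4 : t.1 = g ≫ 𝟙 Y := ht
  rw [Category.comp_id] at h4
  rw [← h4]
  exact t.2

end Groth.Agent.Lib.Lead.CocontRan
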