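import Mathlib
import Groth.Prelude.Def_SGA4a

/-!
# Giraud's theorem, part A: canonical coverings in a category satisfying Giraud's axioms
-/

set_option autoImplicit false
open CategoryTheory CategoryTheory.Limits Opposite
universe w v u

namespace Groth.Agent.Lib.Lead.Giraud

variable {E : Type v} [Category.{u} E]

/-- a sieve generated by a colimit cofan satisfies the sheaf condition for representables -/
theorem isSheafFor_yoneda_of_colimit_cofan {Z W : E} {ι : Type w} {T : ι → E} (t : ∀ i, T i ⟶ Z)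
    (hc : IsColimit (Cofan.mk Z t)) (S : Sieve Z) (hS1 : ∀ i, S (t i))
    (hS2 : ∀ {V : E} (f : V ⟶ Z), S f → ∃ (i : ι) (a : V ⟶ T i), f = a ≫ t i) :
    Presieve.IsSheafFor (yoneda.obj W) S.arrows := by
  intro x hx
  have hcomp := (Presieve.compatible_iff_sieveCompatible x).1 hx
  refine ⟨Cofan.IsColimit.desc hc (fun i => x (t i) (hS1 i)), ?_, ?_⟩
  · intro V f hf
    obtain ⟨i, a, rfl⟩ := hS2 f hf
    have h1 := hcomp (t i) a (hS1 i)
    rw [h1]
    show (a ≫ t i) ≫ _ = a ≫ x (t i) _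
    rw [Category.assoc]
    congr 1
    exact Cofan.IsColimit.fac hc _ i
  · intro y hy
    apply Cofan.IsColimit.hom_ext hc
    intro i
    rw [Cofan.IsColimit.fac]
    exact hy (t i) (hS1 i)

/-- a universal coproduct cofan generates a covering sieve for the canonical topology -/
theorem ofArrows_mem_canonical_of_universal [HasPullbacks E] {ι : Type w} {Y : ι → E}
    (c : Cofan Y) (hu : IsUniversalColimit c) :
    Sieve.ofArrows Y c.inj ∈ Sheaf.canonicalTopology E c.pt := by
  apply Sheaf.mem_finestTopology_of_forall_isSheafFor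
  rintro _ ⟨W, rfl⟩ Z g
  obtain ⟨hc'⟩ := hu (Cofan.mk Z (fun i => pullback.snd (c.inj i) g))
    (Discrete.natTrans (fun i => pullback.fst (c.inj i.as) g)) g
    (by ext ⟨i⟩; exact pullback.condition) (.of_discrete _)
    (fun ⟨i⟩ => (IsPullback.of_hasPullback (c.inj i) g).flip)
  refine isSheafFor_yoneda_of_colimit_cofan _ hc' _ ?_ ?_
  · intro i
    show Sieve.ofArrows Y c.inj (pullback.snd (c.inj i) g ≫ g)
    rw [← pullback.condition]
    exact Sieve.downward_closed _ (Sieve.ofArrows_mk Y c.inj i) _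
  · intro V f hf
    obtain ⟨W', a, k, ⟨i⟩, hk⟩ := hf
    exact ⟨i, pullback.lift a f hk, (pullback.lift_snd _ _ _).symm⟩

theorem singleton_mem_canonical_of_universal [HasPullbacks E] {X B : E} (π : X ⟶ B)
    (h : ∀ (B' : E) (g : B' ⟶ B), EffectiveEpi (pullback.snd π g)) :
    Sieve.generate (Presieve.singleton π) ∈ Sheaf.canonicalTopology E B := by
  apply Sheaf.mem_finestTopology_of_forall_isSheafFor
  rintro _ ⟨W, rfl⟩ B' g
  rw [← Sieve.pullbackArrows_comm, Presieve.pullback_singleton]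
  have := (Sieve.effectiveEpimorphic_singleton (pullback.snd π g)).2 (h B' g)
  exact (Sieve.EffectiveEpimorphic.iff_forall_isSheafFor_yoneda _).1 this W

theorem bot_mem_canonical_of_strict {V : E}
    (h : ∀ (T : E) (_ : T ⟶ V), Nonempty (IsInitial T)) :
    (⊥ : Sieve V) ∈ Sheaf.canonicalTopology E V := by
  apply Sheaf.mem_finestTopology_of_forall_isSheafFor
  rintro _ ⟨W, rfl⟩ T f
  obtain ⟨hT⟩ := h T f
  intro x hx
  refine ⟨hT.to W, ?_, fun y _ => hT.hom_ext _ _⟩
  intro V' k hk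
  exact False.elim hk

/-- singleton covering for the canonical topology -/
def Cov {H R : E} (q : H ⟶ R) : Prop :=
  Sieve.generate (Presieve.singleton q) ∈ Sheaf.canonicalTopology E R

theorem Cov.of_univ [HasPullbacks E] {H R : E} {q : H ⟶ R}
    (h : ∀ (B' : E) (g : B' ⟶ R), EffectiveEpi (pullback.snd q g)) : Cov q :=
  singleton_mem_canonical_of_universal q h

theorem Cov.pullback [HasPullbacks E] {H R B' : E} {q : H ⟶ R} (h : Cov q) (g : B' ⟶ R) :
    Cov (pullback.snd q g) := by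
  have := (Sheaf.canonicalTopology E).pullback_stable g h
  rw [← Sieve.pullbackArrows_comm, Presieve.pullback_singleton] at this
  exact this

theorem Cov.isSheafFor {H R : E} {q : H ⟶ R} (h : Cov q) {P : Eᵒᵖ ⥤ Type u}
    (hP : Presieve.IsSheaf (Sheaf.canonicalTopology E) P) :
    Presieve.IsSheafFor P (Presieve.singleton q) :=
  (Presieve.isSheafFor_iff_generate _).2 (hP _ h)

theorem Cov.sheaf_injective {H R : E} {q : H ⟶ R} (h : Cov q) {P : Eᵒᵖ ⥤ Type u}
    (hP : Presieve.IsSheaf (Sheaf.canonicalTopology E) P) : Function.Injective (P.map q.op) := by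
  have := (h.isSheafFor hP).isSeparatedFor
  rwa [Presieve.isSeparatedFor_singleton] at this

theorem Cov.sheaf_desc {H R : E} {q : H ⟶ R} (h : Cov q) {P : Eᵒᵖ ⥤ Type u}
    (hP : Presieve.IsSheaf (Sheaf.canonicalTopology E) P) (x : P.obj (op H))
    (hx : ∀ {Z : E} (p₁ p₂ : Z ⟶ H), p₁ ≫ q = p₂ ≫ q → P.map p₁.op x = P.map p₂.op x) :
    ∃ y : P.obj (op R), P.map q.op y = x := by
  have := h.isSheafFor hP
  rw [Presieve.isSheafFor_singleton] at this
  obtain ⟨y, hy, _⟩ := this x (fun p₁ p₂ hp => hx p₁ p₂ hp)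
  exact ⟨y, hy⟩

theorem Cov.epi {H R : E} {q : H ⟶ R} (h : Cov q) : Epi q := by
  refine ⟨fun {W} a b hab => ?_⟩
  exact h.sheaf_injective (Sheaf.isSheaf_yoneda_obj W) hab

theorem Cov.desc {H R W : E} {q : H ⟶ R} (h : Cov q) (a : H ⟶ W)
    (ha : ∀ {Z : E} (p₁ p₂ : Z ⟶ H), p₁ ≫ q = p₂ ≫ q → p₁ ≫ a = p₂ ≫ a) :
    ∃ t : R ⟶ W, q ≫ t = a :=
  h.sheaf_desc (Sheaf.isSheaf_yoneda_obj W) a (fun p₁ p₂ hp => ha p₁ p₂ hp)

theorem Cov.comp_iso {H R T : E} {q : H ⟶ R} (h : Cov q) (m : R ⟶ T) [IsIso m] :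
    Cov (q ≫ m) := by
  have h1 : (Sieve.generate (Presieve.singleton (q ≫ m))).pullback m ∈
      Sheaf.canonicalTopology E R := by
    refine (Sheaf.canonicalTopology E).superset_covering ?_ h
    rw [Sieve.generate_le_iff]
    rintro _ _ ⟨⟩
    exact ⟨_, 𝟙 _, q ≫ m, Presieve.singleton.mk, by simp⟩
  have h2 := (Sheaf.canonicalTopology E).pullback_stable (inv m) h1
  rw [← Sieve.pullback_comp, IsIso.inv_hom_id, Sieve.pullback_id] at h2
  exact h2

end Groth.Agent.Lib.Lead.Giraud
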