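import Mathlib
import Groth.Agent.Lib.Lead.GirA

/-!
# Giraud's theorem, part B: consequences of the axioms (strict initial object, images,
covering by generators, sheaves on coproducts)
-/

set_option autoImplicit false
open CategoryTheory CategoryTheory.Limits Opposite
universe w v u

namespace Groth.Agent.Lib.Lead.Giraud

variable {E : Type v} [Category.{u} E]

/-- a chosen disjoint universal coproduct -/
structure GoodCofan {ι : Type u} (X : ι → E) where
  c : Cofan X
  isColimit : IsColimit c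
  disj : CoproductDisjoint X
  univ : IsUniversalColimit c

noncomputable def goodCofan (hb : SGA4.HasDisjointUniversalCoproducts.{v, u} E) {ι : Type u}
    (X : ι → E) : GoodCofan X :=
  ⟨(hb ι X).choose, (hb ι X).choose_spec.choose, (hb ι X).choose_spec.choose_spec.1,
    (hb ι X).choose_spec.choose_spec.2⟩

namespace GoodCofan

variable {ι : Type u} {X : ι → E} (g : GoodCofan X)

noncomputable def desc {W : E} (f : ∀ k, X k ⟶ W) : g.c.pt ⟶ W :=
  Cofan.IsColimit.desc g.isColimit f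

@[simp]
theorem fac {W : E} (f : ∀ k, X k ⟶ W) (k : ι) : g.c.inj k ≫ g.desc f = f k :=
  Cofan.IsColimit.fac g.isColimit f k

theorem hom_ext {W : E} {a b : g.c.pt ⟶ W} (h : ∀ k, g.c.inj k ≫ a = g.c.inj k ≫ b) : a = b :=
  Cofan.IsColimit.hom_ext g.isColimit _ _ h

theorem mono_inj (k : ι) : Mono (g.c.inj k) :=
  haveI := g.disj
  CoproductDisjoint.mono_inj g.isColimit k

theorem cov [HasPullbacks E] :
    Sieve.ofArrows X g.c.inj ∈ Sheaf.canonicalTopology E g.c.pt :=
  ofArrows_mem_canonical_of_universal g.c g.univ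

end GoodCofan

section Strict

variable (hb : SGA4.HasDisjointUniversalCoproducts.{v, u} E)

include hb in
theorem exists_strict_initial : ∃ I₀ : E, Nonempty (IsInitial I₀) ∧
    ∀ (T : E) (_ : T ⟶ I₀), Nonempty (IsInitial T) := by
  let X : PEmpty.{u + 1} → E := fun i => i.elim
  let g := goodCofan hb X
  have hI : ∀ (T : E) (c' : Cofan (fun i : PEmpty.{u + 1} => (i.elim : E))), IsColimit c' →
      c'.pt = T → Nonempty (IsInitial T) := by
    rintro T c' hc' rfl
    exact ⟨IsInitial.ofUniqueHom (fun W => Cofan.IsColimit.desc hc' (fun i => i.elim))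
      (fun W m => Cofan.IsColimit.hom_ext hc' _ _ (fun i => i.elim))⟩
  refine ⟨g.c.pt, hI _ g.c g.isColimit rfl, fun T f => ?_⟩
  obtain ⟨hc'⟩ := g.univ (Cofan.mk T (fun i : PEmpty.{u + 1} => (i.elim : (i.elim : E) ⟶ T)))
    (Discrete.natTrans (fun i => i.as.elim)) f
    (by ext ⟨i⟩; exact i.elim) (.of_discrete _) (fun ⟨i⟩ => i.elim)
  exact hI T _ hc' rfl

include hb in
/-- initial objects are strict -/
theorem isInitial_of_hom {I T : E} (hI : IsInitial I) (f : T ⟶ I) : Nonempty (IsInitial T) := by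
  obtain ⟨I₀, ⟨hI₀⟩, hs⟩ := exists_strict_initial hb
  exact hs T (f ≫ hI.to I₀)

include hb in
theorem GoodCofan.isInitial_of_ne [HasPullbacks E] {ι : Type u} {X : ι → E} (g : GoodCofan X)
    {k l : ι} (hkl : k ≠ l) {T : E} (a : T ⟶ X k) (b : T ⟶ X l)
    (hab : a ≫ g.c.inj k = b ≫ g.c.inj l) : Nonempty (IsInitial T) := by
  haveI := g.disj
  obtain ⟨hI⟩ := CoproductDisjoint.nonempty_isInitial_of_ne g.isColimit hkl
    (PullbackCone.mk (pullback.fst (g.c.inj k) (g.c.inj l)) (pullback.snd _ _) pullback.condition)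
    (pullbackIsPullback _ _)
  exact isInitial_of_hom hb hI (pullback.lift a b hab)

include hb in
theorem subsingleton_of_isInitial [HasPullbacks E] {P : Eᵒᵖ ⥤ Type u}
    (hP : Presieve.IsSheaf (Sheaf.canonicalTopology E) P) {T : E} (hT : IsInitial T) :
    Subsingleton (P.obj (op T)) := by
  constructor
  intro x y
  have hbot : (⊥ : Sieve T) ∈ Sheaf.canonicalTopology E T :=
    bot_mem_canonical_of_strict (fun T' f => isInitial_of_hom hb hT f)
  exact (hP _ hbot).isSeparatedFor.ext (fun _ _ h => False.elim h)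

include hb in
/-- a sheaf for the canonical topology turns disjoint universal coproducts into products -/
theorem GoodCofan.sheaf_existsUnique [HasPullbacks E] {ι : Type u} {X : ι → E} (g : GoodCofan X)
    {P : Eᵒᵖ ⥤ Type u} (hP : Presieve.IsSheaf (Sheaf.canonicalTopology E) P)
    (x : ∀ k, P.obj (op (X k))) : ∃! t : P.obj (op g.c.pt), ∀ k, P.map (g.c.inj k).op t = x k := by
  classical
  have hs : Presieve.IsSheafFor P (Presieve.ofArrows X g.c.inj) :=
    (Presieve.isSheafFor_iff_generate _).2 (hP _ g.cov)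
  refine (Presieve.isSheafFor_arrows_iff P g.c.inj).1 hs x ?_
  intro k l Z gk gl comm
  by_cases hkl : k = l
  · subst hkl
    haveI := g.mono_inj k
    rw [(cancel_mono (g.c.inj k)).1 comm]
  · obtain ⟨hZ⟩ := g.isInitial_of_ne hb hkl gk gl comm
    haveI := subsingleton_of_isInitial hb hP hZ
    exact Subsingleton.elim _ _

end Strict

section Image

variable [HasFiniteLimits E]
  (hc : ∀ (R A : E) (p₁ p₂ : R ⟶ A), SGA4.IsEquivRel p₁ p₂ →
    SGA4.IsEffectiveUniversalEquivRel p₁ p₂)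

theorem kernelPair_isEquivRel {H Y : E} (f : H ⟶ Y) :
    SGA4.IsEquivRel (pullback.fst f f) (pullback.snd f f) := by
  intro T
  have key : ∀ a b : T ⟶ H, (∃ t : T ⟶ pullback f f, t ≫ pullback.fst f f = a ∧
      t ≫ pullback.snd f f = b) ↔ a ≫ f = b ≫ f := by
    intro a b
    constructor
    · rintro ⟨t, rfl, rfl⟩
      simp [pullback.condition]
    · intro h
      exact ⟨pullback.lift a b h, pullback.lift_fst _ _ _, pullback.lift_snd _ _ _⟩
  constructor
  · intro a b hab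
    simp only [Prod.mk.injEq] at hab
    exact pullback.hom_ext hab.1 hab.2
  · exact ⟨fun a => (key a a).2 rfl, fun {a b} h => (key b a).2 ((key a b).1 h).symm,
      fun {a b c} h1 h2 => (key a c).2 (((key a b).1 h1).trans ((key b c).1 h2))⟩

include hc in
/-- image factorization: covering morphism followed by a monomorphism -/
theorem exists_image {H Y : E} (f : H ⟶ Y) :
    ∃ (R : E) (q : H ⟶ R) (m : R ⟶ Y), q ≫ m = f ∧ Mono m ∧ Cov q := by
  obtain ⟨B, π, hpb, hpo, hπ⟩ := hc _ _ _ _ (kernelPair_isEquivRel f)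
  have hcov : Cov π := Cov.of_univ hπ
  obtain ⟨m, hm⟩ : ∃ m : B ⟶ Y, π ≫ m = f :=
    ⟨hpo.desc f f pullback.condition, hpo.inl_desc _ _ _⟩
  have hk : ∀ {Z : E} (p₁ p₂ : Z ⟶ H), p₁ ≫ f = p₂ ≫ f → p₁ ≫ π = p₂ ≫ π := by
    intro Z p₁ p₂ hp
    have := pullback.lift p₁ p₂ hp ≫= hpb.w
    rw [← Category.assoc, ← Category.assoc, pullback.lift_fst, pullback.lift_snd] at this
    exact this
  refine ⟨B, π, m, hm, ⟨fun {T} a b hab => ?_⟩, hcov⟩
  obtain ⟨T₁, h₁, s₁, c1, e1⟩ : ∃ (T₁ : E) (h₁ : T₁ ⟶ H) (s₁ : T₁ ⟶ T), h₁ ≫ π = s₁ ≫ a ∧ Epi s₁ :=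
    ⟨_, pullback.fst π a, pullback.snd π a, pullback.condition, (hcov.pullback a).epi⟩
  obtain ⟨T₂, h₂, s₂, c2, e2⟩ : ∃ (T₂ : E) (h₂ : T₂ ⟶ H) (s₂ : T₂ ⟶ T₁),
      h₂ ≫ π = s₂ ≫ s₁ ≫ b ∧ Epi s₂ :=
    ⟨_, pullback.fst π (s₁ ≫ b), pullback.snd π (s₁ ≫ b), pullback.condition,
      (hcov.pullback (s₁ ≫ b)).epi⟩
  rw [← cancel_epi s₁, ← cancel_epi s₂]
  have h3 : (s₂ ≫ h₁) ≫ f = h₂ ≫ f := by
    calc (s₂ ≫ h₁) ≫ f = s₂ ≫ (h₁ ≫ π) ≫ m := by rw [← hm]; simp
      _ = s₂ ≫ s₁ ≫ a ≫ m := by rw [c1]; simp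
      _ = s₂ ≫ s₁ ≫ b ≫ m := by rw [hab]
      _ = (h₂ ≫ π) ≫ m := by rw [c2]; simp
      _ = h₂ ≫ f := by rw [← hm]; simp
  have h4 := hk _ _ h3
  rw [Category.assoc, c1, c2] at h4
  exact h4

end Image

end Groth.Agent.Lib.Lead.Giraud
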