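import Mathlib
import Groth.Agent.Lib.Lead.GirB

/-!
# Giraud's theorem, part C: generators; representability of canonical sheaves
-/

set_option autoImplicit false
open CategoryTheory CategoryTheory.Limits Opposite
universe w v u

namespace Groth.Agent.Lib.Lead.Giraud

variable {E : Type v} [Category.{u} E]

section Gen

variable (P : ObjectProperty E) [ObjectProperty.Small.{u} P]

/-- index type of the generators -/
def GenIdx : Type u := Shrink.{u} (Subtype P)

/-- the generators -/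
noncomputable def gen (i : GenIdx P) : E := ((equivShrink (Subtype P)).symm i).1

theorem gen_mem (i : GenIdx P) : P (gen P i) := ((equivShrink (Subtype P)).symm i).2

theorem exists_gen {G : E} (hG : P G) : ∃ i : GenIdx P, gen P i = G :=
  ⟨equivShrink (Subtype P) ⟨G, hG⟩, by simp [gen]⟩

/-- index type of the canonical cover of `T` by generators -/
abbrev CovIdx (T : E) : Type u := Σ i : GenIdx P, (gen P i ⟶ T)

end Gen

theorem mapc {F : Eᵒᵖ ⥤ Type u} {X Y Z : E} (f : X ⟶ Y) (g : Y ⟶ Z) (x : F.obj (op Z)) :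
    F.map (f ≫ g).op x = F.map f.op (F.map g.op x) := by
  rw [op_comp]
  exact FunctorToTypes.map_comp_apply F g.op f.op x

variable [HasFiniteLimits E]
  (hb : SGA4.HasDisjointUniversalCoproducts.{v, u} E)
  (hc : ∀ (R A : E) (p₁ p₂ : R ⟶ A), SGA4.IsEquivRel p₁ p₂ →
    SGA4.IsEffectiveUniversalEquivRel p₁ p₂)
  (P : ObjectProperty E) [ObjectProperty.Small.{u} P] (hdet : P.IsDetecting)

/-- the coproduct of all generators mapping to `T` -/
noncomputable def covCofan (T : E) : GoodCofan (fun k : CovIdx P T => gen P k.1) :=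
  goodCofan hb _

/-- the canonical morphism from the coproduct of generators over `T` -/
noncomputable def covMap (T : E) : (covCofan hb P T).c.pt ⟶ T :=
  (covCofan hb P T).desc (fun k => k.2)

include hc hdet in
theorem cov_covMap (T : E) : Cov (covMap hb P T) := by
  obtain ⟨R, q, m, hqm, hmono, hcov⟩ := exists_image hc (covMap hb P T)
  have : IsIso m := by
    apply hdet
    intro G hG h
    obtain ⟨i, rfl⟩ := exists_gen P hG
    refine ⟨(covCofan hb P T).c.inj ⟨i, h⟩ ≫ q, ?_, fun y hy => ?_⟩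
    · show ((covCofan hb P T).c.inj ⟨i, h⟩ ≫ q) ≫ m = h
      rw [Category.assoc, hqm]
      exact (covCofan hb P T).fac (fun k => k.2) ⟨i, h⟩
    · rw [← cancel_mono m, hy, Category.assoc, hqm]
      exact ((covCofan hb P T).fac (fun k => k.2) ⟨i, h⟩).symm
  rw [← hqm]
  exact hcov.comp_iso m

section Rep

variable {F : Eᵒᵖ ⥤ Type u} (hF : Presieve.IsSheaf (Sheaf.canonicalTopology E) F)

include hb hF in
theorem exists_universal_section : ∃ (A : E) (σ : F.obj (op A)),
    ∀ (i : GenIdx P) (s : F.obj (op (gen P i))), ∃ a : gen P i ⟶ A, F.map a.op σ = s := by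
  let g := goodCofan hb (fun k : (Σ i : GenIdx P, F.obj (op (gen P i))) => gen P k.1)
  obtain ⟨σ, hσ, _⟩ := g.sheaf_existsUnique hb hF (fun k => k.2)
  exact ⟨g.c.pt, σ, fun i s => ⟨g.c.inj ⟨i, s⟩, hσ ⟨i, s⟩⟩⟩

include hb hc hdet hF in
theorem exists_kernel {A : E} (σ : F.obj (op A)) : ∃ (R : E) (r₁ r₂ : R ⟶ A),
    (∀ (T : E) (u v : T ⟶ R), u ≫ r₁ = v ≫ r₁ → u ≫ r₂ = v ≫ r₂ → u = v) ∧
    ∀ (T : E) (a b : T ⟶ A), (∃ t : T ⟶ R, t ≫ r₁ = a ∧ t ≫ r₂ = b) ↔
      F.map a.op σ = F.map b.op σ := by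
  let I₂ : Type u := Σ i : GenIdx P,
    {p : (gen P i ⟶ A) × (gen P i ⟶ A) // F.map p.1.op σ = F.map p.2.op σ}
  let gH := goodCofan hb (fun k : I₂ => gen P k.1)
  obtain ⟨α, hα⟩ : ∃ α : gH.c.pt ⟶ A, ∀ k : I₂, gH.c.inj k ≫ α = k.2.1.1 :=
    ⟨gH.desc (fun k => k.2.1.1), fun k => gH.fac _ k⟩
  obtain ⟨β, hβ⟩ : ∃ β : gH.c.pt ⟶ A, ∀ k : I₂, gH.c.inj k ≫ β = k.2.1.2 :=
    ⟨gH.desc (fun k => k.2.1.2), fun k => gH.fac _ k⟩
  have hαβ : F.map α.op σ = F.map β.op σ := by
    obtain ⟨t, _, ht⟩ := gH.sheaf_existsUnique hb hF (fun k => F.map k.2.1.1.op σ)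
    have h1 := ht (F.map α.op σ) (fun k => by rw [← mapc, hα])
    have h2 := ht (F.map β.op σ) (fun k => by rw [← mapc, hβ]; exact k.2.2.symm)
    rw [h1, h2]
  obtain ⟨R, q, m, hqm, hmono, hcov⟩ := exists_image hc (prod.lift α β)
  have hq1 : q ≫ m ≫ prod.fst = α := by rw [← Category.assoc, hqm, prod.lift_fst]
  have hq2 : q ≫ m ≫ prod.snd = β := by rw [← Category.assoc, hqm, prod.lift_snd]
  refine ⟨R, m ≫ prod.fst, m ≫ prod.snd, ?_, ?_⟩
  · intro T u v h1 h2
    rw [← cancel_mono m]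
    apply Limits.prod.hom_ext
    · simpa using h1
    · simpa using h2
  · intro T a b
    constructor
    · rintro ⟨t, rfl, rfl⟩
      obtain ⟨T', h, e, hcond, hecov⟩ : ∃ (T' : E) (h : T' ⟶ gH.c.pt) (e : T' ⟶ T),
          h ≫ q = e ≫ t ∧ Cov e :=
        ⟨_, pullback.fst q t, pullback.snd q t, pullback.condition, hcov.pullback t⟩
      apply hecov.sheaf_injective hF
      have e1 : e ≫ t ≫ m ≫ prod.fst = h ≫ α := by
        rw [← Category.assoc, ← hcond, Category.assoc, hq1]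
      have e2 : e ≫ t ≫ m ≫ prod.snd = h ≫ β := by
        rw [← Category.assoc, ← hcond, Category.assoc, hq2]
      rw [← mapc, ← mapc, e1, e2, mapc, mapc, hαβ]
    · intro hab
      have hmono' : Mono (pullback.snd m (prod.lift a b)) := inferInstance
      have hiso : IsIso (pullback.snd m (prod.lift a b)) := by
        apply hdet
        intro G hG h
        obtain ⟨i, rfl⟩ := exists_gen P hG
        let k : I₂ := ⟨i, ⟨(h ≫ a, h ≫ b), by
          show F.map (h ≫ a).op σ = F.map (h ≫ b).op σ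
          rw [mapc, mapc, hab]⟩⟩
        have hk : (gH.c.inj k ≫ q) ≫ m = h ≫ prod.lift a b := by
          rw [Category.assoc, hqm]
          apply Limits.prod.hom_ext
          · rw [Category.assoc, prod.lift_fst, Category.assoc, prod.lift_fst]
            exact hα k
          · rw [Category.assoc, prod.lift_snd, Category.assoc, prod.lift_snd]
            exact hβ k
        refine ⟨pullback.lift (gH.c.inj k ≫ q) h hk, pullback.lift_snd _ _ _, fun y hy => ?_⟩
        rw [← cancel_mono (pullback.snd m (prod.lift a b)), hy, pullback.lift_snd]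
      refine ⟨inv (pullback.snd m (prod.lift a b)) ≫ pullback.fst m (prod.lift a b), ?_, ?_⟩
      · rw [Category.assoc, ← Category.assoc (pullback.fst m (prod.lift a b)), pullback.condition,
          Category.assoc, prod.lift_fst, IsIso.inv_hom_id_assoc]
      · rw [Category.assoc, ← Category.assoc (pullback.fst m (prod.lift a b)), pullback.condition,
          Category.assoc, prod.lift_snd, IsIso.inv_hom_id_assoc]

include hb hc hdet hF in
/-- every sheaf of sets for the canonical topology is representable -/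
theorem exists_representation : ∃ (X : E) (ξ : F.obj (op X)),
    ∀ T : E, Function.Bijective (fun t : T ⟶ X => F.map t.op ξ) := by
  obtain ⟨A, σ, hσ⟩ := exists_universal_section hb P hF
  obtain ⟨R, r₁, r₂, hjm, hR⟩ := exists_kernel hb hc P hdet hF σ
  have hequiv : SGA4.IsEquivRel r₁ r₂ := by
    intro T
    constructor
    · intro u v huv
      simp only [Prod.mk.injEq] at huv
      exact hjm T u v huv.1 huv.2
    · exact ⟨fun a => (hR T a a).2 rfl, fun {a b} h => (hR T b a).2 ((hR T a b).1 h).symm,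
        fun {a b c} h1 h2 => (hR T a c).2 (((hR T a b).1 h1).trans ((hR T b c).1 h2))⟩
  obtain ⟨X, π, hpb, _, hπ⟩ := hc _ _ _ _ hequiv
  have hcov : Cov π := Cov.of_univ hπ
  obtain ⟨ξ, hξ⟩ := hcov.sheaf_desc hF σ (fun {Z} p₁ p₂ hp =>
    (hR Z p₁ p₂).1 ⟨hpb.lift p₁ p₂ hp, hpb.lift_fst _ _ _, hpb.lift_snd _ _ _⟩)
  have hinj : ∀ (T : E) (t t' : T ⟶ X), F.map t.op ξ = F.map t'.op ξ → t = t' := by
    intro T t t' htt
    obtain ⟨T₁, a, e₁, c1, he1⟩ : ∃ (T₁ : E) (a : T₁ ⟶ A) (e₁ : T₁ ⟶ T),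
        a ≫ π = e₁ ≫ t ∧ Epi e₁ :=
      ⟨_, pullback.fst π t, pullback.snd π t, pullback.condition, (hcov.pullback t).epi⟩
    obtain ⟨T₂, a', e₂, c2, he2⟩ : ∃ (T₂ : E) (a' : T₂ ⟶ A) (e₂ : T₂ ⟶ T₁),
        a' ≫ π = e₂ ≫ e₁ ≫ t' ∧ Epi e₂ :=
      ⟨_, pullback.fst π (e₁ ≫ t'), pullback.snd π (e₁ ≫ t'), pullback.condition,
        (hcov.pullback (e₁ ≫ t')).epi⟩
    have h1 : F.map (e₂ ≫ a).op σ = F.map a'.op σ := by
      rw [← hξ, ← mapc, ← mapc, Category.assoc, c1, c2, ← Category.assoc, mapc, htt, ← mapc,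
        Category.assoc]
    obtain ⟨w, hw1, hw2⟩ := (hR T₂ (e₂ ≫ a) a').2 h1
    rw [← cancel_epi e₁, ← cancel_epi e₂, ← c2, ← c1, ← Category.assoc, ← hw1, ← hw2,
      Category.assoc, Category.assoc, hpb.w]
  refine ⟨X, ξ, fun T => ⟨fun t t' h => hinj T t t' h, fun s => ?_⟩⟩
  -- surjectivity
  let gT := covCofan hb P T
  have hcT : Cov (covMap hb P T) := cov_covMap hb hc P hdet T
  choose ak hak using fun k : CovIdx P T => hσ k.1 (F.map k.2.op s)
  obtain ⟨a, ha⟩ : ∃ a : gT.c.pt ⟶ A, ∀ k, gT.c.inj k ≫ a = ak k := ⟨gT.desc ak, fun k => gT.fac _ k⟩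
  have hc' : ∀ k, gT.c.inj k ≫ covMap hb P T = k.2 := fun k => gT.fac _ k
  have has : F.map a.op σ = F.map (covMap hb P T).op s := by
    obtain ⟨t, _, ht⟩ := gT.sheaf_existsUnique hb hF (fun k => F.map k.2.op s)
    have h1 := ht (F.map a.op σ) (fun k => by rw [← mapc, ha, hak])
    have h2 := ht (F.map (covMap hb P T).op s) (fun k => by rw [← mapc, hc'])
    rw [h1, h2]
  obtain ⟨t, ht⟩ := hcT.desc (a ≫ π) (fun {Z} p₁ p₂ hp => by
    apply hinj
    rw [← Category.assoc, ← Category.assoc, mapc, mapc (p₂ ≫ a), hξ, mapc, mapc p₂, has,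
      ← mapc, ← mapc, hp])
  refine ⟨t, ?_⟩
  apply hcT.sheaf_injective hF
  show F.map (covMap hb P T).op (F.map t.op ξ) = F.map (covMap hb P T).op s
  rw [← mapc, ht, mapc, hξ, has]

end Rep

end Groth.Agent.Lib.Lead.Giraud
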