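import Mathlib
import Groth.Agent.Lib.Lead.GirC

/-!
# Giraud's theorem, part D: assembling the equivalence
-/

set_option autoImplicit false
open CategoryTheory CategoryTheory.Limits Opposite
universe w v u

namespace Groth.Agent.Lib.Lead.Giraud

variable {E : Type v} [Category.{u} E] [HasFiniteLimits E]
  (hb : SGA4.HasDisjointUniversalCoproducts.{v, u} E)
  (hc : ∀ (R A : E) (p₁ p₂ : R ⟶ A), SGA4.IsEquivRel p₁ p₂ →
    SGA4.IsEffectiveUniversalEquivRel p₁ p₂)
  (P : ObjectProperty E) [ObjectProperty.Small.{u} P] (hdet : P.IsDetecting)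

include hb hc hdet in
theorem essSurj_yoneda : ((Sheaf.canonicalTopology E).yoneda).EssSurj := by
  refine ⟨fun F => ?_⟩
  have hF : Presieve.IsSheaf (Sheaf.canonicalTopology E) F.obj :=
    (isSheaf_iff_isSheaf_of_type _ _).1 F.property
  obtain ⟨X, ξ, hbij⟩ := exists_representation hb hc P hdet hF
  let φ : yoneda.obj X ⟶ F.obj := yonedaEquiv.symm ξ
  have hφ : IsIso φ := by
    have : ∀ T : Eᵒᵖ, IsIso (φ.app T) := by
      intro T
      rw [isIso_iff_bijective]
      have h := hbij T.unop
      convert h using 1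
      funext t
      exact yonedaEquiv_symm_app_apply ξ T t
    exact NatIso.isIso_of_isIso_app φ
  exact ⟨X, ⟨(fullyFaithfulSheafToPresheaf (Sheaf.canonicalTopology E) (Type u)).preimageIso
    (asIso φ)⟩⟩

include hb hc hdet in
theorem isCoverDense_gen :
    (inducedFunctor (gen P)).IsCoverDense (Sheaf.canonicalTopology E) := by
  refine ⟨fun X => ?_⟩
  have h1 : Sieve.generate (Presieve.singleton (covMap hb P X)) ∈ Sheaf.canonicalTopology E X :=
    cov_covMap hb hc P hdet X
  refine (Sheaf.canonicalTopology E).transitive h1 _ (fun Y f hf => ?_)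
  obtain ⟨Z, u, v, ⟨⟩, rfl⟩ := hf
  rw [Sieve.pullback_comp]
  apply (Sheaf.canonicalTopology E).pullback_stable
  refine (Sheaf.canonicalTopology E).superset_covering ?_ (covCofan hb P X).cov
  rw [Sieve.ofArrows, Sieve.generate_le_iff]
  rintro _ _ ⟨k⟩
  show Sieve.coverByImage (inducedFunctor (gen P)) X ((covCofan hb P X).c.inj k ≫ covMap hb P X)
  rw [show (covCofan hb P X).c.inj k ≫ covMap hb P X = k.2 from
    (covCofan hb P X).fac (fun k => k.2) k]
  exact ⟨⟨k.1, 𝟙 _, k.2, by simp⟩⟩

include hb hc hdet in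
theorem isTopos_of_giraud : SGA4.IsTopos.{v, u} E := by
  have := essSurj_yoneda hb hc P hdet
  haveI : ((Sheaf.canonicalTopology E).yoneda).IsEquivalence := { }
  let e₁ : E ≌ Sheaf (Sheaf.canonicalTopology E) (Type u) :=
    ((Sheaf.canonicalTopology E).yoneda).asEquivalence
  have := isCoverDense_gen hb hc P hdet
  let e₂ := (inducedFunctor (gen P)).sheafInducedTopologyEquivOfIsCoverDense
    (Sheaf.canonicalTopology E) (Type u)
  exact ⟨InducedCategory E (gen P), inferInstance,
    (inducedFunctor (gen P)).inducedTopology (Sheaf.canonicalTopology E), ⟨e₁.trans e₂.symm⟩⟩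

end Groth.Agent.Lib.Lead.Giraud
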