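import Mathlib
import Groth.Prelude.Def_SGA4a

/-!
# Transfer of Giraud's exactness axioms along a jointly conservative pair of exact functors
-/

set_option autoImplicit false
set_option linter.style.haveILetI false
open CategoryTheory CategoryTheory.Limits Opposite
universe w w' v u

namespace Groth.Agent.Lib.Lead.GirTransfer

variable {E : Type v} [Category.{u} E] {T₁ : Type v} [Category.{u} T₁] {T₂ : Type v} [Category.{u} T₂]

/-- an SGA4-style equivalence relation (tested on generalized points) gives a Mathlib one -/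
theorem equivalenceRelation_of_isEquivRel [HasPullbacks E] {R A : E}
    (p₁ p₂ : R ⟶ A) (h : SGA4.IsEquivRel p₁ p₂) : Nonempty (EquivalenceRelation p₁ p₂) := by
  obtain ⟨r, hr1, hr2⟩ := (h A).2.refl (𝟙 A)
  obtain ⟨s, hs1, hs2⟩ := (h R).2.symm (⟨𝟙 R, Category.id_comp _, Category.id_comp _⟩ :
    ∃ f : R ⟶ R, f ≫ p₁ = p₁ ∧ f ≫ p₂ = p₂)
  obtain ⟨t, ht1, ht2⟩ := (h (pullback p₂ p₁)).2.trans
    (⟨pullback.fst p₂ p₁, rfl, rfl⟩ : ∃ f : pullback p₂ p₁ ⟶ R,
      f ≫ p₁ = pullback.fst p₂ p₁ ≫ p₁ ∧ f ≫ p₂ = pullback.fst p₂ p₁ ≫ p₂)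
    (⟨pullback.snd p₂ p₁, pullback.condition.symm, rfl⟩ : ∃ f : pullback p₂ p₁ ⟶ R,
      f ≫ p₁ = pullback.fst p₂ p₁ ≫ p₂ ∧ f ≫ p₂ = pullback.snd p₂ p₁ ≫ p₂)
  exact ⟨{
    right_cancellation := fun Y f g h1 h2 => (h Y).1 (Prod.ext h1 h2)
    r := r
    reflexivity₁ := hr1
    reflexivity₂ := hr2
    s := s
    symmetry₁ := hs1
    symmetry₂ := hs2
    c := pullback.cone p₂ p₁
    isLimit := pullback.isLimit p₂ p₁
    t := t
    transitivity₁ := ht1
    transitivity₂ := ht2 }⟩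

theorem jointlyMono_map {T : Type v} [Category.{u} T] [HasFiniteLimits E] [HasFiniteLimits T]
    (Φ : E ⥤ T) [PreservesFiniteLimits Φ] {R A : E} (p₁ p₂ : R ⟶ A) [JointlyMono₂ p₁ p₂] :
    JointlyMono₂ (Φ.map p₁) (Φ.map p₂) := by
  haveI : Mono (prod.lift p₁ p₂) := ⟨fun a b hab =>
    JointlyMono₂.right_cancellation (p₁ := p₁) (p₂ := p₂) a b
      (by
        have := congrArg (· ≫ prod.fst) hab
        simp only [Category.assoc, prod.lift_fst] at this
        exact this)
      (by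
        have := congrArg (· ≫ prod.snd) hab
        simp only [Category.assoc, prod.lift_snd] at this
        exact this)⟩
  haveI : Mono (Φ.map (prod.lift p₁ p₂)) := inferInstance
  refine ⟨fun Y f g h1 h2 => ?_⟩
  rw [← cancel_mono (Φ.map (prod.lift p₁ p₂)), ← cancel_mono (prodComparison Φ A A)]
  apply prod.hom_ext
  · simp only [Category.assoc, prodComparison_fst, ← Functor.map_comp, prod.lift_fst]
    exact h1
  · simp only [Category.assoc, prodComparison_snd, ← Functor.map_comp, prod.lift_snd]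
    exact h2

noncomputable def mapEquivalenceRelation {T : Type v} [Category.{u} T] [HasFiniteLimits E]
    [HasFiniteLimits T] (Φ : E ⥤ T) [PreservesFiniteLimits Φ] {R A : E} {p₁ p₂ : R ⟶ A}
    (e : EquivalenceRelation p₁ p₂) : EquivalenceRelation (Φ.map p₁) (Φ.map p₂) :=
  haveI : JointlyMono₂ p₁ p₂ := e.toJointlyMono₂
  haveI := jointlyMono_map Φ p₁ p₂
  { __ := e.toReflexiveRelation.map Φ
    __ := e.toSymmetricRelation.map Φ
    __ := e.toTransitiveRelation.map Φ }

/-- joint conservativity + faithfulness -/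
structure JointlyConservative (Φ₁ : E ⥤ T₁) (Φ₂ : E ⥤ T₂) : Prop where
  isIso : ∀ {X Y : E} (f : X ⟶ Y), IsIso (Φ₁.map f) → IsIso (Φ₂.map f) → IsIso f
  faithful : ∀ {X Y : E} (f g : X ⟶ Y), Φ₁.map f = Φ₁.map g → Φ₂.map f = Φ₂.map g → f = g

variable {Φ₁ : E ⥤ T₁} {Φ₂ : E ⥤ T₂} (h : JointlyConservative Φ₁ Φ₂)
include h

theorem JointlyConservative.isColimit {J : Type w} [Category.{w'} J] {F : J ⥤ E} (c : Cocone F)
    [HasColimit F] [PreservesColimit F Φ₁] [PreservesColimit F Φ₂]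
    (h₁ : IsColimit (Φ₁.mapCocone c)) (h₂ : IsColimit (Φ₂.mapCocone c)) :
    Nonempty (IsColimit c) := by
  have key : ∀ {T : Type v} [Category.{u} T] (Φ : E ⥤ T) [PreservesColimit F Φ]
      (_ : IsColimit (Φ.mapCocone c)), IsIso (Φ.map ((colimit.isColimit F).desc c)) := by
    intro T _ Φ _ hΦ
    have : Φ.map ((colimit.isColimit F).desc c) =
        ((isColimitOfPreserves Φ (colimit.isColimit F)).coconePointUniqueUpToIso hΦ).hom := by
      apply (isColimitOfPreserves Φ (colimit.isColimit F)).hom_ext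
      intro j
      rw [IsColimit.comp_coconePointUniqueUpToIso_hom]
      simp only [Functor.mapCocone_ι_app, ← Functor.map_comp, IsColimit.fac]
    rw [this]; infer_instance
  haveI := h.isIso _ (key Φ₁ h₁) (key Φ₂ h₂)
  exact ⟨IsColimit.ofPointIso (colimit.isColimit F)⟩

theorem JointlyConservative.isLimit {J : Type w} [Category.{w'} J] {F : J ⥤ E} (c : Cone F)
    [HasLimit F] [PreservesLimit F Φ₁] [PreservesLimit F Φ₂]
    (h₁ : IsLimit (Φ₁.mapCone c)) (h₂ : IsLimit (Φ₂.mapCone c)) :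
    Nonempty (IsLimit c) := by
  have key : ∀ {T : Type v} [Category.{u} T] (Φ : E ⥤ T) [PreservesLimit F Φ]
      (_ : IsLimit (Φ.mapCone c)), IsIso (Φ.map ((limit.isLimit F).lift c)) := by
    intro T _ Φ _ hΦ
    have : Φ.map ((limit.isLimit F).lift c) =
        (hΦ.conePointUniqueUpToIso (isLimitOfPreserves Φ (limit.isLimit F))).hom := by
      apply (isLimitOfPreserves Φ (limit.isLimit F)).hom_ext
      intro j
      rw [IsLimit.conePointUniqueUpToIso_hom_comp]
      simp only [Functor.mapCone_π_app, ← Functor.map_comp, IsLimit.fac]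
    rw [this]; infer_instance
  haveI := h.isIso _ (key Φ₁ h₁) (key Φ₂ h₂)
  exact ⟨IsLimit.ofPointIso (limit.isLimit F)⟩

theorem JointlyConservative.isPullback [HasPullbacks E]
    [PreservesLimitsOfShape WalkingCospan Φ₁] [PreservesLimitsOfShape WalkingCospan Φ₂]
    {P X Y Z : E} {fst : P ⟶ X} {snd : P ⟶ Y} {f : X ⟶ Z} {g : Y ⟶ Z} (w : fst ≫ f = snd ≫ g)
    (h₁ : IsPullback (Φ₁.map fst) (Φ₁.map snd) (Φ₁.map f) (Φ₁.map g))
    (h₂ : IsPullback (Φ₂.map fst) (Φ₂.map snd) (Φ₂.map f) (Φ₂.map g)) :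
    IsPullback fst snd f g := by
  obtain ⟨hl⟩ := h.isLimit (PullbackCone.mk fst snd w)
    ((isLimitMapConePullbackConeEquiv Φ₁ w).symm h₁.isLimit)
    ((isLimitMapConePullbackConeEquiv Φ₂ w).symm h₂.isLimit)
  exact ⟨⟨w⟩, ⟨hl⟩⟩

theorem JointlyConservative.mono {X Y : E} (f : X ⟶ Y) [Mono (Φ₁.map f)] [Mono (Φ₂.map f)] :
    Mono f :=
  ⟨fun a b hab => h.faithful a b
    (by rw [← cancel_mono (Φ₁.map f), ← Φ₁.map_comp, hab, Φ₁.map_comp])
    (by rw [← cancel_mono (Φ₂.map f), ← Φ₂.map_comp, hab, Φ₂.map_comp])⟩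

theorem JointlyConservative.isInitial [HasInitial E]
    [PreservesColimit (Functor.empty.{0} E) Φ₁] [PreservesColimit (Functor.empty.{0} E) Φ₂]
    {P : E} (h₁ : IsInitial (Φ₁.obj P)) (h₂ : IsInitial (Φ₂.obj P)) : Nonempty (IsInitial P) := by
  haveI := h.isIso (initial.to P)
    (isIso_of_isInitial (IsInitial.isInitialObj Φ₁ _ initialIsInitial) h₁ _)
    (isIso_of_isInitial (IsInitial.isInitialObj Φ₂ _ initialIsInitial) h₂ _)
  exact ⟨IsInitial.ofIso initialIsInitial (asIso (initial.to P))⟩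

theorem JointlyConservative.hasDisjointUniversalCoproducts
    [HasFiniteLimits E] [HasColimitsOfSize.{u, u} E]
    [PreservesFiniteLimits Φ₁] [PreservesFiniteLimits Φ₂]
    [PreservesColimitsOfSize.{u, u} Φ₁] [PreservesColimitsOfSize.{u, u} Φ₂]
    (hu₁ : ∀ {ι : Type u} {F : Discrete ι ⥤ T₁} (c : Cocone F), IsColimit c → IsUniversalColimit c)
    (hu₂ : ∀ {ι : Type u} {F : Discrete ι ⥤ T₂} (c : Cocone F), IsColimit c → IsUniversalColimit c)
    (hd₁ : ∀ {ι : Type u} (X : ι → T₁), CoproductDisjoint X)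
    (hd₂ : ∀ {ι : Type u} (X : ι → T₂), CoproductDisjoint X) :
    SGA4.HasDisjointUniversalCoproducts.{v, u} E := by
  haveI : HasFiniteColimits E := hasFiniteColimits_of_hasColimitsOfSize E
  haveI : PreservesFiniteColimits Φ₁ := PreservesColimitsOfSize.preservesFiniteColimits Φ₁
  haveI : PreservesFiniteColimits Φ₂ := PreservesColimitsOfSize.preservesFiniteColimits Φ₂
  intro ι X
  let c : Cofan X := Cofan.mk (∐ X) (Sigma.ι X)
  have hc : IsColimit c := coproductIsCoproduct X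
  refine ⟨c, hc, ?_, ?_⟩
  · have hc₁ : IsColimit (Cofan.mk (Φ₁.obj (∐ X)) (fun i => Φ₁.map (Sigma.ι X i))) :=
      isColimitMapCoconeCofanMkEquiv Φ₁ X (Sigma.ι X) (isColimitOfPreserves Φ₁ hc)
    have hc₂ : IsColimit (Cofan.mk (Φ₂.obj (∐ X)) (fun i => Φ₂.map (Sigma.ι X i))) :=
      isColimitMapCoconeCofanMkEquiv Φ₂ X (Sigma.ι X) (isColimitOfPreserves Φ₂ hc)
    haveI := hd₁ (fun i => Φ₁.obj (X i))
    haveI := hd₂ (fun i => Φ₂.obj (X i))
    haveI : ∀ i, Mono (c.inj i) := fun i => by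
      haveI : Mono (Φ₁.map (c.inj i)) := CoproductDisjoint.mono_inj hc₁ i
      haveI : Mono (Φ₂.map (c.inj i)) := CoproductDisjoint.mono_inj hc₂ i
      exact h.mono _
    have hinit : ∀ {i j : ι}, i ≠ j → Nonempty (IsInitial (pullback (c.inj i) (c.inj j))) := by
      intro i j hij
      have pb := IsPullback.of_hasPullback (c.inj i) (c.inj j)
      obtain ⟨I₁⟩ := CoproductDisjoint.nonempty_isInitial_of_ne hc₁ hij _ (pb.map Φ₁).isLimit
      obtain ⟨I₂⟩ := CoproductDisjoint.nonempty_isInitial_of_ne hc₂ hij _ (pb.map Φ₂).isLimit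
      exact h.isInitial I₁ I₂
    exact CoproductDisjoint.of_cofan hc (fun {i j} _ => pullback.cone (c.inj i) (c.inj j))
      (fun _ => pullback.isLimit _ _) (fun hij => (hinit hij).some)
  · intro F' c' α f hcomm hequi hpb
    obtain ⟨l₁⟩ := hu₁ _ (isColimitOfPreserves Φ₁ hc) (Φ₁.mapCocone c') (Functor.whiskerRight α Φ₁)
      (Φ₁.map f) (by
        ext j
        have e := congrArg (fun t => Φ₁.map (t.app j)) hcomm
        simpa using e) (NatTrans.Equifibered.of_discrete _) (fun j => (hpb j).map Φ₁)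
    obtain ⟨l₂⟩ := hu₂ _ (isColimitOfPreserves Φ₂ hc) (Φ₂.mapCocone c') (Functor.whiskerRight α Φ₂)
      (Φ₂.map f) (by
        ext j
        have e := congrArg (fun t => Φ₂.map (t.app j)) hcomm
        simpa using e) (NatTrans.Equifibered.of_discrete _) (fun j => (hpb j).map Φ₂)
    exact h.isColimit c' l₁ l₂

theorem JointlyConservative.effectiveUniversal
    [HasFiniteLimits E] [HasColimitsOfSize.{u, u} E] [HasFiniteLimits T₁] [HasFiniteLimits T₂]
    [PreservesFiniteLimits Φ₁] [PreservesFiniteLimits Φ₂]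
    [PreservesColimitsOfSize.{u, u} Φ₁] [PreservesColimitsOfSize.{u, u} Φ₂]
    (he₁ : ∀ {R A : T₁} (p₁ p₂ : R ⟶ A), EquivalenceRelation p₁ p₂ →
      Nonempty (UniversallyEffectiveEquivalenceRelation p₁ p₂))
    (he₂ : ∀ {R A : T₂} (p₁ p₂ : R ⟶ A), EquivalenceRelation p₁ p₂ →
      Nonempty (UniversallyEffectiveEquivalenceRelation p₁ p₂))
    {R A : E} (p₁ p₂ : R ⟶ A) (hE : SGA4.IsEquivRel p₁ p₂) :
    SGA4.IsEffectiveUniversalEquivRel p₁ p₂ := by
  haveI : HasFiniteColimits E := hasFiniteColimits_of_hasColimitsOfSize E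
  haveI : PreservesFiniteColimits Φ₁ := PreservesColimitsOfSize.preservesFiniteColimits Φ₁
  haveI : PreservesFiniteColimits Φ₂ := PreservesColimitsOfSize.preservesFiniteColimits Φ₂
  obtain ⟨e⟩ := equivalenceRelation_of_isEquivRel p₁ p₂ hE
  obtain ⟨ue₁⟩ := he₁ _ _ (mapEquivalenceRelation Φ₁ e)
  obtain ⟨ue₂⟩ := he₂ _ _ (mapEquivalenceRelation Φ₂ e)
  have hπ : IsColimit (Cofork.ofπ (coequalizer.π p₁ p₂) (coequalizer.condition p₁ p₂)) :=
    coequalizerIsCoequalizer p₁ p₂
  have key : ∀ {T : Type v} [Category.{u} T] [HasFiniteLimits T] (Φ : E ⥤ T)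
      [PreservesFiniteLimits Φ] [PreservesFiniteColimits Φ]
      (ue : UniversallyEffectiveEquivalenceRelation (Φ.map p₁) (Φ.map p₂)),
      ∃ θ : Φ.obj (coequalizer p₁ p₂) ≅ ue.B, Φ.map (coequalizer.π p₁ p₂) ≫ θ.hom = ue.π := by
    intro T _ _ Φ _ _ ue
    have h1 := isColimitMapCoconeCoforkEquiv Φ (coequalizer.condition p₁ p₂)
      (isColimitOfPreserves Φ hπ)
    have h2 := EffectiveEquivalenceRelation.isCoequalizer _ _ ue.toEffectiveEquivalenceRelation
    exact ⟨h1.coconePointUniqueUpToIso h2,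
      h1.comp_coconePointUniqueUpToIso_hom h2 WalkingParallelPair.one⟩
  have pbk : ∀ {T : Type v} [Category.{u} T] [HasFiniteLimits T] (Φ : E ⥤ T)
      [PreservesFiniteLimits Φ] [PreservesFiniteColimits Φ]
      (_ : UniversallyEffectiveEquivalenceRelation (Φ.map p₁) (Φ.map p₂)),
      IsPullback (Φ.map p₁) (Φ.map p₂) (Φ.map (coequalizer.π p₁ p₂))
        (Φ.map (coequalizer.π p₁ p₂)) := by
    intro T _ _ Φ _ _ ue
    obtain ⟨θ, hθ⟩ := key Φ ue
    have := ue.isKernelPair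
    rw [← hθ] at this
    exact this.cancel_right_of_mono
  have hpb : IsPullback p₁ p₂ (coequalizer.π p₁ p₂) (coequalizer.π p₁ p₂) :=
    h.isPullback (coequalizer.condition p₁ p₂) (pbk Φ₁ ue₁) (pbk Φ₂ ue₂)
  have hpo : IsPushout p₁ p₂ (coequalizer.π p₁ p₂) (coequalizer.π p₁ p₂) := by
    have key2 : ∀ s : PushoutCocone p₁ p₂, s.inl = s.inr := fun s => by
      have := s.condition
      calc s.inl = e.r ≫ p₁ ≫ s.inl := by
            rw [← Category.assoc, e.reflexivity₁, Category.id_comp]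
        _ = e.r ≫ p₂ ≫ s.inr := by rw [this]
        _ = s.inr := by rw [← Category.assoc, e.reflexivity₂, Category.id_comp]
    refine ⟨⟨coequalizer.condition p₁ p₂⟩, ⟨PushoutCocone.IsColimit.mk _
      (fun s => coequalizer.desc s.inl (by rw [s.condition, key2 s]))
      (fun s => coequalizer.π_desc _ _)
      (fun s => by rw [coequalizer.π_desc]; exact key2 s)
      (fun s m h₁ h₂ => by
        apply coequalizer.hom_ext
        rw [h₁, coequalizer.π_desc])⟩⟩
  have hepi : ∀ (B' : E) (g : B' ⟶ coequalizer p₁ p₂),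
      EffectiveEpi (pullback.snd (coequalizer.π p₁ p₂) g) := by
    intro B' g
    have hq : ∀ {T : Type v} [Category.{u} T] [HasFiniteLimits T] (Φ : E ⥤ T)
        [PreservesFiniteLimits Φ] [PreservesFiniteColimits Φ]
        (_ : UniversallyEffectiveEquivalenceRelation (Φ.map p₁) (Φ.map p₂)),
        EffectiveEpi (Φ.map (pullback.snd (coequalizer.π p₁ p₂) g)) := by
      intro T _ _ Φ _ _ ue
      obtain ⟨θ, hθ⟩ := key Φ ue
      have pb : IsPullback (pullback.fst (coequalizer.π p₁ p₂) g)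
          (pullback.snd (coequalizer.π p₁ p₂) g) (coequalizer.π p₁ p₂) g :=
        IsPullback.of_hasPullback _ g
      have pb' : IsPullback (Φ.map (pullback.snd (coequalizer.π p₁ p₂) g))
          (Φ.map (pullback.fst (coequalizer.π p₁ p₂) g)) (Φ.map g ≫ θ.hom) ue.π := by
        rw [← hθ]
        exact (pb.map Φ).flip.of_iso (Iso.refl _) (Iso.refl _) (Iso.refl _) θ
          (by simp) (by simp) (by simp) (by simp)
      exact ue.universally_effectiveEpi_π _ _ _ pb'
    have hk : ∀ {T : Type v} [Category.{u} T] [HasFiniteLimits T] (Φ : E ⥤ T)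
        [PreservesFiniteLimits Φ] [PreservesFiniteColimits Φ]
        (_ : UniversallyEffectiveEquivalenceRelation (Φ.map p₁) (Φ.map p₂)),
        IsColimit (Φ.mapCocone (Cofork.ofπ (pullback.snd (coequalizer.π p₁ p₂) g)
          pullback.condition)) := by
      intro T _ _ Φ _ _ ue
      haveI := hq Φ ue
      have kp := (IsPullback.of_hasPullback (pullback.snd (coequalizer.π p₁ p₂) g)
        (pullback.snd (coequalizer.π p₁ p₂) g)).map Φ
      exact (isColimitMapCoconeCoforkEquiv Φ _).symm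
        (isColimitCoforkOfEffectiveEpi (Φ.map (pullback.snd (coequalizer.π p₁ p₂) g)) _
          kp.isLimit)
    obtain ⟨hl⟩ := h.isColimit (Cofork.ofπ (pullback.snd (coequalizer.π p₁ p₂) g)
      pullback.condition) (hk Φ₁ ue₁) (hk Φ₂ ue₂)
    exact effectiveEpi_of_kernelPair _ hl
  exact ⟨coequalizer p₁ p₂, coequalizer.π p₁ p₂, hpb, hpo, hepi⟩

end Groth.Agent.Lib.Lead.GirTransfer
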