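import Mathlib

/-!
# Sheaf categories on small sites are locally presentable; sheafified representables are presentable
-/

set_option autoImplicit false
set_option linter.style.haveILetI false
open CategoryTheory CategoryTheory.Limits Opposite
universe u

namespace Groth.Agent.Lib.Lead.ShPresentable

variable {C : Type u} [SmallCategory C] (J : GrothendieckTopology C)

theorem isCardinalPresentable_yoneda (κ : Cardinal.{u}) [Fact κ.IsRegular] (X : C) :
    IsCardinalPresentable (yoneda.obj X) κ where
  preservesColimitOfShape K _ _ :=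
    preservesColimitsOfShape_of_natIso (curriedYonedaLemma.app (op X)).symm

/-- index type of all covering sieves -/
abbrev SIdx := Σ c : C, {S : Sieve c // S ∈ J c}

/-- the (small) class of covering sieve inclusions -/
def W : MorphismProperty (Cᵒᵖ ⥤ Type u) :=
  MorphismProperty.ofHoms (fun i : SIdx J => i.2.1.functorInclusion)

theorem isLocal_of_isSheaf {P : Cᵒᵖ ⥤ Type u} (hP : Presheaf.IsSheaf J P) : (W J).isLocal P := by
  intro A B f hf
  obtain ⟨i⟩ := hf
  have hy := Presieve.isSheafFor_iff_yonedaSheafCondition.1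
    (((isSheaf_iff_isSheaf_of_type _ _).1 hP) _ i.2.2)
  exact ⟨fun g₁ g₂ h12 => (hy (i.2.1.functorInclusion ≫ g₁)).unique rfl h12.symm,
    fun g => (hy g).exists⟩

theorem isSheaf_of_isLocal {P : Cᵒᵖ ⥤ Type u} (hP : (W J).isLocal P) : Presheaf.IsSheaf J P := by
  rw [isSheaf_iff_isSheaf_of_type]
  intro c S hS
  rw [Presieve.isSheafFor_iff_yonedaSheafCondition]
  intro f
  have hb := hP _ (MorphismProperty.ofHoms.mk (f := fun i : SIdx J => i.2.1.functorInclusion)
    (⟨c, S, hS⟩ : SIdx J))
  obtain ⟨g, hg⟩ := hb.2 f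
  exact ⟨g, hg, fun g' hg' => hb.1 (hg'.trans hg.symm)⟩

theorem exists_cardinal_sheafToPresheaf : ∃ (κ : Cardinal.{u}) (_ : Fact κ.IsRegular),
    (sheafToPresheaf J (Type u)).IsCardinalAccessible κ := by
  have hpres : ∀ i : SIdx J, ∃ (κ : Cardinal.{u}) (_ : Fact κ.IsRegular),
      IsCardinalPresentable (i.2.1.functor) κ := fun i => by
    have : IsPresentable.{u} (i.2.1.functor) := inferInstance
    exact this.exists_cardinal
  choose κi hκi hpi using hpres
  let κ : Cardinal.{u} := Order.succ (max Cardinal.aleph0 (Cardinal.sum κi))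
  haveI : Fact κ.IsRegular := ⟨Cardinal.isRegular_succ (le_max_left _ _)⟩
  have hle : ∀ i, κi i ≤ κ := fun i =>
    ((Cardinal.le_sum κi i).trans (le_max_right _ _)).trans (Order.le_succ _)
  refine ⟨κ, inferInstance, ?_⟩
  have hW : ∀ ⦃X Y : Cᵒᵖ ⥤ Type u⦄ (f : X ⟶ Y), W J f →
      IsCardinalPresentable X κ ∧ IsCardinalPresentable Y κ := by
    rintro _ _ _ ⟨i⟩
    haveI := hκi i
    haveI := hpi i
    exact ⟨isCardinalPresentable_of_le _ (hle i), isCardinalPresentable_yoneda κ _⟩
  constructor
  intro K _ _
  haveI := (W J).isClosedUnderColimitsOfShape_isLocal K κ hW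
  constructor
  intro F
  let c := colimit.cocone (F ⋙ sheafToPresheaf J (Type u))
  have hc : IsColimit c := colimit.isColimit _
  have hloc : (W J).isLocal c.pt :=
    (W J).isLocal.prop_of_isColimit hc (fun j => isLocal_of_isSheaf J (F.obj j).property)
  have hsh := isSheaf_of_isLocal J hloc
  let c' : Cocone F :=
    { pt := ⟨c.pt, hsh⟩
      ι :=
        { app := fun j => ⟨c.ι.app j⟩
          naturality := fun j j' g => by
            apply (sheafToPresheaf J (Type u)).map_injective
            exact c.ι.naturality g } }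
  have hc' : IsColimit ((sheafToPresheaf J (Type u)).mapCocone c') :=
    IsColimit.ofIsoColimit hc (Cocones.ext (Iso.refl _) (fun j => by
      simp only [Iso.refl_hom, Category.comp_id]
      rfl))
  exact preservesColimit_of_preserves_colimit_cocone
    (isColimitOfReflects (sheafToPresheaf J (Type u)) hc') hc'

theorem isCardinalLocallyPresentable_sheaf (κ : Cardinal.{u}) [Fact κ.IsRegular]
    [(sheafToPresheaf J (Type u)).IsCardinalAccessible κ] :
    IsCardinalLocallyPresentable (Sheaf J (Type u)) κ :=
  (sheafificationAdjunction J (Type u)).isCardinalLocallyPresentable κ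

theorem isCardinalPresentable_sheafify_yoneda (κ : Cardinal.{u}) [Fact κ.IsRegular]
    [(sheafToPresheaf J (Type u)).IsCardinalAccessible κ] (X : C) :
    IsCardinalPresentable ((presheafToSheaf J (Type u)).obj (yoneda.obj X)) κ := by
  haveI := isCardinalPresentable_yoneda κ X
  exact (sheafificationAdjunction J (Type u)).isCardinalPresentable_leftAdjoint_obj κ
    (yoneda.obj X)

theorem exists_cardinal {D : Type u} [SmallCategory D] (K : GrothendieckTopology D)
    (κ₀ : Cardinal.{u}) : ∃ (κ : Cardinal.{u}) (_ : Fact κ.IsRegular), κ₀ ≤ κ ∧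
      (sheafToPresheaf J (Type u)).IsCardinalAccessible κ ∧
      (sheafToPresheaf K (Type u)).IsCardinalAccessible κ := by
  obtain ⟨κ₁, _, h₁⟩ := exists_cardinal_sheafToPresheaf J
  obtain ⟨κ₂, _, h₂⟩ := exists_cardinal_sheafToPresheaf K
  let κ : Cardinal.{u} := Order.succ (max Cardinal.aleph0 (max κ₀ (max κ₁ κ₂)))
  haveI : Fact κ.IsRegular := ⟨Cardinal.isRegular_succ (le_max_left _ _)⟩
  have hm : max κ₀ (max κ₁ κ₂) ≤ κ := (le_max_right _ _).trans (Order.le_succ _)
  refine ⟨κ, inferInstance, (le_max_left _ _).trans hm,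
    Functor.isCardinalAccessible_of_le _ (((le_max_left κ₁ κ₂).trans (le_max_right _ _)).trans hm),
    Functor.isCardinalAccessible_of_le _ (((le_max_right κ₁ κ₂).trans (le_max_right _ _)).trans hm)⟩

end Groth.Agent.Lib.Lead.ShPresentable
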