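import Mathlib
import Groth.Agent.Lib.Lead.GirTransfer
import Groth.Agent.Lib.Lead.ShPresentable
import Groth.Agent.Lib.Lead.GirD
import Groth.Agent.Lib.Lead.ToposFinCoprod3
import Groth.Agent.Lib.Lead.SheafExact
import Groth.Agent.S3082

/-!
# The glued category `(Sh K, Sh J, ρ)` of a left exact accessible functor is a topos
-/

set_option autoImplicit false
set_option linter.style.haveILetI false
open CategoryTheory CategoryTheory.Limits Opposite
universe u

namespace Groth.Agent.Lib.Lead.CommaTopos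

section Sheaf

variable {C : Type u} [SmallCategory C] (J : GrothendieckTopology C)

theorem isUniversalColimit_discrete {ι : Type u} {F : Discrete ι ⥤ Sheaf J (Type u)}
    (c : Cocone F) (hc : IsColimit c) : IsUniversalColimit c := by
  let G : ι → Sheaf J (Type u) := fun i => F.obj ⟨i⟩
  let e : F ≅ Discrete.functor G := Discrete.natIsoFunctor
  let c₁ : Cofan G := (Cocone.precompose e.inv).obj c
  have hc₁ : IsColimit c₁ := (IsColimit.precomposeInvEquiv e c).symm hc
  have hu := Groth.Agent.Lib.Lead.ToposFin.isUniversalColimit_of_isColimit c₁ hc₁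
  have h2 := hu.precompose_isIso e.hom
  exact h2.of_iso (Cocone.ext (Iso.refl _) (by intro j; simp [c₁]))

theorem isDetecting_sheafified :
    (ObjectProperty.ofObj fun X : C =>
      (presheafToSheaf J (Type u)).obj (yoneda.obj X)).IsDetecting := by
  have h := Groth.Agent.S3082.result J Set.univ (fun X => ⟨PUnit, fun _ => X, fun _ => 𝟙 X,
    J.covering_of_eq_top (Sieve.id_mem_iff_eq_top.1
      ⟨_, 𝟙 _, 𝟙 X, Presieve.ofArrows.mk PUnit.unit, Category.id_comp _⟩),
    fun _ => Set.mem_univ _⟩)
  refine h.of_le ?_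
  rintro _ ⟨X⟩
  exact ObjectProperty.ofObj_apply
    (fun X : C => (presheafToSheaf J (Type u)).obj (yoneda.obj X)) X.1

end Sheaf

section Comma

variable {C D : Type u} [SmallCategory C] [SmallCategory D] (J : GrothendieckTopology C)
  (K : GrothendieckTopology D) (ρ : Sheaf J (Type u) ⥤ Sheaf K (Type u))

instance preservesFiniteLimits_fst [PreservesFiniteLimits ρ] :
    PreservesFiniteLimits (Comma.fst (𝟭 (Sheaf K (Type u))) ρ) :=
  ⟨fun _ _ _ => ⟨fun {F} => preservesLimit_of_preserves_limit_cone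
    (Comma.coneOfPreservesIsLimit F (limit.isLimit _) (limit.isLimit _)) (limit.isLimit _)⟩⟩

instance preservesFiniteLimits_snd [PreservesFiniteLimits ρ] :
    PreservesFiniteLimits (Comma.snd (𝟭 (Sheaf K (Type u))) ρ) :=
  ⟨fun _ _ _ => ⟨fun {F} => preservesLimit_of_preserves_limit_cone
    (Comma.coneOfPreservesIsLimit F (limit.isLimit _) (limit.isLimit _)) (limit.isLimit _)⟩⟩

instance preservesColimits_fst :
    PreservesColimitsOfSize.{u, u} (Comma.fst (𝟭 (Sheaf K (Type u))) ρ) :=
  ⟨fun {_} _ => inferInstance⟩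

instance preservesColimits_snd :
    PreservesColimitsOfSize.{u, u} (Comma.snd (𝟭 (Sheaf K (Type u))) ρ) :=
  ⟨fun {_} _ => inferInstance⟩

theorem jointlyConservative :
    GirTransfer.JointlyConservative (Comma.fst (𝟭 (Sheaf K (Type u))) ρ)
      (Comma.snd (𝟭 (Sheaf K (Type u))) ρ) where
  isIso := fun {X Y} f h1 h2 => by
    haveI : IsIso f.left := h1
    haveI : IsIso f.right := h2
    have : f = (Comma.isoMk (asIso f.left) (asIso f.right) (by simpa using f.w)).hom := by
      ext <;> simp
    rw [this]; infer_instance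
  faithful := fun f g h1 h2 => CommaMorphism.ext h1 h2

/-- the first family of generators: `(∅, a y c, !)` -/
noncomputable def obj₁ (c : C) : Comma (𝟭 (Sheaf K (Type u))) ρ where
  left := ⊥_ _
  right := (presheafToSheaf J (Type u)).obj (yoneda.obj c)
  hom := initial.to _

/-- the second family of generators: `(a y d, G i, w)` -/
noncomputable def obj₂ {ι : Type u} (G : ι → Sheaf J (Type u))
    (t : Σ (d : D) (i : ι), ((presheafToSheaf K (Type u)).obj (yoneda.obj d) ⟶ ρ.obj (G i))) :
    Comma (𝟭 (Sheaf K (Type u))) ρ where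
  left := (presheafToSheaf K (Type u)).obj (yoneda.obj t.1)
  right := G t.2.1
  hom := t.2.2

theorem isDetecting {ι : Type u} (G : ι → Sheaf J (Type u))
    (hG : ∀ (X : Sheaf J (Type u)) (d : D)
      (t : (presheafToSheaf K (Type u)).obj (yoneda.obj d) ⟶ ρ.obj X),
      ∃ (i : ι) (a : G i ⟶ X) (w : (presheafToSheaf K (Type u)).obj (yoneda.obj d) ⟶ ρ.obj (G i)),
        w ≫ ρ.map a = t) :
    (ObjectProperty.ofObj (obj₁ J K ρ) ⊔ ObjectProperty.ofObj (obj₂ J K ρ G)).IsDetecting := by
  intro X Y f hf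
  have hr : IsIso f.right := by
    apply isDetecting_sheafified J
    rintro _ ⟨c⟩ h
    let hh : obj₁ J K ρ c ⟶ Y :=
      { left := initial.to _, right := h, w := initial.hom_ext _ _ }
    obtain ⟨h', hh', huniq⟩ := hf _ (Or.inl (ObjectProperty.ofObj_apply _ c)) hh
    refine ⟨h'.right, congrArg CommaMorphism.right hh', ?_⟩
    intro g hg
    have := huniq { left := initial.to _, right := g, w := initial.hom_ext _ _ } (by
      refine CommaMorphism.ext ?_ ?_
      · exact initial.hom_ext _ _
      · exact hg)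
    exact congrArg CommaMorphism.right this
  have hl : IsIso f.left := by
    apply isDetecting_sheafified K
    rintro _ ⟨d⟩ h
    haveI : IsIso (ρ.map f.right) := inferInstance
    have fw : f.left ≫ Y.hom = X.hom ≫ ρ.map f.right := by simpa using f.w
    have e1 : ∀ g' : (presheafToSheaf K (Type u)).obj (yoneda.obj d) ⟶ X.left, g' ≫ f.left = h →
        g' ≫ X.hom = (h ≫ Y.hom) ≫ inv (ρ.map f.right) := fun g' hg' => by
      rw [IsIso.eq_comp_inv, Category.assoc, ← fw, ← Category.assoc, hg']
    obtain ⟨i, a, w, hw⟩ := hG X.right d ((h ≫ Y.hom) ≫ inv (ρ.map f.right))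
    let hh : obj₂ J K ρ G ⟨d, i, w⟩ ⟶ Y :=
      { left := h
        right := a ≫ f.right
        w := by
          show h ≫ Y.hom = w ≫ ρ.map (a ≫ f.right)
          rw [ρ.map_comp, ← Category.assoc, hw]
          simp }
    obtain ⟨h', hh', -⟩ := hf _ (Or.inr (ObjectProperty.ofObj_apply _ ⟨d, i, w⟩)) hh
    have hh'l : h'.left ≫ f.left = h := congrArg CommaMorphism.left hh'
    refine ⟨h'.left, hh'l, ?_⟩
    intro g hg
    obtain ⟨i', a', w', hw'⟩ := hG X.right d (g ≫ X.hom)
    let m : ∀ g' : (presheafToSheaf K (Type u)).obj (yoneda.obj d) ⟶ X.left, g' ≫ f.left = h →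
        (obj₂ J K ρ G ⟨d, i', w'⟩ ⟶ X) := fun g' hg' =>
      { left := g'
        right := a'
        w := by
          show g' ≫ X.hom = w' ≫ ρ.map a'
          rw [hw', e1 g' hg', e1 g hg] }
    obtain ⟨h'', -, huniq⟩ := hf _ (Or.inr (ObjectProperty.ofObj_apply _ ⟨d, i', w'⟩))
      (m g hg ≫ f)
    have u1 := huniq (m g hg) rfl
    have u2 := huniq (m h'.left hh'l) (by
      refine CommaMorphism.ext ?_ ?_
      · exact hh'l.trans hg.symm
      · rfl)
    exact congrArg CommaMorphism.left (u1.trans u2.symm)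
  exact (jointlyConservative J K ρ).isIso f hl hr

theorem exists_factor (κ : Cardinal.{u}) [Fact κ.IsRegular] [ρ.IsCardinalAccessible κ]
    [(sheafToPresheaf K (Type u)).IsCardinalAccessible κ]
    (P : ObjectProperty (Sheaf J (Type u))) [ObjectProperty.Small.{u} P]
    (hP : P.IsCardinalFilteredGenerator κ)
    (X : Sheaf J (Type u)) (d : D)
    (t : (presheafToSheaf K (Type u)).obj (yoneda.obj d) ⟶ ρ.obj X) :
    ∃ (i : Giraud.GenIdx P) (a : Giraud.gen P i ⟶ X)
      (w : (presheafToSheaf K (Type u)).obj (yoneda.obj d) ⟶ ρ.obj (Giraud.gen P i)),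
      w ≫ ρ.map a = t := by
  obtain ⟨K', _, _, ⟨pres⟩⟩ := hP.exists_colimitsOfShape X
  haveI := ρ.preservesColimitsOfShape_of_isCardinalAccessible κ K'
  haveI := ShPresentable.isCardinalPresentable_sheafify_yoneda K κ d
  obtain ⟨j, w, hw⟩ := IsCardinalPresentable.exists_hom_of_isColimit κ
    (isColimitOfPreserves ρ pres.isColimit) t
  obtain ⟨i, hi⟩ := Giraud.exists_gen P (pres.prop_diag_obj j)
  refine ⟨i, eqToHom hi ≫ pres.ι.app j, w ≫ ρ.map (eqToHom hi.symm), ?_⟩
  rw [Category.assoc, ← ρ.map_comp, ← Category.assoc (eqToHom _), eqToHom_trans, eqToHom_refl,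
    Category.id_comp]
  exact hw

theorem isTopos [PreservesFiniteLimits ρ] [ρ.IsAccessible.{u}] :
    SGA4.IsTopos.{u + 1, u} (Comma (𝟭 (Sheaf K (Type u))) ρ) := by
  obtain ⟨κ₀, _, hρ⟩ := Functor.IsAccessible.exists_cardinal (F := ρ)
  obtain ⟨κ, _, hκ, hJ, hK⟩ := ShPresentable.exists_cardinal J K κ₀
  haveI : ρ.IsCardinalAccessible κ := Functor.isCardinalAccessible_of_le ρ hκ
  haveI := ShPresentable.isCardinalLocallyPresentable_sheaf J κ
  obtain ⟨P, _, hP⟩ := HasCardinalFilteredGenerator.exists_small_generator (Sheaf J (Type u)) κ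
  have hcons := jointlyConservative J K ρ
  refine Giraud.isTopos_of_giraud
    (hcons.hasDisjointUniversalCoproducts
      (fun c hc => isUniversalColimit_discrete K c hc)
      (fun c hc => isUniversalColimit_discrete J c hc)
      (fun X => Groth.Agent.Lib.Lead.ToposFin.coproductDisjoint X)
      (fun X => Groth.Agent.Lib.Lead.ToposFin.coproductDisjoint X))
    (fun R A p₁ p₂ hE => hcons.effectiveUniversal
      (fun p₁ p₂ e => ⟨SheafExact.universallyEffective p₁ p₂ e⟩)
      (fun p₁ p₂ e => ⟨SheafExact.universallyEffective p₁ p₂ e⟩) p₁ p₂ hE)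
    (ObjectProperty.ofObj (obj₁ J K ρ) ⊔ ObjectProperty.ofObj (obj₂ J K ρ (Giraud.gen P)))
    (isDetecting J K ρ (Giraud.gen P) (exists_factor J K ρ κ P hP))

end Comma

end Groth.Agent.Lib.Lead.CommaTopos
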