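import Groth.Statements.S13791
import Mathlib.CategoryTheory.Sites.ConstantSheaf
import Mathlib.Algebra.Homology.DerivedCategory.Ext.ExactSequences

set_option autoImplicit false
universe u
open CategoryTheory CategoryTheory.Limits Opposite Abelian

namespace Groth.Agent.Lib.Lead.ConstH1

variable {C : Type u} [SmallCategory C] (J : GrothendieckTopology C)

theorem exists_section {B Q : AddCommGrpCat.{u}} (π : B ⟶ Q) (hπ : Function.Surjective π) :
    ∃ s : (sheafCompose J (forget AddCommGrpCat.{u})).obj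
        ((constantSheaf J AddCommGrpCat.{u}).obj Q) ⟶
      (sheafCompose J (forget AddCommGrpCat.{u})).obj ((constantSheaf J AddCommGrpCat.{u}).obj B),
      s ≫ (sheafCompose J (forget AddCommGrpCat.{u})).map
        ((constantSheaf J AddCommGrpCat.{u}).map π) = 𝟙 _ := by
  let e := constantCommuteCompose J (forget AddCommGrpCat.{u})
  let σ : (forget AddCommGrpCat.{u}).obj Q ⟶ (forget AddCommGrpCat.{u}).obj B :=
    TypeCat.ofHom (Function.surjInv hπ)
  have hσ : σ ≫ (forget AddCommGrpCat.{u}).map π = 𝟙 _ := by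
    ext q
    exact Function.surjInv_eq hπ q
  refine ⟨e.hom.app Q ≫ (constantSheaf J (Type u)).map σ ≫ e.inv.app B, ?_⟩
  have nat := e.inv.naturality π
  simp only [Functor.comp_map] at nat
  rw [Category.assoc, Category.assoc, ← nat, ← Functor.map_comp_assoc, hσ,
    CategoryTheory.Functor.map_id, Category.id_comp, Iso.hom_inv_id_app]
  rfl

theorem lift {B Q : AddCommGrpCat.{u}} (π : B ⟶ Q) (hπ : Function.Surjective π)
    (g : (constantSheaf J AddCommGrpCat.{u}).obj (AddCommGrpCat.of (ULift.{u} ℤ)) ⟶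
      (constantSheaf J AddCommGrpCat.{u}).obj Q) :
    ∃ h : (constantSheaf J AddCommGrpCat.{u}).obj (AddCommGrpCat.of (ULift.{u} ℤ)) ⟶
        (constantSheaf J AddCommGrpCat.{u}).obj B,
      h ≫ (constantSheaf J AddCommGrpCat.{u}).map π = g := by
  obtain ⟨s, hs⟩ := exists_section J π hπ
  let Z : AddCommGrpCat.{u} := AddCommGrpCat.of (ULift.{u} ℤ)
  let ΔQ := (constantSheaf J AddCommGrpCat.{u}).obj Q
  let ΔB := (constantSheaf J AddCommGrpCat.{u}).obj B
  let g₀ : (Functor.const Cᵒᵖ).obj Z ⟶ ΔQ.obj := toSheafify J _ ≫ g.hom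
  let y : ∀ U : Cᵒᵖ, ΔQ.obj.obj U := fun U => g₀.app U (ULift.up 1)
  let x : ∀ U : Cᵒᵖ, ΔB.obj.obj U := fun U => s.hom.app U (y U)
  have hxy : ∀ U : Cᵒᵖ, ((constantSheaf J AddCommGrpCat.{u}).map π).hom.app U (x U) = y U := by
    intro U
    have := congrArg (fun t => t.hom.app U (y U)) hs
    exact this
  have compat : ∀ {U V : Cᵒᵖ} (f : U ⟶ V), ΔB.obj.map f (x U) = x V := by
    intro U V f
    have h1 : ΔQ.obj.map f (y U) = y V := by
      have := NatTrans.naturality_apply g₀ f (ULift.up 1)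
      exact this.symm
    have h2 := NatTrans.naturality_apply s.hom f (y U)
    show ΔB.obj.map f (s.hom.app U (y U)) = s.hom.app V (y V)
    rw [← h1]
    exact h2.symm
  let h₀ : (Functor.const Cᵒᵖ).obj Z ⟶ ΔB.obj :=
    { app := fun U => AddCommGrpCat.ofHom
        ((zmultiplesHom (ΔB.obj.obj U) (x U)).comp
          (AddEquiv.ulift.toAddMonoidHom : ULift.{u} ℤ →+ ℤ))
      naturality := fun U V f => by
        ext n
        show n.down • x V = ΔB.obj.map f (n.down • x U)
        rw [map_zsmul, compat f] }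
  refine ⟨⟨sheafifyLift J h₀ ΔB.property⟩, ?_⟩
  apply Sheaf.hom_ext
  apply sheafify_hom_ext _ _ _ ΔQ.property
  show toSheafify J _ ≫ sheafifyLift J h₀ ΔB.property ≫
    ((constantSheaf J AddCommGrpCat.{u}).map π).hom = g₀
  rw [← Category.assoc, toSheafify_sheafifyLift]
  ext U n
  show ((constantSheaf J AddCommGrpCat.{u}).map π).hom.app U (n.down • x U) = g₀.app U n
  rw [map_zsmul, hxy U]
  have hn : n = n.down • (ULift.up 1 : ULift.{u} ℤ) := by
    apply ULift.ext
    simp
  conv_rhs => rw [hn, map_zsmul]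

theorem aux {D : Type*} [Category D] [Abelian D] [HasExt D] {S : ShortComplex D}
    (hS : S.ShortExact) {X : D} (hlift : ∀ g : X ⟶ S.X₃, ∃ h : X ⟶ S.X₂, h ≫ S.g = g)
    (x : Ext X S.X₁ 1) (hx : x.comp (Ext.mk₀ S.f) (add_zero 1) = 0) : x = 0 := by
  obtain ⟨x₃, hx₃⟩ := Ext.covariant_sequence_exact₁ _ hS x hx (zero_add 1)
  obtain ⟨g, rfl⟩ := (Ext.mk₀_bijective _ _).2 x₃
  obtain ⟨h, rfl⟩ := hlift g
  rw [← hx₃, ← Ext.mk₀_comp_mk₀_assoc, hS.comp_extClass, Ext.comp_zero]

theorem main {A B : Type u} [AddCommGroup A] [AddCommGroup B] (f : A →+ B)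
    (hf : Function.Injective f) :
    Function.Injective
      (Sheaf.H.map ((constantSheaf J AddCommGrpCat.{u}).map (AddCommGrpCat.ofHom f)) 1) := by
  classical
  let π : B →+ B ⧸ f.range := QuotientAddGroup.mk' f.range
  have hπ : Function.Surjective π := QuotientAddGroup.mk'_surjective _
  let S₀ : ShortComplex AddCommGrpCat.{u} :=
    ShortComplex.mk (AddCommGrpCat.ofHom f) (AddCommGrpCat.ofHom π) (by
      ext a
      show π (f a) = 0
      exact (QuotientAddGroup.eq_zero_iff _).2 ⟨a, rfl⟩)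
  have hS₀ : S₀.ShortExact := by
    refine { exact := ?_, mono_f := ?_, epi_g := ?_ }
    · rw [ShortComplex.ab_exact_iff]
      intro b hb
      have : b ∈ f.range := (QuotientAddGroup.eq_zero_iff b).1 hb
      exact this
    · exact (AddCommGrpCat.mono_iff_injective _).2 hf
    · exact (AddCommGrpCat.epi_iff_surjective _).2 hπ
  haveI : PreservesFiniteLimits (constantSheaf J AddCommGrpCat.{u}) := by
    dsimp only [constantSheaf]; infer_instance
  haveI : PreservesFiniteColimits (constantSheaf J AddCommGrpCat.{u}) := by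
    dsimp only [constantSheaf]; infer_instance
  have hS : (S₀.map (constantSheaf J AddCommGrpCat.{u})).ShortExact :=
    hS₀.map_of_exact (constantSheaf J AddCommGrpCat.{u})
  rw [injective_iff_map_eq_zero]
  intro x hx
  exact aux hS (fun g => lift J (AddCommGrpCat.ofHom π) hπ g) x hx

end Groth.Agent.Lib.Lead.ConstH1
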