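import Mathlib.Topology.Constructible
import Mathlib.Topology.Spectral.Prespectral

set_option autoImplicit false
set_option linter.unusedSectionVars false

universe u

namespace Groth.Agent.Lib.Lead

open Topology Set TopologicalSpace

section constr

variable {X T : Type*} [TopologicalSpace X] [TopologicalSpace T]

theorem isSublattice_retrocompactOpens :
    IsSublattice {U : Set X | IsOpen U ∧ IsRetrocompact U} :=
  ⟨fun _ hU _ hV => ⟨hU.1.union hV.1, hU.2.union hV.2⟩,
   fun _ hU _ hV => ⟨hU.1.inter hV.1, hU.2.inter_isOpen hV.2 hV.1⟩⟩

/-- induction principle: constructible sets are finite unions of differences of retrocompact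
opens -/
theorem isConstructible_sdiff_union_induction {p : Set X → Prop}
    (sdiff : ∀ U V : Set X, IsOpen U → IsRetrocompact U → IsOpen V → IsRetrocompact V →
      p (U \ V))
    (union : ∀ s t : Set X, IsConstructible s → IsConstructible t → p s → p t → p (s ∪ t))
    {s : Set X} (hs : IsConstructible s) : p s := by
  have := BooleanSubalgebra.closure_sdiff_sup_induction
    (s := {U : Set X | IsOpen U ∧ IsRetrocompact U})
    isSublattice_retrocompactOpens ⟨isOpen_empty, .empty⟩ ⟨isOpen_univ, .univ⟩
    (p := fun g _ => p g)
    (fun x hx y hy => sdiff x y hx.1 hx.2 hy.1 hy.2)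
    (fun x hx y hy hpx hpy => union x y hx hy hpx hpy) s hs
  exact this

/-- Stacks 09YC: constructible sets are retrocompact -/
theorem isRetrocompact_of_isConstructible {s : Set X} (hs : IsConstructible s) :
    IsRetrocompact s := by
  refine isConstructible_sdiff_union_induction (p := fun s => IsRetrocompact s) ?_ ?_ hs
  · intro U V hUo hUr hVo hVr
    intro K hKc hKo
    have : U \ V ∩ K = (U ∩ K) ∩ Vᶜ := by
      ext x; simp only [mem_inter_iff, mem_sdiff, mem_compl_iff]; tauto
    rw [this]
    exact (hUr hKc hKo).inter_right hVo.isClosed_compl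
  · intro s t _ _ hs ht
    exact hs.union ht

/-- an embedding with retrocompact range is a spectral map -/
theorem isSpectralMap_of_isEmbedding_of_isRetrocompact {g : T → X} (hg : IsEmbedding g)
    (hr : IsRetrocompact (range g)) : IsSpectralMap g := by
  refine ⟨hg.continuous, fun Q hQo hQc => ?_⟩
  rw [hg.isCompact_iff, image_preimage_eq_inter_range, inter_comm]
  exact hr hQc hQo

theorem prespectralSpace_of_isEmbedding_of_isRetrocompact [PrespectralSpace X] {g : T → X}
    (hg : IsEmbedding g) (hr : IsRetrocompact (range g)) : PrespectralSpace T :=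
  PrespectralSpace.of_isInducing g hg.isInducing
    (isSpectralMap_of_isEmbedding_of_isRetrocompact hg hr)

/-- preimages of retrocompact opens under an embedding with retrocompact range into a
prespectral space are retrocompact -/
theorem isRetrocompact_preimage_of_isEmbedding [PrespectralSpace X] {g : T → X}
    (hg : IsEmbedding g) (hr : IsRetrocompact (range g)) {U : Set X} (hUo : IsOpen U)
    (hUr : IsRetrocompact U) : IsRetrocompact (g ⁻¹' U) := by
  intro K hKc hKo
  obtain ⟨K', hK'o, rfl⟩ := hg.isInducing.isOpen_iff.mp hKo
  obtain ⟨Q, hQc, hQo, hKQ, hQK'⟩ :=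
    PrespectralSpace.exists_isCompact_and_isOpen_between (hKc.image hg.continuous) hK'o
      (by rintro _ ⟨x, hx, rfl⟩; exact hx)
  have hK : g ⁻¹' K' = g ⁻¹' Q := by
    apply Subset.antisymm
    · intro x hx
      exact hKQ ⟨x, hx, rfl⟩
    · exact preimage_mono hQK'
  rw [hK, ← preimage_inter, hg.isCompact_iff, image_preimage_eq_inter_range, inter_comm]
  exact hr (hUr hQc hQo) (hUo.inter hQo)

/-- Stacks 09YE: constructible sets restrict to constructible sets on retrocompact subspaces of
prespectral spaces -/
theorem isConstructible_preimage_of_isEmbedding [PrespectralSpace X] {g : T → X}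
    (hg : IsEmbedding g) (hr : IsRetrocompact (range g)) {s : Set X} (hs : IsConstructible s) :
    IsConstructible (g ⁻¹' s) :=
  hs.preimage hg.continuous fun _ hUo hUr => isRetrocompact_preimage_of_isEmbedding hg hr hUo hUr

theorem range_inclusion' {s t : Set X} (h : s ⊆ t) :
    range (inclusion h) = (Subtype.val : t → X) ⁻¹' s := by
  ext x
  simp only [mem_range, mem_preimage]
  constructor
  · rintro ⟨y, rfl⟩; exact y.2
  · intro hx; exact ⟨⟨x.1, hx⟩, rfl⟩

/-- Stacks 09YH: a constructible subset of a constructible subset is constructible -/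
theorem isConstructible_image_val_of_isConstructible [PrespectralSpace X] {E : Set X}
    (hE : IsConstructible E) :
    ∀ F : Set E, IsConstructible F → IsConstructible ((Subtype.val : E → X) '' F) := by
  refine isConstructible_sdiff_union_induction
    (p := fun E => ∀ F : Set E, IsConstructible F →
      IsConstructible ((Subtype.val : E → X) '' F)) ?_ ?_ hE
  · intro U V hUo hUr hVo hVr
    intro F hF
    -- the inclusion of `U \ V` into `U`
    have hsub : U \ V ⊆ U := sdiff_subset
    have hj : IsClosedEmbedding (inclusion hsub) := by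
      refine ⟨IsEmbedding.inclusion hsub, ?_⟩
      rw [range_inclusion']
      have : (Subtype.val : U → X) ⁻¹' (U \ V) = (Subtype.val : U → X) ⁻¹' Vᶜ := by
        ext x; simp [x.2]
      rw [this]
      exact hVo.isClosed_compl.preimage continuous_subtype_val
    have hjr : IsRetrocompact (range (inclusion hsub))ᶜ := by
      rw [range_inclusion']
      have : ((Subtype.val : U → X) ⁻¹' (U \ V))ᶜ = (Subtype.val : U → X) ⁻¹' V := by
        ext x; simp [x.2]
      rw [this]
      exact hVr.preimage_of_isOpenEmbedding hUo.isOpenEmbedding_subtypeVal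
    have h1 : IsConstructible (inclusion hsub '' F) := hF.image_of_isClosedEmbedding hj hjr
    have h2 : IsConstructible ((Subtype.val : U → X) '' (inclusion hsub '' F)) :=
      h1.image_of_isOpenEmbedding hUo.isOpenEmbedding_subtypeVal
        (by rw [Subtype.range_coe]; exact hUr)
    rw [← image_comp] at h2
    exact h2
  · intro s t hs ht ihs iht
    intro F hF
    have hE : IsConstructible (s ∪ t) := hs.union ht
    have hEr : IsRetrocompact (s ∪ t) := isRetrocompact_of_isConstructible hE
    haveI : PrespectralSpace ↥(s ∪ t) :=
      prespectralSpace_of_isEmbedding_of_isRetrocompact IsEmbedding.subtypeVal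
        (by rw [Subtype.range_coe]; exact hEr)
    -- `s` and `t` are constructible in `s ∪ t`
    have key : ∀ (r : Set X) (hr : r ⊆ s ∪ t), IsConstructible r →
        (∀ G : Set r, IsConstructible G → IsConstructible ((Subtype.val : r → X) '' G)) →
        IsConstructible ((Subtype.val : ↥(s ∪ t) → X) '' (F ∩ Subtype.val ⁻¹' r)) := by
      intro r hr hrc ih
      have h1 : IsConstructible ((Subtype.val : ↥(s ∪ t) → X) ⁻¹' r) :=
        isConstructible_preimage_of_isEmbedding IsEmbedding.subtypeVal
          (by rw [Subtype.range_coe]; exact hEr) hrc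
      have h2 : IsRetrocompact (range (inclusion hr)) := by
        rw [range_inclusion']
        exact isRetrocompact_of_isConstructible h1
      have h3 : IsConstructible (inclusion hr ⁻¹' F) :=
        isConstructible_preimage_of_isEmbedding (IsEmbedding.inclusion hr) h2 hF
      have h4 := ih _ h3
      have hset : (Subtype.val : ↥(s ∪ t) → X) '' (F ∩ Subtype.val ⁻¹' r) =
          (Subtype.val : r → X) '' (inclusion hr ⁻¹' F) := by
        apply Subset.antisymm
        · rintro _ ⟨x, ⟨hxF, hxr⟩, rfl⟩
          exact ⟨⟨x.1, hxr⟩, hxF, rfl⟩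
        · rintro _ ⟨y, hy, rfl⟩
          exact ⟨inclusion hr y, ⟨hy, y.2⟩, rfl⟩
      rw [hset]
      exact h4
    have h1 := key s subset_union_left hs ihs
    have h2 := key t subset_union_right ht iht
    have : (Subtype.val : ↥(s ∪ t) → X) '' F =
        (Subtype.val : ↥(s ∪ t) → X) '' (F ∩ Subtype.val ⁻¹' s) ∪
        (Subtype.val : ↥(s ∪ t) → X) '' (F ∩ Subtype.val ⁻¹' t) := by
      have hF' : F = F ∩ Subtype.val ⁻¹' (s ∪ t) := by
        apply Subset.antisymm
        · intro x hx; exact ⟨hx, x.2⟩
        · exact inter_subset_left
      rw [← image_union, ← inter_union_distrib_left, ← preimage_union, ← hF']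
    rw [this]
    exact h1.union h2

end constr

end Groth.Agent.Lib.Lead
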