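import Mathlib
import Groth.Prelude.Def_EtBaseX

/-!
# The étale local ring at a geometric point is strictly henselian
-/

set_option autoImplicit false

universe u

open CategoryTheory CategoryTheory.Limits AlgebraicGeometry Opposite

namespace Groth.Agent.Lib.Lead.EtLocalRing

noncomputable section

variable {X : Scheme.{u}} {Ω : Type u} [Field Ω] [IsSepClosed Ω]
  (ξ : Spec (CommRingCat.of Ω) ⟶ X)

/-- The point of the small étale site. -/
abbrev Φ : X.smallEtaleTopology.Point := Scheme.pointSmallEtale ξ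

/-- The étale local ring. -/
abbrev R : CommRingCat.{u} := EtBase.etaleLocalRing ξ

/-- The germ map at an étale neighbourhood. -/
abbrev germ (U : X.Etale) (u : (Φ ξ).fiber.obj U) : (EtBase.OO X).obj (op U) ⟶ R ξ :=
  (Φ ξ).toPresheafFiber U u (EtBase.OO X)

/-- The morphism `Spec Ω ⟶ U` underlying an element of the fibre. -/
abbrev pt (U : X.Etale) (u : (Φ ξ).fiber.obj U) : Spec (CommRingCat.of Ω) ⟶ U.left :=
  CommaMorphism.left (show Over.mk ξ ⟶ (Scheme.Etale.forget X).obj U from u)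

lemma pt_hom (U : X.Etale) (u : (Φ ξ).fiber.obj U) : pt ξ U u ≫ U.hom = ξ :=
  Over.w (show Over.mk ξ ⟶ (Scheme.Etale.forget X).obj U from u)

/-- Evaluation at the geometric point, at the level of an étale neighbourhood. -/
def evφ (U : X.Etale) (u : (Φ ξ).fiber.obj U) : (EtBase.OO X).obj (op U) ⟶ CommRingCat.of Ω :=
  (pt ξ U u).appTop ≫ (Scheme.ΓSpecIso (CommRingCat.of Ω)).hom

lemma evφ_compat ⦃U V : X.Etale⦄ (f : U ⟶ V) (u : (Φ ξ).fiber.obj U) :
    (EtBase.OO X).map f.op ≫ evφ ξ U u = evφ ξ V ((Φ ξ).fiber.map f u) := by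
  unfold evφ
  rw [← Category.assoc]
  congr 1

/-- Evaluation at the geometric point. -/
def ev : R ξ ⟶ CommRingCat.of Ω :=
  (Φ ξ).presheafFiberDesc (evφ ξ) (evφ_compat ξ)

lemma germ_ev (U : X.Etale) (u : (Φ ξ).fiber.obj U) : germ ξ U u ≫ ev ξ = evφ ξ U u :=
  (Φ ξ).toPresheafFiber_presheafFiberDesc _ _ U u

lemma germ_ev_apply (U : X.Etale) (u : (Φ ξ).fiber.obj U) (z : (EtBase.OO X).obj (op U)) :
    (ev ξ).hom ((germ ξ U u).hom z) = (evφ ξ U u).hom z := by
  rw [← germ_ev]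
  rfl

lemma germ_surjective (a : R ξ) :
    ∃ (U : X.Etale) (u : (Φ ξ).fiber.obj U) (z : (EtBase.OO X).obj (op U)),
      (germ ξ U u).hom z = a :=
  (Φ ξ).toPresheafFiber_jointly_surjective a

lemma germ_w {U V : X.Etale} (f : U ⟶ V) (u : (Φ ξ).fiber.obj U)
    (z : (EtBase.OO X).obj (op V)) :
    (germ ξ U u).hom (((EtBase.OO X).map f.op).hom z) =
      (germ ξ V ((Φ ξ).fiber.map f u)).hom z := by
  have := (Φ ξ).toPresheafFiber_w f u (EtBase.OO X)
  exact congrArg (fun φ => φ.hom z) this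

/-- A global section whose basic open is everything is a unit. -/
lemma isUnit_of_basicOpen_eq_top (W : Scheme.{u}) (s : Γ(W, ⊤)) (h : W.basicOpen s = ⊤) :
    IsUnit s := by
  apply W.toRingedSpace.isUnit_of_isUnit_germ ⊤ s
  intro x hx
  have hx' : x ∈ W.basicOpen s := by rw [h]; trivial
  exact (W.mem_basicOpen s x hx).mp hx'

/-- Shrinking an étale neighbourhood to an open subscheme containing the image of the point. -/
lemma exists_shrink (U : X.Etale) (u : (Φ ξ).fiber.obj U) (D : U.left.Opens)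
    (hD : (pt ξ U u) ⁻¹ᵁ D = ⊤) :
    ∃ (W : X.Etale) (w : (Φ ξ).fiber.obj W) (j : W ⟶ U) (e : W.left ≅ (D : Scheme.{u})),
      (Φ ξ).fiber.map j w = u ∧ e.inv ≫ j.left = D.ι := by
  haveI : Etale (U.hom : U.left ⟶ X) := U.prop
  let g : Spec (CommRingCat.of Ω) ⟶ U.left := pt ξ U u
  have hg : g ≫ U.hom = ξ := pt_hom ξ U u
  have hr : Set.range g ⊆ Set.range D.ι := by
    rw [Scheme.Opens.range_ι]
    rintro _ ⟨x, rfl⟩
    have : x ∈ g ⁻¹ᵁ D := by rw [hD]; trivial
    exact this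
  let g' : Spec (CommRingCat.of Ω) ⟶ (D : Scheme.{u}) := IsOpenImmersion.lift D.ι g hr
  have hg' : g' ≫ D.ι = g := IsOpenImmersion.lift_fac _ _ _
  let W : X.Etale := Scheme.Etale.mk (D.ι ≫ U.hom)
  let j : W ⟶ U := MorphismProperty.Over.homMk D.ι rfl trivial
  let w : (Φ ξ).fiber.obj W := Over.homMk g' (by
    change g' ≫ D.ι ≫ U.hom = ξ
    rw [← Category.assoc, hg', hg])
  refine ⟨W, w, j, Iso.refl _, ?_, ?_⟩
  · apply Over.OverMorphism.ext
    exact hg'
  · exact Category.id_comp _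

lemma isUnit_germ (U : X.Etale) (u : (Φ ξ).fiber.obj U) (z : (EtBase.OO X).obj (op U))
    (h : (evφ ξ U u).hom z ≠ 0) : IsUnit ((germ ξ U u).hom z) := by
  let g : Spec (CommRingCat.of Ω) ⟶ U.left := pt ξ U u
  let z' : Γ(U.left, ⊤) := z
  have hu : IsUnit (g.appTop.hom z') := by
    have h1 : IsUnit ((Scheme.ΓSpecIso (CommRingCat.of Ω)).hom.hom (g.appTop.hom z')) :=
      isUnit_iff_ne_zero.mpr h
    have := h1.map (Scheme.ΓSpecIso (CommRingCat.of Ω)).inv.hom
    rwa [← CommRingCat.comp_apply, Iso.hom_inv_id, CommRingCat.id_apply] at this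
  have hD : g ⁻¹ᵁ (U.left.basicOpen z') = ⊤ := by
    rw [Scheme.preimage_basicOpen_top]
    exact Scheme.basicOpen_of_isUnit _ hu
  obtain ⟨W, w, j, e, hw, hj⟩ := exists_shrink ξ U u (U.left.basicOpen z') hD
  rw [← hw, ← germ_w]
  apply IsUnit.map
  -- the restriction of `z` to the basic open is a unit
  change IsUnit (j.left.appTop.hom z')
  apply isUnit_of_basicOpen_eq_top
  rw [← Scheme.preimage_basicOpen_top]
  have h2 : j.left = e.hom ≫ (U.left.basicOpen z').ι := by
    rw [← hj, Iso.hom_inv_id_assoc]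
  rw [h2, Scheme.Hom.comp_preimage, Scheme.Opens.ι_preimage_self]
  rfl

lemma not_isUnit_of_ev_eq_zero (a : R ξ) (h : (ev ξ).hom a = 0) : ¬ IsUnit a := by
  intro ha
  have := ha.map (ev ξ).hom
  rw [h] at this
  exact not_isUnit_zero this

lemma isUnit_iff (a : R ξ) : IsUnit a ↔ (ev ξ).hom a ≠ 0 := by
  constructor
  · intro ha h
    exact not_isUnit_of_ev_eq_zero ξ a h ha
  · intro h
    obtain ⟨U, u, z, rfl⟩ := germ_surjective ξ a
    rw [germ_ev_apply] at h
    exact isUnit_germ ξ U u z h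

instance : Nontrivial (R ξ) := (ev ξ).hom.domain_nontrivial

instance isLocalRing : IsLocalRing (R ξ) := by
  apply IsLocalRing.of_nonunits_add
  intro a b ha hb
  rw [mem_nonunits_iff, isUnit_iff, not_not] at ha hb ⊢
  rw [map_add, ha, hb, add_zero]

lemma mem_maximalIdeal_iff (a : R ξ) : a ∈ IsLocalRing.maximalIdeal (R ξ) ↔ (ev ξ).hom a = 0 := by
  rw [IsLocalRing.mem_maximalIdeal, mem_nonunits_iff, isUnit_iff, not_not]

/-- Every étale neighbourhood can be shrunk to an affine one. -/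
lemma exists_affine (U : X.Etale) (u : (Φ ξ).fiber.obj U) :
    ∃ (W : X.Etale) (w : (Φ ξ).fiber.obj W) (j : W ⟶ U), IsAffine W.left ∧
      (Φ ξ).fiber.map j w = u := by
  obtain ⟨D, hDaff, hxD, -⟩ := exists_isAffineOpen_mem_and_subset
    (x := (pt ξ U u) (default : Spec (CommRingCat.of Ω))) (U := ⊤) trivial
  have hD : (pt ξ U u) ⁻¹ᵁ D = ⊤ := by
    rw [eq_top_iff]
    intro x _
    have hx : x = default := Subsingleton.elim _ _
    rw [hx]
    exact hxD
  obtain ⟨W, w, j, e, hw, -⟩ := exists_shrink ξ U u D hD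
  haveI : IsAffine (D : Scheme.{u}) := hDaff
  exact ⟨W, w, j, IsAffine.of_isIso e.hom, hw⟩

set_option backward.isDefEq.respectTransparency.types false in
/-- An étale algebra over the sections of an affine étale neighbourhood, with a compatible point,
gives a finer étale neighbourhood. -/
lemma exists_nbhd_of_etale_algebra (U : X.Etale) [IsAffine U.left] (u : (Φ ξ).fiber.obj U)
    (B : Type u) [CommRing B] [Algebra Γ(U.left, ⊤) B] [Algebra.Etale Γ(U.left, ⊤) B]
    (ψ : B →+* Ω) (hψ : ψ.comp (algebraMap Γ(U.left, ⊤) B) = (evφ ξ U u).hom) :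
    ∃ (V : X.Etale) (v : (Φ ξ).fiber.obj V) (j : V ⟶ U)
      (β : B →+* ((EtBase.OO X).obj (op V) : CommRingCat.{u})),
      (Φ ξ).fiber.map j v = u ∧
      (∀ a : Γ(U.left, ⊤), β (algebraMap Γ(U.left, ⊤) B a) = ((EtBase.OO X).map j.op).hom a) ∧
      (∀ b, (evφ ξ V v).hom (β b) = ψ b) := by
  haveI : Etale (U.hom : U.left ⟶ X) := U.prop
  let A : CommRingCat.{u} := Γ(U.left, ⊤)
  let α : A ⟶ CommRingCat.of B := CommRingCat.ofHom (algebraMap Γ(U.left, ⊤) B)
  haveI : Etale (Spec.map α) := by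
    rw [HasRingHomProperty.Spec_iff (P := @Etale)]
    exact RingHom.etale_algebraMap.mpr inferInstance
  let q : Spec (CommRingCat.of B) ⟶ U.left := Spec.map α ≫ U.left.isoSpec.inv
  let V : X.Etale := Scheme.Etale.mk (q ≫ U.hom)
  let j : V ⟶ U := MorphismProperty.Over.homMk q rfl trivial
  let p : Spec (CommRingCat.of Ω) ⟶ Spec (CommRingCat.of B) := Spec.map (CommRingCat.ofHom ψ)
  have h3 : U.left.isoSpec.inv.appTop = (Scheme.ΓSpecIso A).inv := by
    rw [← Iso.comp_hom_eq_id, ← Scheme.toSpecΓ_appTop]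
    change U.left.isoSpec.inv.appTop ≫ U.left.isoSpec.hom.appTop = _
    rw [← Scheme.Hom.comp_appTop, Iso.hom_inv_id]
    simp
  have key : (Scheme.ΓSpecIso A).inv ≫ (Spec.map α).appTop ≫
      (Spec.map (CommRingCat.ofHom ψ)).appTop =
      (α ≫ CommRingCat.ofHom ψ) ≫ (Scheme.ΓSpecIso (CommRingCat.of Ω)).inv := by
    rw [Category.assoc, Scheme.ΓSpecIso_inv_naturality, ← Category.assoc α,
      Scheme.ΓSpecIso_inv_naturality, Category.assoc]
  have hpq : p ≫ q = pt ξ U u := by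
    apply ext_of_isAffine
    have h1 : (pt ξ U u).appTop = (evφ ξ U u) ≫ (Scheme.ΓSpecIso (CommRingCat.of Ω)).inv := by
      unfold evφ
      rw [Category.assoc, Iso.hom_inv_id, Category.comp_id]
    have h2 : (evφ ξ U u) = α ≫ CommRingCat.ofHom ψ := by
      ext a
      exact (congrArg (fun φ => φ a) hψ).symm
    rw [h1, h2, Scheme.Hom.comp_appTop, Scheme.Hom.comp_appTop, h3, Category.assoc]
    exact key
  let v : (Φ ξ).fiber.obj V := Over.homMk p (by
    change p ≫ q ≫ U.hom = ξ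
    rw [← Category.assoc, hpq, pt_hom])
  let β : B →+* ((EtBase.OO X).obj (op V) : CommRingCat.{u}) :=
    (Scheme.ΓSpecIso (CommRingCat.of B)).inv.hom
  refine ⟨V, v, j, β, ?_, ?_, ?_⟩
  · apply Over.OverMorphism.ext
    exact hpq
  · intro a
    change ((α ≫ (Scheme.ΓSpecIso (CommRingCat.of B)).inv).hom a) = q.appTop.hom a
    have : q.appTop = α ≫ (Scheme.ΓSpecIso (CommRingCat.of B)).inv := by
      rw [Scheme.Hom.comp_appTop, h3, Scheme.ΓSpecIso_inv_naturality]
    rw [this]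
  · intro b
    change ((Scheme.ΓSpecIso (CommRingCat.of B)).inv ≫ p.appTop ≫
      (Scheme.ΓSpecIso (CommRingCat.of Ω)).hom).hom b = ψ b
    rw [Scheme.ΓSpecIso_naturality, Iso.inv_hom_id_assoc]
    rfl


/-- Any two étale neighbourhoods have a common refinement. -/
lemma exists_common (U U' : X.Etale) (u : (Φ ξ).fiber.obj U) (u' : (Φ ξ).fiber.obj U') :
    ∃ (W : X.Etale) (w : (Φ ξ).fiber.obj W) (j : W ⟶ U) (j' : W ⟶ U'),
      (Φ ξ).fiber.map j w = u ∧ (Φ ξ).fiber.map j' w = u' := by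
  haveI := (Φ ξ).isCofiltered
  let a : (Φ ξ).fiber.Elements := ⟨U, u⟩
  let b : (Φ ξ).fiber.Elements := ⟨U', u'⟩
  exact ⟨(IsCofiltered.min a b).1, (IsCofiltered.min a b).2, (IsCofiltered.minToLeft a b).1,
    (IsCofiltered.minToRight a b).1, (IsCofiltered.minToLeft a b).2,
    (IsCofiltered.minToRight a b).2⟩

lemma lifts_mono {U V : X.Etale} (j : V ⟶ U) (v : (Φ ξ).fiber.obj V) (f : Polynomial (R ξ))
    (hf : f ∈ Polynomial.lifts (germ ξ U ((Φ ξ).fiber.map j v)).hom) :
    f ∈ Polynomial.lifts (germ ξ V v).hom := by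
  rw [Polynomial.lifts_iff_coeff_lifts] at hf ⊢
  intro n
  obtain ⟨z, hz⟩ := hf n
  exact ⟨((EtBase.OO X).map j.op).hom z, by rw [germ_w, hz]⟩

/-- Every polynomial over the étale local ring comes from some étale neighbourhood. -/
lemma exists_lifts (f : Polynomial (R ξ)) :
    ∃ (U : X.Etale) (u : (Φ ξ).fiber.obj U), f ∈ Polynomial.lifts (germ ξ U u).hom := by
  induction f using Polynomial.induction_on with
  | C a =>
    obtain ⟨U, u, z, rfl⟩ := germ_surjective ξ a
    exact ⟨U, u, Polynomial.C_mem_lifts _ z⟩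
  | add p q hp hq =>
    obtain ⟨U, u, hp⟩ := hp
    obtain ⟨U', u', hq⟩ := hq
    obtain ⟨W, w, j, j', rfl, rfl⟩ := exists_common ξ U U' u u'
    exact ⟨W, w, Subsemiring.add_mem _ (lifts_mono ξ j w p hp) (lifts_mono ξ j' w q hq)⟩
  | monomial n a h =>
    obtain ⟨U, u, z, rfl⟩ := germ_surjective ξ a
    exact ⟨U, u, Subsemiring.mul_mem _ (Polynomial.C_mem_lifts _ z)
      (Polynomial.X_pow_mem_lifts _ _)⟩

/-- The key lifting property: simple roots in `Ω` of monic polynomials lift. -/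
theorem exists_root (f : Polynomial (R ξ)) (hf : f.Monic) (b₀ : Ω)
    (h0 : f.eval₂ (ev ξ).hom b₀ = 0) (h1 : f.derivative.eval₂ (ev ξ).hom b₀ ≠ 0) :
    ∃ a : R ξ, f.IsRoot a ∧ (ev ξ).hom a = b₀ := by
  obtain ⟨U₀, u₀, hl₀⟩ := exists_lifts ξ f
  obtain ⟨U, u, j, hU, rfl⟩ := exists_affine ξ U₀ u₀
  have hl := lifts_mono ξ j u f hl₀
  obtain ⟨g, hgf, -, hg⟩ : ∃ g : Polynomial Γ(U.left, ⊤),
      g.map (germ ξ U u).hom = f ∧ g.natDegree = f.natDegree ∧ g.Monic :=
    Polynomial.lifts_and_natDegree_eq_and_monic hl hf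
  letI : Algebra Γ(U.left, ⊤) Ω := (evφ ξ U u).hom.toAlgebra
  let P : StandardEtalePair Γ(U.left, ⊤) := ⟨g, hg, Polynomial.derivative g, 1, 0, 1, by ring⟩
  have hev : ∀ q : Polynomial Γ(U.left, ⊤),
      Polynomial.aeval b₀ q = (q.map (germ ξ U u).hom).eval₂ (ev ξ).hom b₀ := by
    intro q
    rw [Polynomial.eval₂_map, Polynomial.aeval_def]
    congr 1
    ext z
    exact (germ_ev_apply ξ U u z).symm
  have hmap : P.HasMap b₀ := by
    refine ⟨?_, ?_⟩
    · change Polynomial.aeval b₀ g = 0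
      rw [hev, hgf]
      exact h0
    · change IsUnit (Polynomial.aeval b₀ (Polynomial.derivative g))
      have hd : (Polynomial.derivative g).map (germ ξ U u).hom = Polynomial.derivative f := by
        rw [← hgf]
        exact (Polynomial.derivative_map g _).symm
      rw [hev, hd]
      exact isUnit_iff_ne_zero.mpr h1
  let ψ : P.Ring →+* Ω := (P.lift b₀ hmap).toRingHom
  obtain ⟨V, v, k, β, hk, hβ1, hβ2⟩ := exists_nbhd_of_etale_algebra ξ U u P.Ring ψ (by
    ext a
    exact (P.lift b₀ hmap).commutes a)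
  refine ⟨(germ ξ V v).hom (β P.X), ?_, ?_⟩
  · let φ : P.Ring →+* R ξ := (germ ξ V v).hom.comp β
    have hφ : φ.comp (algebraMap Γ(U.left, ⊤) P.Ring) = (germ ξ U u).hom := by
      ext a
      change (germ ξ V v).hom (β (algebraMap Γ(U.left, ⊤) P.Ring a)) = _
      rw [hβ1, germ_w, hk]
      rfl
    have h2 : Polynomial.eval₂ (algebraMap Γ(U.left, ⊤) P.Ring) P.X g = 0 := P.hasMap_X.1
    have h3 := Polynomial.hom_eval₂ g (algebraMap Γ(U.left, ⊤) P.Ring) φ P.X
    rw [h2, map_zero, hφ] at h3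
    change Polynomial.eval (φ P.X) f = 0
    rw [← hgf, Polynomial.eval_map]
    exact h3.symm
  · rw [germ_ev_apply, hβ2]
    exact P.lift_X b₀ hmap

instance henselian : HenselianLocalRing (R ξ) where
  is_henselian f hf a₀ h0 h1 := by
    have h0' : f.eval₂ (ev ξ).hom ((ev ξ).hom a₀) = 0 := by
      rw [Polynomial.eval₂_at_apply]
      exact (mem_maximalIdeal_iff ξ _).mp h0
    have h1' : f.derivative.eval₂ (ev ξ).hom ((ev ξ).hom a₀) ≠ 0 := by
      rw [Polynomial.eval₂_at_apply]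
      exact (isUnit_iff ξ _).mp h1
    obtain ⟨a, ha, hev⟩ := exists_root ξ f hf _ h0' h1'
    refine ⟨a, ha, ?_⟩
    rw [mem_maximalIdeal_iff, map_sub, hev, sub_self]

instance isLocalHom_ev : IsLocalHom (ev ξ).hom where
  map_nonunit a ha := (isUnit_iff ξ a).mpr ha.ne_zero

theorem isSepClosed_residueField : IsSepClosed (IsLocalRing.ResidueField (R ξ)) := by
  apply IsSepClosed.of_exists_root
  intro p hp hirr hsep
  let ι : IsLocalRing.ResidueField (R ξ) →+* Ω := IsLocalRing.ResidueField.lift (ev ξ).hom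
  have hι : ι.comp (IsLocalRing.residue (R ξ)) = (ev ξ).hom := by
    ext a
    exact IsLocalRing.ResidueField.lift_residue_apply _ a
  have hl : p ∈ Polynomial.lifts (IsLocalRing.residue (R ξ)) := by
    rw [Polynomial.mem_lifts]
    exact Polynomial.map_surjective _ IsLocalRing.residue_surjective p
  obtain ⟨P, hPp, -, hP⟩ := Polynomial.lifts_and_natDegree_eq_and_monic hl hp
  have hdeg : (p.map ι).degree ≠ 0 := by
    rw [Polynomial.degree_map]
    exact fun h => hirr.not_isUnit (Polynomial.isUnit_iff_degree_eq_zero.mpr h)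
  obtain ⟨b₀, hb₀⟩ := IsSepClosed.exists_root (p.map ι) hdeg hsep.map
  have hb₀' : p.eval₂ ι b₀ = 0 := by rwa [← Polynomial.eval_map]
  have h0 : P.eval₂ (ev ξ).hom b₀ = 0 := by
    rw [← hι, ← Polynomial.eval₂_map, hPp]
    exact hb₀'
  have h1 : P.derivative.eval₂ (ev ξ).hom b₀ ≠ 0 := by
    rw [← hι, ← Polynomial.eval₂_map, ← Polynomial.derivative_map, hPp]
    exact hsep.eval₂_derivative_ne_zero ι hb₀'
  obtain ⟨a, ha, -⟩ := exists_root ξ P hP b₀ h0 h1
  refine ⟨IsLocalRing.residue (R ξ) a, ?_⟩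
  rw [← hPp, Polynomial.eval_map, Polynomial.eval₂_at_apply, ha, map_zero]

theorem isStrictlyHenselian : EtCoh.IsStrictlyHenselianLocalRing (R ξ) :=
  ⟨henselian ξ, isSepClosed_residueField ξ⟩

end

end Groth.Agent.Lib.Lead.EtLocalRing
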