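import Mathlib
import Groth.Prelude.Def_EtZar
import Groth.Agent.Lib.Helper10.LanFlat

/-!
# The inclusion of the opens of `X` into the small étale site is representably flat;
restriction to the Zariski site preserves injectives
-/

set_option autoImplicit false

universe u

open CategoryTheory CategoryTheory.Limits Opposite AlgebraicGeometry

namespace Groth.Agent.Lib.Lead.EtZarFlat

noncomputable section

variable (X : Scheme.{u})

lemma zarToEt_obj_hom (U : X.Opens) : ((EtZar.zarToEt X).obj U).hom = U.ι := rfl

lemma zarToEt_obj_left (U : X.Opens) : ((EtZar.zarToEt X).obj U).left = U.toScheme := rfl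

/-- A morphism to the image of an open, from the range condition. -/
def liftTo (T : X.Etale) (U : X.Opens) (h : Set.range T.hom.base ⊆ Set.range U.ι.base) :
    T ⟶ (EtZar.zarToEt X).obj U :=
  MorphismProperty.Over.homMk
    (show T.left ⟶ U.toScheme from IsOpenImmersion.lift (Scheme.Opens.ι U) T.hom h)
    (IsOpenImmersion.lift_fac (Scheme.Opens.ι U) T.hom h) trivial

lemma range_subset_of_hom (T : X.Etale) (U : X.Opens) (f : T ⟶ (EtZar.zarToEt X).obj U) :
    Set.range T.hom.base ⊆ Set.range U.ι.base := by
  have hw : f.left ≫ U.ι = T.hom := MorphismProperty.Over.w f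
  rw [← hw]
  rintro _ ⟨x, rfl⟩
  exact ⟨f.left.base x, rfl⟩

lemma hom_ext_zarToEt (T : X.Etale) (U : X.Opens) (f g : T ⟶ (EtZar.zarToEt X).obj U) : f = g := by
  apply MorphismProperty.Over.Hom.ext
  have hf : f.left ≫ U.ι = T.hom := MorphismProperty.Over.w f
  have hg : g.left ≫ U.ι = T.hom := MorphismProperty.Over.w g
  exact (cancel_mono U.ι).1 (hf.trans hg.symm)

instance representablyFlat_zarToEt : RepresentablyFlat (EtZar.zarToEt X) where
  cofiltered T :=
    { cone_objs := fun A B => by
        have hA := range_subset_of_hom X T A.right A.hom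
        have hB := range_subset_of_hom X T B.right B.hom
        have hAB : Set.range T.hom.base ⊆ Set.range (A.right ⊓ B.right).ι.base := by
          intro s hs
          have h1 := hA hs
          have h2 := hB hs
          rw [Scheme.Opens.range_ι] at h1 h2 ⊢
          exact ⟨h1, h2⟩
        refine ⟨StructuredArrow.mk (liftTo X T (A.right ⊓ B.right) hAB),
          StructuredArrow.homMk (homOfLE inf_le_left) (hom_ext_zarToEt X T _ _ _),
          StructuredArrow.homMk (homOfLE inf_le_right) (hom_ext_zarToEt X T _ _ _), trivial⟩
      cone_maps := fun A B f g => by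
        refine ⟨A, 𝟙 A, ?_⟩
        have : f = g := by
          apply StructuredArrow.ext
          exact Subsingleton.elim _ _
        rw [this]
      nonempty := by
        have h : Set.range T.hom.base ⊆ Set.range (⊤ : X.Opens).ι.base := by
          rw [Scheme.Opens.range_ι]
          intro s _
          trivial
        exact ⟨StructuredArrow.mk (liftTo X T ⊤ h)⟩ }

open Groth.Agent.Lib.Helper10.LanFlat

variable [EtZar.ZarCont X]

/-- The left adjoint of `resZar`. -/
abbrev zarPull : EtZar.Ab X ⥤ EtCoh.Ab X :=
  (EtZar.zarToEt X).sheafPullback AddCommGrpCat.{u + 1} (Opens.grothendieckTopology X)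
    X.smallEtaleTopology

/-- The adjunction between `zarPull` and `resZar`. -/
abbrev zarAdj : zarPull X ⊣ EtZar.resZar X :=
  (EtZar.zarToEt X).sheafAdjunctionContinuous AddCommGrpCat.{u + 1}
    (Opens.grothendieckTopology X) X.smallEtaleTopology

/-- The pullback from the Zariski site to the small étale site is exact. -/
theorem zarPull_preservesFiniteLimits : PreservesFiniteLimits (zarPull X) := by
  have h1 : ∀ V : (X.Etale)ᵒᵖ, HasColimitsOfShape (CostructuredArrow (EtZar.zarToEt X).op V)
      AddCommGrpCat.{u + 1} :=
    fun V => hasColimitsOfShape_costructuredArrow_addCommGrp.{u, u, u, u + 1, u + 1}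
      (EtZar.zarToEt X) V
  have h2 : PreservesFiniteLimits ((EtZar.zarToEt X).op.lan :
      ((X.Opens)ᵒᵖ ⥤ AddCommGrpCat.{u + 1}) ⥤ ((X.Etale)ᵒᵖ ⥤ AddCommGrpCat.{u + 1})) :=
    lan_preservesFiniteLimits_of_flat_addCommGrp.{u, u, u, u + 1, u + 1} (EtZar.zarToEt X)
  exact Functor.sheafPullbackConstruction.preservesFiniteLimits (EtZar.zarToEt X)
    AddCommGrpCat.{u + 1} (Opens.grothendieckTopology X) X.smallEtaleTopology

/-- Restriction to the Zariski site preserves injectives. -/
theorem injective_resZar (I : EtCoh.Ab X) [Injective I] : Injective ((EtZar.resZar X).obj I) := by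
  have := zarPull_preservesFiniteLimits X
  exact Injective.injective_of_adjoint (zarAdj X) I

end

end Groth.Agent.Lib.Lead.EtZarFlat
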