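import Mathlib.CategoryTheory.Extensive
import Mathlib.CategoryTheory.Limits.Constructions.LimitsOfProductsAndEqualizers
import Mathlib.CategoryTheory.Limits.Preserves.Shapes.Pullbacks
import Mathlib.CategoryTheory.Limits.Preserves.Shapes.BinaryProducts

/-!
# Extensivity and preservation of pullbacks

* `isColimitSplit`: split off one summand of a coproduct.
* `isPullback_map_inl`: a functor between finitary extensive categories preserving binary coproducts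
  preserves pullbacks along coproduct injections.
* `isPullback_map_of_cartesian`: transfer of pullback preservation along a cartesian natural
  transformation `𝟭 ⟶ Σ`.
-/

set_option autoImplicit false

namespace Groth.Agent.Lib.Lead.ExtPB

open CategoryTheory CategoryTheory.Limits

universe w v u v' u'

variable {ℬ : Type u} [Category.{v} ℬ] {𝒞 : Type u'} [Category.{v'} 𝒞]

/-- split off one summand of a coproduct -/
noncomputable def isColimitSplit {ι : Type w} {X : ι → ℬ} (c : Cofan X) (hc : IsColimit c) (i₀ : ι)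
    (c' : Cofan (fun i : {i // i ≠ i₀} => X i.1)) (hc' : IsColimit c') :
    IsColimit (BinaryCofan.mk (c.inj i₀) (Cofan.IsColimit.desc hc' (fun i => c.inj i.1))) := by
  classical
  refine BinaryCofan.IsColimit.mk _ (fun {T} f₁ f₂ => Cofan.IsColimit.desc hc (fun i =>
      if h : i = i₀ then eqToHom (by rw [h]) ≫ f₁ else c'.inj ⟨i, h⟩ ≫ f₂)) ?_ ?_ ?_
  · intro T f₁ f₂
    show c.inj i₀ ≫ _ = _
    rw [Cofan.IsColimit.fac, dif_pos rfl, eqToHom_refl, Category.id_comp]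
  · intro T f₁ f₂
    show Cofan.IsColimit.desc hc' (fun i => c.inj i.1) ≫ _ = _
    apply Cofan.IsColimit.hom_ext hc'
    intro i
    rw [← Category.assoc, Cofan.IsColimit.fac, Cofan.IsColimit.fac, dif_neg i.2]
  · intro T f₁ f₂ m h₁ h₂
    have h₁' : c.inj i₀ ≫ m = f₁ := h₁
    have h₂' : Cofan.IsColimit.desc hc' (fun i => c.inj i.1) ≫ m = f₂ := h₂
    apply Cofan.IsColimit.hom_ext hc
    intro i
    rw [Cofan.IsColimit.fac]
    by_cases h : i = i₀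
    · subst h
      rw [dif_pos rfl, eqToHom_refl, Category.id_comp]
      exact h₁'
    · rw [dif_neg h, ← h₂', ← Category.assoc, Cofan.IsColimit.fac]

/-- precomposing the first injection of a binary coproduct with an isomorphism -/
noncomputable def isColimitBinaryCofanPrecompIso {A A₀ A' Z : ℬ} (t : A ⟶ A₀) [IsIso t]
    (i₁ : A₀ ⟶ Z) (i₂ : A' ⟶ Z) (h : IsColimit (BinaryCofan.mk i₁ i₂)) :
    IsColimit (BinaryCofan.mk (t ≫ i₁) i₂) :=
  BinaryCofan.IsColimit.mk _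
    (fun f₁ f₂ => (BinaryCofan.IsColimit.desc' h (inv t ≫ f₁) f₂).1)
    (fun f₁ f₂ => by
      have h1 : i₁ ≫ (BinaryCofan.IsColimit.desc' h (inv t ≫ f₁) f₂).1 = inv t ≫ f₁ :=
        (BinaryCofan.IsColimit.desc' h (inv t ≫ f₁) f₂).2.1
      show (t ≫ i₁) ≫ _ = _
      rw [Category.assoc, h1, IsIso.hom_inv_id_assoc])
    (fun f₁ f₂ => (BinaryCofan.IsColimit.desc' h (inv t ≫ f₁) f₂).2.2)
    (fun f₁ f₂ m h₁ h₂ => by
      have h1 : i₁ ≫ (BinaryCofan.IsColimit.desc' h (inv t ≫ f₁) f₂).1 = inv t ≫ f₁ :=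
        (BinaryCofan.IsColimit.desc' h (inv t ≫ f₁) f₂).2.1
      have h2 : i₂ ≫ (BinaryCofan.IsColimit.desc' h (inv t ≫ f₁) f₂).1 = f₂ :=
        (BinaryCofan.IsColimit.desc' h (inv t ≫ f₁) f₂).2.2
      have h₁' : (t ≫ i₁) ≫ m = f₁ := h₁
      have h₂' : i₂ ≫ m = f₂ := h₂
      apply BinaryCofan.IsColimit.hom_ext h
      · show i₁ ≫ m = i₁ ≫ _
        rw [h1, ← h₁', Category.assoc, IsIso.inv_hom_id_assoc]
      · show i₂ ≫ m = i₂ ≫ _
        rw [h2, h₂'])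

/-- a functor preserving binary coproducts between finitary extensive categories preserves
pullbacks along coproduct injections -/
theorem isPullback_map_inl [FinitaryExtensive ℬ] [HasPullbacks ℬ] [FinitaryExtensive 𝒞]
    (Ψ : ℬ ⥤ 𝒞) [PreservesColimitsOfShape (Discrete WalkingPair) Ψ]
    {X X' Z : ℬ} (i₁ : X ⟶ Z) (i₂ : X' ⟶ Z) (hc : IsColimit (BinaryCofan.mk i₁ i₂))
    {Y Y₁ : ℬ} {u : Y₁ ⟶ Y} {v : Y₁ ⟶ X} {w : Y ⟶ Z} (h : IsPullback u v w i₁) :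
    IsPullback (Ψ.map u) (Ψ.map v) (Ψ.map w) (Ψ.map i₁) := by
  have h₂ : IsPullback (pullback.fst w i₂) (pullback.snd w i₂) w i₂ := IsPullback.of_hasPullback w i₂
  obtain ⟨hc'⟩ := ((BinaryCofan.isVanKampen_iff (BinaryCofan.mk i₁ i₂)).1
    (FinitaryExtensive.vanKampen _ hc) (BinaryCofan.mk u (pullback.fst w i₂)) v
    (pullback.snd w i₂) w h.w.symm h₂.w.symm).2 ⟨h, h₂⟩
  have hcΨ : IsColimit (BinaryCofan.mk (Ψ.map i₁) (Ψ.map i₂)) :=
    mapIsColimitOfPreservesOfIsColimit Ψ i₁ i₂ hc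
  have hc'Ψ : IsColimit (BinaryCofan.mk (Ψ.map u) (Ψ.map (pullback.fst w i₂))) :=
    mapIsColimitOfPreservesOfIsColimit Ψ u (pullback.fst w i₂) hc'
  have := ((BinaryCofan.isVanKampen_iff (BinaryCofan.mk (Ψ.map i₁) (Ψ.map i₂))).1
    (FinitaryExtensive.vanKampen _ hcΨ)
    (BinaryCofan.mk (Ψ.map u) (Ψ.map (pullback.fst w i₂))) (Ψ.map v)
    (Ψ.map (pullback.snd w i₂)) (Ψ.map w)
    (show Ψ.map v ≫ Ψ.map i₁ = Ψ.map u ≫ Ψ.map w by rw [← Ψ.map_comp, ← Ψ.map_comp, h.w])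
    (show Ψ.map (pullback.snd w i₂) ≫ Ψ.map i₂ = Ψ.map (pullback.fst w i₂) ≫ Ψ.map w by
      rw [← Ψ.map_comp, ← Ψ.map_comp, h₂.w])).1 ⟨hc'Ψ⟩
  exact this.1

/-- cartesianness of the naturality squares of coproduct injections -/
theorem isPullback_of_binaryCofan [FinitaryExtensive ℬ]
    {A A' ZA C C' ZC : ℬ} (i₁ : A ⟶ ZA) (i₂ : A' ⟶ ZA) (hA : IsColimit (BinaryCofan.mk i₁ i₂))
    (j₁ : C ⟶ ZC) (j₂ : C' ⟶ ZC) (hC : IsColimit (BinaryCofan.mk j₁ j₂))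
    (φ : A ⟶ C) (φ' : A' ⟶ C') (σ : ZA ⟶ ZC) (h₁ : φ ≫ j₁ = i₁ ≫ σ) (h₂ : φ' ≫ j₂ = i₂ ≫ σ) :
    IsPullback i₁ φ σ j₁ := by
  exact (((BinaryCofan.isVanKampen_iff (BinaryCofan.mk j₁ j₂)).1
    (FinitaryExtensive.vanKampen _ hC) (BinaryCofan.mk i₁ i₂) φ φ' σ h₁ h₂).1 ⟨hA⟩).1

/-- transfer of pullback preservation along a cartesian natural transformation `𝟭 ⟶ Σ` -/
theorem isPullback_map_of_cartesian (Ψ : ℬ ⥤ 𝒞) (Sg : ℬ ⥤ ℬ) (η : 𝟭 ℬ ⟶ Sg)
    (ha : ∀ {A C : ℬ} (f : A ⟶ C), IsPullback (η.app A) f (Sg.map f) (η.app C))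
    (hb : ∀ {Y Y₁ X : ℬ} (u : Y₁ ⟶ Y) (v : Y₁ ⟶ X) (w : Y ⟶ Sg.obj X),
      IsPullback u v w (η.app X) →
        IsPullback (Ψ.map u) (Ψ.map v) (Ψ.map w) (Ψ.map (η.app X)))
    (hc : ∀ {A B C : ℬ} (f : A ⟶ C) (g : B ⟶ C),
      ∃ (P' : ℬ) (q₁ : P' ⟶ Sg.obj A) (q₂ : P' ⟶ Sg.obj B),
        IsPullback q₁ q₂ (Sg.map f) (Sg.map g) ∧
          IsPullback (Ψ.map q₁) (Ψ.map q₂) (Ψ.map (Sg.map f)) (Ψ.map (Sg.map g)))
    {P A B C : ℬ} {p₁ : P ⟶ A} {p₂ : P ⟶ B} {f : A ⟶ C} {g : B ⟶ C}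
    (h : IsPullback p₁ p₂ f g) :
    IsPullback (Ψ.map p₁) (Ψ.map p₂) (Ψ.map f) (Ψ.map g) := by
  obtain ⟨P', q₁, q₂, hq, hΨq⟩ := hc f g
  have nf : f ≫ η.app C = η.app A ≫ Sg.map f := η.naturality f
  have ng : g ≫ η.app C = η.app B ≫ Sg.map g := η.naturality g
  have hcomm : (p₁ ≫ η.app A) ≫ Sg.map f = (p₂ ≫ η.app B) ≫ Sg.map g := by
    rw [Category.assoc, Category.assoc, ← nf, ← ng, ← Category.assoc, ← Category.assoc, h.w]
  let θ : P ⟶ P' := hq.lift (p₁ ≫ η.app A) (p₂ ≫ η.app B) hcomm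
  have hθ₁ : θ ≫ q₁ = p₁ ≫ η.app A := hq.lift_fst _ _ _
  have hθ₂ : θ ≫ q₂ = p₂ ≫ η.app B := hq.lift_snd _ _ _
  -- the big rectangle
  have big : IsPullback (p₁ ≫ η.app A) p₂ (Sg.map f) (g ≫ η.app C) := h.paste_horiz (ha f)
  have big' : IsPullback (θ ≫ q₁) p₂ (Sg.map f) (η.app B ≫ Sg.map g) := by
    rw [hθ₁, ← ng]
    exact big
  have lsq : IsPullback θ p₂ q₂ (η.app B) := IsPullback.of_right big' hθ₂ hq
  have Ψlsq := hb θ p₂ q₂ lsq
  have Ψbig : IsPullback (Ψ.map θ ≫ Ψ.map q₁) (Ψ.map p₂) (Ψ.map (Sg.map f))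
      (Ψ.map (η.app B) ≫ Ψ.map (Sg.map g)) := Ψlsq.paste_horiz hΨq
  have Ψbig' : IsPullback (Ψ.map p₁ ≫ Ψ.map (η.app A)) (Ψ.map p₂) (Ψ.map (Sg.map f))
      (Ψ.map g ≫ Ψ.map (η.app C)) := by
    rw [← Ψ.map_comp, ← Ψ.map_comp, ← hθ₁, ng, Ψ.map_comp, Ψ.map_comp]
    exact Ψbig
  exact IsPullback.of_right Ψbig' (by rw [← Ψ.map_comp, ← Ψ.map_comp, h.w])
    (hb (η.app A) f (Sg.map f) (ha f))

/-- a functor mapping pullback squares to pullback squares preserves pullbacks -/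
theorem preservesPullbacks_of_isPullback_map [HasPullbacks ℬ] (Ψ : ℬ ⥤ 𝒞)
    (h : ∀ {P A B C : ℬ} {p₁ : P ⟶ A} {p₂ : P ⟶ B} {f : A ⟶ C} {g : B ⟶ C},
      IsPullback p₁ p₂ f g → IsPullback (Ψ.map p₁) (Ψ.map p₂) (Ψ.map f) (Ψ.map g)) :
    PreservesLimitsOfShape WalkingCospan Ψ := by
  constructor
  intro K
  let f := K.map WalkingCospan.Hom.inl
  let g := K.map WalkingCospan.Hom.inr
  have hp : IsPullback (pullback.fst f g) (pullback.snd f g) f g := IsPullback.of_hasPullback f g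
  have : PreservesLimit (cospan f g) Ψ :=
    preservesLimit_of_preserves_limit_cone hp.isLimit
      ((isLimitMapConePullbackConeEquiv Ψ hp.w).symm (h hp).isLimit)
  exact preservesLimit_of_iso_diagram Ψ (diagramIsoCospan K).symm

/-- left exactness of `Ψ` from left exactness of `R ⋙ Ψ`, when `E ⋙ R` has the identity as a
natural cartesian summand preserved by `Ψ`. -/
theorem preservesFiniteLimits_of_cartesian {𝒜 : Type*} [Category 𝒜] [HasTerminal 𝒜]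
    [HasPullbacks 𝒜] [HasTerminal ℬ] [HasPullbacks ℬ] [HasTerminal 𝒞]
    (E : ℬ ⥤ 𝒜) (R : 𝒜 ⥤ ℬ) (Ψ : ℬ ⥤ 𝒞)
    [PreservesLimitsOfShape WalkingCospan R] [PreservesLimitsOfShape (Discrete.{0} PEmpty) R]
    [PreservesFiniteLimits (R ⋙ Ψ)]
    (η : 𝟭 ℬ ⟶ E ⋙ R)
    (ha : ∀ {A C : ℬ} (f : A ⟶ C), IsPullback (η.app A) f ((E ⋙ R).map f) (η.app C))
    (hb : ∀ {Y Y₁ X : ℬ} (u : Y₁ ⟶ Y) (v : Y₁ ⟶ X) (w : Y ⟶ (E ⋙ R).obj X),
      IsPullback u v w (η.app X) →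
        IsPullback (Ψ.map u) (Ψ.map v) (Ψ.map w) (Ψ.map (η.app X))) :
    PreservesFiniteLimits Ψ := by
  have hterm : PreservesLimitsOfShape (Discrete.{0} PEmpty) Ψ := by
    have t1 : IsTerminal (R.obj (⊤_ 𝒜)) := terminalIsTerminal.isTerminalObj R (⊤_ 𝒜)
    have t2 : IsTerminal ((R ⋙ Ψ).obj (⊤_ 𝒜)) :=
      terminalIsTerminal.isTerminalObj (R ⋙ Ψ) (⊤_ 𝒜)
    have : PreservesLimit (Functor.empty.{0} _) Ψ :=
      preservesTerminal_of_iso Ψ (Ψ.mapIso (terminalIsTerminal.uniqueUpToIso t1) ≪≫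
        t2.uniqueUpToIso terminalIsTerminal)
    exact preservesLimitsOfShape_pempty_of_preservesTerminal Ψ
  have hpb : PreservesLimitsOfShape WalkingCospan Ψ := by
    apply preservesPullbacks_of_isPullback_map
    intro P A B C p₁ p₂ f g h
    refine isPullback_map_of_cartesian Ψ (E ⋙ R) η ha hb (fun f g => ?_) h
    have sq := IsPullback.of_hasPullback (E.map f) (E.map g)
    exact ⟨R.obj (pullback (E.map f) (E.map g)), R.map (pullback.fst _ _),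
      R.map (pullback.snd _ _), sq.map R, sq.map (R ⋙ Ψ)⟩
  exact preservesFiniteLimits_of_preservesTerminal_and_pullbacks Ψ

end Groth.Agent.Lib.Lead.ExtPB
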