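import Groth.Agent.Lib.Lead.FibSite1
import Mathlib.CategoryTheory.Adjunction.Triple
import Mathlib.CategoryTheory.Sites.CoverLifting
import Mathlib.CategoryTheory.Sites.Pullback
import Mathlib.CategoryTheory.Sites.LeftExact
import Mathlib.CategoryTheory.Sites.Limits

/-!
# Fibred sites II: restriction, extension, coextension (small case)
-/

set_option autoImplicit false
set_option backward.isDefEq.respectTransparency false
set_option backward.isDefEq.respectTransparency.types false

namespace Groth.Agent.Lib.Lead.FibSite2

open CategoryTheory CategoryTheory.Limits Opposite Pseudofunctor Pseudofunctor.CoGrothendieck FibSite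
  Bicategory Groth.Agent.Lib.Lead.FibSite1

universe u

variable {𝒮 : Type u} [SmallCategory 𝒮] {F : Pseudofunctor (LocallyDiscrete 𝒮ᵒᵖ) Cat.{u, u}}
  (J : Topologies F)

theorem full_ι_of_isTerminal (i : 𝒮) (hi : IsTerminal i) : (ι F i).Full :=
  ⟨fun {V V'} a => by
    obtain ⟨a', h⟩ := exists_ι_map (F := F) (S := i) (V := V) (V' := V') a (hi.hom_ext _ _)
    exact ⟨a', h.symm⟩⟩

theorem extend_fullyFaithful (hF : IsPreFibSite F J) (i : 𝒮) (hi : IsTerminal i)
    [(ι F i).IsContinuous (J i) (totalTopology F J)]
    [((ι F i).sheafPushforwardContinuous (Type u) (J i) (totalTopology F J)).IsRightAdjoint] :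
    Nonempty (extend F J (Type u) i).FullyFaithful := by
  haveI := isCocontinuous_ι J hF i
  haveI : (ι F i).Full := full_ι_of_isTerminal i hi
  let adj₂ := (ι F i).sheafAdjunctionCocontinuous (Type u) (J i) (totalTopology F J)
  let adj₁ := (ι F i).sheafAdjunctionContinuous (Type u) (J i) (totalTopology F J)
  haveI : IsIso adj₂.counit := by
    apply (config := {allowSynthFailures := true}) NatIso.isIso_of_isIso_app
    intro Q
    haveI : IsIso ((sheafToPresheaf _ _).map (adj₂.counit.app Q)) := by
      show IsIso (adj₂.counit.app Q).hom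
      rw [Functor.sheafAdjunctionCocontinuous_counit_app_hom]
      infer_instance
    exact isIso_of_reflects_iso _ (sheafToPresheaf _ _)
  let t : Adjunction.Triple _ _ _ := ⟨adj₁, adj₂⟩
  exact ⟨t.fullyFaithfulEquiv.symm adj₂.fullyFaithfulROfIsIsoCounit⟩

end Groth.Agent.Lib.Lead.FibSite2
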