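import Mathlib.CategoryTheory.Functor.KanExtension.Pointwise
import Mathlib.CategoryTheory.Functor.KanExtension.Adjunction
import Mathlib.CategoryTheory.Limits.Types.Limits

/-!
# Right Kan extensions along a functor whose comma categories split into components with
terminal objects are computed by products.
-/

set_option autoImplicit false

namespace Groth.Agent.Lib.Lead.RanProd

open CategoryTheory CategoryTheory.Limits Opposite

universe w' w v₁ u₁ v₂ u₂

variable {C : Type u₁} [Category.{v₁} C] {E : Type u₂} [Category.{v₂} E] (L : C ⥤ E) (X : E)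

/-- a family `p f : L (c f) ⟶ X` through which every `L W ⟶ X` factors uniquely. -/
structure CartFam (I : Type w) where
  c : I → C
  p : ∀ f, L.obj (c f) ⟶ X
  dec : ∀ {W : C}, (L.obj W ⟶ X) → Σ f : I, W ⟶ c f
  dec_comp : ∀ {W : C} (g : L.obj W ⟶ X), L.map (dec g).2 ≫ p (dec g).1 = g
  dec_unique : ∀ {W : C} (f : I) (φ : W ⟶ c f), dec (L.map φ ≫ p f) = ⟨f, φ⟩

variable {L X} {I : Type w} (D : CartFam L X I) {a : Cᵒᵖ ⥤ Type w'}
  (Ex : Functor.RightExtension L.op a)

/-- evaluation of a right extension on the family -/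
def CartFam.ev (x : Ex.left.obj (op X)) (f : I) : a.obj (op (D.c f)) :=
  Ex.hom.app (op (D.c f)) (Ex.left.map (D.p f).op x)

theorem CartFam.dec_p (f : I) : D.dec (D.p f) = ⟨f, 𝟙 _⟩ := by
  have := D.dec_unique f (𝟙 (D.c f))
  rwa [L.map_id, Category.id_comp] at this

theorem CartFam.ev_bijective (h : Ex.IsPointwiseRightKanExtensionAt (op X)) :
    Function.Bijective (D.ev Ex) := by
  have hlim := (Types.isLimit_iff _).1 ⟨h⟩
  have hπ : ∀ (g : StructuredArrow (op X) L.op) (x : Ex.left.obj (op X)),
      (Ex.coneAt (op X)).π.app g x =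
        a.map (D.dec g.hom.unop).2.op (D.ev Ex x (D.dec g.hom.unop).1) := by
    intro g x
    let m : StructuredArrow.mk (Y := op (D.c (D.dec g.hom.unop).1)) (T := L.op)
        (D.p (D.dec g.hom.unop).1).op ⟶ g :=
      StructuredArrow.homMk (D.dec g.hom.unop).2.op (by
        show (D.p (D.dec g.hom.unop).1).op ≫ (L.map (D.dec g.hom.unop).2).op = g.hom
        rw [← op_comp, D.dec_comp]
        rfl)
    have := ConcreteCategory.congr_hom ((Ex.coneAt (op X)).π.naturality m) x
    exact this
  constructor
  · intro x x' hxx'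
    obtain ⟨y, -, huniq⟩ := hlim _ (Types.sectionOfCone (Ex.coneAt (op X)) x).2
    have h1 : x = y := huniq x (fun g => rfl)
    have h2 : x' = y := huniq x' (fun g => by
      show (Ex.coneAt (op X)).π.app g x' = (Ex.coneAt (op X)).π.app g x
      rw [hπ g x', hπ g x, hxx'])
    rw [h1, h2]
  · intro t
    let val : ∀ {W : C}, (Σ f : I, W ⟶ D.c f) → a.obj (op W) := fun s => a.map s.2.op (t s.1)
    let u : ∀ g : StructuredArrow (op X) L.op, (StructuredArrow.proj (op X) L.op ⋙ a).obj g :=
      fun g => val (D.dec g.hom.unop)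
    have hu : u ∈ (StructuredArrow.proj (op X) L.op ⋙ a).sections := by
      intro g g' m
      have hw : L.map m.right.unop ≫ g.hom.unop = g'.hom.unop :=
        congrArg Quiver.Hom.unop (StructuredArrow.w m)
      have hdec : D.dec g'.hom.unop =
          ⟨(D.dec g.hom.unop).1, m.right.unop ≫ (D.dec g.hom.unop).2⟩ := by
        have e1 : g'.hom.unop =
            L.map (m.right.unop ≫ (D.dec g.hom.unop).2) ≫ D.p (D.dec g.hom.unop).1 := by
          rw [L.map_comp, Category.assoc, D.dec_comp, hw]
        rw [e1]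
        exact D.dec_unique _ _
      show a.map m.right (val (D.dec g.hom.unop)) = val (D.dec g'.hom.unop)
      rw [hdec]
      show a.map m.right (a.map _ (t _)) = a.map (m.right.unop ≫ _).op (t _)
      rw [op_comp, a.map_comp]
      rfl
    obtain ⟨x, hx, -⟩ := hlim u hu
    refine ⟨x, funext fun f => ?_⟩
    have h1 := hx (StructuredArrow.mk (Y := op (D.c f)) (T := L.op) (D.p f).op)
    have h2 : u (StructuredArrow.mk (Y := op (D.c f)) (T := L.op) (D.p f).op) = t f := by
      show val (D.dec (D.p f)) = t f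
      rw [D.dec_p]
      show a.map (𝟙 _).op (t f) = t f
      rw [op_id, a.map_id]
      rfl
    rw [← h2, ← h1]
    rfl

end Groth.Agent.Lib.Lead.RanProd
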