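import Groth.Agent.Lib.Lead.FibSite2
import Groth.Agent.Lib.Lead.RanProd
import Mathlib.CategoryTheory.Limits.Preserves.Shapes.Products

/-!
# Fibred sites III: coextension is computed by products (SGA 4 Vbis 1.2.10-12)
-/

set_option autoImplicit false
set_option backward.isDefEq.respectTransparency false
set_option backward.isDefEq.respectTransparency.types false

namespace Groth.Agent.Lib.Lead.FibSite3

open CategoryTheory CategoryTheory.Limits Opposite Pseudofunctor Pseudofunctor.CoGrothendieck FibSite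
  Bicategory Groth.Agent.Lib.Lead.FibSite1 Groth.Agent.Lib.Lead.RanProd

universe u

variable {𝒮 : Type u} [SmallCategory 𝒮] {F : Pseudofunctor (LocallyDiscrete 𝒮ᵒᵖ) Cat.{u, u}}

/-- a cartesian family over `⟨S, V⟩` from the fibre over `T`. -/
def cartFam (T : 𝒮) {S : 𝒮} (V : F.obj ⟨op S⟩) (c : (T ⟶ S) → F.obj ⟨op T⟩)
    (θ : ∀ f, c f ≅ (invImage F f).obj V) :
    CartFam (ι F T) (⟨S, V⟩ : ∫ᶜ F) (T ⟶ S) where
  c := c
  p f := mkHom f (θ f).hom
  dec {W} g := ⟨g.base, g.fiber ≫ (θ g.base).inv⟩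
  dec_comp {W} g := by
    rw [ι_map_comp]
    obtain ⟨f, φ⟩ := g
    refine congrArg (Hom.mk _) ?_
    show (φ ≫ (θ f).inv) ≫ (θ f).hom = φ
    simp
  dec_unique {W} f φ := by
    rw [ι_map_comp]
    show (⟨f, (φ ≫ (θ f).hom) ≫ (θ f).inv⟩ : Σ f : T ⟶ S, W ⟶ c f) = ⟨f, φ⟩
    simp

/-- the standard cartesian family `f ↦ cart f V`. -/
def stdFam (T : 𝒮) {S : 𝒮} (V : F.obj ⟨op S⟩) : CartFam (ι F T) (⟨S, V⟩ : ∫ᶜ F) (T ⟶ S) :=
  cartFam T V (fun f => (invImage F f).obj V) (fun _ => Iso.refl _)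

/-- the cartesian lifts as a natural transformation -/
def cartNat {T S : 𝒮} (f : T ⟶ S) : invImage F f ⋙ ι F T ⟶ ι F S where
  app V := cart f V
  naturality V V' g := (cart_naturality f g).symm

variable (T S : 𝒮)

/-- the projection `ι_S^* Ran_{ι_T} Q ⟶ (f^*)_* Q`. -/
noncomputable def proj {T S : 𝒮} (f : T ⟶ S) (Q : (F.obj ⟨op T⟩)ᵒᵖ ⥤ Type u) :
    (ι F S).op ⋙ (ι F T).op.ran.obj Q ⟶ (invImage F f).op ⋙ Q :=
  Functor.whiskerRight (NatTrans.op (cartNat f)) ((ι F T).op.ran.obj Q) ≫
    Functor.whiskerLeft (invImage F f).op ((ι F T).op.ranCounit.app Q)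

theorem proj_app {T S : 𝒮} (f : T ⟶ S) (Q : (F.obj ⟨op T⟩)ᵒᵖ ⥤ Type u) (V : F.obj ⟨op S⟩)
    (x : ((ι F T).op.ran.obj Q).obj (op ((ι F S).obj V))) :
    (proj f Q).app (op V) x =
      (stdFam T V).ev (Functor.RightExtension.mk _ ((ι F T).op.ranCounit.app Q)) x f := rfl

theorem proj_naturality {T S : 𝒮} (f : T ⟶ S) {Q Q' : (F.obj ⟨op T⟩)ᵒᵖ ⥤ Type u} (τ : Q ⟶ Q') :
    Functor.whiskerLeft (ι F S).op ((ι F T).op.ran.map τ) ≫ proj f Q' =
      proj f Q ≫ Functor.whiskerLeft (invImage F f).op τ := by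
  ext V x
  have n1 := NatTrans.naturality_apply ((ι F T).op.ran.map τ) (cart f V.unop).op x
  have n2 := congrArg (fun k => k.app (op ((invImage F f).obj V.unop)))
    ((ι F T).op.ranCounit.naturality τ)
  have n3 := ConcreteCategory.congr_hom n2 (((ι F T).op.ran.obj Q).map (cart f V.unop).op x)
  exact (congrArg (((ι F T).op.ranCounit.app Q').app (op ((invImage F f).obj V.unop))) n1.symm).trans n3

theorem bijective_proj (Q : (F.obj ⟨op T⟩)ᵒᵖ ⥤ Type u) (V : F.obj ⟨op S⟩) :
    Function.Bijective (fun (x : ((ι F T).op.ran.obj Q).obj (op ((ι F S).obj V))) (f : T ⟶ S) =>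
      (proj f Q).app (op V) x) :=
  (stdFam T V).ev_bijective _ ((ι F T).op.isPointwiseRightKanExtensionRanCounit Q _)

/-- presheaf level: `ι_S^* Ran_{ι_T} Q` is the product of the `(f^*)_* Q`. -/
noncomputable def isLimitFanPresheaf (Q : (F.obj ⟨op T⟩)ᵒᵖ ⥤ Type u) :
    IsLimit (Fan.mk ((ι F S).op ⋙ (ι F T).op.ran.obj Q) (fun f : T ⟶ S => proj f Q)) := by
  apply evaluationJointlyReflectsLimits
  intro V
  refine (isLimitMapConeFanMkEquiv _ _ _).symm ?_
  refine ((Types.isLimit_iff _).2 ?_).some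
  intro s _
  obtain ⟨x, hx⟩ := (bijective_proj T S Q V.unop).2 (fun f => s ⟨f⟩)
  refine ⟨x, ?_, ?_⟩
  · rintro ⟨f⟩
    exact congrFun hx f
  · intro y hy
    apply (bijective_proj T S Q V.unop).1
    rw [hx]
    funext f
    exact hy ⟨f⟩


variable (J : Topologies F)

section Sheaf

variable [∀ S : 𝒮, (ι F S).IsContinuous (J S) (totalTopology F J)]
  [∀ S : 𝒮, (ι F S).IsCocontinuous (J S) (totalTopology F J)]
  [∀ (R S : 𝒮) (f : R ⟶ S), (invImage F f).IsContinuous (J S) (J R)]

/-- the projection `restr_S ∘ coextend_T ⟶ (f^*)_*` on sheaves -/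
noncomputable def projSheaf {T S : 𝒮} (f : T ⟶ S) :
    coextend F J (Type u) T ⋙ restr F J (Type u) S ⟶
      (invImage F f).sheafPushforwardContinuous (Type u) (J S) (J T) where
  app Q := ⟨proj f Q.obj⟩
  naturality Q Q' τ := by
    apply (sheafToPresheaf _ _).map_injective
    exact proj_naturality f τ.hom

/-- sheaf level: `restr_S (coextend_T Q)` is the product of the `(f^*)_* Q`. -/
noncomputable def isLimitFanSheaf (Q : Sheaf (J T) (Type u)) :
    IsLimit (Fan.mk ((restr F J (Type u) S).obj ((coextend F J (Type u) T).obj Q))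
      (fun f : T ⟶ S => (projSheaf J f).app Q)) :=
  isLimitOfIsLimitFanMkObj (sheafToPresheaf _ _) _ _ (isLimitFanPresheaf T S Q.obj)

theorem isIso_projSheaf_of_unique {T S : 𝒮} (f : T ⟶ S) (hf : ∀ g : T ⟶ S, g = f) :
    IsIso (projSheaf J f) := by
  apply (config := {allowSynthFailures := true}) NatIso.isIso_of_isIso_app
  intro Q
  haveI : IsIso ((sheafToPresheaf _ _).map ((projSheaf J f).app Q)) := by
    show IsIso (proj f Q.obj)
    apply (config := {allowSynthFailures := true}) NatIso.isIso_of_isIso_app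
    intro V
    rw [isIso_iff_bijective]
    have hb := bijective_proj T S Q.obj V.unop
    constructor
    · intro x y hxy
      apply hb.1
      funext g
      obtain rfl := hf g
      exact hxy
    · intro t
      obtain ⟨x, hx⟩ := hb.2 (fun g => by obtain rfl := hf g; exact t)
      exact ⟨x, congrFun hx f⟩
  exact isIso_of_reflects_iso _ (sheafToPresheaf _ _)

end Sheaf

section JC

variable [∀ S : 𝒮, (ι F S).IsContinuous (J S) (totalTopology F J)]

/-- the restrictions to the fibres are jointly conservative -/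
theorem isIso_of_restr {P P' : Sheaf (totalTopology F J) (Type u)} (φ : P ⟶ P')
    (h : ∀ T : 𝒮, IsIso ((restr F J (Type u) T).map φ)) : IsIso φ := by
  haveI : IsIso ((sheafToPresheaf _ _).map φ) := by
    apply (config := {allowSynthFailures := true}) NatIso.isIso_of_isIso_app
    rintro ⟨⟨T, V⟩⟩
    haveI := h T
    have h1 : IsIso ((sheafToPresheaf _ _).map ((restr F J (Type u) T).map φ)) := inferInstance
    exact (inferInstance : IsIso (((sheafToPresheaf _ _).map ((restr F J (Type u) T).map φ)).app (op V)))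
  exact isIso_of_reflects_iso _ (sheafToPresheaf _ _)

theorem preservesFiniteLimits_of_restr {𝒞 : Type*} [Category 𝒞] [HasFiniteLimits 𝒞]
    (L : 𝒞 ⥤ Sheaf (totalTopology F J) (Type u))
    [∀ T : 𝒮, PreservesFiniteLimits (restr F J (Type u) T)]
    (h : ∀ T : 𝒮, PreservesFiniteLimits (L ⋙ restr F J (Type u) T)) : PreservesFiniteLimits L := by
  refine ⟨fun I _ _ => ⟨fun {K} => ?_⟩⟩
  refine preservesLimit_of_preserves_limit_cone (limit.isLimit K) ?_
  let c := limit.cone K
  let d := limit.cone (K ⋙ L)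
  let φ : (L.mapCone c).pt ⟶ d.pt := (limit.isLimit (K ⋙ L)).lift (L.mapCone c)
  have hφ : IsIso φ := by
    apply isIso_of_restr J
    intro T
    have h1 : IsLimit ((restr F J (Type u) T).mapCone (L.mapCone c)) :=
      isLimitOfPreserves (L ⋙ restr F J (Type u) T) (limit.isLimit K)
    have h2 : IsLimit ((restr F J (Type u) T).mapCone d) :=
      isLimitOfPreserves (restr F J (Type u) T) (limit.isLimit (K ⋙ L))
    have : (restr F J (Type u) T).map φ = (h1.conePointUniqueUpToIso h2).hom := by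
      apply h2.hom_ext
      intro k
      rw [IsLimit.conePointUniqueUpToIso_hom_comp]
      simp only [Functor.mapCone_π_app, ← Functor.map_comp]
      congr 1
      exact (limit.isLimit (K ⋙ L)).fac _ _
    rw [this]
    infer_instance
  exact IsLimit.ofPointIso (limit.isLimit (K ⋙ L))

end JC


/-- S13527 -/
theorem exists_fan_restr_coextend (hF : IsPreFibSite F J) (i j : 𝒮)
    [∀ S : 𝒮, (ι F S).IsContinuous (J S) (totalTopology F J)]
    [(ι F i).IsCocontinuous (J i) (totalTopology F J)]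
    [∀ (P : (F.obj ⟨op i⟩)ᵒᵖ ⥤ Type u), (ι F i).op.HasPointwiseRightKanExtension P]
    [∀ (R S : 𝒮) (f : R ⟶ S), (invImage F f).IsContinuous (J S) (J R)]
    (a : Sheaf (J i) (Type u)) :
    ∃ c : Fan fun f : i ⟶ j =>
        ((invImage F f).sheafPushforwardContinuous (Type u) (J j) (J i)).obj a,
      Nonempty (IsLimit c) ∧
        Nonempty (c.pt ≅ (restr F J (Type u) j).obj ((coextend F J (Type u) i).obj a)) := by
  haveI : ∀ S : 𝒮, (ι F S).IsCocontinuous (J S) (totalTopology F J) :=
    fun S => isCocontinuous_ι J hF S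
  exact ⟨Fan.mk _ (fun f => (projSheaf J f).app a), ⟨isLimitFanSheaf i j J a⟩, ⟨Iso.refl _⟩⟩

/-- S13514 -/
theorem preservesFiniteLimits_extend (hF : IsFibSite F J) (i : 𝒮) (hi : IsTerminal i)
    [(ι F i).IsContinuous (J i) (totalTopology F J)]
    [((ι F i).sheafPushforwardContinuous (Type u) (J i) (totalTopology F J)).IsRightAdjoint] :
    PreservesFiniteLimits (extend F J (Type u) i) := by
  have hpre := hF.isPreFibSite
  haveI : ∀ S : 𝒮, (ι F S).IsContinuous (J S) (totalTopology F J) :=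
    fun S => isContinuous_ι J hpre S
  haveI : ∀ S : 𝒮, (ι F S).IsCocontinuous (J S) (totalTopology F J) :=
    fun S => isCocontinuous_ι J hpre S
  haveI : ∀ (R S : 𝒮) (f : R ⟶ S), (invImage F f).IsContinuous (J S) (J R) :=
    fun R S f => hpre f
  apply preservesFiniteLimits_of_restr J
  intro T
  haveI := isIso_projSheaf_of_unique J (hi.from T) (fun g => hi.hom_ext _ _)
  let isoB := asIso (projSheaf J (hi.from T))
  let adj := ((ι F i).sheafAdjunctionContinuous (Type u) (J i) (totalTopology F J)).comp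
    ((ι F T).sheafAdjunctionCocontinuous (Type u) (J T) (totalTopology F J))
  obtain ⟨h1, h2, h3⟩ := hF (hi.from T)
  let adj' := (invImage F (hi.from T)).sheafAdjunctionContinuous (Type u) (J i) (J T)
  let e := (adj.ofNatIsoRight isoB).leftAdjointUniq adj'
  exact preservesFiniteLimits_of_natIso e.symm

end Groth.Agent.Lib.Lead.FibSite3
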