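import Groth.Agent.Lib.Lead.FibSite3

/-!
# Fibred sites IV: restriction of an extension is a coproduct of inverse images
-/

set_option autoImplicit false
set_option backward.isDefEq.respectTransparency false
set_option backward.isDefEq.respectTransparency.types false

namespace Groth.Agent.Lib.Lead.FibSite4

open CategoryTheory CategoryTheory.Limits Opposite Pseudofunctor Pseudofunctor.CoGrothendieck FibSite
  Bicategory Groth.Agent.Lib.Lead.FibSite1 Groth.Agent.Lib.Lead.RanProd Groth.Agent.Lib.Lead.FibSite3

universe u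

variable {𝒮 : Type u} [SmallCategory 𝒮] {F : Pseudofunctor (LocallyDiscrete 𝒮ᵒᵖ) Cat.{u, u}}
  (J : Topologies F)

section

variable [∀ S : 𝒮, (ι F S).IsContinuous (J S) (totalTopology F J)]
  [∀ S : 𝒮, (ι F S).IsCocontinuous (J S) (totalTopology F J)]
  [∀ (R S : 𝒮) (f : R ⟶ S), (invImage F f).IsContinuous (J S) (J R)]
  [∀ (R S : 𝒮) (f : R ⟶ S),
      ((invImage F f).sheafPushforwardContinuous (Type u) (J S) (J R)).IsRightAdjoint]
  (i j : 𝒮)
  [((ι F i).sheafPushforwardContinuous (Type u) (J i) (totalTopology F J)).IsRightAdjoint]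

/-- the adjunction `extend_i ⋙ restr_j ⊣ coextend_j ⋙ restr_i` -/
noncomputable def adjER :
    extend F J (Type u) i ⋙ restr F J (Type u) j ⊣
      coextend F J (Type u) j ⋙ restr F J (Type u) i :=
  ((ι F i).sheafAdjunctionContinuous (Type u) (J i) (totalTopology F J)).comp
    ((ι F j).sheafAdjunctionCocontinuous (Type u) (J j) (totalTopology F J))

/-- maps out of `restr_j (extend_i a)` are families of maps out of the `(f^*)^s a`. -/
noncomputable def homEquivCofan (a : Sheaf (J i) (Type u)) (b : Sheaf (J j) (Type u)) :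
    ((restr F J (Type u) j).obj ((extend F J (Type u) i).obj a) ⟶ b) ≃
      (∀ f : j ⟶ i, ((invImage F f).sheafPullback (Type u) (J i) (J j)).obj a ⟶ b) where
  toFun φ f := (((invImage F f).sheafAdjunctionContinuous (Type u) (J i) (J j)).homEquiv a b).symm
    ((adjER J i j).homEquiv a b φ ≫ (projSheaf J f).app b)
  invFun ψ := ((adjER J i j).homEquiv a b).symm
    (Fan.IsLimit.lift (isLimitFanSheaf j i J b) (fun f =>
      ((invImage F f).sheafAdjunctionContinuous (Type u) (J i) (J j)).homEquiv a b (ψ f)))
  left_inv φ := by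
    apply ((adjER J i j).homEquiv a b).injective
    rw [Equiv.apply_symm_apply]
    apply Fan.IsLimit.hom_ext (isLimitFanSheaf j i J b)
    intro f
    rw [Fan.IsLimit.fac]
    exact Equiv.apply_symm_apply _ _
  right_inv ψ := by
    funext f
    simp only [Equiv.apply_symm_apply]
    have this' : Fan.IsLimit.lift (isLimitFanSheaf j i J b) (fun f =>
        ((invImage F f).sheafAdjunctionContinuous (Type u) (J i) (J j)).homEquiv a b (ψ f)) ≫
        (projSheaf J f).app b =
        ((invImage F f).sheafAdjunctionContinuous (Type u) (J i) (J j)).homEquiv a b (ψ f) :=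
      Fan.IsLimit.fac (isLimitFanSheaf j i J b) (fun f =>
        ((invImage F f).sheafAdjunctionContinuous (Type u) (J i) (J j)).homEquiv a b (ψ f)) f
    rw [this', Equiv.symm_apply_apply]

theorem homEquivCofan_naturality (a : Sheaf (J i) (Type u)) {b b' : Sheaf (J j) (Type u)}
    (φ : (restr F J (Type u) j).obj ((extend F J (Type u) i).obj a) ⟶ b) (β : b ⟶ b')
    (f : j ⟶ i) :
    homEquivCofan J i j a b' (φ ≫ β) f = homEquivCofan J i j a b φ f ≫ β := by
  show (((invImage F f).sheafAdjunctionContinuous (Type u) (J i) (J j)).homEquiv a b').symm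
    ((adjER J i j).homEquiv a b' (φ ≫ β) ≫ (projSheaf J f).app b') =
    (((invImage F f).sheafAdjunctionContinuous (Type u) (J i) (J j)).homEquiv a b).symm
    ((adjER J i j).homEquiv a b φ ≫ (projSheaf J f).app b) ≫ β
  rw [Adjunction.homEquiv_naturality_right, Category.assoc, (projSheaf J f).naturality β,
    ← Category.assoc, Adjunction.homEquiv_naturality_right_symm]

/-- S13526 -/
theorem exists_cofan (a : Sheaf (J i) (Type u)) :
    ∃ c : Cofan fun f : j ⟶ i => ((invImage F f).sheafPullback (Type u) (J i) (J j)).obj a,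
      Nonempty (IsColimit c) ∧
        Nonempty (c.pt ≅ (restr F J (Type u) j).obj ((extend F J (Type u) i).obj a)) := by
  refine ⟨Cofan.mk _ (homEquivCofan J i j a _ (𝟙 _)), ⟨?_⟩, ⟨Iso.refl _⟩⟩
  refine mkCofanColimit _ (fun s => (homEquivCofan J i j a s.pt).symm (fun f => s.inj f))
    (fun s f => ?_) (fun s m hm => ?_)
  · have := homEquivCofan_naturality J i j a (𝟙 _)
      ((homEquivCofan J i j a s.pt).symm (fun f => s.inj f)) f
    rw [Category.id_comp, Equiv.apply_symm_apply] at this
    exact this.symm
  · apply (homEquivCofan J i j a s.pt).injective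
    rw [Equiv.apply_symm_apply]
    funext f
    have := homEquivCofan_naturality J i j a (𝟙 _) m f
    rw [Category.id_comp] at this
    rw [this]
    exact hm f

end

end Groth.Agent.Lib.Lead.FibSite4
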