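import Groth.Agent.Lib.Lead.FibSite4

/-!
# Fibred sites V: cartesian morphisms of fibred sites induce morphisms of total sites
-/

set_option autoImplicit false
set_option backward.isDefEq.respectTransparency false
set_option backward.isDefEq.respectTransparency.types false

namespace Groth.Agent.Lib.Lead.FibSite5

open CategoryTheory CategoryTheory.Limits Opposite Pseudofunctor Pseudofunctor.CoGrothendieck FibSite
  Bicategory Groth.Agent.Lib.Lead.FibSite1 Groth.Agent.Lib.Lead.RanProd Groth.Agent.Lib.Lead.FibSite3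

open scoped CategoryTheory.Pseudofunctor.StrongTrans

universe u

variable {𝒮 : Type u} [SmallCategory 𝒮] {F G : Pseudofunctor (LocallyDiscrete 𝒮ᵒᵖ) Cat.{u, u}}
  (α : G ⟶ F)

/-- the fibre functors of a strong transformation -/
abbrev αf (S : 𝒮) : G.obj ⟨op S⟩ ⥤ F.obj ⟨op S⟩ := (α.app ⟨op S⟩).toFunctor

theorem map_vcomp {T : 𝒮} {W W' : G.obj ⟨op T⟩} (v : W ⟶ W') {X : ∫ᶜ G}
    (h : (⟨T, W'⟩ : ∫ᶜ G) ⟶ X) :
    (map α).map (vcomp v h) = vcomp ((αf α T).map v) ((map α).map h) := by
  refine congrArg (Hom.mk _) ?_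
  simp [vcomp]

theorem map_ι_map (T : 𝒮) {W W' : G.obj ⟨op T⟩} (v : W ⟶ W') :
    (map α).map ((ι G T).map v) = (ι F T).map ((αf α T).map v) := by
  have h1 : (ι G T).map v = vcomp v (𝟙 (⟨T, W'⟩ : ∫ᶜ G)) :=
    (Category.comp_id ((ι G T).map v)).symm.trans (ι_map_comp v (𝟙 (⟨T, W'⟩ : ∫ᶜ G)))
  have h2 : (ι F T).map ((αf α T).map v) =
      vcomp ((αf α T).map v) (𝟙 (⟨T, (αf α T).obj W'⟩ : ∫ᶜ F)) :=
    (Category.comp_id ((ι F T).map ((αf α T).map v))).symm.trans
      (ι_map_comp ((αf α T).map v) (𝟙 (⟨T, (αf α T).obj W'⟩ : ∫ᶜ F)))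
  calc (map α).map ((ι G T).map v) = (map α).map (vcomp v (𝟙 (⟨T, W'⟩ : ∫ᶜ G))) :=
        congrArg (fun k => (map α).map k) h1
    _ = vcomp ((αf α T).map v) ((map α).map (𝟙 (⟨T, W'⟩ : ∫ᶜ G))) := map_vcomp α v _
    _ = vcomp ((αf α T).map v) (𝟙 (⟨T, (αf α T).obj W'⟩ : ∫ᶜ F)) :=
        congrArg (vcomp ((αf α T).map v)) ((map α).map_id _)
    _ = (ι F T).map ((αf α T).map v) := h2.symm

/-- the (identity-on-objects) comparison `α_T ⋙ ι^F_T ⟶ ι^G_T ⋙ map α` -/
def sqInv (T : 𝒮) : αf α T ⋙ ι F T ⟶ ι G T ⋙ map α where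
  app W := 𝟙 _
  naturality W W' v :=
    (Category.comp_id _).trans ((map_ι_map α T v).symm.trans (Category.id_comp _).symm)

/-- the square of fibre inclusions commutes up to the identity-on-objects isomorphism -/
def sqIso (T : 𝒮) : ι G T ⋙ map α ≅ αf α T ⋙ ι F T :=
  NatIso.ofComponents (fun W => Iso.refl _) (fun {W W'} v =>
    (Category.comp_id _).trans ((map_ι_map α T v).trans (Category.id_comp _).symm))

variable (J : Topologies F) (K : Topologies G)

theorem isContinuous_map (hF : IsPreFibSite F J) (hG : IsPreFibSite G K)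
    (hα : ∀ S : 𝒮, (αf α S).IsContinuous (K S) (J S)) :
    (map α).IsContinuous (totalTopology G K) (totalTopology F J) := by
  rw [isContinuous_iff K hG]
  intro S
  have := hα S
  have := isContinuous_ι J hF S
  have := Functor.isContinuous_comp (αf α S) (ι F S) (K S) (J S) (totalTopology F J)
  exact Functor.isContinuous_of_iso (sqIso α S).symm _ _


section gproj

variable (T : 𝒮) {C' : Type u} [SmallCategory C'] {A : C' ⥤ F.obj ⟨op T⟩} {B : C' ⥤ ∫ᶜ F}
  (ν : A ⋙ ι F T ⟶ B)

/-- general projection: for `ν : A ⋙ ι F T ⟶ B`, the map `B^* Ran_{ι_T} Q ⟶ A^* Q`. -/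
noncomputable def gproj (Q : (F.obj ⟨op T⟩)ᵒᵖ ⥤ Type u) :
    B.op ⋙ (ι F T).op.ran.obj Q ⟶ A.op ⋙ Q :=
  Functor.whiskerRight (NatTrans.op ν) ((ι F T).op.ran.obj Q) ≫
    Functor.whiskerLeft A.op ((ι F T).op.ranCounit.app Q)

theorem gproj_naturality {Q Q' : (F.obj ⟨op T⟩)ᵒᵖ ⥤ Type u} (τ : Q ⟶ Q') :
    Functor.whiskerLeft B.op ((ι F T).op.ran.map τ) ≫ gproj T ν Q' =
      gproj T ν Q ≫ Functor.whiskerLeft A.op τ := by
  ext V x
  have n1 := NatTrans.naturality_apply ((ι F T).op.ran.map τ) (ν.app V.unop).op x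
  have n2 := congrArg (fun k => k.app (op (A.obj V.unop)))
    ((ι F T).op.ranCounit.naturality τ)
  have n3 := ConcreteCategory.congr_hom n2 (((ι F T).op.ran.obj Q).map (ν.app V.unop).op x)
  exact (congrArg (((ι F T).op.ranCounit.app Q').app (op (A.obj V.unop))) n1.symm).trans n3

end gproj

section kappa

variable (T : 𝒮)
  [∀ S : 𝒮, (ι F S).IsContinuous (J S) (totalTopology F J)]
  [∀ S : 𝒮, (ι F S).IsCocontinuous (J S) (totalTopology F J)]
  [∀ S : 𝒮, (ι G S).IsContinuous (K S) (totalTopology G K)]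
  [∀ S : 𝒮, (ι G S).IsCocontinuous (K S) (totalTopology G K)]
  [(map α).IsContinuous (totalTopology G K) (totalTopology F J)]
  [∀ S : 𝒮, (αf α S).IsContinuous (K S) (J S)]

/-- the map `restr^G_T (m_* (coext^F_T Q)) ⟶ (α_T)_* Q`. -/
noncomputable def psiSheaf (Q : Sheaf (J T) (Type u)) :
    (restr G K (Type u) T).obj (((map α).sheafPushforwardContinuous (Type u)
      (totalTopology G K) (totalTopology F J)).obj ((coextend F J (Type u) T).obj Q)) ⟶
    ((αf α T).sheafPushforwardContinuous (Type u) (K T) (J T)).obj Q :=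
  ⟨gproj T (sqInv α T) Q.obj⟩

/-- the base change map `m_* ∘ coext^F_T ⟶ coext^G_T ∘ (α_T)_*`. -/
noncomputable def kappa :
    coextend F J (Type u) T ⋙ (map α).sheafPushforwardContinuous (Type u)
      (totalTopology G K) (totalTopology F J) ⟶
    (αf α T).sheafPushforwardContinuous (Type u) (K T) (J T) ⋙ coextend G K (Type u) T where
  app Q := ((ι G T).sheafAdjunctionCocontinuous (Type u) (K T) (totalTopology G K)).homEquiv _ _
    (psiSheaf α J K T Q)
  naturality Q Q' τ := by
    simp only [Functor.comp_map]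
    rw [← Adjunction.homEquiv_naturality_left, ← Adjunction.homEquiv_naturality_right]
    congr 1
    apply (sheafToPresheaf _ _).map_injective
    exact gproj_naturality T (sqInv α T) τ.hom

theorem kappa_counit (Q : Sheaf (J T) (Type u)) (W : G.obj ⟨op T⟩)
    (y : ((ι F T).op.ran.obj Q.obj).obj (op ((map α).obj ((ι G T).obj W)))) :
    ((ι G T).op.ranCounit.app ((αf α T).op ⋙ Q.obj)).app (op W)
      (((kappa α J K T).app Q).hom.app (op ((ι G T).obj W)) y) =
    (gproj T (sqInv α T) Q.obj).app (op W) y := by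
  let adj := (ι G T).sheafAdjunctionCocontinuous (Type u) (K T) (totalTopology G K)
  have h1 : psiSheaf α J K T Q =
      (restr G K (Type u) T).map ((kappa α J K T).app Q) ≫ adj.counit.app _ :=
    (Equiv.symm_apply_apply (adj.homEquiv _ _) (psiSheaf α J K T Q)).symm.trans
      (adj.homEquiv_counit (g := (kappa α J K T).app Q))
  have h2 : (adj.counit.app (((αf α T).sheafPushforwardContinuous (Type u) (K T) (J T)).obj Q)).hom =
      (ι G T).op.ranCounit.app ((αf α T).op ⋙ Q.obj) := by
    rw [Functor.sheafAdjunctionCocontinuous_counit_app_hom, Functor.ranAdjunction_counit]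
    rfl
  have h3 := congrArg (fun k => k.hom.app (op W) y) h1
  rw [← h2]
  exact h3.symm

theorem kappa_bijective (Q : Sheaf (J T) (Type u)) {S : 𝒮} (V : G.obj ⟨op S⟩) :
    Function.Bijective
      (fun x => ((kappa α J K T).app Q).hom.app (op (⟨S, V⟩ : ∫ᶜ G)) x) := by
  let RF := (ι F T).op.ran.obj Q.obj
  let ExF : Functor.RightExtension (ι F T).op Q.obj :=
    Functor.RightExtension.mk _ ((ι F T).op.ranCounit.app Q.obj)
  let aG := (αf α T).op ⋙ Q.obj
  let ExG : Functor.RightExtension (ι G T).op aG :=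
    Functor.RightExtension.mk _ ((ι G T).op.ranCounit.app aG)
  let DG := stdFam (F := G) T V
  let θ : ∀ f : T ⟶ S, (αf α T).obj ((invImage G f).obj V) ≅
      (invImage F f).obj ((αf α S).obj V) := fun f =>
    (αf α T).mapIso (Iso.refl _) ≪≫ (Cat.Hom.toNatIso (α.naturality f.op.toLoc)).app V
  let DF := cartFam (F := F) T ((αf α S).obj V)
    (fun f => (αf α T).obj ((invImage G f).obj V)) θ
  have hG := DG.ev_bijective ExG ((ι G T).op.isPointwiseRightKanExtensionRanCounit aG _)
  have hF := DF.ev_bijective ExF ((ι F T).op.isPointwiseRightKanExtensionRanCounit Q.obj _)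
  have key : ∀ x, DG.ev ExG (((kappa α J K T).app Q).hom.app (op (⟨S, V⟩ : ∫ᶜ G)) x) =
      DF.ev ExF x := by
    intro x
    funext f
    have n := NatTrans.naturality_apply ((kappa α J K T).app Q).hom (cart (F := G) f V).op x
    have e1 := congrArg
      (fun z => ((ι G T).op.ranCounit.app aG).app (op ((invImage G f).obj V)) z) n.symm
    have e2 := kappa_counit α J K T Q ((invImage G f).obj V)
      (RF.map ((map α).map (cart (F := G) f V)).op x)
    have e3 : (gproj T (sqInv α T) Q.obj).app (op ((invImage G f).obj V))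
        (RF.map ((map α).map (cart (F := G) f V)).op x) = DF.ev ExF x f := by
      show ((ι F T).op.ranCounit.app Q.obj).app _
        (RF.map (𝟙 _).op (RF.map ((map α).map (cart (F := G) f V)).op x)) =
        ((ι F T).op.ranCounit.app Q.obj).app _ (RF.map (mkHom f (θ f).hom).op x)
      rw [op_id, RF.map_id]
      rfl
    exact (e1.trans e2).trans e3
  have hcomp : DG.ev ExG ∘ (fun x => ((kappa α J K T).app Q).hom.app (op (⟨S, V⟩ : ∫ᶜ G)) x) =
      DF.ev ExF := funext key
  exact (Function.Bijective.of_comp_iff' hG _).1 (hcomp ▸ hF)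

theorem isIso_kappa : IsIso (kappa α J K T) := by
  apply (config := {allowSynthFailures := true}) NatIso.isIso_of_isIso_app
  intro Q
  have : IsIso ((sheafToPresheaf _ _).map ((kappa α J K T).app Q)) := by
    apply (config := {allowSynthFailures := true}) NatIso.isIso_of_isIso_app
    rintro ⟨⟨S, V⟩⟩
    rw [isIso_iff_bijective]
    exact kappa_bijective α J K T Q V
  exact isIso_of_reflects_iso _ (sheafToPresheaf _ _)

end kappa

/-- S13515 -/
theorem morphismOfSites_map (hF : IsFibSite F J) (hG : IsFibSite G K)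
    (hα : ∀ S : 𝒮, ∃ (_ : (α.app ⟨op S⟩).toFunctor.IsContinuous (K S) (J S))
      (_ : ((α.app ⟨op S⟩).toFunctor.sheafPushforwardContinuous (Type u) (K S) (J S)).IsRightAdjoint),
      PreservesFiniteLimits ((α.app ⟨op S⟩).toFunctor.sheafPullback (Type u) (K S) (J S))) :
    ∃ (_ : (map α).IsContinuous (totalTopology G K) (totalTopology F J))
      (_ : ((map α).sheafPushforwardContinuous (Type u)
        (totalTopology G K) (totalTopology F J)).IsRightAdjoint),
      PreservesFiniteLimits ((map α).sheafPullback (Type u)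
        (totalTopology G K) (totalTopology F J)) := by
  have hpF := hF.isPreFibSite
  have hpG := hG.isPreFibSite
  have : ∀ S : 𝒮, (ι F S).IsContinuous (J S) (totalTopology F J) :=
    fun S => isContinuous_ι J hpF S
  have : ∀ S : 𝒮, (ι F S).IsCocontinuous (J S) (totalTopology F J) :=
    fun S => isCocontinuous_ι J hpF S
  have : ∀ S : 𝒮, (ι G S).IsContinuous (K S) (totalTopology G K) :=
    fun S => isContinuous_ι K hpG S
  have : ∀ S : 𝒮, (ι G S).IsCocontinuous (K S) (totalTopology G K) :=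
    fun S => isCocontinuous_ι K hpG S
  have hαc : ∀ S : 𝒮, (αf α S).IsContinuous (K S) (J S) := fun S => (hα S).1
  have hm : (map α).IsContinuous (totalTopology G K) (totalTopology F J) :=
    isContinuous_map α J K hpF hpG hαc
  refine ⟨hm, inferInstance, ?_⟩
  apply preservesFiniteLimits_of_restr J
  intro T
  obtain ⟨h1, h2, h3⟩ := hα T
  have := isIso_kappa α J K T
  let isoC := asIso (kappa α J K T)
  let adjL := (map α).sheafAdjunctionContinuous (Type u) (totalTopology G K) (totalTopology F J)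
  let adj1 := adjL.comp ((ι F T).sheafAdjunctionCocontinuous (Type u) (J T) (totalTopology F J))
  let adj2 := ((ι G T).sheafAdjunctionCocontinuous (Type u) (K T) (totalTopology G K)).comp
    ((αf α T).sheafAdjunctionContinuous (Type u) (K T) (J T))
  let e := (adj1.ofNatIsoRight isoC).leftAdjointUniq adj2
  have : PreservesFiniteLimits (restr G K (Type u) T ⋙
      (αf α T).sheafPullback (Type u) (K T) (J T)) := comp_preservesFiniteLimits _ _
  exact preservesFiniteLimits_of_natIso e.symm

end Groth.Agent.Lib.Lead.FibSite5
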