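import Mathlib.CategoryTheory.Functor.KanExtension.Pointwise
import Mathlib.CategoryTheory.Functor.KanExtension.Adjunction
import Mathlib.CategoryTheory.Limits.Types.Colimits

/-!
# Left Kan extensions of presheaves of sets: the "vertical" component

If the comma category `X ↓ L` has a union of connected components ("vertical arrows") with an
initial object `(V₀, g₀)`, then `P(V₀)` embeds into `(Lan_L P)(X)` as the vertical elements.
-/

set_option autoImplicit false

namespace Groth.Agent.Lib.Lead.LanVert

open CategoryTheory CategoryTheory.Limits Opposite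

universe w v₁ u₁ v₂ u₂

variable {C : Type u₁} [Category.{v₁} C] {E : Type u₂} [Category.{v₂} E] (L : C ⥤ E) (X : E)

structure VertData where
  Vert : ∀ {W : C}, (X ⟶ L.obj W) → Prop
  vert_iff : ∀ {W W' : C} (g : X ⟶ L.obj W) (w : W ⟶ W'), Vert (g ≫ L.map w) ↔ Vert g
  V₀ : C
  g₀ : X ⟶ L.obj V₀
  vert₀ : Vert g₀
  fac : ∀ {W : C} (g : X ⟶ L.obj W), Vert g → (V₀ ⟶ W)
  fac_comp : ∀ {W : C} (g : X ⟶ L.obj W) (h : Vert g), g₀ ≫ L.map (fac g h) = g
  fac_unique : ∀ {W : C} (g : X ⟶ L.obj W) (h : Vert g) (w : V₀ ⟶ W),
    g₀ ≫ L.map w = g → w = fac g h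

variable {L X} (D : VertData L X)
  [∀ (P : Cᵒᵖ ⥤ Type w), L.op.HasPointwiseLeftKanExtension P]
  (P : Cᵒᵖ ⥤ Type w)

/-- the inclusion of `P(V₀)` into `(Lan P)(X)` -/
noncomputable def eta' (p : P.obj (op D.V₀)) : (L.op.lan.obj P).obj (op X) :=
  (L.op.lan.obj P).map D.g₀.op ((L.op.lanUnit.app P).app (op D.V₀) p)

attribute [local instance] Classical.propDecidable

/-- the cocone defining the retraction -/
noncomputable def rhoCocone : Cocone (CostructuredArrow.proj L.op (op X) ⋙ P) where
  pt := Option (P.obj (op D.V₀))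
  ι :=
    { app := fun g => TypeCat.ofHom (fun q =>
        if h : D.Vert g.hom.unop then some (P.map (D.fac g.hom.unop h).op q) else none)
      naturality := by
        intro g g' m
        apply ConcreteCategory.hom_ext
        intro q
        have hw : g'.hom.unop ≫ L.map m.left.unop = g.hom.unop :=
          congrArg Quiver.Hom.unop (CostructuredArrow.w m)
        have hiff : D.Vert g.hom.unop ↔ D.Vert g'.hom.unop := by
          rw [← hw]; exact D.vert_iff _ _
        show (if h : D.Vert g'.hom.unop then
            some (P.map (D.fac g'.hom.unop h).op (P.map m.left q)) else none) =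
          (if h : D.Vert g.hom.unop then some (P.map (D.fac g.hom.unop h).op q) else none)
        by_cases h : D.Vert g.hom.unop
        · have h' := hiff.1 h
          rw [dif_pos h, dif_pos h']
          have e : D.fac g.hom.unop h = D.fac g'.hom.unop h' ≫ m.left.unop := by
            symm
            apply D.fac_unique
            rw [L.map_comp, ← Category.assoc, D.fac_comp, hw]
          rw [e, op_comp, P.map_comp]
          rfl
        · have h' : ¬ D.Vert g'.hom.unop := fun h' => h (hiff.2 h')
          rw [dif_neg h, dif_neg h'] }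

/-- the retraction `(Lan P)(X) ⟶ Option (P V₀)` -/
noncomputable def rho : (L.op.lan.obj P).obj (op X) ⟶ Option (P.obj (op D.V₀)) :=
  (L.op.isPointwiseLeftKanExtensionLeftKanExtensionUnit P (op X)).desc (rhoCocone D P)

theorem rho_ι (g : CostructuredArrow L.op (op X)) (q : P.obj g.left) :
    rho D P ((L.op.lan.obj P).map g.hom ((L.op.lanUnit.app P).app g.left q)) =
      (rhoCocone D P).ι.app g q :=
  ConcreteCategory.congr_hom
    ((L.op.isPointwiseLeftKanExtensionLeftKanExtensionUnit P (op X)).fac (rhoCocone D P) g) q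

theorem rho_eta' (p : P.obj (op D.V₀)) : rho D P (eta' D P p) = some p := by
  have h := rho_ι D P (CostructuredArrow.mk (Y := op D.V₀) (S := L.op) D.g₀.op) p
  refine h.trans ?_
  show (if h : D.Vert D.g₀ then some (P.map (D.fac D.g₀ h).op p) else none) = some p
  rw [dif_pos D.vert₀]
  have e : D.fac D.g₀ D.vert₀ = 𝟙 _ := by
    symm
    apply D.fac_unique
    rw [L.map_id, Category.comp_id]
  rw [e, op_id, P.map_id]
  rfl

theorem eta'_injective : Function.Injective (eta' D P) := by
  intro p p' h
  have := congrArg (rho D P) h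
  rw [rho_eta', rho_eta'] at this
  exact Option.some.inj this

theorem eq_eta'_of_rho (t : (L.op.lan.obj P).obj (op X)) (p : P.obj (op D.V₀))
    (h : rho D P t = some p) : t = eta' D P p := by
  obtain ⟨g, q, rfl⟩ := Types.jointly_surjective_of_isColimit
    (L.op.isPointwiseLeftKanExtensionLeftKanExtensionUnit P (op X)) t
  have h1 : rho D P ((L.op.lan.obj P).map g.hom ((L.op.lanUnit.app P).app g.left q)) = some p := h
  rw [rho_ι] at h1
  have h2 : (if h : D.Vert g.hom.unop then some (P.map (D.fac g.hom.unop h).op q) else none) =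
      some p := h1
  by_cases hv : D.Vert g.hom.unop
  · rw [dif_pos hv] at h2
    have hp := Option.some.inj h2
    -- morphism of the comma category from `g` to `(V₀, g₀)`
    let m : g ⟶ CostructuredArrow.mk (Y := op D.V₀) (S := L.op) D.g₀.op :=
      CostructuredArrow.homMk (D.fac g.hom.unop hv).op (by
        show (L.map (D.fac g.hom.unop hv)).op ≫ D.g₀.op = g.hom
        rw [← op_comp, D.fac_comp]
        rfl)
    have n := ConcreteCategory.congr_hom
      (((Functor.LeftExtension.mk _ (L.op.leftKanExtensionUnit P)).coconeAt (op X)).w m) q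
    rw [← hp]
    exact n.symm
  · rw [dif_neg hv] at h2
    exact absurd h2 (by simp)

variable {P} {P' : Cᵒᵖ ⥤ Type w} (u : P ⟶ P')

theorem lan_map_ι (g : CostructuredArrow L.op (op X)) (q : P.obj g.left) :
    (L.op.lan.map u).app (op X) ((L.op.lan.obj P).map g.hom ((L.op.lanUnit.app P).app g.left q)) =
      (L.op.lan.obj P').map g.hom ((L.op.lanUnit.app P').app g.left (u.app g.left q)) := by
  have n1 := NatTrans.naturality_apply (L.op.lan.map u) g.hom ((L.op.lanUnit.app P).app g.left q)
  have n2 := ConcreteCategory.congr_hom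
    (NatTrans.congr_app (L.op.lanUnit.naturality u) g.left) q
  rw [n1]
  exact congrArg ((L.op.lan.obj P').map g.hom) n2.symm

theorem eta'_map (p : P.obj (op D.V₀)) :
    (L.op.lan.map u).app (op X) (eta' D P p) = eta' D P' (u.app (op D.V₀) p) :=
  lan_map_ι u (CostructuredArrow.mk (Y := op D.V₀) (S := L.op) D.g₀.op) p

theorem rho_map (t : (L.op.lan.obj P).obj (op X)) :
    rho D P' ((L.op.lan.map u).app (op X) t) = Option.map (u.app (op D.V₀)) (rho D P t) := by
  obtain ⟨g, q, rfl⟩ := Types.jointly_surjective_of_isColimit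
    (L.op.isPointwiseLeftKanExtensionLeftKanExtensionUnit P (op X)) t
  show rho D P' ((L.op.lan.map u).app (op X)
      ((L.op.lan.obj P).map g.hom ((L.op.lanUnit.app P).app g.left q))) =
    Option.map (u.app (op D.V₀))
      (rho D P ((L.op.lan.obj P).map g.hom ((L.op.lanUnit.app P).app g.left q)))
  rw [lan_map_ι, rho_ι, rho_ι]
  show (if h : D.Vert g.hom.unop then some (P'.map (D.fac g.hom.unop h).op (u.app g.left q))
      else none) =
    Option.map (u.app (op D.V₀))
      (if h : D.Vert g.hom.unop then some (P.map (D.fac g.hom.unop h).op q) else none)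
  by_cases hv : D.Vert g.hom.unop
  · rw [dif_pos hv, dif_pos hv]
    show _ = some _
    congr 1
    exact (NatTrans.naturality_apply u (D.fac g.hom.unop hv).op q).symm
  · rw [dif_neg hv, dif_neg hv]
    rfl

end Groth.Agent.Lib.Lead.LanVert
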