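import Groth.Agent.Lib.Lead.FibSite1
import Groth.Agent.Lib.Lead.LanVert
import Mathlib.CategoryTheory.Sites.LocallyBijective

/-!
# Fibred sites: bicovering maps and left Kan extension along the fibre inclusions (SGA 4 VI 7.4.?)
-/

set_option autoImplicit false
set_option backward.isDefEq.respectTransparency false
set_option backward.isDefEq.respectTransparency.types false

namespace Groth.Agent.Lib.Lead.FibSite6

open CategoryTheory Opposite Pseudofunctor Pseudofunctor.CoGrothendieck FibSite Bicategory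
open Groth.Agent.Lib.Lead.FibSite1 Groth.Agent.Lib.Lead

universe w v₁ u₁ v₂ u₂

variable {𝒮 : Type u₁} [Category.{v₁} 𝒮] {F : Pseudofunctor (LocallyDiscrete 𝒮ᵒᵖ) Cat.{v₂, u₂}}

/-- the vertical data for the fibre inclusion at an object of the fibre -/
noncomputable def vertData (i : 𝒮) (V : F.obj ⟨op i⟩) :
    LanVert.VertData (ι F i) ((ι F i).obj V) where
  Vert {W} g := g.base = 𝟙 i
  vert_iff {W W'} g w := by
    rw [comp_ι_map]
    exact Iff.rfl
  V₀ := V
  g₀ := 𝟙 _
  vert₀ := rfl
  fac {W} g h := (exists_ι_map g h).choose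
  fac_comp {W} g h := by
    rw [Category.id_comp]
    exact (exists_ι_map g h).choose_spec.symm
  fac_unique {W} g h w hw := by
    apply (ι F i).map_injective
    rw [Category.id_comp] at hw
    exact hw.trans (exists_ι_map g h).choose_spec

section Small

universe u

variable {𝒮 : Type u} [SmallCategory 𝒮] {F : Pseudofunctor (LocallyDiscrete 𝒮ᵒᵖ) Cat.{u, u}}
  (J : Topologies F)

theorem eta'_eq (i : 𝒮) (V : F.obj ⟨op i⟩) (P : (F.obj ⟨op i⟩)ᵒᵖ ⥤ Type u) (p : P.obj (op V)) :
    LanVert.eta' (vertData i V) P p = ((ι F i).op.lanUnit.app P).app (op V) p := by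
  exact FunctorToTypes.map_id_apply ((ι F i).op.lan.obj P)
    (((ι F i).op.lanUnit.app P).app (op V) p)

theorem eta'_restrict (i : 𝒮) {V V' : F.obj ⟨op i⟩} (r : V' ⟶ V)
    (P : (F.obj ⟨op i⟩)ᵒᵖ ⥤ Type u) (p : P.obj (op V)) :
    ((ι F i).op.lan.obj P).map ((ι F i).map r).op (LanVert.eta' (vertData i V) P p) =
      LanVert.eta' (vertData i V') P (P.map r.op p) := by
  rw [eta'_eq, eta'_eq]
  exact (NatTrans.naturality_apply ((ι F i).op.lanUnit.app P) r.op p).symm

theorem W_lan_of_W (hF : IsPreFibSite F J) (i : 𝒮) {P Q : (F.obj ⟨op i⟩)ᵒᵖ ⥤ Type u} (u : P ⟶ Q)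
    (h : (J i).W u) :
    (totalTopology F J).W (((ι F i).op.lan (H := Type u)).map u) := by
  have := isContinuous_ι J hF i
  exact Functor.W_map_of_adjunction_of_isContinuous (J := J i) (K := totalTopology F J) (ι F i) _
    ((ι F i).op.lanAdjunction (Type u)) u h

theorem W_of_W_lan (hF : IsPreFibSite F J) (i : 𝒮) {P Q : (F.obj ⟨op i⟩)ᵒᵖ ⥤ Type u} (u : P ⟶ Q)
    (h : (totalTopology F J).W (((ι F i).op.lan (H := Type u)).map u)) : (J i).W u := by
  rw [GrothendieckTopology.W_iff_isLocallyBijective] at h ⊢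
  obtain ⟨hinj, hsurj⟩ := h
  refine ⟨⟨?_⟩, ⟨?_⟩⟩
  · -- local injectivity
    intro X p p' hpp
    obtain ⟨V⟩ := X
    have e : ((ι F i).op.lan.map u).app (op ((ι F i).obj V)) (LanVert.eta' (vertData i V) P p) =
        ((ι F i).op.lan.map u).app (op ((ι F i).obj V))
          (LanVert.eta' (vertData i V) P p') := by
      rw [LanVert.eta'_map, LanVert.eta'_map]
      exact congrArg _ hpp
    have hmem := hinj.equalizerSieve_mem _ _ e
    obtain ⟨R₀, hR₀, hle⟩ : ∃ R₀ ∈ J i V, Sieve.functorPushforward (ι F i) R₀ ≤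
        Presheaf.equalizerSieve (F := (ι F i).op.lan.obj P) (X := op ((ι F i).obj V))
          (LanVert.eta' (vertData i V) P p) (LanVert.eta' (vertData i V) P p') :=
      (mem_totalTopology_iff J hF _ _).1 hmem
    refine (J i).superset_covering ?_ hR₀
    intro V' r hr
    have h1 : ((ι F i).op.lan.obj P).map ((ι F i).map r).op
          (LanVert.eta' (vertData i V) P p) =
        ((ι F i).op.lan.obj P).map ((ι F i).map r).op (LanVert.eta' (vertData i V) P p') :=
      hle _ (Sieve.image_mem_functorPushforward _ _ hr)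
    rw [eta'_restrict, eta'_restrict] at h1
    exact LanVert.eta'_injective (vertData i V') P h1
  · -- local surjectivity
    intro V q
    have hmem := hsurj.imageSieve_mem (LanVert.eta' (vertData i V) Q q)
    obtain ⟨R₀, hR₀, hle⟩ : ∃ R₀ ∈ J i V, Sieve.functorPushforward (ι F i) R₀ ≤
        Presheaf.imageSieve (U := (ι F i).obj V) ((ι F i).op.lan.map u)
          (LanVert.eta' (vertData i V) Q q) :=
      (mem_totalTopology_iff J hF _ _).1 hmem
    refine (J i).superset_covering ?_ hR₀
    intro V' r hr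
    obtain ⟨s, hs⟩ : ∃ s, ((ι F i).op.lan.map u).app (op ((ι F i).obj V')) s =
        ((ι F i).op.lan.obj Q).map ((ι F i).map r).op (LanVert.eta' (vertData i V) Q q) :=
      hle _ (Sieve.image_mem_functorPushforward _ _ hr)
    rw [eta'_restrict] at hs
    have h2 := congrArg (LanVert.rho (vertData i V') Q) hs
    rw [LanVert.rho_map, LanVert.rho_eta'] at h2
    obtain ⟨p, _, hp⟩ := Option.map_eq_some_iff.1 h2
    exact ⟨p, hp⟩

end Small

end Groth.Agent.Lib.Lead.FibSite6
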