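import Groth.Agent.Lib.Lead.FibSite5
import Groth.Agent.Lib.Lead.FibSite6
import Groth.Agent.Lib.Lead.ExtPB
import Mathlib.CategoryTheory.Sites.Localization

/-!
# Fibred sites: a cartesian functor which is a morphism of total sites is fibrewise a morphism of
sites (SGA 4 VI 7.4.?), preparations
-/

set_option autoImplicit false
set_option backward.isDefEq.respectTransparency false
set_option backward.isDefEq.respectTransparency.types false

namespace Groth.Agent.Lib.Lead.FibSite7

open CategoryTheory CategoryTheory.Limits Opposite Pseudofunctor Pseudofunctor.CoGrothendieck FibSite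
open Groth.Agent.Lib.Lead.FibSite1 Groth.Agent.Lib.Lead.FibSite3 Groth.Agent.Lib.Lead.FibSite4
open Groth.Agent.Lib.Lead.FibSite5 Groth.Agent.Lib.Lead
open scoped CategoryTheory.Pseudofunctor.StrongTrans

universe u

variable {𝒮 : Type u} [SmallCategory 𝒮] {F G : Pseudofunctor (LocallyDiscrete 𝒮ᵒᵖ) Cat.{u, u}}

section Continuity

variable (α : G ⟶ F) (J : Topologies F) (K : Topologies G)

/-- continuity of the fibre functors of a cartesian functor continuous for the total topologies -/
theorem isContinuous_app (hF : IsPreFibSite F J) (hG : IsPreFibSite G K)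
    [(map α).IsContinuous (totalTopology G K) (totalTopology F J)] (S : 𝒮) :
    (αf α S).IsContinuous (K S) (J S) := by
  have h0 := isContinuous_ι K hG S
  have h1 : (ι G S ⋙ map α).IsContinuous (K S) (totalTopology F J) :=
    Functor.isContinuous_comp _ _ _ (totalTopology G K) _
  have h2 : (αf α S ⋙ ι F S).IsContinuous (K S) (totalTopology F J) :=
    Functor.isContinuous_of_iso (sqIso α S) (K S) _
  constructor
  intro H
  let L : ((G.obj ⟨op S⟩)ᵒᵖ ⥤ Type u) ⥤ ((∫ᶜ F)ᵒᵖ ⥤ Type u) :=
    (αf α S).op.lan ⋙ (ι F S).op.lan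
  let adj : L ⊣ (Functor.whiskeringLeft _ _ _).obj (αf α S ⋙ ι F S).op :=
    ((αf α S).op.lanAdjunction (Type u)).comp ((ι F S).op.lanAdjunction (Type u))
  refine Presieve.IsSheaf.comp_of_W_map_of_adjunction (J := K S) (K := J S)
    ((αf α S).op.lanAdjunction (Type u)) ?_ H.obj ((isSheaf_iff_isSheaf_of_type _ _).1 H.property)
  intro X R hR
  apply FibSite6.W_of_W_lan J hF S
  exact Functor.W_map_of_adjunction_of_isContinuous (J := K S) (K := totalTopology F J)
    (αf α S ⋙ ι F S) L adj _ (Sieve.W_shrinkFunctor_ι_of_mem (K S) R hR)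

end Continuity

section Decomp

variable (J : Topologies F)
  [∀ S : 𝒮, (ι F S).IsContinuous (J S) (totalTopology F J)]
  [∀ S : 𝒮, (ι F S).IsCocontinuous (J S) (totalTopology F J)]
  [∀ (R S : 𝒮) (f : R ⟶ S), (invImage F f).IsContinuous (J S) (J R)]
  [∀ (R S : 𝒮) (f : R ⟶ S),
      ((invImage F f).sheafPushforwardContinuous (Type u) (J S) (J R)).IsRightAdjoint]
  (i j : 𝒮)
  [((ι F i).sheafPushforwardContinuous (Type u) (J i) (totalTopology F J)).IsRightAdjoint]

/-- the injection of the summand `(f^*)^s a` into `restr_j (extend_i a)` -/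
noncomputable def inj (f : j ⟶ i) (a : Sheaf (J i) (Type u)) :
    ((invImage F f).sheafPullback (Type u) (J i) (J j)).obj a ⟶
      (restr F J (Type u) j).obj ((extend F J (Type u) i).obj a) :=
  homEquivCofan J i j a _ (𝟙 _) f

theorem inj_naturality (f : j ⟶ i) {a a' : Sheaf (J i) (Type u)} (φ : a ⟶ a') :
    ((invImage F f).sheafPullback (Type u) (J i) (J j)).map φ ≫ inj J i j f a' =
      inj J i j f a ≫ (restr F J (Type u) j).map ((extend F J (Type u) i).map φ) := by
  let adjf := (invImage F f).sheafAdjunctionContinuous (Type u) (J i) (J j)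
  let Sg := extend F J (Type u) i ⋙ restr F J (Type u) j
  have hU : φ ≫ (adjER J i j).homEquiv a' (Sg.obj a') (𝟙 _) =
      (adjER J i j).homEquiv a (Sg.obj a) (𝟙 _) ≫
        (coextend F J (Type u) j ⋙ restr F J (Type u) i).map (Sg.map φ) := by
    rw [← Adjunction.homEquiv_naturality_left, ← Adjunction.homEquiv_naturality_right,
      Category.comp_id, Category.id_comp]
  show ((invImage F f).sheafPullback (Type u) (J i) (J j)).map φ ≫
      (adjf.homEquiv a' (Sg.obj a')).symm
        ((adjER J i j).homEquiv a' (Sg.obj a') (𝟙 _) ≫ (projSheaf J f).app (Sg.obj a')) =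
    (adjf.homEquiv a (Sg.obj a)).symm
        ((adjER J i j).homEquiv a (Sg.obj a) (𝟙 _) ≫ (projSheaf J f).app (Sg.obj a)) ≫ Sg.map φ
  rw [← Adjunction.homEquiv_naturality_left_symm, ← Adjunction.homEquiv_naturality_right_symm,
    ← Category.assoc, hU, Category.assoc, Category.assoc, (projSheaf J f).naturality (Sg.map φ)]

/-- the injections as natural transformations -/
noncomputable def injNat (f : j ⟶ i) :
    (invImage F f).sheafPullback (Type u) (J i) (J j) ⟶
      extend F J (Type u) i ⋙ restr F J (Type u) j where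
  app a := inj J i j f a
  naturality _ _ φ := inj_naturality J i j f φ

/-- `restr_j (extend_i a)` is the coproduct of the `(f^*)^s a` -/
noncomputable def isColimitCofan (a : Sheaf (J i) (Type u)) :
    IsColimit (Cofan.mk ((restr F J (Type u) j).obj ((extend F J (Type u) i).obj a))
      (fun f : j ⟶ i => inj J i j f a)) := by
  refine mkCofanColimit _ (fun s => (homEquivCofan J i j a s.pt).symm (fun f => s.inj f))
    (fun s f => ?_) (fun s m hm => ?_)
  · have := homEquivCofan_naturality J i j a (𝟙 _)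
      ((homEquivCofan J i j a s.pt).symm (fun f => s.inj f)) f
    rw [Category.id_comp, Equiv.apply_symm_apply] at this
    exact this.symm
  · apply (homEquivCofan J i j a s.pt).injective
    rw [Equiv.apply_symm_apply]
    funext f
    have := homEquivCofan_naturality J i j a (𝟙 _) m f
    rw [Category.id_comp] at this
    rw [this]
    exact hm f

end Decomp

section Endo

variable (J : Topologies F)
  [∀ S : 𝒮, (ι F S).IsContinuous (J S) (totalTopology F J)]
  [∀ S : 𝒮, (ι F S).IsCocontinuous (J S) (totalTopology F J)]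
  [∀ (R S : 𝒮) (f : R ⟶ S), (invImage F f).IsContinuous (J S) (J R)]
  [∀ (R S : 𝒮) (f : R ⟶ S),
      ((invImage F f).sheafPushforwardContinuous (Type u) (J S) (J R)).IsRightAdjoint]
  (i : 𝒮)
  [((ι F i).sheafPushforwardContinuous (Type u) (J i) (totalTopology F J)).IsRightAdjoint]

/-- `(𝟙^*)^s ≅ 𝟭` -/
noncomputable def thetaIso :
    𝟭 (Sheaf (J i) (Type u)) ≅ (invImage F (𝟙 i)).sheafPullback (Type u) (J i) (J i) :=
  let e₀ : invImage F (𝟙 i) ≅ 𝟭 (F.obj ⟨op i⟩) := Cat.Hom.toNatIso (F.mapId ⟨op i⟩)
  let isoId : (invImage F (𝟙 i)).sheafPushforwardContinuous (Type u) (J i) (J i) ≅ 𝟭 _ :=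
    Functor.sheafPushforwardContinuousId' e₀ (Type u) (J i)
  (Adjunction.id.ofNatIsoRight isoId.symm).leftAdjointUniq
    ((invImage F (𝟙 i)).sheafAdjunctionContinuous (Type u) (J i) (J i))

/-- the natural transformation `𝟭 ⟶ restr_i ∘ extend_i` (a coproduct injection) -/
noncomputable def eta :
    𝟭 (Sheaf (J i) (Type u)) ⟶ extend F J (Type u) i ⋙ restr F J (Type u) i :=
  (thetaIso J i).hom ≫ injNat J i i (𝟙 i)

variable [HasColimitsOfShape (Discrete {f : i ⟶ i // f ≠ 𝟙 i}) (Sheaf (J i) (Type u))]

/-- the family of the other summands -/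
noncomputable abbrev fam (a : Sheaf (J i) (Type u)) :
    {f : i ⟶ i // f ≠ 𝟙 i} → Sheaf (J i) (Type u) :=
  fun f => ((invImage F f.1).sheafPullback (Type u) (J i) (J i)).obj a

/-- the complementary summand -/
noncomputable def inr (a : Sheaf (J i) (Type u)) :
    ∐ (fam J i a) ⟶ (restr F J (Type u) i).obj ((extend F J (Type u) i).obj a) :=
  Cofan.IsColimit.desc (coproductIsCoproduct (fam J i a)) (fun f => inj J i i f.1 a)

theorem ι_inr (a : Sheaf (J i) (Type u)) (f : {f : i ⟶ i // f ≠ 𝟙 i}) :
    Sigma.ι (fam J i a) f ≫ inr J i a = inj J i i f.1 a :=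
  Cofan.IsColimit.fac (coproductIsCoproduct (fam J i a)) (fun f => inj J i i f.1 a) f

noncomputable def isColimitBin (a : Sheaf (J i) (Type u)) :
    IsColimit (BinaryCofan.mk ((eta J i).app a) (inr J i a)) :=
  ExtPB.isColimitBinaryCofanPrecompIso ((thetaIso J i).hom.app a) (inj J i i (𝟙 i) a) (inr J i a)
    (ExtPB.isColimitSplit (Cofan.mk _ (fun f : i ⟶ i => inj J i i f a)) (isColimitCofan J i i a)
      (𝟙 i) (Cofan.mk _ (Sigma.ι (fam J i a))) (coproductIsCoproduct (fam J i a)))

/-- the map induced on the complementary summands -/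
noncomputable def complMap {a a' : Sheaf (J i) (Type u)} (φ : a ⟶ a') :
    ∐ (fam J i a) ⟶ ∐ (fam J i a') :=
  Cofan.IsColimit.desc (coproductIsCoproduct (fam J i a))
    (fun f => ((invImage F f.1).sheafPullback (Type u) (J i) (J i)).map φ ≫
      Sigma.ι (fam J i a') f)

theorem inr_naturality {a a' : Sheaf (J i) (Type u)} (φ : a ⟶ a') :
    complMap J i φ ≫ inr J i a' =
      inr J i a ≫ (extend F J (Type u) i ⋙ restr F J (Type u) i).map φ := by
  apply Cofan.IsColimit.hom_ext (coproductIsCoproduct (fam J i a))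
  intro f
  have h1 : Sigma.ι (fam J i a) f ≫ complMap J i φ =
      ((invImage F f.1).sheafPullback (Type u) (J i) (J i)).map φ ≫ Sigma.ι (fam J i a') f :=
    Cofan.IsColimit.fac (coproductIsCoproduct (fam J i a)) _ f
  show Sigma.ι (fam J i a) f ≫ complMap J i φ ≫ inr J i a' =
    Sigma.ι (fam J i a) f ≫ inr J i a ≫ _
  rw [← Category.assoc, h1, Category.assoc, ι_inr, ← Category.assoc, ι_inr]
  exact inj_naturality J i i f.1 φ

theorem isPullback_eta {A C : Sheaf (J i) (Type u)} (φ : A ⟶ C) :
    IsPullback ((eta J i).app A) φ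
      ((extend F J (Type u) i ⋙ restr F J (Type u) i).map φ) ((eta J i).app C) :=
  ExtPB.isPullback_of_binaryCofan _ _ (isColimitBin J i A) _ _ (isColimitBin J i C) φ
    (complMap J i φ) _ ((eta J i).naturality φ) (inr_naturality J i φ)

theorem isPullback_map_eta {𝒞 : Type*} [Category 𝒞] [FinitaryExtensive 𝒞]
    (Ψ : Sheaf (J i) (Type u) ⥤ 𝒞) [PreservesColimitsOfShape (Discrete WalkingPair) Ψ]
    {Y Y₁ X : Sheaf (J i) (Type u)} (p : Y₁ ⟶ Y) (v : Y₁ ⟶ X)
    (w : Y ⟶ (extend F J (Type u) i ⋙ restr F J (Type u) i).obj X)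
    (h : IsPullback p v w ((eta J i).app X)) :
    IsPullback (Ψ.map p) (Ψ.map v) (Ψ.map w) (Ψ.map ((eta J i).app X)) :=
  ExtPB.isPullback_map_inl Ψ _ (inr J i X) (isColimitBin J i X) h

end Endo

section Main

theorem inst_tot (K : Topologies G) :
    HasTerminal (Sheaf (totalTopology G K) (Type u)) ∧
      HasPullbacks (Sheaf (totalTopology G K) (Type u)) :=
  ⟨inferInstance, inferInstance⟩

theorem inst_fib (K : Topologies G) (T : 𝒮) :
    HasTerminal (Sheaf (K T) (Type u)) ∧ HasPullbacks (Sheaf (K T) (Type u)) ∧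
      HasColimitsOfShape (Discrete {f : T ⟶ T // f ≠ 𝟙 T}) (Sheaf (K T) (Type u)) ∧
      FinitaryExtensive (Sheaf (K T) (Type u)) :=
  ⟨inferInstance, inferInstance, inferInstance, inferInstance⟩

variable (α : G ⟶ F) (J : Topologies F) (K : Topologies G)

/-- S13516 -/
theorem morphismOfSites_app (hF : IsFibSite F J) (hG : IsFibSite G K)
    (hα : ∃ (_ : (map α).IsContinuous (totalTopology G K) (totalTopology F J))
      (_ : ((map α).sheafPushforwardContinuous (Type u)
        (totalTopology G K) (totalTopology F J)).IsRightAdjoint),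
      PreservesFiniteLimits ((map α).sheafPullback (Type u)
        (totalTopology G K) (totalTopology F J))) (T : 𝒮) :
    ∃ (_ : (α.app ⟨op T⟩).toFunctor.IsContinuous (K T) (J T))
      (_ : ((α.app ⟨op T⟩).toFunctor.sheafPushforwardContinuous (Type u) (K T) (J T)).IsRightAdjoint),
      PreservesFiniteLimits ((α.app ⟨op T⟩).toFunctor.sheafPullback (Type u) (K T) (J T)) := by
  obtain ⟨hm, hra, hl⟩ := hα
  have hpF := hF.isPreFibSite
  have hpG := hG.isPreFibSite
  have : ∀ S : 𝒮, (ι F S).IsContinuous (J S) (totalTopology F J) :=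
    fun S => isContinuous_ι J hpF S
  have : ∀ S : 𝒮, (ι F S).IsCocontinuous (J S) (totalTopology F J) :=
    fun S => isCocontinuous_ι J hpF S
  have : ∀ S : 𝒮, (ι G S).IsContinuous (K S) (totalTopology G K) :=
    fun S => isContinuous_ι K hpG S
  have : ∀ S : 𝒮, (ι G S).IsCocontinuous (K S) (totalTopology G K) :=
    fun S => isCocontinuous_ι K hpG S
  have hαc : ∀ S : 𝒮, (αf α S).IsContinuous (K S) (J S) :=
    fun S => isContinuous_app α J K hpF hpG S
  have hGc : ∀ (R S : 𝒮) (f : R ⟶ S), (invImage G f).IsContinuous (K S) (K R) :=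
    fun R S f => hpG f
  refine ⟨hαc T, inferInstance, ?_⟩
  have := isIso_kappa α J K T
  let isoC := asIso (kappa α J K T)
  let adjL := (map α).sheafAdjunctionContinuous (Type u) (totalTopology G K) (totalTopology F J)
  let adj1 := adjL.comp ((ι F T).sheafAdjunctionCocontinuous (Type u) (J T) (totalTopology F J))
  let adj2 := ((ι G T).sheafAdjunctionCocontinuous (Type u) (K T) (totalTopology G K)).comp
    ((αf α T).sheafAdjunctionContinuous (Type u) (K T) (J T))
  let e := (adj1.ofNatIsoRight isoC).leftAdjointUniq adj2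
  have hRG : PreservesLimitsOfSize.{0, 0} (restr G K (Type u) T) :=
    ((ι G T).sheafAdjunctionContinuous (Type u) (K T) (totalTopology G K)).rightAdjoint_preservesLimits
  have hRF : PreservesLimitsOfSize.{0, 0} (restr F J (Type u) T) :=
    ((ι F T).sheafAdjunctionContinuous (Type u) (J T) (totalTopology F J)).rightAdjoint_preservesLimits
  have hRF' : PreservesFiniteLimits (restr F J (Type u) T) := ⟨fun _ _ _ => inferInstance⟩
  have hΦ : PreservesFiniteLimits (restr G K (Type u) T ⋙
      (αf α T).sheafPullback (Type u) (K T) (J T)) := by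
    have : PreservesFiniteLimits ((map α).sheafPullback (Type u)
        (totalTopology G K) (totalTopology F J) ⋙ restr F J (Type u) T) :=
      comp_preservesFiniteLimits _ _
    exact preservesFiniteLimits_of_natIso e
  have hΨc : PreservesColimitsOfSize.{0, 0} ((αf α T).sheafPullback (Type u) (K T) (J T)) :=
    ((αf α T).sheafAdjunctionContinuous (Type u) (K T) (J T)).leftAdjoint_preservesColimits
  obtain ⟨i1, i2⟩ := inst_tot K
  obtain ⟨i3, i4, i5, i6⟩ := inst_fib K T
  obtain ⟨i7, _, _, i8⟩ := inst_fib J T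
  have hR1 : PreservesLimitsOfShape WalkingCospan (restr G K (Type u) T) := inferInstance
  have hR2 : PreservesLimitsOfShape (Discrete.{0} PEmpty) (restr G K (Type u) T) := inferInstance
  have hΨ2 : PreservesColimitsOfShape (Discrete WalkingPair)
      ((αf α T).sheafPullback (Type u) (K T) (J T)) := inferInstance
  exact ExtPB.preservesFiniteLimits_of_cartesian (extend G K (Type u) T) (restr G K (Type u) T)
    ((αf α T).sheafPullback (Type u) (K T) (J T)) (eta K T)
    (fun φ => isPullback_eta K T φ)
    (fun p v w hh => isPullback_map_eta K T _ p v w hh)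

end Main

end Groth.Agent.Lib.Lead.FibSite7
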