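import Mathlib
import Groth.Prelude.Def_SGA4c

/-! Filtered colimits of sheaves of sets on a site all of whose objects are quasi-compact are
computed objectwise. -/

set_option autoImplicit false
universe u
open CategoryTheory Limits Opposite

namespace Groth.Agent.Lib.Lead.FiltSheaf

variable {C : Type u} [SmallCategory C] {I : Type u} [SmallCategory I] [IsFiltered I]
  {F : I ⥤ Cᵒᵖ ⥤ Type u} {c : Cocone F} (hc : IsColimit c)

include hc

theorem surj (W : Cᵒᵖ) (x : c.pt.obj W) :
    ∃ (a : I) (y : (F.obj a).obj W), (c.ι.app a).app W y = x :=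
  Types.jointly_surjective_of_isColimit
    (isColimitOfPreserves ((evaluation Cᵒᵖ (Type u)).obj W) hc) x

theorem surj₂ (W : Cᵒᵖ) (x x' : c.pt.obj W) :
    ∃ (a : I) (y y' : (F.obj a).obj W), (c.ι.app a).app W y = x ∧ (c.ι.app a).app W y' = x' :=
  Types.FilteredColimit.jointly_surjective_of_isColimit₂
    (isColimitOfPreserves ((evaluation Cᵒᵖ (Type u)).obj W) hc) x x'

theorem eq_iff (W : Cᵒᵖ) (a : I) (y y' : (F.obj a).obj W) :
    (c.ι.app a).app W y = (c.ι.app a).app W y' ↔
      ∃ (b : I) (v : a ⟶ b), (F.map v).app W y = (F.map v).app W y' :=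
  Types.FilteredColimit.isColimit_eq_iff'
    (isColimitOfPreserves ((evaluation Cᵒᵖ (Type u)).obj W) hc) y y'

omit hc [IsFiltered I] in
theorem ι_map {a b : I} (v : a ⟶ b) (W : Cᵒᵖ) (y : (F.obj a).obj W) :
    (c.ι.app b).app W ((F.map v).app W y) = (c.ι.app a).app W y :=
  congrArg (fun τ => τ.app W y) (c.w v)

omit hc [IsFiltered I] in
theorem ι_nat (a : I) {W W' : Cᵒᵖ} (f : W ⟶ W') (y : (F.obj a).obj W) :
    (c.ι.app a).app W' ((F.obj a).map f y) = c.pt.map f ((c.ι.app a).app W y) :=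
  NatTrans.naturality_apply (c.ι.app a) f y

omit hc [IsFiltered I] in
theorem Fmap_nat {a b : I} (v : a ⟶ b) {W W' : Cᵒᵖ} (f : W ⟶ W') (y : (F.obj a).obj W) :
    (F.map v).app W' ((F.obj a).map f y) = (F.obj b).map f ((F.map v).app W y) :=
  NatTrans.naturality_apply (F.map v) f y

omit hc [IsFiltered I] in
theorem Fmap_comp {a b d : I} (v : a ⟶ b) (w : b ⟶ d) (W : Cᵒᵖ) (y : (F.obj a).obj W) :
    (F.map (v ≫ w)).app W y = (F.map w).app W ((F.map v).app W y) :=
  congrArg (fun τ => τ.app W y) (F.map_comp v w)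

theorem common {n : ℕ} (W : Fin n → Cᵒᵖ) (x : ∀ k, c.pt.obj (W k)) :
    ∃ (a : I) (y : ∀ k, (F.obj a).obj (W k)), ∀ k, (c.ι.app a).app (W k) (y k) = x k := by
  classical
  have h := fun k => surj hc (W k) (x k)
  choose a₀ y₀ hy₀ using h
  let O : Finset I := Finset.univ.image a₀
  have hO : ∀ k, a₀ k ∈ O := fun k => Finset.mem_image_of_mem _ (Finset.mem_univ k)
  refine ⟨IsFiltered.sup O ∅, fun k => (F.map (IsFiltered.toSup O ∅ (hO k))).app (W k) (y₀ k),
    fun k => ?_⟩
  rw [ι_map, hy₀]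

theorem coeq_fin {M : Type} (T : Finset M) (a : I) (W : M → Cᵒᵖ)
    (s t : ∀ m, (F.obj a).obj (W m))
    (h : ∀ m, (c.ι.app a).app (W m) (s m) = (c.ι.app a).app (W m) (t m)) :
    ∃ (b : I) (v : a ⟶ b), ∀ m ∈ T, (F.map v).app (W m) (s m) = (F.map v).app (W m) (t m) := by
  classical
  induction T using Finset.induction_on with
  | empty => exact ⟨a, 𝟙 a, fun m hm => absurd hm (Finset.notMem_empty m)⟩
  | insert m₀ T _ ih =>
    obtain ⟨b, v, hv⟩ := ih
    have h0 : (c.ι.app b).app (W m₀) ((F.map v).app (W m₀) (s m₀)) =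
        (c.ι.app b).app (W m₀) ((F.map v).app (W m₀) (t m₀)) := by
      rw [ι_map, ι_map, h m₀]
    obtain ⟨d, w, hw⟩ := (eq_iff hc (W m₀) b _ _).1 h0
    refine ⟨d, v ≫ w, fun m hm => ?_⟩
    rw [Fmap_comp, Fmap_comp]
    rcases Finset.mem_insert.1 hm with rfl | hm'
    · exact hw
    · rw [hv m hm']

variable {J : GrothendieckTopology C} [HasPullbacks C]

theorem isSheafFor_fin (hF : ∀ a, Presieve.IsSheaf J (F.obj a)) {X : C} {n : ℕ} (V : Fin n → C)
    (g : ∀ k, V k ⟶ X) (hcov : Sieve.ofArrows V g ∈ J X) :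
    Presieve.IsSheafFor c.pt (Presieve.ofArrows V g) := by
  have hFb : ∀ b, Presieve.IsSheafFor (F.obj b) (Presieve.ofArrows V g) := fun b =>
    (Presieve.isSheafFor_iff_generate _).2 (hF b _ hcov)
  have hsep : ∀ t t' : c.pt.obj (op X),
      (∀ k, c.pt.map (g k).op t = c.pt.map (g k).op t') → t = t' := by
    intro t t' htt
    obtain ⟨a, s, s', rfl, rfl⟩ := surj₂ hc (op X) t t'
    obtain ⟨b, v, hv⟩ := coeq_fin hc (Finset.univ : Finset (Fin n)) a (fun k => op (V k))
      (fun k => (F.obj a).map (g k).op s) (fun k => (F.obj a).map (g k).op s') (by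
        intro k
        rw [ι_nat, ι_nat]
        exact htt k)
    have h1 : (F.map v).app (op X) s = (F.map v).app (op X) s' := by
      refine (hFb b).isSeparatedFor.ext ?_
      rintro Y f ⟨k⟩
      have := hv k (Finset.mem_univ k)
      rw [Fmap_nat, Fmap_nat] at this
      exact this
    rw [← ι_map v, ← ι_map v (op X) s', h1]
  rw [Presieve.isSheafFor_arrows_iff_pullbacks]
  intro x hx
  obtain ⟨a, y, hy⟩ := common hc (fun k => op (V k)) x
  obtain ⟨b, v, hv⟩ := coeq_fin hc (Finset.univ : Finset (Fin n × Fin n)) a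
    (fun m => op (pullback (g m.1) (g m.2)))
    (fun m => (F.obj a).map (pullback.fst (g m.1) (g m.2)).op (y m.1))
    (fun m => (F.obj a).map (pullback.snd (g m.1) (g m.2)).op (y m.2)) (by
      intro m
      rw [ι_nat, ι_nat, hy, hy]
      exact hx m.1 m.2)
  have hz : Presieve.Arrows.PullbackCompatible (F.obj b) g
      (fun k => (F.map v).app (op (V k)) (y k)) := by
    intro k l
    have := hv (k, l) (Finset.mem_univ _)
    rw [Fmap_nat, Fmap_nat] at this
    exact this
  obtain ⟨tb, htb, -⟩ := (Presieve.isSheafFor_arrows_iff_pullbacks _ _).1 (hFb b) _ hz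
  have hex : ∀ k, c.pt.map (g k).op ((c.ι.app b).app (op X) tb) = x k := by
    intro k
    rw [← ι_nat, htb k, ι_map, hy]
  refine ⟨(c.ι.app b).app (op X) tb, hex, fun t' ht' => ?_⟩
  exact hsep _ _ (fun k => (ht' k).trans (hex k).symm)

omit hc [IsFiltered I] [HasPullbacks C] in
theorem isSheaf_of_fin (P : Cᵒᵖ ⥤ Type u) (hJ : ∀ U : C, ToposFin.IsQCSite J U)
    (hfin : ∀ {X : C} {n : ℕ} (V : Fin n → C) (g : ∀ k, V k ⟶ X),
      Sieve.ofArrows V g ∈ J X → Presieve.IsSheafFor P (Presieve.ofArrows V g)) :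
    Presieve.IsSheaf J P := by
  have hgen : ∀ {X : C} {n : ℕ} (V : Fin n → C) (g : ∀ k, V k ⟶ X),
      Sieve.ofArrows V g ∈ J X → Presieve.IsSheafFor P (Sieve.ofArrows V g).arrows :=
    fun V g h => (Presieve.isSheafFor_iff_generate _).1 (hfin V g h)
  have hsepall : ∀ {Y : C} (T : Sieve Y), T ∈ J Y → Presieve.IsSeparatedFor P T.arrows := by
    intro Y T hT
    obtain ⟨n, V, g, hgT, hcov⟩ := hJ Y T hT
    have hle : (Sieve.ofArrows V g).arrows ≤ T.arrows := by
      rintro Z f ⟨Z', h, g', ⟨k⟩, rfl⟩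
      exact T.downward_closed (hgT k) h
    intro x t₁ t₂ h₁ h₂
    exact (hgen V g hcov).isSeparatedFor (x.restrict hle) t₁ t₂
      (Presieve.isAmalgamation_restrict hle x t₁ h₁)
      (Presieve.isAmalgamation_restrict hle x t₂ h₂)
  intro X S hS
  obtain ⟨n, V, g, hgS, hcov⟩ := hJ X S hS
  have hle : (Sieve.ofArrows V g).arrows ≤ S.arrows := by
    rintro Z f ⟨Z', h, g', ⟨k⟩, rfl⟩
    exact S.downward_closed (hgS k) h
  exact Presieve.isSheafFor_subsieve_aux P hle (hgen V g hcov)
    (fun Y f _ => hsepall _ (J.pullback_stable f hcov))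

omit hc [IsFiltered I] in
theorem main (J : GrothendieckTopology C) (hJ : ∀ U : C, ToposFin.IsQCSite J U)
    (I : Type u) [SmallCategory I] [IsFiltered I] :
    PreservesColimitsOfShape I (sheafToPresheaf J (Type u)) := by
  constructor
  intro K
  let F := K ⋙ sheafToPresheaf J (Type u)
  let c : Cocone F := colimit.cocone F
  have hc : IsColimit c := colimit.isColimit F
  have hsh : Presheaf.IsSheaf J c.pt := by
    rw [isSheaf_iff_isSheaf_of_type]
    refine isSheaf_of_fin c.pt hJ (fun V g hcov => isSheafFor_fin hc (fun a => ?_) V g hcov)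
    exact (isSheaf_iff_isSheaf_of_type J _).1 (K.obj a).property
  let c' : Cocone K :=
    { pt := ⟨c.pt, hsh⟩
      ι := { app := fun a => ⟨c.ι.app a⟩
             naturality := fun a b v => by
               apply Sheaf.hom_ext
               exact c.ι.naturality v } }
  have hc' : IsColimit c' := isColimitOfReflects (sheafToPresheaf J (Type u))
    (hc.ofIsoColimit (Cocones.ext (Iso.refl _) (fun a => by simp; rfl)))
  exact preservesColimit_of_preserves_colimit_cocone hc'
    (hc.ofIsoColimit (Cocones.ext (Iso.refl _) (fun a => by simp; rfl)))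

end Groth.Agent.Lib.Lead.FiltSheaf
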