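import Mathlib.CategoryTheory.Limits.Final
import Mathlib.CategoryTheory.Limits.IsConnected
import Mathlib.CategoryTheory.FinCategory.AsType
import Mathlib.CategoryTheory.MorphismProperty.Composition
import Mathlib.Data.Finite.Sum

/-!
# The incidence category of a generating graph: a finite final and initial subdivision
-/

set_option autoImplicit false

namespace Groth.Agent.Lib.Lead.FinGen

open CategoryTheory

universe w v u

/-- objects: vertices and edges -/
inductive JObj (I : Type u) (E : Type w) : Type (max u w)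
  | v : I → JObj I E
  | e : E → JObj I E

variable {I : Type u} [Category.{v} I] {E : Type w} (s t : E → I)

/-- morphisms: identities, and from each edge to its source and to its target -/
inductive JHom : JObj I E → JObj I E → Type (max u w)
  | id (X : JObj I E) : JHom X X
  | src (a : E) : JHom (JObj.e a) (JObj.v (s a))
  | tgt (a : E) : JHom (JObj.e a) (JObj.v (t a))

/-- composition -/
def JHom.comp : ∀ {X Y Z : JObj I E}, JHom s t X Y → JHom s t Y Z → JHom s t X Z
  | _, _, _, JHom.id _, g => g
  | _, _, _, JHom.src a, JHom.id _ => JHom.src a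
  | _, _, _, JHom.tgt a, JHom.id _ => JHom.tgt a

/-- the incidence category -/
def JCat (_s _t : E → I) : Type (max u w) := JObj I E

instance : Category.{max u w} (JCat s t) where
  Hom X Y := JHom s t X Y
  id X := JHom.id X
  comp f g := JHom.comp s t f g
  id_comp f := rfl
  comp_id f := by cases f <;> rfl
  assoc f g h := by cases f <;> cases g <;> cases h <;> rfl

/-- vertex objects -/
abbrev vtx (y : I) : JCat s t := JObj.v y

/-- edge objects -/
abbrev edg (a : E) : JCat s t := JObj.e a

/-- the arrow from an edge to its source -/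
abbrev srcHom (a : E) : edg s t a ⟶ vtx s t (s a) := JHom.src a

/-- the arrow from an edge to its target -/
abbrev tgtHom (a : E) : edg s t a ⟶ vtx s t (t a) := JHom.tgt a

variable (m : ∀ a : E, s a ⟶ t a)

/-- the functor to `I` -/
def F₀ : JCat s t ⥤ I where
  obj X := match X with
    | JObj.v x => x
    | JObj.e a => s a
  map {X Y} f := match X, Y, f with
    | _, _, JHom.id X => 𝟙 _
    | _, _, JHom.src a => 𝟙 (s a)
    | _, _, JHom.tgt a => m a
  map_id X := rfl
  map_comp {X Y Z} f g := by
    cases f <;> cases g <;> simp [CategoryStruct.comp, JHom.comp]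

section Final

variable (hgen : ∀ P : MorphismProperty I, P.IsMultiplicative → (∀ a : E, P (m a)) → P = ⊤)

/-- vertex objects of the comma category -/
abbrev SV (x y : I) (g : x ⟶ y) : StructuredArrow x (F₀ s t m) :=
  StructuredArrow.mk (Y := vtx s t y) g

/-- edge objects of the comma category -/
abbrev SE (x : I) (a : E) (g : x ⟶ s a) : StructuredArrow x (F₀ s t m) :=
  StructuredArrow.mk (Y := edg s t a) g

def seSrc (x : I) (a : E) (g : x ⟶ s a) : SE s t m x a g ⟶ SV s t m x (s a) g :=
  StructuredArrow.homMk (srcHom s t a)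
    (Category.comp_id g)

def seTgt (x : I) (a : E) (g : x ⟶ s a) : SE s t m x a g ⟶ SV s t m x (t a) (g ≫ m a) :=
  StructuredArrow.homMk (tgtHom s t a) rfl

include hgen in
theorem zigzag_SV (x : I) {x' y : I} (f : x' ⟶ y) (g : x ⟶ x') :
    Zigzag (SV s t m x x' g) (SV s t m x y (g ≫ f)) := by
  let P : MorphismProperty I := fun x' y f =>
    ∀ (x : I) (g : x ⟶ x'), Zigzag (SV s t m x x' g) (SV s t m x y (g ≫ f))
  have hP : P = ⊤ := by
    apply hgen P
    · refine { id_mem := ?_, comp_mem := ?_ }
      · intro x' x g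
        show Zigzag (SV s t m x x' g) (SV s t m x x' (g ≫ 𝟙 x'))
        rw [Category.comp_id]
      · intro a b c f f' hf hf' x g
        show Zigzag (SV s t m x a g) (SV s t m x c (g ≫ f ≫ f'))
        rw [← Category.assoc]
        exact (hf x g).trans (hf' x (g ≫ f))
    · intro a x g
      exact Zigzag.of_inv_hom (seSrc s t m x a g) (seTgt s t m x a g)
  have : P f := by rw [hP]; trivial
  exact this x g

include hgen in
theorem final_F₀ : (F₀ s t m).Final := by
  constructor
  intro x
  have : Nonempty (StructuredArrow x (F₀ s t m)) := ⟨SV s t m x x (𝟙 x)⟩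
  have key : ∀ X : StructuredArrow x (F₀ s t m), Zigzag (SV s t m x x (𝟙 x)) X := by
    rintro ⟨⟨⟩, Y, g⟩
    cases Y with
    | v y =>
      have h := zigzag_SV s t m hgen x g (𝟙 x)
      rw [Category.id_comp] at h
      exact h
    | e a =>
      have h := zigzag_SV s t m hgen x g (𝟙 x)
      rw [Category.id_comp] at h
      exact h.trans (Zigzag.of_inv (seSrc s t m x a g))
  exact zigzag_isConnected (fun X Y => (key X).symm.trans (key Y))

/-- vertex objects of the other comma category -/
abbrev CV (x y : I) (g : y ⟶ x) : CostructuredArrow (F₀ s t m) x :=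
  CostructuredArrow.mk (Y := vtx s t y) g

/-- edge objects of the other comma category -/
abbrev CE (x : I) (a : E) (g : s a ⟶ x) : CostructuredArrow (F₀ s t m) x :=
  CostructuredArrow.mk (Y := edg s t a) g

def ceSrc (x : I) (a : E) (g : s a ⟶ x) : CE s t m x a g ⟶ CV s t m x (s a) g :=
  CostructuredArrow.homMk (srcHom s t a)
    (Category.id_comp g)

def ceTgt (x : I) (a : E) (g : t a ⟶ x) : CE s t m x a (m a ≫ g) ⟶ CV s t m x (t a) g :=
  CostructuredArrow.homMk (tgtHom s t a) rfl

include hgen in
theorem zigzag_CV (x : I) {y y' : I} (f : y ⟶ y') (g : y' ⟶ x) :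
    Zigzag (CV s t m x y (f ≫ g)) (CV s t m x y' g) := by
  let P : MorphismProperty I := fun y y' f =>
    ∀ (x : I) (g : y' ⟶ x), Zigzag (CV s t m x y (f ≫ g)) (CV s t m x y' g)
  have hP : P = ⊤ := by
    apply hgen P
    · refine { id_mem := ?_, comp_mem := ?_ }
      · intro y x g
        show Zigzag (CV s t m x y (𝟙 y ≫ g)) (CV s t m x y g)
        rw [Category.id_comp]
      · intro a b c f f' hf hf' x g
        show Zigzag (CV s t m x a ((f ≫ f') ≫ g)) (CV s t m x c g)
        rw [Category.assoc]
        exact (hf x (f' ≫ g)).trans (hf' x g)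
    · intro a x g
      exact Zigzag.of_inv_hom (ceSrc s t m x a (m a ≫ g)) (ceTgt s t m x a g)
  have : P f := by rw [hP]; trivial
  exact this x g

include hgen in
theorem initial_F₀ : (F₀ s t m).Initial := by
  constructor
  intro x
  have : Nonempty (CostructuredArrow (F₀ s t m) x) := ⟨CV s t m x x (𝟙 x)⟩
  have key : ∀ X : CostructuredArrow (F₀ s t m) x, Zigzag X (CV s t m x x (𝟙 x)) := by
    rintro ⟨Y, ⟨⟩, g⟩
    cases Y with
    | v y =>
      have h : Zigzag (CV s t m x y (g ≫ 𝟙 x)) (CV s t m x x (𝟙 x)) :=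
        zigzag_CV s t m hgen x g (𝟙 x)
      have e : (g ≫ 𝟙 x : y ⟶ x) = g := Category.comp_id g
      rw [e] at h
      exact h
    | e a =>
      have h : Zigzag (CV s t m x (s a) (g ≫ 𝟙 x)) (CV s t m x x (𝟙 x)) :=
        zigzag_CV s t m hgen x g (𝟙 x)
      have e : (g ≫ 𝟙 x : s a ⟶ x) = g := Category.comp_id g
      rw [e] at h
      exact (Zigzag.of_hom (ceSrc s t m x a g)).trans h
  exact zigzag_isConnected (fun X Y => (key X).trans (key Y).symm)

end Final

section Finite

variable [Finite I] [Finite E]

instance : Finite (JObj I E) :=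
  Finite.of_surjective (fun z : I ⊕ E => Sum.elim JObj.v JObj.e z) (by
    rintro (x | a)
    · exact ⟨Sum.inl x, rfl⟩
    · exact ⟨Sum.inr a, rfl⟩)

instance : Finite (JCat s t) := inferInstanceAs (Finite (JObj I E))

theorem finite_total : Finite (Σ X Y : JObj I E, JHom s t X Y) :=
  Finite.of_surjective (fun z : JObj I E ⊕ E ⊕ E => match z with
    | Sum.inl X => (⟨X, X, JHom.id X⟩ : Σ X Y : JObj I E, JHom s t X Y)
    | Sum.inr (Sum.inl a) => ⟨_, _, JHom.src a⟩
    | Sum.inr (Sum.inr a) => ⟨_, _, JHom.tgt a⟩) (by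
    rintro ⟨X, Y, f⟩
    cases f with
    | id X => exact ⟨Sum.inl X, rfl⟩
    | src a => exact ⟨Sum.inr (Sum.inl a), rfl⟩
    | tgt a => exact ⟨Sum.inr (Sum.inr a), rfl⟩)

instance (X Y : JCat s t) : Finite (X ⟶ Y) := by
  have := finite_total s t
  exact Finite.of_injective
    (fun f : JHom s t X Y => (⟨X, Y, f⟩ : Σ X Y : JObj I E, JHom s t X Y)) (fun f g h => by
      have h1 := sigma_mk_injective h
      exact sigma_mk_injective h1)

noncomputable instance : Fintype (JCat s t) := Fintype.ofFinite _

noncomputable instance : FinCategory (JCat s t) where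
  fintypeObj := inferInstance
  fintypeHom X Y := Fintype.ofFinite _

end Finite

/-- S6438 -/
theorem main {I : Type u} [Category.{v} I] [Finite I]
    (gen : Finset (Σ x y : I, x ⟶ y))
    (hgen : ∀ P : MorphismProperty I, P.IsMultiplicative → (∀ a ∈ gen, P a.2.2) → P = ⊤) :
    ∃ (J : Type) (_ : SmallCategory J) (_ : FinCategory J) (F : J ⥤ I),
      F.Final ∧ F.Initial ∧ (IsConnected J ↔ IsConnected I) ∧ (Nonempty J ↔ Nonempty I) := by
  classical
  let E : Type (max u v) := {a // a ∈ gen}
  let s : E → I := fun a => a.1.1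
  let t : E → I := fun a => a.1.2.1
  let m : ∀ a : E, s a ⟶ t a := fun a => a.1.2.2
  have hgen' : ∀ P : MorphismProperty I, P.IsMultiplicative → (∀ a : E, P (m a)) → P = ⊤ :=
    fun P hP h => hgen P hP (fun a ha => h ⟨a, ha⟩)
  let e := FinCategory.equivAsType (JCat s t)
  have h1 := final_F₀ s t m hgen'
  have h2 := initial_F₀ s t m hgen'
  let F := e.functor ⋙ F₀ s t m
  have hF : F.Final := Functor.final_equivalence_comp _ _
  have hF' : F.Initial := Functor.initial_equivalence_comp _ _
  refine ⟨FinCategory.AsType (JCat s t), inferInstance, inferInstance, F, hF, hF',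
    Functor.isConnected_iff_of_final F, ?_⟩
  constructor
  · rintro ⟨j⟩
    exact ⟨F.obj j⟩
  · rintro ⟨x⟩
    exact ⟨e.inverse.obj (vtx s t x)⟩

end Groth.Agent.Lib.Lead.FinGen
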