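import Groth.Agent.Lib.Lead.RelMV
import Groth.Agent.Lib.Lead.StrictHensGeom
import Groth.Agent.Lib.Helper22.EtLoc.LocallyZero
import Groth.Agent.Lib.Helper22.EtLoc.FieldTower
import Groth.Agent.Lib.Helper20.IdemLocal

/-!
# Gabber's criterion: vanishing of étale cohomology on affine schemes with strictly henselian
local rings from injectivity of `H¹` on two-element basic covers
-/

set_option autoImplicit false

universe u

open CategoryTheory CategoryTheory.Limits Opposite AlgebraicGeometry Abelian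

namespace Groth.Agent.Lib.Lead.GabberCrit

open Groth.Agent.Lib.Helper22 Groth.Agent.Lib.Helper22.EtLoc Groth.Agent.Lib.Lead.RelMV
  Groth.Agent.Lib.Lead.StrictHensGeom

noncomputable section

variable {X : Scheme.{u}}

section Restrict

/-- Restriction of a class on `U` to a smaller open. -/
abbrev res {U V : X.Opens} (h : V ≤ U) (G : EtCoh.Ab ↑U) (q : ℕ) :
    EtCoh.H ↑U G q →+ EtCoh.H ↑V ((EtCoh.pull (X.homOfLE h)).obj G) q :=
  EtCore.Hpull (X.homOfLE h) G q

lemma res_trans {U V V' : X.Opens} (h : V ≤ U) (h' : V' ≤ V) (G : EtCoh.Ab ↑U) (q : ℕ)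
    (ξ : EtCoh.H ↑U G q) (hξ : res h G q ξ = 0) : res (h'.trans h) G q ξ = 0 :=
  Hpull_eq_zero_of_factor (X.homOfLE h') (X.homOfLE h) (X.homOfLE (h'.trans h))
    (X.homOfLE_homOfLE h' h) G q ξ hξ

variable (F : EtCoh.Ab X)

/-- The restriction of a class to `W`, as a class of the restricted sheaf. -/
abbrev resVia {U W : X.Opens} (h : W ≤ U) (q : ℕ) :
    EtCoh.H ↑U ((EtCoh.pull U.ι).obj F) q →+ EtCoh.H ↑W ((EtCoh.pull W.ι).obj F) q :=
  EtCore.HpullVia (X.homOfLE h) U.ι W.ι (X.homOfLE_ι h) F q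

lemma resVia_eq_zero_iff {U W : X.Opens} (h : W ≤ U) (q : ℕ)
    (ξ : EtCoh.H ↑U ((EtCoh.pull U.ι).obj F) q) :
    resVia F h q ξ = 0 ↔ res h ((EtCoh.pull U.ι).obj F) q ξ = 0 :=
  HpullVia_injective_iff _ _ _ _ F q ξ

/-- If `ξ` vanishes on `V ≤ W ≤ U` then so does its restriction to `W`. -/
lemma res_resVia {U W V : X.Opens} (h : W ≤ U) (h' : V ≤ W) (q : ℕ)
    (ξ : EtCoh.H ↑U ((EtCoh.pull U.ι).obj F) q)
    (hξ : res (h'.trans h) ((EtCoh.pull U.ι).obj F) q ξ = 0) :
    res h' ((EtCoh.pull W.ι).obj F) q (resVia F h q ξ) = 0 := by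
  have h1 := Hpull_Hpull_eq_zero (X.homOfLE h') (X.homOfLE h) (X.homOfLE (h'.trans h))
    (X.homOfLE_homOfLE h' h) ((EtCoh.pull U.ι).obj F) q ξ hξ
  show EtCore.Hpull (X.homOfLE h') _ q (EtCore.HpullVia (X.homOfLE h) U.ι W.ι _ F q ξ) = 0
  rw [HpullVia_apply, Hpull_naturality, h1, Ext.zero_comp]

end Restrict

section Transfer

open Polynomial in
lemma isSepClosed_of_ringEquiv {k k' : Type u} [Field k] [Field k'] [IsSepClosed k]
    (e : k ≃+* k') : IsSepClosed k' := by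
  refine IsSepClosed.of_exists_root k' fun p _ hirr hsep => ?_
  have hp' : (p.map e.symm.toRingHom).Separable := hsep.map
  have hdeg : (p.map e.symm.toRingHom).degree ≠ 0 := by
    rw [Polynomial.degree_map]
    exact (Polynomial.degree_pos_of_irreducible hirr).ne'
  obtain ⟨x, hx⟩ := IsSepClosed.exists_root (p.map e.symm.toRingHom) hdeg hp'
  refine ⟨e x, ?_⟩
  have h3 : (p.map e.symm.toRingHom).eval (e.symm (e x)) = e.symm (p.eval (e x)) :=
    Polynomial.eval_map_apply (f := e.symm.toRingHom) (e x)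
  rw [e.symm_apply_apply] at h3
  have hx' : (p.map e.symm.toRingHom).eval x = 0 := hx
  rw [hx'] at h3
  exact (map_eq_zero_iff e.symm e.symm.injective).mp h3.symm

lemma isStrictlyHenselian_of_ringEquiv {A B : Type u} [CommRing A] [CommRing B] (e : A ≃+* B)
    (hA : EtCoh.IsStrictlyHenselianLocalRing A) : EtCoh.IsStrictlyHenselianLocalRing B := by
  obtain ⟨hH, hC⟩ := hA
  haveI : HenselianLocalRing B := Groth.Agent.Lib.Helper20.IdemLocal.henselian_of_ringEquiv e
  exact ⟨inferInstance, isSepClosed_of_ringEquiv (IsLocalRing.ResidueField.mapEquiv e)⟩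

end Transfer

section LocalTriviality

variable (hX : ∀ x : X, EtCoh.IsStrictlyHenselianLocalRing (X.presheaf.stalk x))

include hX in
/-- Cohomology classes on an open of `X` die Zariski locally. -/
theorem exists_open_res_eq_zero (U : X.Opens) (G : EtCoh.Ab ↑U) (n : ℕ)
    (ξ : EtCoh.H ↑U G (n + 1)) (x : X) (hx : x ∈ U) :
    ∃ (V : X.Opens) (h : V ≤ U), x ∈ V ∧ res h G (n + 1) ξ = 0 := by
  obtain ⟨W, w, hw, hξ⟩ := exists_etale_Hpull_eq_zero n G ξ ⟨x, hx⟩
  haveI : Etale (W.hom : W.left ⟶ ↑U) := W.prop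
  let f : W.left ⟶ X := W.hom ≫ U.ι
  have hfw : f w = x := by
    show U.ι (W.hom w) = x
    rw [hw]
    rfl
  obtain ⟨V, hV, σ, hσ, -⟩ := exists_local_section_through f w (hX _)
  have hVU : V ≤ U := by
    intro v hv
    have h1 : (σ ≫ W.hom) ≫ U.ι = V.ι := by rw [Category.assoc]; exact hσ
    have h2 : V.ι ⟨v, hv⟩ = v := rfl
    rw [← h2, ← h1]
    exact ((σ ≫ W.hom) ⟨v, hv⟩).2
  have hfac : σ ≫ W.hom = X.homOfLE hVU := by
    rw [← cancel_mono U.ι, Category.assoc, X.homOfLE_ι]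
    exact hσ
  refine ⟨V, hVU, hfw ▸ hV, ?_⟩
  exact Hpull_eq_zero_of_factor σ W.hom (X.homOfLE hVU) hfac G (n + 1) ξ hξ

end LocalTriviality

section Empty

/-- Cohomology of the empty scheme vanishes. -/
theorem eq_zero_of_isEmpty (Y : Scheme.{u}) [IsEmpty Y] (G : EtCoh.Ab Y) (q : ℕ)
    (ξ : EtCoh.H Y G q) : ξ = 0 := by
  have hterm : ∀ W : Y.Etale, IsTerminal (G.obj.obj (op W)) := by
    intro W
    refine Sheaf.isTerminalOfBotCover G W ?_
    rw [Groth.Agent.Lib.Helper22.CechU.Etale.mem_smallEtaleTopology_iff]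
    intro x
    exact (IsEmpty.false (α := ↥Y) ((W.hom : W.left ⟶ Y) x)).elim
  have hid : 𝟙 G = 0 := by
    apply Sheaf.hom_ext
    ext W : 2
    exact (hterm W.unop).hom_ext _ _
  have h1 : ξ = ξ.comp (Ext.mk₀ (𝟙 G)) (add_zero q) := (Ext.comp_mk₀_id ξ).symm
  rw [h1, hid, Ext.mk₀_zero, Ext.comp_zero]

end Empty

section Affine

variable [IsAffine X]

lemma isIso_homOfLE_of_eq {U V : X.Opens} (h : V ≤ U) (e : V = U) : IsIso (X.homOfLE h) := by
  subst e
  have : X.homOfLE h = 𝟙 _ := X.homOfLE_rfl V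
  rw [this]
  infer_instance

/-- A cover of a basic open by basic opens gives a relation in the ring of global sections. -/
lemma cover_alg (t : Finset Γ(X, ⊤)) (h : Γ(X, ⊤))
    (hcov : ∀ x : X, x ∈ X.basicOpen h → ∃ b ∈ t, x ∈ X.basicOpen b) :
    ∃ N : ℕ, h ^ N ∈ Ideal.span (t : Set Γ(X, ⊤)) := by
  have key : h ∈ (Ideal.span (t : Set Γ(X, ⊤))).radical := by
    rw [← PrimeSpectrum.vanishingIdeal_zeroLocus_eq_radical, PrimeSpectrum.mem_vanishingIdeal]
    intro p hp
    by_contra hh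
    obtain ⟨x, rfl⟩ : ∃ x : X, X.isoSpec.hom x = p :=
      ⟨X.isoSpec.inv p, by rw [← Scheme.Hom.comp_apply, Iso.inv_hom_id]; rfl⟩
    have hx : x ∈ X.basicOpen h := by
      rw [← Scheme.map_PrimeSpectrum_basicOpen_of_affine]
      exact hh
    obtain ⟨b, hb, hxb⟩ := hcov x hx
    rw [← Scheme.map_PrimeSpectrum_basicOpen_of_affine] at hxb
    have hb' : b ∈ (X.isoSpec.hom x).asIdeal := by
      rw [PrimeSpectrum.mem_zeroLocus] at hp
      exact hp (Ideal.subset_span hb)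
    exact hxb hb'
  exact key

end Affine

end

end Groth.Agent.Lib.Lead.GabberCrit
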