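import Groth.Agent.Lib.Lead.GabberCrit

/-!
# Gabber's criterion, part 2: the covering induction
-/

set_option autoImplicit false

universe u

open CategoryTheory CategoryTheory.Limits Opposite AlgebraicGeometry Abelian

namespace Groth.Agent.Lib.Lead.GabberCrit

open Groth.Agent.Lib.Helper22 Groth.Agent.Lib.Helper22.EtLoc Groth.Agent.Lib.Lead.RelMV
  Groth.Agent.Lib.Lead.StrictHensGeom

noncomputable section

variable {X : Scheme.{u}} [IsAffine X] (F : EtCoh.Ab X)

/-- Vanishing of the degree `q` cohomology of `F` over the open `U`. -/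
def Van (q : ℕ) (U : X.Opens) : Prop :=
  ∀ ξ : EtCoh.H ↑U ((EtCoh.pull U.ι).obj F) q, ξ = 0

/-- Injectivity of restriction to the special two-element basic covers, in degree `q`. -/
def InjQ (q : ℕ) : Prop :=
  ∀ (U U₁ U₂ : X.Opens) (h₁ : U₁ ≤ U) (h₂ : U₂ ≤ U) (f g : Γ(X, ⊤)),
    U = X.basicOpen (f + g) → U₁ = X.basicOpen (f * (f + g)) → U₂ = X.basicOpen (g * (f + g)) →
    ∀ ξ : EtCoh.H ↑U ((EtCoh.pull U.ι).obj F) q,
      res h₁ ((EtCoh.pull U.ι).obj F) q ξ = 0 → res h₂ ((EtCoh.pull U.ι).obj F) q ξ = 0 → ξ = 0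

variable {F}

/-- The covering induction. -/
theorem eq_zero_of_cover (q : ℕ) (hinj : InjQ F q) (t : Finset Γ(X, ⊤)) :
    ∀ (U : X.Opens) (h : Γ(X, ⊤)) (_ : U = X.basicOpen h)
      (ξ : EtCoh.H ↑U ((EtCoh.pull U.ι).obj F) q) (x : Γ(X, ⊤) → Γ(X, ⊤)) (N : ℕ)
      (_ : h ^ (N + 1) = ∑ b ∈ t, x b * b)
      (_ : ∀ b ∈ t, ∀ (V : X.Opens) (hV : V ≤ U), V ≤ X.basicOpen b →
        res hV ((EtCoh.pull U.ι).obj F) q ξ = 0), ξ = 0 := by
  classical
  induction t using Finset.induction_on with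
  | empty =>
    intro U h hU ξ x N hN _
    rw [Finset.sum_empty] at hN
    have hbot : U = ⊥ := by
      rw [hU, ← X.basicOpen_pow h (Nat.succ_pos N), hN, Scheme.basicOpen_zero]
    haveI : IsEmpty ↥(↑U : Scheme.{u}) := by
      rw [hbot]
      exact ⟨fun y => y.2⟩
    exact eq_zero_of_isEmpty _ _ q ξ
  | insert a₀ t' ha₀ ih =>
    intro U h hU ξ x N hN hξ
    rw [Finset.sum_insert ha₀] at hN
    set f : Γ(X, ⊤) := x a₀ * a₀ * h with hf
    set g : Γ(X, ⊤) := (∑ b ∈ t', x b * b) * h with hg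
    have hfg : f + g = h ^ (N + 2) := by
      rw [hf, hg, ← add_mul, ← hN]
      ring
    have hU' : U = X.basicOpen (f + g) := by
      rw [hfg, X.basicOpen_pow h (by omega)]
      exact hU
    have h₁ : X.basicOpen (f * (f + g)) ≤ U := by
      rw [hU', Scheme.basicOpen_mul]
      exact inf_le_right
    have h₂ : X.basicOpen (g * (f + g)) ≤ U := by
      rw [hU', Scheme.basicOpen_mul]
      exact inf_le_right
    refine hinj U _ _ h₁ h₂ f g hU' rfl rfl ξ ?_ ?_
    · refine hξ a₀ (Finset.mem_insert_self _ _) _ h₁ ?_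
      rw [Scheme.basicOpen_mul, hf, Scheme.basicOpen_mul, Scheme.basicOpen_mul]
      exact inf_le_left.trans (inf_le_left.trans inf_le_right)
    · rw [← resVia_eq_zero_iff]
      refine ih (X.basicOpen (g * (f + g))) (g * (f + g)) rfl (resVia F h₂ q ξ)
        (fun b => x b * h * (f + g)) 0 ?_ ?_
      · rw [zero_add, pow_one, hg, Finset.sum_mul, Finset.sum_mul]
        refine Finset.sum_congr rfl fun b _ => ?_
        ring
      · intro b hb V hV hVb
        exact res_resVia F h₂ hV q ξ (hξ b (Finset.mem_insert_of_mem hb) V (hV.trans h₂) hVb)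

end

end Groth.Agent.Lib.Lead.GabberCrit
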