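import Groth.Agent.Lib.Lead.GabberCrit2

/-!
# Gabber's criterion, part 3: vanishing on basic opens and the induction on the degree
-/

set_option autoImplicit false

universe u

open CategoryTheory CategoryTheory.Limits Opposite AlgebraicGeometry Abelian

namespace Groth.Agent.Lib.Lead.GabberCrit

open Groth.Agent.Lib.Helper22 Groth.Agent.Lib.Helper22.EtLoc Groth.Agent.Lib.Lead.RelMV
  Groth.Agent.Lib.Lead.StrictHensGeom

noncomputable section

variable {X : Scheme.{u}} [IsAffine X] {F : EtCoh.Ab X}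
  (hX : ∀ x : X, EtCoh.IsStrictlyHenselianLocalRing (X.presheaf.stalk x))

include hX in
/-- Injectivity on the special two-element covers implies vanishing on all basic opens. -/
theorem van_of_injQ (n : ℕ) (hinj : InjQ F (n + 1)) (h : Γ(X, ⊤)) :
    Van F (n + 1) (X.basicOpen h) := by
  classical
  intro ξ
  have hloc : ∀ x : (X.basicOpen h), ∃ (b : Γ(X, ⊤)) (V : X.Opens) (hV : V ≤ X.basicOpen h),
      (x : X) ∈ X.basicOpen b ∧
      X.basicOpen b ≤ V ∧ res hV ((EtCoh.pull (X.basicOpen h).ι).obj F) (n + 1) ξ = 0 := by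
    intro x
    obtain ⟨V, hVU, hxV, hres⟩ := exists_open_res_eq_zero hX (X.basicOpen h) _ n ξ x.1 x.2
    obtain ⟨_, ⟨_, ⟨b, rfl⟩, rfl⟩, hxb, hbV⟩ :=
      (isBasis_basicOpen X).exists_subset_of_mem_open hxV V.2
    exact ⟨b, V, hVU, hxb, hbV, hres⟩
  choose b V hV hxb hbV hres using hloc
  have hcompact : IsCompact (X.basicOpen h : Set X) := ((isAffineOpen_top X).basicOpen h).isCompact
  obtain ⟨s, hs⟩ := hcompact.elim_finite_subcover (fun x : (X.basicOpen h) => (X.basicOpen (b x) : Set X))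
    (fun x => (X.basicOpen (b x)).2) (by
      intro x hx
      exact Set.mem_iUnion.mpr ⟨⟨x, hx⟩, hxb ⟨x, hx⟩⟩)
  let t : Finset Γ(X, ⊤) := s.image b
  obtain ⟨N, hN⟩ := cover_alg t h (by
    intro x hx
    obtain ⟨y, hy⟩ := Set.mem_iUnion.mp (hs hx)
    obtain ⟨hys, hxy⟩ := Set.mem_iUnion.mp hy
    exact ⟨b y, Finset.mem_image_of_mem b hys, hxy⟩)
  obtain ⟨c, -, hc⟩ := Submodule.mem_span_finset.mp hN
  refine eq_zero_of_cover (n + 1) hinj t (X.basicOpen h) h rfl ξ (fun a => c a * h) N ?_ ?_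
  · rw [pow_succ, ← hc, Finset.sum_mul]
    refine Finset.sum_congr rfl fun a _ => ?_
    rw [smul_eq_mul]
    ring
  · intro a ha W hW hWa
    obtain ⟨y, -, rfl⟩ := Finset.mem_image.mp ha
    have hWV : W ≤ V y := hWa.trans (hbV y)
    exact res_trans (hV y) hWV _ (n + 1) ξ (hres y)

end

end Groth.Agent.Lib.Lead.GabberCrit
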