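import Groth.Agent.Lib.Lead.GabberCrit3

/-!
# Gabber's criterion, part 4: induction on the degree
-/

set_option autoImplicit false

universe u

open CategoryTheory CategoryTheory.Limits Opposite AlgebraicGeometry Abelian

namespace Groth.Agent.Lib.Lead.GabberCrit

open Groth.Agent.Lib.Helper22 Groth.Agent.Lib.Helper22.EtLoc Groth.Agent.Lib.Lead.RelMV
  Groth.Agent.Lib.Lead.StrictHensGeom

noncomputable section

variable {X : Scheme.{u}} [IsAffine X] {F : EtCoh.Ab X}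

/-- Vanishing in degree `n + 1` on basic opens gives injectivity in degree `n + 2`. -/
theorem injQ_succ (n : ℕ) (hvan : ∀ h : Γ(X, ⊤), Van F (n + 1) (X.basicOpen h)) :
    InjQ F (n + 2) := by
  intro U U₁ U₂ h₁ h₂ f g hU hU₁ hU₂ ξ e1 e2
  have hsup : U₁ ⊔ U₂ = U := by
    rw [hU₁, hU₂, hU, Scheme.basicOpen_mul, Scheme.basicOpen_mul, ← inf_sup_right]
    exact inf_eq_right.mpr (X.basicOpen_add_le f g)
  have hinf : U₁ ⊓ U₂ = X.basicOpen (f * (f + g) * (g * (f + g))) := by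
    rw [hU₁, hU₂, ← Scheme.basicOpen_mul]
  have hv : Van F (n + 1) (U₁ ⊓ U₂) := by
    rw [hinf]
    exact hvan _
  exact eq_zero_of_restrict_eq_zero U U₁ U₂ h₁ h₂ F hsup (n + 1) hv ξ
    ((resVia_eq_zero_iff F h₁ (n + 2) ξ).mpr e1) ((resVia_eq_zero_iff F h₂ (n + 2) ξ).mpr e2)

variable (hX : ∀ x : X, EtCoh.IsStrictlyHenselianLocalRing (X.presheaf.stalk x))

include hX in
theorem van_all (hinj : InjQ F 1) : ∀ (n : ℕ) (h : Γ(X, ⊤)), Van F (n + 1) (X.basicOpen h) := by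
  intro n
  induction n with
  | zero => exact van_of_injQ hX 0 hinj
  | succ n ih => exact van_of_injQ hX (n + 1) (injQ_succ n ih)

lemma isIso_ι_of_eq_top (U : X.Opens) (hU : U = ⊤) : IsIso U.ι := by
  subst hU
  exact X.topIso.isIso_hom

include hX in
/-- **Gabber's criterion.** -/
theorem H_eq_zero (hinj : InjQ F 1) (n : ℕ) (ξ : EtCoh.H X F (n + 1)) : ξ = 0 := by
  have hU : X.basicOpen (1 : Γ(X, ⊤)) = ⊤ := X.basicOpen_of_isUnit isUnit_one
  haveI : IsIso (X.basicOpen (1 : Γ(X, ⊤))).ι := isIso_ι_of_eq_top _ hU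
  apply (Hpull_bijective_of_isIso (X.basicOpen (1 : Γ(X, ⊤))).ι F (n + 1)).1
  rw [map_zero]
  exact van_all hX hinj n 1 _

end

end Groth.Agent.Lib.Lead.GabberCrit
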