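import Mathlib
import Groth.Agent.Lib.Helper29.TorsionFree

/-!
# Generic freeness for finite modules over a domain (localized form)
-/

universe u
open Submodule

namespace Groth.Agent.Lib.Lead.GenFree

/-- A finite module over a domain has a finite linearly independent family whose span contains a
nonzero multiple of everything (reindexed by `Fin n`). -/
theorem exists_fin_linearIndependent (A : Type u) [CommRing A] [IsDomain A] (M : Type u)
    [AddCommGroup M] [Module A M] [Module.Finite A M] :
    ∃ (n : ℕ) (e : Fin n → M) (c : A), LinearIndependent A e ∧ c ≠ 0 ∧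
      ∀ x : M, c • x ∈ span A (Set.range e) := by
  obtain ⟨ι, _, e, c, hli, hc, hspan⟩ :=
    Groth.Agent.Lib.Helper29.exists_linearIndependent_smul_mem_span A M
  let σ := Fintype.equivFin ι
  refine ⟨Fintype.card ι, e ∘ σ.symm, c, hli.comp _ σ.symm.injective, hc, fun x => ?_⟩
  have : Set.range (e ∘ σ.symm) = Set.range e := σ.symm.surjective.range_comp e
  rw [this]
  exact hspan x

/-- Such a family becomes a basis after any localization in which `c` becomes invertible. -/
theorem nonempty_basis_of_isLocalizedModule {A : Type*} [CommRing A] (S : Submonoid A)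
    (Rₛ : Type*) [CommRing Rₛ] [Algebra A Rₛ] [IsLocalization S Rₛ]
    {M Mₛ : Type*} [AddCommGroup M] [Module A M] [AddCommGroup Mₛ] [Module A Mₛ] [Module Rₛ Mₛ]
    [IsScalarTower A Rₛ Mₛ] (f : M →ₗ[A] Mₛ) [IsLocalizedModule S f]
    {n : ℕ} (e : Fin n → M) (hli : LinearIndependent A e) (c : A)
    (hc : IsUnit (algebraMap A Rₛ c)) (hspan : ∀ x : M, c • x ∈ span A (Set.range e)) :
    Nonempty (Module.Basis (Fin n) Rₛ Mₛ) := by
  have hli' : LinearIndependent Rₛ (f ∘ e) := hli.of_isLocalizedModule Rₛ S f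
  have hsp : ⊤ ≤ span Rₛ (Set.range (f ∘ e)) := by
    intro y _
    obtain ⟨⟨m, s⟩, h⟩ := IsLocalizedModule.surj S f y
    -- s • y = f m
    have h1 : f (c • m) ∈ span Rₛ (Set.range (f ∘ e)) := by
      have h2 : c • m ∈ span A (Set.range e) := hspan m
      have h3 : f (c • m) ∈ (span A (Set.range e)).map f := Submodule.mem_map_of_mem h2
      rw [Submodule.map_span, ← Set.range_comp] at h3
      exact Submodule.span_subset_span A Rₛ _ h3
    have hs : IsUnit (algebraMap A Rₛ (s : A)) := IsLocalization.map_units Rₛ s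
    obtain ⟨u, hu⟩ := hs
    obtain ⟨w, hw⟩ := hc
    have h4 : y = (↑u⁻¹ * ↑w⁻¹ : Rₛ) • f (c • m) := by
      rw [map_smul, ← h, Submonoid.smul_def, ← algebraMap_smul Rₛ c, ← algebraMap_smul Rₛ (s : A),
        ← hu, ← hw, smul_smul, smul_smul]
      have : (↑u⁻¹ * ↑w⁻¹ * ↑w * ↑u : Rₛ) = 1 := by
        rw [mul_assoc (↑u⁻¹ : Rₛ), Units.inv_mul, mul_one, Units.inv_mul]
      rw [this, one_smul]
    rw [h4]
    exact Submodule.smul_mem _ _ h1
  exact ⟨Module.Basis.mk hli' hsp⟩

end Groth.Agent.Lib.Lead.GenFree
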