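import Mathlib

/-!
# The topology generated by two precoverages `P`, `P'` (covering sieves contain composite families)
-/

set_option autoImplicit false
open CategoryTheory Limits
universe w v₁ u₁

namespace Groth.Agent.Lib.Lead.GenTop

variable {C : Type u₁} [Category.{v₁} C]

/-- transport of a presieve along an equality of objects -/
def castPresieve {A B : C} (e : A = B) (R : Presieve A) : Presieve B := e ▸ R

theorem castPresieve_mem (P' : Precoverage C) {A B : C} (e : A = B) {R : Presieve A}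
    (h : R ∈ P' A) : castPresieve e R ∈ P' B := by
  subst e; exact h

theorem castPresieve_apply {A B : C} (e : A = B) (R : Presieve A) {W : C} (w : W ⟶ B) :
    castPresieve e R w ↔ R (w ≫ eqToHom e.symm) := by
  subst e; simp [castPresieve]

structure Hyp (C' : C → Prop) (P P' : Precoverage C) : Prop where
  hP'C : ∀ ⦃X : C⦄ ⦃R : Presieve X⦄, R ∈ P' X → C' X ∧ ∀ ⦃Y : C⦄ ⦃f : Y ⟶ X⦄, R f → C' Y
  hP'id : ∀ ⦃X : C⦄, C' X → Presieve.singleton (𝟙 X) ∈ P' X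
  ha : ∀ ⦃X : C⦄ ⦃R : Presieve X⦄, R ∈ P' X → ∀ ⦃T : C⦄ (g : T ⟶ X), C' T →
      ∃ _ : R.HasPullbacks g, Presieve.pullbackArrows g R ∈ P' T
  hb : ∀ X : C, ∃ R ∈ P X, ∀ ⦃Y : C⦄ ⦃f : Y ⟶ X⦄, R f → C' Y
  hc : ∀ ⦃S : C⦄ ⦃R₁ : Presieve S⦄, R₁ ∈ P' S →
      ∀ (R₂ : ∀ ⦃Y : C⦄ ⦃f : Y ⟶ S⦄, R₁ f → Presieve Y),
        (∀ ⦃Y : C⦄ ⦃f : Y ⟶ S⦄ (hf : R₁ f), R₂ hf ∈ P Y ∧ ∀ ⦃Z : C⦄ ⦃g : Z ⟶ Y⦄, R₂ hf g → C' Z) →
      ∀ (R₃ : ∀ ⦃Y : C⦄ ⦃f : Y ⟶ S⦄ (hf : R₁ f) ⦃Z : C⦄ ⦃g : Z ⟶ Y⦄, R₂ hf g → Presieve Z),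
        (∀ ⦃Y : C⦄ ⦃f : Y ⟶ S⦄ (hf : R₁ f) ⦃Z : C⦄ ⦃g : Z ⟶ Y⦄ (hg : R₂ hf g), R₃ hf hg ∈ P' Z) →
      ∃ T ∈ P' S, ∀ ⦃W : C⦄ ⦃q : W ⟶ S⦄, T q →
        ∃ (Y Z V : C) (f : Y ⟶ S) (hf : R₁ f) (g : Z ⟶ Y) (hg : R₂ hf g) (h : V ⟶ Z) (_ : R₃ hf hg h)
          (r : W ⟶ V), r ≫ h ≫ g ≫ f = q

variable (C' : C → Prop) (P P' : Precoverage C)

/-- sieves containing a composite `P`-then-`P'` family (half-indexed form) -/
def K (X : C) (S' : Sieve X) : Prop :=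
  ∃ (ι : Type (max u₁ v₁)) (Y : ι → C) (f : ∀ i, Y i ⟶ X),
    Presieve.ofArrows Y f ∈ P X ∧ (∀ i, C' (Y i)) ∧
    ∃ (R' : ∀ i, Presieve (Y i)), (∀ i, R' i ∈ P' (Y i)) ∧
      ∀ i ⦃Z : C⦄ ⦃g : Z ⟶ Y i⦄, R' i g → S' (g ≫ f i)

variable {C' P P'}

theorem exists_cover (H : Hyp C' P P') (X : C) :
    ∃ (ι : Type (max u₁ v₁)) (Y : ι → C) (f : ∀ i, Y i ⟶ X),
      Presieve.ofArrows Y f ∈ P X ∧ ∀ i, C' (Y i) := by
  obtain ⟨R, hR, hC⟩ := H.hb X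
  obtain ⟨ι, Y, f, rfl⟩ := R.exists_eq_ofArrows
  exact ⟨ι, Y, f, hR, fun i => hC (Presieve.ofArrows.mk i)⟩

theorem K_top (H : Hyp C' P P') (X : C) : K C' P P' X ⊤ := by
  obtain ⟨ι, Y, f, hf, hC⟩ := exists_cover H X
  exact ⟨ι, Y, f, hf, hC, fun i => Presieve.singleton (𝟙 (Y i)), fun i => H.hP'id (hC i),
    fun i Z g _ => trivial⟩

theorem K_of_P' (H : Hyp C' P P') {X : C} {S : Presieve X} (hS : S ∈ P' X) :
    K C' P P' X (Sieve.generate S) := by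
  obtain ⟨ι, Y, f, hf, hC⟩ := exists_cover H X
  have := fun i => H.ha hS (f i) (hC i)
  choose hpb hmem using this
  refine ⟨ι, Y, f, hf, hC, fun i => @Presieve.pullbackArrows _ _ _ _ (f i) S (hpb i), hmem, ?_⟩
  intro i Z g hg
  haveI := hpb i
  obtain ⟨Z', h, hh⟩ := hg
  haveI : HasPullback h (f i) := Presieve.hasPullback (f i) hh
  exact ⟨_, pullback.fst h (f i), h, hh, pullback.condition⟩

theorem K_of_P [P.IsStableUnderComposition] (H : Hyp C' P P') {X : C} {S : Presieve X}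
    (hS : S ∈ P X) : K C' P P' X (Sieve.generate S) := by
  obtain ⟨ι, Y, f, rfl⟩ := S.exists_eq_ofArrows
  have := fun i => exists_cover H (Y i)
  choose τ T t ht hCT using this
  refine ⟨Σ i, τ i, fun p => T p.1 p.2, fun p => t p.1 p.2 ≫ f p.1,
    Precoverage.comp_mem_coverings f hS t ht, fun p => hCT p.1 p.2,
    fun p => Presieve.singleton (𝟙 _), fun p => H.hP'id (hCT p.1 p.2), ?_⟩
  rintro p Z g ⟨⟩
  exact ⟨_, 𝟙 _ ≫ t p.1 p.2, f p.1, Presieve.ofArrows.mk p.1, by simp⟩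

theorem K_pullback [P.HasPullbacks] [P.IsStableUnderBaseChange] [P.IsStableUnderComposition]
    (H : Hyp C' P P') {X : C} {S : Sieve X} (hK : K C' P P' X S) {X' : C} (h : X' ⟶ X) :
    K C' P P' X' (S.pullback h) := by
  obtain ⟨ι, Y, f, hf, hC, R', hR', hS⟩ := hK
  have hpbs : (Presieve.ofArrows Y f).HasPullbacks h := P.hasPullbacks_of_mem h hf
  have hpb : ∀ i, HasPullback (f i) h := fun i => Presieve.hasPullback h (Presieve.ofArrows.mk i)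
  have hQ : Presieve.ofArrows (fun i => pullback (f i) h) (fun i => pullback.snd (f i) h) ∈ P X' :=
    Precoverage.mem_coverings_of_isPullback f hf h _ (fun i => pullback.fst (f i) h)
      (fun i => (IsPullback.of_hasPullback (f i) h).flip)
  have := fun i => exists_cover H (pullback (f i) h)
  choose τ T t ht hCT using this
  have := fun (p : Σ i, τ i) => H.ha (hR' p.1) (t p.1 p.2 ≫ pullback.fst (f p.1) h) (hCT p.1 p.2)
  choose hpb' hmem using this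
  refine ⟨Σ i, τ i, fun p => T p.1 p.2, fun p => t p.1 p.2 ≫ pullback.snd (f p.1) h,
    Precoverage.comp_mem_coverings _ hQ t ht, fun p => hCT p.1 p.2,
    fun p => @Presieve.pullbackArrows _ _ _ _ (t p.1 p.2 ≫ pullback.fst (f p.1) h) (R' p.1) (hpb' p),
    hmem, ?_⟩
  intro p Z g hg
  haveI := hpb' p
  obtain ⟨Z', z, hz⟩ := hg
  haveI : HasPullback z (t p.1 p.2 ≫ pullback.fst (f p.1) h) := Presieve.hasPullback _ hz
  show S ((pullback.snd z (t p.1 p.2 ≫ pullback.fst (f p.1) h) ≫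
    t p.1 p.2 ≫ pullback.snd (f p.1) h) ≫ h)
  have e : (pullback.snd z (t p.1 p.2 ≫ pullback.fst (f p.1) h) ≫
      t p.1 p.2 ≫ pullback.snd (f p.1) h) ≫ h =
      pullback.fst z (t p.1 p.2 ≫ pullback.fst (f p.1) h) ≫ z ≫ f p.1 := by
    rw [← Category.assoc (pullback.fst z _), pullback.condition]
    simp only [Category.assoc, pullback.condition]
  rw [e]
  exact S.downward_closed (hS p.1 hz) _

theorem K_transitive (H : Hyp C' P P') {X : C} {S T : Sieve X} (hK : K C' P P' X S)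
    (hT : ∀ ⦃Y : C⦄ ⦃f : Y ⟶ X⦄, S f → K C' P P' Y (T.pullback f)) : K C' P P' X T := by
  obtain ⟨ι, Y, f, hf, hC, R', hR', hS⟩ := hK
  have key := fun (i : ι) (Z : C) (g : Z ⟶ Y i) (hg : R' i g) => hT (hS i hg)
  choose ι₂ Y₂ f₂ hf₂ hC₂ R₂' hR₂' hT₂ using key
  have := fun i => H.hc (hR' i)
    (fun Z g hg => Presieve.ofArrows (Y₂ i Z g hg) (f₂ i Z g hg))
    (fun Z g hg => ⟨hf₂ i Z g hg, by rintro W w ⟨k⟩; exact hC₂ i Z g hg k⟩)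
    (fun Z g hg W w hw => castPresieve hw.obj_idx (R₂' i Z g hg hw.idx))
    (fun Z g hg W w hw => castPresieve_mem P' _ (hR₂' i Z g hg hw.idx))
  choose T₀ hT₀ hq using this
  refine ⟨ι, Y, f, hf, hC, T₀, hT₀, ?_⟩
  intro i W q hq'
  obtain ⟨Y₁, Z₁, V, f₁, hf₁, g₁, hg₁, h₁, hh₁, r, rfl⟩ := hq i hq'
  rw [castPresieve_apply] at hh₁
  have h1 := hT₂ i Y₁ f₁ hf₁ hg₁.idx hh₁
  have e : (h₁ ≫ eqToHom hg₁.obj_idx.symm) ≫ f₂ i Y₁ f₁ hf₁ hg₁.idx = h₁ ≫ g₁ := by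
    rw [Category.assoc, ← hg₁.eq_eqToHom_comp_hom_idx]
  rw [e] at h1
  have h2 := T.downward_closed h1 r
  simpa only [Category.assoc] using h2

theorem K_of_mem [P.HasPullbacks] [P.IsStableUnderBaseChange] [P.IsStableUnderComposition]
    (H : Hyp C' P P') {X : C} {S' : Sieve X} (h : S' ∈ (P ⊔ P').toGrothendieck X) :
    K C' P P' X S' := by
  induction h with
  | of X S hS =>
    rcases (hS : S ∈ P X ∨ S ∈ P' X) with hS | hS
    · exact K_of_P H hS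
    · exact K_of_P' H hS
  | top X => exact K_top H X
  | pullback X S _ Y f ih => exact K_pullback H ih f
  | transitive X S T _ _ ih₁ ih₂ => exact K_transitive H ih₁ ih₂

theorem stmt_of_K {X : C} {S' : Sieve X} (h : K C' P P' X S') :
    ∃ (R : Presieve X) (_ : R ∈ P X) (_ : ∀ ⦃Y : C⦄ ⦃f : Y ⟶ X⦄, R f → C' Y)
      (R' : ∀ ⦃Y : C⦄ ⦃f : Y ⟶ X⦄, R f → Presieve Y),
      (∀ ⦃Y : C⦄ ⦃f : Y ⟶ X⦄ (hf : R f), R' hf ∈ P' Y) ∧
      ∀ ⦃Y : C⦄ ⦃f : Y ⟶ X⦄ (hf : R f) ⦃Z : C⦄ ⦃g : Z ⟶ Y⦄, R' hf g → S' (g ≫ f) := by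
  obtain ⟨ι, Y, f, hf, hC, R', hR', hS⟩ := h
  refine ⟨Presieve.ofArrows Y f, hf, ?_,
    fun Y' f' hf' => castPresieve hf'.obj_idx (R' hf'.idx), ?_, ?_⟩
  · rintro Y' f' ⟨i⟩
    exact hC i
  · intro Y' f' hf'
    exact castPresieve_mem P' _ (hR' _)
  · intro Y' f' hf' Z g hg
    rw [castPresieve_apply] at hg
    have := hS hf'.idx hg
    rwa [Category.assoc, ← hf'.eq_eqToHom_comp_hom_idx] at this

theorem mem_of_stmt {X : C} {S' : Sieve X}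
    (h : ∃ (R : Presieve X) (_ : R ∈ P X) (_ : ∀ ⦃Y : C⦄ ⦃f : Y ⟶ X⦄, R f → C' Y)
      (R' : ∀ ⦃Y : C⦄ ⦃f : Y ⟶ X⦄, R f → Presieve Y),
      (∀ ⦃Y : C⦄ ⦃f : Y ⟶ X⦄ (hf : R f), R' hf ∈ P' Y) ∧
      ∀ ⦃Y : C⦄ ⦃f : Y ⟶ X⦄ (hf : R f) ⦃Z : C⦄ ⦃g : Z ⟶ Y⦄, R' hf g → S' (g ≫ f)) :
    S' ∈ (P ⊔ P').toGrothendieck X := by
  obtain ⟨R, hR, -, R', hR', hS⟩ := h
  have h1 : Sieve.generate R ∈ (P ⊔ P').toGrothendieck X :=
    Precoverage.generate_mem_toGrothendieck (Or.inl hR)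
  refine GrothendieckTopology.transitive _ h1 S' ?_
  rintro Y f ⟨Y₁, a, r, hr, rfl⟩
  rw [Sieve.pullback_comp]
  apply GrothendieckTopology.pullback_stable
  have h2 : Sieve.generate (R' hr) ∈ (P ⊔ P').toGrothendieck Y₁ :=
    Precoverage.generate_mem_toGrothendieck (Or.inr (hR' hr))
  refine GrothendieckTopology.superset_covering _ ?_ h2
  rw [Sieve.generate_le_iff]
  intro Z g hg
  exact hS hr hg

end Groth.Agent.Lib.Lead.GenTop
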