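import Groth.Agent.Lib.Lead.GenTop

/-! Sheaves for the topology generated by `P ⊔ P'` (under the refinement conditions). -/

set_option autoImplicit false
open CategoryTheory Limits Opposite
universe w v₁ u₁

namespace Groth.Agent.Lib.Lead.GenTop

variable {C : Type u₁} [Category.{v₁} C] {C' : C → Prop} {P P' : Precoverage C}

section Data

variable {X : C} {ι : Type (max u₁ v₁)} {Yy : ι → C} (f : ∀ i, Yy i ⟶ X) (R' : ∀ i, Presieve (Yy i))

/-- the sieve generated by the composite family -/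
def compSieve : Sieve X where
  arrows W h := ∃ (i : ι) (Z : C) (g : Z ⟶ Yy i) (_ : R' i g) (c : W ⟶ Z), c ≫ g ≫ f i = h
  downward_closed := by
    rintro W W' h ⟨i, Z, g, hg, c, rfl⟩ k
    exact ⟨i, Z, g, hg, k ≫ c, by simp⟩

theorem compSieve_mem (hf : Presieve.ofArrows Yy f ∈ P X) (hR' : ∀ i, R' i ∈ P' (Yy i)) :
    compSieve f R' ∈ (P ⊔ P').toGrothendieck X := by
  have h1 : Sieve.generate (Presieve.ofArrows Yy f) ∈ (P ⊔ P').toGrothendieck X :=
    Precoverage.generate_mem_toGrothendieck (Or.inl hf)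
  refine GrothendieckTopology.transitive _ h1 _ ?_
  rintro W u ⟨Y₁, a, r, ⟨i⟩, rfl⟩
  have h2 : Sieve.generate (R' i) ∈ (P ⊔ P').toGrothendieck (Yy i) :=
    Precoverage.generate_mem_toGrothendieck (Or.inr (hR' i))
  refine GrothendieckTopology.superset_covering _ ?_
    (GrothendieckTopology.pullback_stable _ a h2)
  rintro W' w ⟨Z, c, g, hg, hc⟩
  exact ⟨i, Z, g, hg, c, by rw [← Category.assoc, hc, Category.assoc]⟩

end Data

variable (F : Cᵒᵖ ⥤ Type w)

theorem isSeparatedFor_of_K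
    (hPs : ∀ ⦃X : C⦄ ⦃R : Presieve X⦄, R ∈ P X → Presieve.IsSheafFor F R)
    (hP's : ∀ ⦃X : C⦄ ⦃R : Presieve X⦄, R ∈ P' X → Presieve.IsSheafFor F R)
    {X : C} {S' : Sieve X} (hK : K C' P P' X S') : Presieve.IsSeparatedFor F S'.arrows := by
  obtain ⟨ι, Y, f, hf, hC, R', hR', hS⟩ := hK
  intro x t₁ t₂ h₁ h₂
  refine (hPs hf).isSeparatedFor.ext ?_
  rintro _ _ ⟨i⟩
  refine (hP's (hR' i)).isSeparatedFor.ext ?_
  intro Z g hg
  rw [← FunctorToTypes.map_comp_apply, ← FunctorToTypes.map_comp_apply, ← op_comp,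
    h₁ _ (hS i hg), h₂ _ (hS i hg)]

theorem isSheafFor_of_K
    (hPs : ∀ ⦃X : C⦄ ⦃R : Presieve X⦄, R ∈ P X → Presieve.IsSheafFor F R)
    (hP's : ∀ ⦃X : C⦄ ⦃R : Presieve X⦄, R ∈ P' X → Presieve.IsSheafFor F R)
    (hsep : ∀ ⦃W : C⦄ (V : Sieve W), V ∈ (P ⊔ P').toGrothendieck W →
      Presieve.IsSeparatedFor F V.arrows)
    {X : C} {S' : Sieve X} (hK : K C' P P' X S') : Presieve.IsSheafFor F S'.arrows := by
  obtain ⟨ι, Y, f, hf, hC, R', hR', hS⟩ := hK
  have hcomp : compSieve f R' ∈ (P ⊔ P').toGrothendieck X := compSieve_mem f R' hf hR'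
  have hS'mem : S' ∈ (P ⊔ P').toGrothendieck X := by
    refine GrothendieckTopology.superset_covering _ ?_ hcomp
    rintro W h ⟨i, Z, g, hg, c, rfl⟩
    exact S'.downward_closed (hS i hg) c
  rw [← Presieve.isSeparatedFor_and_exists_isAmalgamation_iff_isSheafFor]
  refine ⟨hsep S' hS'mem, ?_⟩
  intro x hx
  have hxi : ∀ i, Presieve.FamilyOfElements.Compatible (P := F) (R := R' i)
      (fun Z g (hg : R' i g) => x (g ≫ f i) (hS i hg)) := by
    intro i Z₁ Z₂ W g₁ g₂ k₁ k₂ h₁ h₂ hcomm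
    exact hx g₁ g₂ (hS i h₁) (hS i h₂) (by rw [← Category.assoc, hcomm, Category.assoc])
  have hy : ∀ i, ∃ y : F.obj (op (Y i)), ∀ ⦃Z : C⦄ ⦃g : Z ⟶ Y i⦄ (hg : R' i g),
      F.map g.op y = x (g ≫ f i) (hS i hg) := fun i =>
    ⟨(hP's (hR' i)).amalgamate _ (hxi i), fun Z g hg => (hP's (hR' i)).isAmalgamation (hxi i) g hg⟩
  choose y hy using hy
  have hgen : ∀ i, Sieve.generate (R' i) ∈ (P ⊔ P').toGrothendieck (Y i) := fun i =>
    Precoverage.generate_mem_toGrothendieck (Or.inr (hR' i))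
  have hcompat : Presieve.Arrows.Compatible F f y := by
    intro i j W a b hab
    have hV : (Sieve.generate (R' i)).pullback a ⊓ (Sieve.generate (R' j)).pullback b ∈
        (P ⊔ P').toGrothendieck W :=
      GrothendieckTopology.intersection_covering _
        (GrothendieckTopology.pullback_stable _ a (hgen i))
        (GrothendieckTopology.pullback_stable _ b (hgen j))
    refine (hsep _ hV).ext ?_
    rintro W' w ⟨⟨Z, c, g, hg, hc⟩, ⟨Z', c', g', hg', hc'⟩⟩
    have e1 : F.map w.op (F.map a.op (y i)) = F.map c.op (x (g ≫ f i) (hS i hg)) := by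
      rw [← hy i hg, ← FunctorToTypes.map_comp_apply, ← FunctorToTypes.map_comp_apply,
        ← op_comp, ← op_comp, hc]
    have e2 : F.map w.op (F.map b.op (y j)) = F.map c'.op (x (g' ≫ f j) (hS j hg')) := by
      rw [← hy j hg', ← FunctorToTypes.map_comp_apply, ← FunctorToTypes.map_comp_apply,
        ← op_comp, ← op_comp, hc']
    rw [e1, e2]
    exact hx c c' (hS i hg) (hS j hg') (by
      rw [← Category.assoc, hc, ← Category.assoc c', hc', Category.assoc, Category.assoc, hab])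
  obtain ⟨t, ht, -⟩ := (Presieve.isSheafFor_arrows_iff F f).1 (hPs hf) y hcompat
  refine ⟨t, ?_⟩
  intro W a ha
  refine (hsep _ (GrothendieckTopology.pullback_stable _ a hcomp)).ext ?_
  rintro W' w ⟨i, Z, g, hg, c, hc⟩
  have e1 : F.map w.op (F.map a.op t) = F.map c.op (x (g ≫ f i) (hS i hg)) := by
    rw [← hy i hg, ← ht i, ← FunctorToTypes.map_comp_apply, ← FunctorToTypes.map_comp_apply,
      ← FunctorToTypes.map_comp_apply, ← op_comp, ← op_comp, ← op_comp, Category.assoc, hc]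
  rw [e1]
  exact hx c w (hS i hg) ha hc

theorem isSheaf_iff [P.HasPullbacks] [P.IsStableUnderBaseChange] [P.IsStableUnderComposition]
    (H : Hyp C' P P') :
    Presieve.IsSheaf (P ⊔ P').toGrothendieck F ↔
      (∀ ⦃X : C⦄ ⦃R : Presieve X⦄, R ∈ P X → Presieve.IsSheafFor F R) ∧
      (∀ ⦃X : C⦄ ⦃R : Presieve X⦄, R ∈ P' X → Presieve.IsSheafFor F R) := by
  constructor
  · intro hF
    exact ⟨fun X R hR => hF.isSheafFor R (Precoverage.generate_mem_toGrothendieck (Or.inl hR)),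
      fun X R hR => hF.isSheafFor R (Precoverage.generate_mem_toGrothendieck (Or.inr hR))⟩
  · rintro ⟨hPs, hP's⟩
    have hsep : ∀ ⦃W : C⦄ (V : Sieve W), V ∈ (P ⊔ P').toGrothendieck W →
        Presieve.IsSeparatedFor F V.arrows := fun W V hV =>
      isSeparatedFor_of_K F hPs hP's (K_of_mem H hV)
    intro X S' hS'
    exact isSheafFor_of_K F hPs hP's hsep (K_of_mem H hS')

end Groth.Agent.Lib.Lead.GenTop
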