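import Mathlib
import Groth.Agent.Lib.Lead.ToposFinSubcan2
import Groth.Prelude.Def_SGA4a

/-!
# Closed complement of an open of a sheaf topos, as sheaves for a finer topology
-/

set_option autoImplicit false
open CategoryTheory CategoryTheory.Limits Opposite
universe u

namespace Groth.Agent.Lib.Lead.Glue
open _root_.ToposFin Groth.Agent.Lib.Lead.ToposFin

variable {C : Type u} [SmallCategory C] {J : GrothendieckTopology C} (U : Sheaf J (Type u))

theorem hom_subsingleton (hU : SGA4.IsOpen U) {T : Sheaf J (Type u)} (a b : T ⟶ U) : a = b := by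
  haveI : Mono (terminal.from U) := hU
  rw [← cancel_mono (terminal.from U)]
  exact Subsingleton.elim _ _

theorem sec_subsingleton (hU : SGA4.IsOpen U) (V : C) : Subsingleton (U.obj.obj (op V)) := by
  constructor
  intro s t
  have h := hom_subsingleton U hU (secMap (J := J) s) (secMap t)
  have h1 := secMap_unitSec (J := J) s (𝟙 V)
  have h2 := secMap_unitSec (J := J) t (𝟙 V)
  rw [h] at h1
  have h3 := h1.symm.trans h2
  simpa using h3

/-- the sieve of arrows whose source carries a section of `U` -/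
def nSieve (V : C) : Sieve V where
  arrows W _ := Nonempty (U.obj.obj (op W))
  downward_closed := fun ⟨s⟩ g => ⟨U.obj.map g.op s⟩

theorem nSieve_pullback {V V' : C} (f : V' ⟶ V) : (nSieve U V).pullback f = nSieve U V' := by
  ext W g
  rfl

theorem pullback_sup {V V' : C} (f : V' ⟶ V) (S R : Sieve V) :
    (S ⊔ R).pullback f = S.pullback f ⊔ R.pullback f := by
  ext W g
  rfl

/-- the topology whose sheaves are the sheaves in the closed complement of `U` -/
def closedTop : GrothendieckTopology C where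
  sieves V := {S | S ⊔ nSieve U V ∈ J V}
  top_mem' V := by
    show (⊤ : Sieve V) ⊔ nSieve U V ∈ J V
    rw [top_sup_eq]
    exact J.top_mem V
  pullback_stable' V V' S f hS := by
    show S.pullback f ⊔ nSieve U V' ∈ J V'
    rw [← nSieve_pullback U f, ← pullback_sup]
    exact J.pullback_stable f hS
  transitive' V S hS R hR := by
    show R ⊔ nSieve U V ∈ J V
    refine J.transitive hS _ ?_
    rintro W g (hg | hg)
    · rw [pullback_sup, nSieve_pullback]
      exact hR hg
    · have : (R ⊔ nSieve U V).pullback g = ⊤ :=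
        Sieve.pullback_eq_top_of_mem _ (Or.inr hg)
      rw [this]
      exact J.top_mem W

theorem mem_closedTop_iff {V : C} (S : Sieve V) :
    S ∈ closedTop U V ↔ S ⊔ nSieve U V ∈ J V := Iff.rfl

theorem le_closedTop : J ≤ closedTop U := by
  intro V S hS
  exact J.superset_covering le_sup_left hS

theorem bot_mem_closedTop {V : C} (h : Nonempty (U.obj.obj (op V))) : (⊥ : Sieve V) ∈ closedTop U V := by
  rw [mem_closedTop_iff, bot_sup_eq]
  have : nSieve U V = ⊤ := by
    rw [← Sieve.id_mem_iff_eq_top]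
    exact h
  rw [this]
  exact J.top_mem V

theorem unique_of_isSheafFor_bot (P : Cᵒᵖ ⥤ Type u) {V : C}
    (h : Presieve.IsSheafFor P ((⊥ : Sieve V) : Presieve V)) : Nonempty (Unique (P.obj (op V))) := by
  let x : Presieve.FamilyOfElements P ((⊥ : Sieve V) : Presieve V) := fun W f hf => False.elim hf
  have hx : x.Compatible := by
    intro Y₁ Y₂ Z g₁ g₂ f₁ f₂ h₁ h₂ _
    exact False.elim h₁
  obtain ⟨t, _, ht⟩ := h x hx
  refine ⟨⟨⟨t⟩, fun y => ht y ?_⟩⟩
  intro W f hf
  exact False.elim hf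

theorem isSheafFor_of_unique (P : Cᵒᵖ ⥤ Type u) {V : C} (S : Sieve V)
    (hP : ∀ (W : C) (_ : W ⟶ V), Nonempty (Unique (P.obj (op W)))) :
    Presieve.IsSheafFor P (S : Presieve V) := by
  intro x _
  obtain ⟨uV⟩ := hP V (𝟙 V)
  refine ⟨uV.default, ?_, fun y _ => uV.uniq y⟩
  intro W f _
  obtain ⟨uW⟩ := hP W f
  exact (uW.uniq _).trans (uW.uniq _).symm

theorem isSheaf_closedTop_of (P : Cᵒᵖ ⥤ Type u) (h1 : Presieve.IsSheaf J P)
    (h2 : ∀ V, Nonempty (U.obj.obj (op V)) → Nonempty (Unique (P.obj (op V)))) :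
    Presieve.IsSheaf (closedTop U) P := by
  intro V S hS
  refine Presieve.isSheafFor_trans P (S ⊔ nSieve U V) S (h1 _ hS) ?_ ?_
  · intro W f hf
    have : (S ⊔ nSieve U V).pullback f = ⊤ := Sieve.pullback_eq_top_of_mem _ (Or.inl hf)
    rw [this]
    exact (Presieve.isSheafFor_top_sieve P).isSeparatedFor
  · rintro W f (hf | hf)
    · rw [Sieve.pullback_eq_top_of_mem _ hf]
      exact Presieve.isSheafFor_top_sieve P
    · apply isSheafFor_of_unique
      intro W' g
      exact h2 W' ⟨U.obj.map g.op hf.some⟩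

theorem isSheaf_closedTop_iff (P : Cᵒᵖ ⥤ Type u) :
    Presheaf.IsSheaf (closedTop U) P ↔ Presheaf.IsSheaf J P ∧
      ∀ V, Nonempty (U.obj.obj (op V)) → Nonempty (Unique (P.obj (op V))) := by
  rw [isSheaf_iff_isSheaf_of_type, isSheaf_iff_isSheaf_of_type]
  constructor
  · intro h
    refine ⟨Presieve.isSheaf_of_le P (le_closedTop U) h, fun V hV => ?_⟩
    exact unique_of_isSheafFor_bot P (h _ (bot_mem_closedTop U hV))
  · rintro ⟨h1, h2⟩
    exact isSheaf_closedTop_of U P h1 h2

theorem closedCompl_iff_hom (X : Sheaf J (Type u)) :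
    SGA4.closedCompl U X ↔ ∀ T : Sheaf J (Type u), (T ⟶ U) → Nonempty (Unique (T ⟶ X)) := by
  constructor
  · intro h T t
    haveI : IsIso (prod.fst : U ⨯ X ⟶ U) := h
    refine ⟨⟨⟨t ≫ inv (prod.fst : U ⨯ X ⟶ U) ≫ prod.snd⟩, fun a => ?_⟩⟩
    have h1 : prod.lift t a = t ≫ inv (prod.fst : U ⨯ X ⟶ U) := by
      rw [← cancel_mono (prod.fst : U ⨯ X ⟶ U), Category.assoc, IsIso.inv_hom_id, Category.comp_id]
      exact prod.lift_fst _ _
    have h2 := congrArg (fun m => m ≫ (prod.snd : U ⨯ X ⟶ X)) h1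
    refine ((prod.lift_snd t a).symm.trans h2).trans ?_
    exact Category.assoc _ _ _
  · intro h
    obtain ⟨uU⟩ := h U (𝟙 U)
    obtain ⟨uP⟩ := h (U ⨯ X) prod.fst
    refine ⟨prod.lift (𝟙 U) uU.default, ?_, prod.lift_fst _ _⟩
    apply Limits.prod.hom_ext
    · rw [Category.assoc, prod.lift_fst, Category.comp_id, Category.id_comp]
    · exact (uP.uniq _).trans (uP.uniq _).symm

theorem closedCompl_iff (X : Sheaf J (Type u)) :
    SGA4.closedCompl U X ↔
      ∀ V, Nonempty (U.obj.obj (op V)) → Nonempty (Unique (X.obj.obj (op V))) := by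
  rw [closedCompl_iff_hom]
  constructor
  · rintro h V ⟨s⟩
    obtain ⟨uu⟩ := h (eps J V) (secMap s)
    refine ⟨⟨⟨uu.default.hom.app (op V) (unitSec J (𝟙 V))⟩, fun x => ?_⟩⟩
    have h1 := uu.uniq (secMap x)
    have h2 := congrArg (fun m => m.hom.app (op V) (unitSec J (𝟙 V))) h1
    have h3 := secMap_unitSec (J := J) x (𝟙 V)
    have h4 := h3.symm.trans h2
    simpa using h4
  · intro h T t
    have hsub : ∀ (V : Cᵒᵖ), T.obj.obj V → Nonempty (Unique (X.obj.obj V)) := fun V x =>
      h V.unop ⟨t.hom.app V x⟩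
    refine ⟨⟨⟨⟨{ app := fun V => TypeCat.ofHom (fun x => (hsub V x).some.default)
                 naturality := ?_ }⟩⟩, fun a => ?_⟩⟩
    · intro V W g
      apply ConcreteCategory.hom_ext
      intro x
      have := (hsub W (T.obj.map g x)).some
      exact (this.uniq _).trans (this.uniq _).symm
    · ext V x
      have := (hsub V x).some
      exact (this.uniq _).trans (this.uniq _).symm

end Groth.Agent.Lib.Lead.Glue
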