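import Mathlib
import Groth.Agent.Lib.Lead.Glue1

/-!
# The reflection onto the closed complement of an open of a sheaf topos
-/

set_option autoImplicit false
open CategoryTheory CategoryTheory.Limits Opposite
universe u

namespace Groth.Agent.Lib.Lead.Glue
open _root_.ToposFin Groth.Agent.Lib.Lead.ToposFin

variable {C : Type u} [SmallCategory C] {J : GrothendieckTopology C} (U : Sheaf J (Type u))

/-- the closed complement, viewed inside sheaves for `closedTop U` -/
def toClosedSheaf : (SGA4.closedCompl U).FullSubcategory ⥤ Sheaf (closedTop U) (Type u) where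
  obj Y := ⟨Y.obj.obj, (isSheaf_closedTop_iff U _).2
    ⟨Y.obj.property, (closedCompl_iff U _).1 Y.property⟩⟩
  map f := ObjectProperty.homMk f.hom.hom

def toClosedSheafFF : (toClosedSheaf U).FullyFaithful where
  preimage f := ObjectProperty.homMk (ObjectProperty.homMk f.hom)

instance : (toClosedSheaf U).Full := (toClosedSheafFF U).full
instance : (toClosedSheaf U).Faithful := (toClosedSheafFF U).faithful

/-- the reflection onto the closed complement -/
noncomputable def Lfun : Sheaf J (Type u) ⥤ (SGA4.closedCompl U).FullSubcategory where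
  obj X := ⟨⟨((presheafToSheaf (closedTop U) (Type u)).obj X.obj).obj,
      ((isSheaf_closedTop_iff U _).1 (Sheaf.cond _)).1⟩,
    (closedCompl_iff U _).2 ((isSheaf_closedTop_iff U _).1 (Sheaf.cond _)).2⟩
  map f := ObjectProperty.homMk (ObjectProperty.homMk
    ((presheafToSheaf (closedTop U) (Type u)).map f.hom).hom)
  map_id X := by
    apply ObjectProperty.hom_ext
    apply ObjectProperty.hom_ext
    show ((presheafToSheaf (closedTop U) (Type u)).map (𝟙 X.obj)).hom = _
    rw [CategoryTheory.Functor.map_id]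
    rfl
  map_comp f g := by
    apply ObjectProperty.hom_ext
    apply ObjectProperty.hom_ext
    show ((presheafToSheaf (closedTop U) (Type u)).map (f.hom ≫ g.hom)).hom = _
    rw [CategoryTheory.Functor.map_comp]
    rfl

noncomputable def Ladj : Lfun U ⊣ (SGA4.closedCompl U).ι :=
  (sheafificationAdjunction (closedTop U) (Type u)).restrictFullyFaithful
    (fullyFaithfulSheafToPresheaf J _) (toClosedSheafFF U) (Iso.refl _) (Iso.refl _)

instance : PreservesFiniteLimits (Lfun U) := by
  haveI : PreservesFiniteLimits (Lfun U ⋙ toClosedSheaf U) :=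
    (inferInstance : PreservesFiniteLimits
      (sheafToPresheaf J (Type u) ⋙ presheafToSheaf (closedTop U) (Type u)))
  exact ⟨fun K _ _ => preservesLimitsOfShape_of_reflects_of_preserves (Lfun U) (toClosedSheaf U)⟩

section pushout

variable (hU : SGA4.IsOpen U) (X : Sheaf J (Type u))

/-- a section of `U ⨯ X` with given components -/
theorem exists_prod_section {V : C} (s : U.obj.obj (op V)) (x : X.obj.obj (op V)) :
    ∃ w : (U ⨯ X).obj.obj (op V), (prod.fst : U ⨯ X ⟶ U).hom.app (op V) w = s ∧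
      (prod.snd : U ⨯ X ⟶ X).hom.app (op V) w = x := by
  refine ⟨(prod.lift (secMap (J := J) s) (secMap x)).hom.app (op V) (unitSec J (𝟙 V)), ?_, ?_⟩
  · have h1 := congrArg (fun m => m.hom.app (op V) (unitSec J (𝟙 V)))
      (prod.lift_fst (secMap (J := J) s) (secMap x))
    have h2 := secMap_unitSec (J := J) s (𝟙 V)
    refine Eq.trans h1 (h2.trans ?_)
    simp
  · have h1 := congrArg (fun m => m.hom.app (op V) (unitSec J (𝟙 V)))
      (prod.lift_snd (secMap (J := J) s) (secMap x))
    have h2 := secMap_unitSec (J := J) x (𝟙 V)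
    refine Eq.trans h1 (h2.trans ?_)
    simp

include hU in
theorem pushout_mem_closedCompl :
    SGA4.closedCompl U (pushout (prod.fst : U ⨯ X ⟶ U) (prod.snd : U ⨯ X ⟶ X)) := by
  rw [closedCompl_iff]
  rintro V ⟨s⟩
  refine ⟨⟨⟨(pushout.inl (prod.fst : U ⨯ X ⟶ U) (prod.snd : U ⨯ X ⟶ X)).hom.app (op V) s⟩,
    fun z => ?_⟩⟩
  let F : Bool → Sh J := fun b => cond b U X
  let π : ∀ b, F b ⟶ pushout (prod.fst : U ⨯ X ⟶ U) (prod.snd : U ⨯ X ⟶ X) := fun b =>
    Bool.rec (motive := fun b => F b ⟶ pushout (prod.fst : U ⨯ X ⟶ U) (prod.snd : U ⨯ X ⟶ X))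
      (pushout.inr _ _) (pushout.inl _ _) b
  have hJE : JE π := JE.of_hom_ext (fun Z' a b hab => pushout.hom_ext (hab true) (hab false))
  refine section_ext_of_covering _ (hJE V z) ?_
  rintro W g ⟨b, y, hy⟩
  have n1 := NatTrans.naturality_apply
    (pushout.inl (prod.fst : U ⨯ X ⟶ U) (prod.snd : U ⨯ X ⟶ X)).hom g.op s
  refine hy.symm.trans (Eq.trans ?_ n1)
  haveI := sec_subsingleton U hU W
  cases b with
  | true =>
    exact congrArg (fun t => (pushout.inl (prod.fst : U ⨯ X ⟶ U)
      (prod.snd : U ⨯ X ⟶ X)).hom.app (op W) t) (Subsingleton.elim _ _)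
  | false =>
    obtain ⟨w, hw1, hw2⟩ := exists_prod_section U X (U.obj.map g.op s) y
    have hc := congrArg (fun m => m.hom.app (op W) w)
      (pushout.condition (f := (prod.fst : U ⨯ X ⟶ U)) (g := (prod.snd : U ⨯ X ⟶ X)))
    have e1 : (pushout.inr (prod.fst : U ⨯ X ⟶ U) (prod.snd : U ⨯ X ⟶ X)).hom.app (op W) y =
        (pushout.inr (prod.fst : U ⨯ X ⟶ U) (prod.snd : U ⨯ X ⟶ X)).hom.app (op W)
          ((prod.snd : U ⨯ X ⟶ X).hom.app (op W) w) := by rw [hw2]
    have e2 : (pushout.inl (prod.fst : U ⨯ X ⟶ U) (prod.snd : U ⨯ X ⟶ X)).hom.app (op W)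
          ((prod.fst : U ⨯ X ⟶ U).hom.app (op W) w) =
        (pushout.inl (prod.fst : U ⨯ X ⟶ U) (prod.snd : U ⨯ X ⟶ X)).hom.app (op W)
          (U.obj.map g.op s) := by rw [hw1]
    exact e1.trans (hc.symm.trans e2)

/-- the pushout, as an object of the closed complement -/
noncomputable def pushoutObj : (SGA4.closedCompl U).FullSubcategory :=
  ⟨pushout (prod.fst : U ⨯ X ⟶ U) (prod.snd : U ⨯ X ⟶ X), pushout_mem_closedCompl U hU X⟩

include hU in
theorem nonempty_iso_pushout :
    Nonempty (((SGA4.closedCompl U).ι).obj ((Lfun U).obj X) ≅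
      pushout (prod.fst : U ⨯ X ⟶ U) (prod.snd : U ⨯ X ⟶ X)) := by
  have hL := ((closedCompl_iff_hom U _).1 ((Lfun U).obj X).property)
  have hZ := ((closedCompl_iff_hom U _).1 (pushout_mem_closedCompl U hU X))
  obtain ⟨uU⟩ := hL U (𝟙 U)
  obtain ⟨uP⟩ := hL (U ⨯ X) prod.fst
  obtain ⟨uZ⟩ := hZ U (𝟙 U)
  let f : (Lfun U).obj X ⟶ pushoutObj U hU X :=
    ((Ladj U).homEquiv X (pushoutObj U hU X)).symm (pushout.inr _ _)
  let g : pushout (prod.fst : U ⨯ X ⟶ U) (prod.snd : U ⨯ X ⟶ X) ⟶ ((Lfun U).obj X).obj :=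
    pushout.desc uU.default ((Ladj U).unit.app X) ((uP.uniq _).trans (uP.uniq _).symm)
  have hf : (Ladj U).unit.app X ≫ f.hom = pushout.inr _ _ := by
    have := (Ladj U).homEquiv_unit (X := X) (Y := pushoutObj U hU X) (f := f)
    rw [Equiv.apply_symm_apply] at this
    exact this.symm
  refine ⟨⟨f.hom, g, ?_, ?_⟩⟩
  · have : f ≫ ObjectProperty.homMk g = 𝟙 _ := by
      apply ((Ladj U).homEquiv _ _).injective
      rw [(Ladj U).homEquiv_unit, (Ladj U).homEquiv_unit]
      show (Ladj U).unit.app X ≫ (f.hom ≫ g) = (Ladj U).unit.app X ≫ 𝟙 _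
      exact ((Category.assoc _ _ _).symm.trans ((congrArg (fun m => m ≫ g) hf).trans
        (pushout.inr_desc _ _ _))).trans (Category.comp_id _).symm
    exact congrArg (fun m => m.hom) this
  · apply pushout.hom_ext
    · exact (uZ.uniq _).trans (uZ.uniq _).symm
    · exact ((Category.assoc _ _ _).symm.trans ((congrArg (fun m => m ≫ f.hom)
        (pushout.inr_desc _ _ _)).trans hf)).trans (Category.comp_id _).symm

end pushout

end Groth.Agent.Lib.Lead.Glue
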