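import Mathlib
import Groth.Agent.Lib.Lead.Glue2

/-!
# Joint conservativity of the open and closed restrictions
-/

set_option autoImplicit false
open CategoryTheory CategoryTheory.Limits Opposite
universe u

namespace Groth.Agent.Lib.Lead.Glue
open _root_.ToposFin Groth.Agent.Lib.Lead.ToposFin

variable {C : Type u} [SmallCategory C] {J : GrothendieckTopology C} (U : Sheaf J (Type u))

/-- if `j^* m` is an isomorphism, then `m` induces bijections on `T`-points for `T` over `U` -/
theorem bijective_comp_of_isIso_star {X Y : Sheaf J (Type u)} (m : X ⟶ Y)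
    (h : IsIso ((Over.star U).map m)) {T : Sheaf J (Type u)} (t : T ⟶ U) :
    Function.Bijective (fun a : T ⟶ X => a ≫ m) := by
  let adj := Over.forgetAdjStar U
  have key : ∀ a : T ⟶ X, a ≫ m = (adj.homEquiv (Over.mk t) Y).symm
      ((adj.homEquiv (Over.mk t) X) a ≫ (Over.star U).map m) := by
    intro a
    exact ((Equiv.symm_apply_eq _).2
      (adj.homEquiv_naturality_right (X := Over.mk t) (f := a) (g := m)).symm).symm
  have : (fun a : T ⟶ X => a ≫ m) = (adj.homEquiv (Over.mk t) Y).symm ∘
      (fun b => b ≫ (Over.star U).map m) ∘ (adj.homEquiv (Over.mk t) X) := funext key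
  rw [this]
  refine (Equiv.bijective _).comp (Function.Bijective.comp ?_ (Equiv.bijective _))
  constructor
  · intro b b' hb
    exact (cancel_mono _).1 hb
  · intro c
    exact ⟨c ≫ inv ((Over.star U).map m), by simp⟩

theorem secMap_comp_apply {X Y : Sheaf J (Type u)} (m : X ⟶ Y) {W : C} (x : X.obj.obj (op W)) :
    secMap (J := J) x ≫ m = secMap (m.hom.app (op W) x) := by
  apply eps_hom_ext
  have h1 := secMap_unitSec (J := J) x (𝟙 W)
  have h2 := secMap_unitSec (J := J) (m.hom.app (op W) x) (𝟙 W)
  refine Eq.trans (congrArg (fun z => m.hom.app (op W) z) h1) (Eq.trans ?_ h2.symm)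
  simp

theorem secMap_injective {X : Sheaf J (Type u)} {W : C} {x x' : X.obj.obj (op W)}
    (h : secMap (J := J) x = secMap x') : x = x' := by
  have h1 := secMap_unitSec (J := J) x (𝟙 W)
  have h2 := secMap_unitSec (J := J) x' (𝟙 W)
  rw [h] at h1
  have h3 := h1.symm.trans h2
  simpa using h3

theorem secMap_surjective {X : Sheaf J (Type u)} {W : C} (a : eps J W ⟶ X) :
    ∃ x : X.obj.obj (op W), secMap x = a := by
  refine ⟨a.hom.app (op W) (unitSec J (𝟙 W)), ?_⟩
  apply eps_hom_ext
  have h1 := secMap_unitSec (J := J) (a.hom.app (op W) (unitSec J (𝟙 W))) (𝟙 W)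
  refine h1.trans ?_
  simp

theorem bijective_app_of_isIso_star {X Y : Sheaf J (Type u)} (m : X ⟶ Y)
    (h : IsIso ((Over.star U).map m)) {W : C} (s : U.obj.obj (op W)) :
    Function.Bijective (m.hom.app (op W)) := by
  have hb := bijective_comp_of_isIso_star U m h (secMap (J := J) s)
  constructor
  · intro x x' hx
    apply secMap_injective
    apply hb.1
    show secMap x ≫ m = secMap x' ≫ m
    rw [secMap_comp_apply, secMap_comp_apply]
    exact congrArg _ hx
  · intro y
    obtain ⟨a, ha⟩ := hb.2 (secMap y)
    obtain ⟨x, rfl⟩ := secMap_surjective a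
    refine ⟨x, ?_⟩
    have ha' : secMap x ≫ m = secMap y := ha
    rw [secMap_comp_apply] at ha'
    exact secMap_injective ha'

/-- if the closed reflection of `m` is an isomorphism, then `m` is locally bijective for `closedTop U` -/
theorem W_of_isIso_Lfun {X Y : Sheaf J (Type u)} (m : X ⟶ Y) (h : IsIso ((Lfun U).map m)) :
    (closedTop U).W m.hom := by
  rw [GrothendieckTopology.W_iff]
  have : IsIso ((Lfun U).map m).hom := inferInstance
  have : IsIso ((Lfun U).map m).hom.hom := inferInstance
  have : IsIso ((presheafToSheaf (closedTop U) (Type u)).map m.hom).hom := this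
  exact (ObjectProperty.isIso_hom_iff _).1 this

theorem isIso_of_star_of_Lfun {X Y : Sheaf J (Type u)} (m : X ⟶ Y)
    (h1 : IsIso ((Over.star U).map m)) (h2 : IsIso ((Lfun U).map m)) : IsIso m := by
  have hW := W_of_isIso_Lfun U m h2
  have hinj := hW.isLocallyInjective
  have hsurj := hW.isLocallySurjective
  have hI : ∀ V : C, Function.Injective (m.hom.app (op V)) := by
    intro V x x' hx
    have hE := Presheaf.equalizerSieve_mem (closedTop U) m.hom (X := op V) x x' hx
    rw [mem_closedTop_iff] at hE
    refine section_ext_of_covering X hE ?_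
    rintro W g (hg | ⟨⟨s⟩⟩)
    · exact hg
    · apply (bijective_app_of_isIso_star U m h1 s).1
      have n1 := NatTrans.naturality_apply m.hom g.op x
      have n2 := NatTrans.naturality_apply m.hom g.op x'
      exact n1.trans ((congrArg _ hx).trans n2.symm)
  have : Epi m := by
    rw [← Sheaf.isLocallySurjective_iff_epi]
    refine ⟨fun {V} y => ?_⟩
    have hS := Presheaf.imageSieve_mem (closedTop U) m.hom (U := op V) y
    rw [mem_closedTop_iff] at hS
    refine J.superset_covering ?_ hS
    rintro W g (hg | ⟨⟨s⟩⟩)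
    · exact hg
    · obtain ⟨x, hx⟩ := (bijective_app_of_isIso_star U m h1 s).2 (Y.obj.map g.op y)
      exact ⟨x, hx⟩
  exact isIso_of_injective_of_epi m hI

/-- joint conservativity for an arbitrary left adjoint of the inclusion of the closed complement -/
theorem isIso_iff_of_adj (L : Sheaf J (Type u) ⥤ (SGA4.closedCompl U).FullSubcategory)
    (adj : L ⊣ (SGA4.closedCompl U).ι) {X Y : Sheaf J (Type u)} (m : X ⟶ Y) :
    IsIso m ↔ IsIso ((Over.star U).map m) ∧ IsIso (L.map m) := by
  constructor
  · intro h
    exact ⟨inferInstance, inferInstance⟩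
  · rintro ⟨h1, h2⟩
    let e : L ≅ Lfun U := adj.leftAdjointUniq (Ladj U)
    have h3 : IsIso ((Lfun U).map m) := by
      have : (Lfun U).map m = e.inv.app X ≫ L.map m ≫ e.hom.app Y :=
        (NatIso.naturality_1 e m).symm
      rw [this]
      infer_instance
    exact isIso_of_star_of_Lfun U m h1 h3

end Groth.Agent.Lib.Lead.Glue
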