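import Mathlib

/-!
# Abstract Artin gluing: recovering a category from an "open" and a "closed" localization
-/

set_option autoImplicit false
open CategoryTheory CategoryTheory.Limits
universe v₁ v₂ v₃ u₁ u₂ u₃

namespace Groth.Agent.Lib.Lead.GlueAbs

variable {E : Type u₁} [Category.{v₁} E] {A : Type u₂} [Category.{v₂} A]
  {F : Type u₃} [Category.{v₃} F]

theorem isIso_map_unit {L : E ⥤ F} {ι : F ⥤ E} (adj : L ⊣ ι) [IsIso adj.counit] (X : E) :
    IsIso (L.map (adj.unit.app X)) := by
  have h := adj.left_triangle_components X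
  have : L.map (adj.unit.app X) = inv (adj.counit.app (L.obj X)) := by
    rw [← cancel_mono (adj.counit.app (L.obj X)), h, IsIso.inv_hom_id]
    rfl
  rw [this]
  infer_instance

theorem isIso_map_equalizer_ι {C : Type*} [Category C] {D : Type*} [Category D] (G : C ⥤ D)
    {X Y : C} (f g : X ⟶ Y) [HasEqualizer f g] [PreservesLimit (parallelPair f g) G]
    (h : G.map f = G.map g) : IsIso (G.map (equalizer.ι f g)) := by
  have hl := isLimitForkMapOfIsLimit G (equalizer.condition f g) (equalizerIsEqualizer f g)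
  exact isIso_limit_cone_parallelPair_of_eq h hl

variable {jS : E ⥤ A} {jR : A ⥤ E} (adjJ : jS ⊣ jR) {L : E ⥤ F} {ι : F ⥤ E} (adjL : L ⊣ ι)

/-- the comparison functor to the glued category -/
@[simps]
def Φ (L : E ⥤ F) : E ⥤ Comma (𝟭 F) (jR ⋙ L) where
  obj X := { left := L.obj X, right := jS.obj X, hom := L.map (adjJ.unit.app X) }
  map {X Y} f :=
    { left := L.map f
      right := jS.map f
      w := by
        dsimp
        rw [← L.map_comp, ← L.map_comp]
        congr 1
        exact adjJ.unit.naturality f }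
  map_id X := by
    apply CommaMorphism.ext
    · exact L.map_id X
    · exact jS.map_id X
  map_comp f g := by
    apply CommaMorphism.ext
    · exact L.map_comp f g
    · exact jS.map_comp f g

section

variable [HasPullbacks E] [HasEqualizers E] [PreservesLimitsOfShape WalkingCospan jS]
  [PreservesLimitsOfShape WalkingCospan L] [PreservesLimitsOfShape WalkingParallelPair jS]
  [PreservesLimitsOfShape WalkingParallelPair L]
  [IsIso adjJ.counit] [IsIso adjL.counit]
  (hterm : ∀ Y : F, IsTerminal (jS.obj (ι.obj Y)))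
  (hcons : ∀ {X Y : E} (m : X ⟶ Y), IsIso (jS.map m) → IsIso (L.map m) → IsIso m)

include adjL hterm hcons in
theorem isPullback_units (X : E) :
    IsPullback (adjL.unit.app X) (adjJ.unit.app X) (ι.map (L.map (adjJ.unit.app X)))
      (adjL.unit.app (jR.obj (jS.obj X))) := by
  have comm : adjL.unit.app X ≫ ι.map (L.map (adjJ.unit.app X)) =
      adjJ.unit.app X ≫ adjL.unit.app (jR.obj (jS.obj X)) :=
    (adjL.unit.naturality (adjJ.unit.app X)).symm
  have hP := IsPullback.of_hasPullback (ι.map (L.map (adjJ.unit.app X)))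
    (adjL.unit.app (jR.obj (jS.obj X)))
  let c := hP.lift _ _ comm
  have hc1 : c ≫ pullback.fst _ _ = adjL.unit.app X := hP.lift_fst _ _ comm
  have hc2 : c ≫ pullback.snd _ _ = adjJ.unit.app X := hP.lift_snd _ _ comm
  have i1 : IsIso (jS.map c) := by
    have : IsIso (jS.map (ι.map (L.map (adjJ.unit.app X)))) :=
      isIso_of_isTerminal (hterm _) (hterm _) _
    have h2 : IsIso (jS.map (pullback.snd (ι.map (L.map (adjJ.unit.app X)))
      (adjL.unit.app (jR.obj (jS.obj X))))) := (hP.map jS).isIso_snd_of_isIso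
    have h3 : IsIso (jS.map c ≫ jS.map (pullback.snd (ι.map (L.map (adjJ.unit.app X)))
      (adjL.unit.app (jR.obj (jS.obj X))))) := by
      rw [← jS.map_comp, hc2]
      exact isIso_map_unit adjJ X
    exact IsIso.of_isIso_comp_right _ (jS.map (pullback.snd (ι.map (L.map (adjJ.unit.app X)))
      (adjL.unit.app (jR.obj (jS.obj X)))))
  have i2 : IsIso (L.map c) := by
    have : IsIso (L.map (adjL.unit.app (jR.obj (jS.obj X)))) := isIso_map_unit adjL _
    have h2 : IsIso (L.map (pullback.fst (ι.map (L.map (adjJ.unit.app X)))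
      (adjL.unit.app (jR.obj (jS.obj X))))) := (hP.map L).isIso_fst_of_isIso
    have h3 : IsIso (L.map c ≫ L.map (pullback.fst (ι.map (L.map (adjJ.unit.app X)))
      (adjL.unit.app (jR.obj (jS.obj X))))) := by
      rw [← L.map_comp, hc1]
      exact isIso_map_unit adjL X
    exact IsIso.of_isIso_comp_right _ (L.map (pullback.fst (ι.map (L.map (adjJ.unit.app X)))
      (adjL.unit.app (jR.obj (jS.obj X)))))
  have : IsIso c := hcons c i1 i2
  exact IsPullback.of_iso_pullback ⟨comm⟩ (asIso c) hc1 hc2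

include hcons in
theorem Φ_faithful : (Φ adjJ L).Faithful := by
  refine ⟨fun {X Y} f g h => ?_⟩
  have hL : L.map f = L.map g := congrArg CommaMorphism.left h
  have hJ : jS.map f = jS.map g := congrArg CommaMorphism.right h
  have : IsIso (equalizer.ι f g) :=
    hcons _ (isIso_map_equalizer_ι jS f g hJ) (isIso_map_equalizer_ι L f g hL)
  exact eq_of_epi_equalizer

include adjL hterm hcons in
theorem Φ_full : (Φ adjJ L).Full := by
  refine ⟨fun {X₁ X₂} φ => ?_⟩
  obtain ⟨φl, hφl⟩ : ∃ φl : L.obj X₁ ⟶ L.obj X₂, φl = φ.left := ⟨_, rfl⟩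
  obtain ⟨φr, hφr⟩ : ∃ φr : jS.obj X₁ ⟶ jS.obj X₂, φr = φ.right := ⟨_, rfl⟩
  have hw : φl ≫ L.map (adjJ.unit.app X₂) =
      L.map (adjJ.unit.app X₁) ≫ L.map (jR.map φr) := by
    rw [hφl, hφr]
    exact φ.w
  have hpb := isPullback_units adjJ adjL hterm hcons X₂
  have hab : (adjL.unit.app X₁ ≫ ι.map φl) ≫ ι.map (L.map (adjJ.unit.app X₂)) =
      (adjJ.unit.app X₁ ≫ jR.map φr) ≫ adjL.unit.app (jR.obj (jS.obj X₂)) := by
    rw [Category.assoc, ← ι.map_comp, hw, ← L.map_comp]
    exact (adjL.unit.naturality (adjJ.unit.app X₁ ≫ jR.map φr)).symm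
  obtain ⟨f, hf1, hf2⟩ : ∃ f : X₁ ⟶ X₂, f ≫ adjL.unit.app X₂ = adjL.unit.app X₁ ≫ ι.map φl ∧
      f ≫ adjJ.unit.app X₂ = adjJ.unit.app X₁ ≫ jR.map φr :=
    ⟨hpb.lift _ _ hab, hpb.lift_fst _ _ hab, hpb.lift_snd _ _ hab⟩
  refine ⟨f, ?_⟩
  apply CommaMorphism.ext
  · show L.map f = φ.left
    rw [← hφl]
    apply (adjL.homEquiv _ _).injective
    refine (adjL.homEquiv_unit _ _ _).trans (Eq.trans ?_ (adjL.homEquiv_unit _ _ _).symm)
    exact (adjL.unit.naturality f).symm.trans hf1
  · show jS.map f = φ.right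
    rw [← hφr]
    apply (adjJ.homEquiv _ _).injective
    refine (adjJ.homEquiv_unit _ _ _).trans (Eq.trans ?_ (adjJ.homEquiv_unit _ _ _).symm)
    exact (adjJ.unit.naturality f).symm.trans hf2

include adjL hterm in
theorem Φ_essSurj : (Φ adjJ L).EssSurj := by
  refine ⟨fun T => ?_⟩
  obtain ⟨Z, p₁, p₂, hP⟩ : ∃ (Z : E) (p₁ : Z ⟶ ι.obj T.left) (p₂ : Z ⟶ jR.obj T.right),
      IsPullback p₁ p₂ (ι.map T.hom) (adjL.unit.app (jR.obj T.right)) :=
    ⟨_, _, _, IsPullback.of_hasPullback _ _⟩
  have hcond : p₁ ≫ ι.map T.hom = p₂ ≫ adjL.unit.app (jR.obj T.right) := hP.w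
  have i1 : IsIso (L.map p₁) := by
    have : IsIso (L.map (adjL.unit.app (jR.obj T.right))) := isIso_map_unit adjL _
    exact (hP.map L).isIso_fst_of_isIso
  have i2 : IsIso (jS.map p₂) := by
    have : IsIso (jS.map (ι.map T.hom)) := isIso_of_isTerminal (hterm _) (hterm _) _
    exact (hP.map jS).isIso_snd_of_isIso
  let l : L.obj Z ≅ T.left := asIso (L.map p₁) ≪≫ asIso (adjL.counit.app T.left)
  let r : jS.obj Z ≅ T.right := asIso (jS.map p₂) ≪≫ asIso (adjJ.counit.app T.right)
  refine ⟨Z, ⟨Comma.isoMk l r ?_⟩⟩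
  show (L.map p₁ ≫ adjL.counit.app T.left) ≫ T.hom =
    L.map (adjJ.unit.app Z) ≫ L.map (jR.map (jS.map p₂ ≫ adjJ.counit.app T.right))
  have e1 : adjJ.unit.app Z ≫ jR.map (jS.map p₂ ≫ adjJ.counit.app T.right) = p₂ := by
    have n := adjJ.unit.naturality p₂
    have t := adjJ.right_triangle_components T.right
    calc adjJ.unit.app Z ≫ jR.map (jS.map p₂ ≫ adjJ.counit.app T.right)
        = (adjJ.unit.app Z ≫ jR.map (jS.map p₂)) ≫ jR.map (adjJ.counit.app T.right) := by
          rw [jR.map_comp, Category.assoc]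
      _ = (p₂ ≫ adjJ.unit.app (jR.obj T.right)) ≫ jR.map (adjJ.counit.app T.right) :=
          congrArg (fun m => m ≫ jR.map (adjJ.counit.app T.right)) n.symm
      _ = p₂ ≫ 𝟙 _ := by rw [Category.assoc, t]
      _ = p₂ := Category.comp_id _
  have e2 : adjL.counit.app T.left ≫ T.hom =
      L.map (ι.map T.hom) ≫ adjL.counit.app (L.obj (jR.obj T.right)) :=
    (adjL.counit.naturality T.hom).symm
  have t2 := adjL.left_triangle_components (jR.obj T.right)
  calc (L.map p₁ ≫ adjL.counit.app T.left) ≫ T.hom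
      = L.map p₁ ≫ L.map (ι.map T.hom) ≫ adjL.counit.app (L.obj (jR.obj T.right)) := by
        rw [Category.assoc, e2]
    _ = L.map (p₂ ≫ adjL.unit.app (jR.obj T.right)) ≫
          adjL.counit.app (L.obj (jR.obj T.right)) := by
        rw [← Category.assoc, ← L.map_comp, hcond]
    _ = L.map p₂ ≫ 𝟙 _ := by
        rw [L.map_comp, Category.assoc, t2]
    _ = L.map p₂ := Category.comp_id _
    _ = L.map (adjJ.unit.app Z) ≫ L.map (jR.map (jS.map p₂ ≫ adjJ.counit.app T.right)) := by
        rw [← L.map_comp, e1]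

include adjL hterm hcons in
theorem Φ_isEquivalence : (Φ adjJ L).IsEquivalence := by
  have := Φ_faithful adjJ (L := L) hcons
  have := Φ_full adjJ adjL hterm hcons
  have := Φ_essSurj adjJ adjL hterm
  exact { }

end

end Groth.Agent.Lib.Lead.GlueAbs
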