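import Mathlib
import Groth.Agent.Lib.Lead.Glue3
import Groth.Agent.Lib.Lead.Glue4

/-!
# Gluing a sheaf topos from an open subtopos and its closed complement
-/

set_option autoImplicit false
open CategoryTheory CategoryTheory.Limits Opposite
universe u

namespace Groth.Agent.Lib.Lead.Glue
open _root_.ToposFin Groth.Agent.Lib.Lead.ToposFin

variable {C : Type u} [SmallCategory C] {J : GrothendieckTopology C} (U : Sheaf J (Type u))

/-- `j^*` of an object of the closed complement is terminal -/
noncomputable def isTerminalStar (Y : (SGA4.closedCompl U).FullSubcategory) :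
    IsTerminal ((Over.star U).obj ((SGA4.closedCompl U).ι.obj Y)) := by
  have hY := (closedCompl_iff_hom U _).1 Y.property
  refine IsTerminal.ofUniqueHom
    (fun W => (Over.forgetAdjStar U).homEquiv W Y.obj (hY W.left W.hom).some.default)
    (fun W m => ?_)
  apply ((Over.forgetAdjStar U).homEquiv W Y.obj).symm.injective
  exact ((hY W.left W.hom).some.uniq _).trans ((hY W.left W.hom).some.uniq _).symm

theorem full_forget (hU : SGA4.IsOpen U) : (Over.forget U).Full :=
  ⟨fun {Y Z} f => ⟨Over.homMk f (hom_subsingleton U hU _ _), rfl⟩⟩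

theorem isIso_counit_star (hU : SGA4.IsOpen U) {R : Over U ⥤ Sheaf J (Type u)}
    (adjJ : Over.star U ⊣ R) : IsIso adjJ.counit := by
  haveI := full_forget U hU
  let t : Adjunction.Triple (Over.forget U) (Over.star U) R := ⟨Over.forgetAdjStar U, adjJ⟩
  exact t.isIso_unit_iff_isIso_counit.1 inferInstance

theorem preservesFiniteLimits_of_adj (L : Sheaf J (Type u) ⥤ (SGA4.closedCompl U).FullSubcategory)
    (adj : L ⊣ (SGA4.closedCompl U).ι) : PreservesFiniteLimits L :=
  preservesFiniteLimits_of_natIso ((Ladj U).leftAdjointUniq adj)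

theorem nonempty_gluing_equivalence (hU : SGA4.IsOpen U) [(Over.star U).IsLeftAdjoint]
    (L : Sheaf J (Type u) ⥤ (SGA4.closedCompl U).FullSubcategory)
    (adj : L ⊣ (SGA4.closedCompl U).ι) :
    Nonempty (Sheaf J (Type u) ≌
      Comma (𝟭 (SGA4.closedCompl U).FullSubcategory) ((Over.star U).rightAdjoint ⋙ L)) := by
  let adjJ := Adjunction.ofIsLeftAdjoint (Over.star U)
  haveI := preservesFiniteLimits_of_adj U L adj
  haveI := isIso_counit_star U hU adjJ
  haveI : PreservesLimitsOfSize.{0, 0} (Over.star U) :=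
    (Over.forgetAdjStar U).rightAdjoint_preservesLimits
  haveI := GlueAbs.Φ_isEquivalence adjJ adj (isTerminalStar U)
    (fun m h1 h2 => (isIso_iff_of_adj U L adj m).2 ⟨h1, h2⟩)
  exact ⟨(GlueAbs.Φ adjJ L).asEquivalence⟩

end Groth.Agent.Lib.Lead.Glue
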