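import Mathlib
import Groth.Agent.Lib.Lead.Glue5
import Groth.Agent.Lib.Lead.SheafExact

/-!
# Cartesian squares over the closed complement
-/

set_option autoImplicit false
open CategoryTheory CategoryTheory.Limits Opposite
universe u

namespace Groth.Agent.Lib.Lead.Glue
open _root_.ToposFin Groth.Agent.Lib.Lead.ToposFin

variable {C : Type u} [SmallCategory C] {J : GrothendieckTopology C} (U : Sheaf J (Type u))

theorem isIso_of_bijective_of_Lfun {X Y : Sheaf J (Type u)} (m : X ⟶ Y)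
    (h1 : ∀ (W : C), U.obj.obj (op W) → Function.Bijective (m.hom.app (op W)))
    (h2 : IsIso ((Lfun U).map m)) : IsIso m := by
  have hW := W_of_isIso_Lfun U m h2
  have hinj := hW.isLocallyInjective
  have hsurj := hW.isLocallySurjective
  have hI : ∀ V : C, Function.Injective (m.hom.app (op V)) := by
    intro V x x' hx
    have hE := Presheaf.equalizerSieve_mem (closedTop U) m.hom (X := op V) x x' hx
    rw [mem_closedTop_iff] at hE
    refine section_ext_of_covering X hE ?_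
    rintro W g (hg | ⟨⟨s⟩⟩)
    · exact hg
    · apply (h1 W s).1
      have n1 := NatTrans.naturality_apply m.hom g.op x
      have n2 := NatTrans.naturality_apply m.hom g.op x'
      exact n1.trans ((congrArg _ hx).trans n2.symm)
  have : Epi m := by
    rw [← Sheaf.isLocallySurjective_iff_epi]
    refine ⟨fun {V} y => ?_⟩
    have hS := Presheaf.imageSieve_mem (closedTop U) m.hom (U := op V) y
    rw [mem_closedTop_iff] at hS
    refine J.superset_covering ?_ hS
    rintro W g (hg | ⟨⟨s⟩⟩)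
    · exact hg
    · obtain ⟨x, hx⟩ := (h1 W s).2 (Y.obj.map g.op y)
      exact ⟨x, hx⟩
  exact isIso_of_injective_of_epi m hI

theorem exists_iso_pushout (hU : SGA4.IsOpen U) (X : Sheaf J (Type u)) :
    ∃ e : ((SGA4.closedCompl U).ι).obj ((Lfun U).obj X) ≅
      pushout (prod.fst : U ⨯ X ⟶ U) (prod.snd : U ⨯ X ⟶ X),
      (Ladj U).unit.app X ≫ e.hom = pushout.inr _ _ := by
  have hL := ((closedCompl_iff_hom U _).1 ((Lfun U).obj X).property)
  have hZ := ((closedCompl_iff_hom U _).1 (pushout_mem_closedCompl U hU X))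
  obtain ⟨uU⟩ := hL U (𝟙 U)
  obtain ⟨uP⟩ := hL (U ⨯ X) prod.fst
  obtain ⟨uZ⟩ := hZ U (𝟙 U)
  let f : (Lfun U).obj X ⟶ pushoutObj U hU X :=
    ((Ladj U).homEquiv X (pushoutObj U hU X)).symm (pushout.inr _ _)
  let g : pushout (prod.fst : U ⨯ X ⟶ U) (prod.snd : U ⨯ X ⟶ X) ⟶ ((Lfun U).obj X).obj :=
    pushout.desc uU.default ((Ladj U).unit.app X) ((uP.uniq _).trans (uP.uniq _).symm)
  have hf : (Ladj U).unit.app X ≫ f.hom = pushout.inr _ _ := by
    have := (Ladj U).homEquiv_unit (X := X) (Y := pushoutObj U hU X) (f := f)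
    rw [Equiv.apply_symm_apply] at this
    exact this.symm
  refine ⟨⟨f.hom, g, ?_, ?_⟩, hf⟩
  · have : f ≫ ObjectProperty.homMk g = 𝟙 _ := by
      apply ((Ladj U).homEquiv _ _).injective
      rw [(Ladj U).homEquiv_unit, (Ladj U).homEquiv_unit]
      show (Ladj U).unit.app X ≫ (f.hom ≫ g) = (Ladj U).unit.app X ≫ 𝟙 _
      exact ((Category.assoc _ _ _).symm.trans ((congrArg (fun m => m ≫ g) hf).trans
        (pushout.inr_desc _ _ _))).trans (Category.comp_id _).symm
    exact congrArg (fun m => m.hom) this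
  · apply pushout.hom_ext
    · exact (uZ.uniq _).trans (uZ.uniq _).symm
    · exact ((Category.assoc _ _ _).symm.trans ((congrArg (fun m => m ≫ f.hom)
        (pushout.inr_desc _ _ _)).trans hf)).trans (Category.comp_id _).symm

theorem isIso_Lfun_map_inr (hU : SGA4.IsOpen U) (X : Sheaf J (Type u)) :
    IsIso ((Lfun U).map (pushout.inr (prod.fst : U ⨯ X ⟶ U) (prod.snd : U ⨯ X ⟶ X))) := by
  obtain ⟨e, he⟩ := exists_iso_pushout U hU X
  rw [← he, CategoryTheory.Functor.map_comp]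
  have : IsIso ((Lfun U).map ((Ladj U).unit.app X)) := GlueAbs.isIso_map_unit (Ladj U) X
  infer_instance

section

variable (hU : SGA4.IsOpen U) {X X' : Sheaf J (Type u)} (m : X ⟶ X')
    (k : pushout (prod.fst : U ⨯ X ⟶ U) (prod.snd : U ⨯ X ⟶ X) ⟶
      pushout (prod.fst : U ⨯ X' ⟶ U) (prod.snd : U ⨯ X' ⟶ X'))
    (hk₂ : pushout.inr (prod.fst : U ⨯ X ⟶ U) (prod.snd : U ⨯ X ⟶ X) ≫ k =
      m ≫ pushout.inr (prod.fst : U ⨯ X' ⟶ U) (prod.snd : U ⨯ X' ⟶ X'))

include hU hk₂ in
theorem isIso_prodMap_of_isPullback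
    (hpb : IsPullback m (pushout.inr (prod.fst : U ⨯ X ⟶ U) (prod.snd : U ⨯ X ⟶ X))
        (pushout.inr (prod.fst : U ⨯ X' ⟶ U) (prod.snd : U ⨯ X' ⟶ X')) k) :
    IsIso (prod.map (𝟙 U) m) := by
  have hZ := ((closedCompl_iff_hom U _).1 (pushout_mem_closedCompl U hU X))
  have hZ' := ((closedCompl_iff_hom U _).1 (pushout_mem_closedCompl U hU X'))
  have key : ∀ (T : Sheaf J (Type u)) (t : T ⟶ U) (x' : T ⟶ X'),
      ∃ x : T ⟶ X, x ≫ m = x' ∧ ∀ y : T ⟶ X, y ≫ m = x' → y = x := by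
    intro T t x'
    obtain ⟨uz⟩ := hZ T t
    obtain ⟨uz'⟩ := hZ' T t
    have cond : x' ≫ pushout.inr (prod.fst : U ⨯ X' ⟶ U) (prod.snd : U ⨯ X' ⟶ X') =
        uz.default ≫ k := (uz'.uniq _).trans (uz'.uniq _).symm
    refine ⟨hpb.lift x' uz.default cond, hpb.lift_fst _ _ _, fun y hy => ?_⟩
    apply hpb.hom_ext
    · rw [hy, hpb.lift_fst]
    · exact (uz.uniq _).trans (uz.uniq _).symm
  obtain ⟨x, hx, _⟩ := key (U ⨯ X') prod.fst prod.snd
  obtain ⟨w, _, hw⟩ := key (U ⨯ X) prod.fst (prod.snd ≫ m)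
  refine ⟨prod.lift prod.fst x, ?_, ?_⟩
  · apply Limits.prod.hom_ext
    · rw [Category.assoc, prod.lift_fst, prod.map_fst, Category.comp_id, Category.id_comp]
    · rw [Category.assoc, prod.lift_snd, Category.id_comp]
      refine (hw _ ?_).trans (hw _ rfl).symm
      rw [Category.assoc, hx, prod.map_snd]
  · apply Limits.prod.hom_ext
    · rw [Category.assoc, prod.map_fst, ← Category.assoc, prod.lift_fst, Category.comp_id,
        Category.id_comp]
    · rw [Category.assoc, prod.map_snd, ← Category.assoc, prod.lift_snd, hx, Category.id_comp]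

include hU hk₂ in
theorem isPullback_of_isIso_prodMap (h : IsIso (prod.map (𝟙 U) m)) :
    IsPullback m (pushout.inr (prod.fst : U ⨯ X ⟶ U) (prod.snd : U ⨯ X ⟶ X))
        (pushout.inr (prod.fst : U ⨯ X' ⟶ U) (prod.snd : U ⨯ X' ⟶ X')) k := by
  have hstar : IsIso ((Over.star U).map m) := by
    have e := Over.star_map_left U m
    have : IsIso ((Over.forget U).map ((Over.star U).map m)) := by
      show IsIso (CommaMorphism.left ((Over.star U).map m))
      rw [e]
      exact h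
    exact isIso_of_reflects_iso _ (Over.forget U)
  have hbij := fun (W : C) (s : U.obj.obj (op W)) => bijective_app_of_isIso_star U m hstar s
  have hZ := (closedCompl_iff U _).1 (pushout_mem_closedCompl U hU X)
  have hP := IsPullback.of_hasPullback
    (pushout.inr (prod.fst : U ⨯ X' ⟶ U) (prod.snd : U ⨯ X' ⟶ X')) k
  obtain ⟨c, hc1, hc2⟩ : ∃ c : X ⟶ pullback
      (pushout.inr (prod.fst : U ⨯ X' ⟶ U) (prod.snd : U ⨯ X' ⟶ X')) k,
      c ≫ pullback.fst _ _ = m ∧ c ≫ pullback.snd _ _ = pushout.inr _ _ :=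
    ⟨hP.lift _ _ hk₂.symm, hP.lift_fst _ _ _, hP.lift_snd _ _ _⟩
  have i1 : ∀ (W : C), U.obj.obj (op W) → Function.Bijective (c.hom.app (op W)) := by
    intro W s
    have e1 : ∀ x, (pullback.fst (pushout.inr (prod.fst : U ⨯ X' ⟶ U)
        (prod.snd : U ⨯ X' ⟶ X')) k).hom.app (op W) (c.hom.app (op W) x) = m.hom.app (op W) x :=
      fun x => congrArg (fun f => f.hom.app (op W) x) hc1
    obtain ⟨uz⟩ := hZ W ⟨s⟩
    constructor
    · intro x x' hx
      apply (hbij W s).1
      rw [← e1, ← e1, hx]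
    · intro p
      obtain ⟨x, hx⟩ := (hbij W s).2 ((pullback.fst (pushout.inr (prod.fst : U ⨯ X' ⟶ U)
        (prod.snd : U ⨯ X' ⟶ X')) k).hom.app (op W) p)
      refine ⟨x, ?_⟩
      apply SheafExact.section_ext_of_isPullback hP
      · exact (e1 x).trans hx
      · exact (uz.uniq _).trans (uz.uniq _).symm
  have i2 : IsIso ((Lfun U).map c) := by
    have : IsIso ((Lfun U).map (pushout.inr (prod.fst : U ⨯ X' ⟶ U) (prod.snd : U ⨯ X' ⟶ X'))) :=
      isIso_Lfun_map_inr U hU X'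
    have h2 : IsIso ((Lfun U).map (pullback.snd (pushout.inr (prod.fst : U ⨯ X' ⟶ U)
        (prod.snd : U ⨯ X' ⟶ X')) k)) := (hP.map (Lfun U)).isIso_snd_of_isIso
    have h3 : IsIso ((Lfun U).map c ≫ (Lfun U).map (pullback.snd (pushout.inr
        (prod.fst : U ⨯ X' ⟶ U) (prod.snd : U ⨯ X' ⟶ X')) k)) := by
      rw [← CategoryTheory.Functor.map_comp, hc2]
      exact isIso_Lfun_map_inr U hU X
    exact IsIso.of_isIso_comp_right _ ((Lfun U).map (pullback.snd (pushout.inr
        (prod.fst : U ⨯ X' ⟶ U) (prod.snd : U ⨯ X' ⟶ X')) k))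
  have : IsIso c := isIso_of_bijective_of_Lfun U c i1 i2
  exact IsPullback.of_iso_pullback ⟨hk₂.symm⟩ (asIso c) hc1 hc2

end

end Groth.Agent.Lib.Lead.Glue
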