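import Mathlib

/-!
# Quotients of group objects by subgroup objects in a "regular + effective" cartesian category

Abstract setting: a cartesian monoidal category `𝒯` with coequalizers and pullbacks, such that
epimorphisms are stable under pullback, are effective, and equivalence relations are the kernel
pairs of their coequalizers (`Reg 𝒯`).  For a monomorphism of group objects `u : H ⟶ G` we study
`G/H = coequalizer (fst G H) ((G ◁ u) ≫ μ)`.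
-/

set_option autoImplicit false
open CategoryTheory CategoryTheory.Limits MonoidalCategory CartesianMonoidalCategory MonObj
universe v u

namespace Groth.Agent.Lib.Lead.GrpQuot

variable {𝒯 : Type u} [Category.{v} 𝒯] [CartesianMonoidalCategory 𝒯]

theorem isPullback_whiskerLeft (X : 𝒯) {A B : 𝒯} (f : A ⟶ B) :
    IsPullback (X ◁ f) (snd X A) (snd X B) f where
  w := whiskerLeft_snd X f
  isLimit' := ⟨PullbackCone.IsLimit.mk _ (fun s => lift (s.fst ≫ fst X B) s.snd)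
    (fun s => by
      apply CartesianMonoidalCategory.hom_ext
      · simp
      · simp [s.condition])
    (fun s => by simp)
    (fun s m h₁ h₂ => by
      apply CartesianMonoidalCategory.hom_ext
      · simp [← h₁]
      · simp [← h₂])⟩

theorem isPullback_whiskerRight {A B : 𝒯} (f : A ⟶ B) (X : 𝒯) :
    IsPullback (f ▷ X) (fst A X) (fst B X) f where
  w := whiskerRight_fst f X
  isLimit' := ⟨PullbackCone.IsLimit.mk _ (fun s => lift s.snd (s.fst ≫ snd B X))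
    (fun s => by
      apply CartesianMonoidalCategory.hom_ext
      · simp [s.condition]
      · simp)
    (fun s => by simp)
    (fun s m h₁ h₂ => by
      apply CartesianMonoidalCategory.hom_ext
      · simp [← h₂]
      · simp [← h₁])⟩

theorem isKernelPair_of {X B R : 𝒯} (f : X ⟶ B) (p q : R ⟶ X) (w : p ≫ f = q ≫ f)
    (hmono : ∀ {Y : 𝒯} (a b : Y ⟶ R), a ≫ p = b ≫ p → a ≫ q = b ≫ q → a = b)
    (hex : ∀ {Y : 𝒯} (a b : Y ⟶ X), a ≫ f = b ≫ f → ∃ c : Y ⟶ R, c ≫ p = a ∧ c ≫ q = b) :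
    IsKernelPair f p q :=
  ⟨⟨w⟩, ⟨PullbackCone.IsLimit.mk _ (fun s => (hex s.fst s.snd s.condition).choose)
    (fun s => (hex s.fst s.snd s.condition).choose_spec.1)
    (fun s => (hex s.fst s.snd s.condition).choose_spec.2)
    (fun s m h₁ h₂ => hmono _ _ (h₁.trans (hex s.fst s.snd s.condition).choose_spec.1.symm)
      (h₂.trans (hex s.fst s.snd s.condition).choose_spec.2.symm))⟩⟩

/-- hypotheses of a "regular and effective" category -/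
structure Reg (𝒯 : Type u) [Category.{v} 𝒯] [HasCoequalizers 𝒯] : Prop where
  epi_pb : ∀ {P X Y Z : 𝒯} {p₁ : P ⟶ X} {p₂ : P ⟶ Y} {f : X ⟶ Z} {g : Y ⟶ Z},
    IsPullback p₁ p₂ f g → Epi g → Epi p₁
  eff : ∀ {X Y : 𝒯} (f : X ⟶ Y), Epi f → EffectiveEpi f
  kp : ∀ {R X : 𝒯} (p₁ p₂ : R ⟶ X), EquivalenceRelation p₁ p₂ →
    IsKernelPair (coequalizer.π p₁ p₂) p₁ p₂

section Defs

variable [HasCoequalizers 𝒯] {G H : 𝒯} [GrpObj G] (u : H ⟶ G)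

/-- the quotient object `G/H` -/
noncomputable abbrev quo : 𝒯 := coequalizer (fst G H) ((G ◁ u) ≫ μ)

/-- the quotient map -/
noncomputable abbrev quoπ : G ⟶ quo u := coequalizer.π (fst G H) ((G ◁ u) ≫ μ)

variable {u}

theorem comp_mul' {Y : 𝒯} (g : Y ⟶ G ⊗ G) : g ≫ μ = (g ≫ fst G G) * (g ≫ snd G G) := by
  rw [Hom.mul_def, lift_comp_fst_snd]

variable (u)

theorem lift_act {Y : 𝒯} (a : Y ⟶ G) (h : Y ⟶ H) : lift a h ≫ (G ◁ u) ≫ μ = a * (h ≫ u) := by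
  rw [Hom.mul_def, ← Category.assoc, lift_whiskerLeft]

theorem comp_act {Y : 𝒯} (f : Y ⟶ G ⊗ H) :
    f ≫ (G ◁ u) ≫ μ = (f ≫ fst G H) * (f ≫ snd G H ≫ u) := by
  conv_lhs => rw [← lift_comp_fst_snd f]
  rw [lift_act, Category.assoc]

theorem mul_π {Y : 𝒯} (a : Y ⟶ G) (h : Y ⟶ H) : (a * (h ≫ u)) ≫ quoπ u = a ≫ quoπ u := by
  rw [← lift_act, Category.assoc, Category.assoc]
  have := coequalizer.condition (fst G H) ((G ◁ u) ≫ μ)
  rw [Category.assoc] at this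
  rw [← this, lift_fst_assoc]

end Defs

section Regular

variable [HasCoequalizers 𝒯] [HasPullbacks 𝒯] (hR : Reg 𝒯)
include hR

theorem Reg.epi_whiskerLeft (X : 𝒯) {A B : 𝒯} (f : A ⟶ B) [Epi f] : Epi (X ◁ f) :=
  hR.epi_pb (isPullback_whiskerLeft X f) inferInstance

theorem Reg.epi_whiskerRight {A B : 𝒯} (f : A ⟶ B) [Epi f] (X : 𝒯) : Epi (f ▷ X) :=
  hR.epi_pb (isPullback_whiskerRight f X) inferInstance

theorem Reg.epi_tensorHom {A B A' B' : 𝒯} (f : A ⟶ B) (g : A' ⟶ B') [Epi f] [Epi g] :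
    Epi (f ⊗ₘ g) := by
  rw [MonoidalCategory.tensorHom_def]
  have := hR.epi_whiskerRight f A'
  have := hR.epi_whiskerLeft B g
  exact epi_comp _ _

theorem Reg.hom_ext₂ {X₁ B₁ X₂ B₂ W : 𝒯} (e₁ : X₁ ⟶ B₁) (e₂ : X₂ ⟶ B₂) [Epi e₁] [Epi e₂]
    (f g : B₁ ⊗ B₂ ⟶ W)
    (h : ∀ {Y : 𝒯} (a : Y ⟶ X₁) (b : Y ⟶ X₂),
      lift (a ≫ e₁) (b ≫ e₂) ≫ f = lift (a ≫ e₁) (b ≫ e₂) ≫ g) : f = g := by
  have := hR.epi_tensorHom e₁ e₂
  rw [← cancel_epi (e₁ ⊗ₘ e₂)]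
  have := h (fst _ _) (snd _ _)
  rwa [lift_fst_comp_snd_comp] at this

theorem Reg.hom_ext₃ {X₁ B₁ X₂ B₂ X₃ B₃ W : 𝒯} (e₁ : X₁ ⟶ B₁) (e₂ : X₂ ⟶ B₂) (e₃ : X₃ ⟶ B₃)
    [Epi e₁] [Epi e₂] [Epi e₃] (f g : (B₁ ⊗ B₂) ⊗ B₃ ⟶ W)
    (h : ∀ {Y : 𝒯} (a : Y ⟶ X₁) (b : Y ⟶ X₂) (c : Y ⟶ X₃),
      lift (lift (a ≫ e₁) (b ≫ e₂)) (c ≫ e₃) ≫ f = lift (lift (a ≫ e₁) (b ≫ e₂)) (c ≫ e₃) ≫ g) :
    f = g := by
  have := hR.epi_tensorHom e₁ e₂
  have := hR.epi_tensorHom (e₁ ⊗ₘ e₂) e₃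
  rw [← cancel_epi ((e₁ ⊗ₘ e₂) ⊗ₘ e₃)]
  have := h (fst _ _ ≫ fst _ _) (fst _ _ ≫ snd _ _) (snd (X₁ ⊗ X₂) X₃)
  have e : lift (lift ((fst (X₁ ⊗ X₂) X₃ ≫ fst _ _) ≫ e₁) ((fst (X₁ ⊗ X₂) X₃ ≫ snd _ _) ≫ e₂))
      (snd (X₁ ⊗ X₂) X₃ ≫ e₃) = (e₁ ⊗ₘ e₂) ⊗ₘ e₃ := by
    apply CartesianMonoidalCategory.hom_ext
    · apply CartesianMonoidalCategory.hom_ext <;> simp
    · simp
  rwa [e] at this

theorem Reg.exists_lift {X B Y : 𝒯} (π : X ⟶ B) [Epi π] (y : Y ⟶ B) :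
    ∃ (Y' : 𝒯) (e : Y' ⟶ Y) (_ : Epi e) (a : Y' ⟶ X), a ≫ π = e ≫ y :=
  ⟨pullback y π, pullback.fst y π, hR.epi_pb (IsPullback.of_hasPullback y π) inferInstance,
    pullback.snd y π, pullback.condition.symm⟩

theorem Reg.exists_desc {X B W : 𝒯} (f : X ⟶ B) [Epi f] (e : X ⟶ W)
    (h : ∀ {Z : 𝒯} (g₁ g₂ : Z ⟶ X), g₁ ≫ f = g₂ ≫ f → g₁ ≫ e = g₂ ≫ e) :
    ∃ d : B ⟶ W, f ≫ d = e := by
  have := hR.eff f inferInstance
  exact ⟨EffectiveEpi.desc f e h, EffectiveEpi.fac f e h⟩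

end Regular

section Quot

variable [HasCoequalizers 𝒯] [HasPullbacks 𝒯]
variable {G H : 𝒯} [GrpObj G] [GrpObj H] (u : H ⟶ G) [Mono u] [IsMonHom u]

/-- the equivalence relation `G × H ⇉ G` -/
noncomputable def equivRel : EquivalenceRelation (fst G H) ((G ◁ u) ≫ μ) where
  right_cancellation Y f g h₁ h₂ := by
    rw [comp_act, comp_act, h₁] at h₂
    have h₃ : f ≫ snd G H ≫ u = g ≫ snd G H ≫ u := mul_left_cancel h₂
    have h₄ : f ≫ snd G H = g ≫ snd G H := by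
      rw [← cancel_mono u]; simpa using h₃
    exact CartesianMonoidalCategory.hom_ext _ _ h₁ h₄
  r := lift (𝟙 G) 1
  reflexivity₁ := lift_fst _ _
  reflexivity₂ := by
    rw [lift_act, MonObj.one_comp, _root_.mul_one]
  s := lift ((G ◁ u) ≫ μ) ((snd G H)⁻¹)
  symmetry₁ := lift_fst _ _
  symmetry₂ := by
    rw [lift_act, GrpObj.inv_comp]
    have := comp_act u (𝟙 (G ⊗ H))
    simp only [Category.id_comp] at this
    rw [this, mul_inv_cancel_right]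
  c := PullbackCone.mk (pullback.fst ((G ◁ u) ≫ μ) (fst G H)) (pullback.snd ((G ◁ u) ≫ μ) (fst G H))
    pullback.condition
  isLimit := pullbackIsPullback _ _
  t := lift (pullback.fst ((G ◁ u) ≫ μ) (fst G H) ≫ fst G H)
    ((pullback.fst ((G ◁ u) ≫ μ) (fst G H) ≫ snd G H) *
      (pullback.snd ((G ◁ u) ≫ μ) (fst G H) ≫ snd G H))
  transitivity₁ := lift_fst _ _
  transitivity₂ := by
    have hc : pullback.fst ((G ◁ u) ≫ μ) (fst G H) ≫ (G ◁ u) ≫ μ =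
        pullback.snd ((G ◁ u) ≫ μ) (fst G H) ≫ fst G H := pullback.condition
    show lift _ _ ≫ (G ◁ u) ≫ μ = pullback.snd ((G ◁ u) ≫ μ) (fst G H) ≫ (G ◁ u) ≫ μ
    rw [lift_act, comp_act u (pullback.snd ((G ◁ u) ≫ μ) (fst G H)), ← hc, comp_act,
      MonObj.mul_comp, _root_.mul_assoc, Category.assoc, Category.assoc] <;> rfl

variable (hR : Reg 𝒯)
include hR

theorem isKernelPair : IsKernelPair (quoπ u) (fst G H) ((G ◁ u) ≫ μ) :=
  hR.kp _ _ (equivRel u)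

theorem exists_of_π_eq {Y : 𝒯} (a b : Y ⟶ G) (hab : a ≫ quoπ u = b ≫ quoπ u) :
    ∃ h : Y ⟶ H, b = a * (h ≫ u) := by
  have k := isKernelPair u hR
  refine ⟨k.lift a b hab ≫ snd G H, ?_⟩
  have h₁ := k.lift_fst a b hab
  have h₂ := k.lift_snd a b hab
  rw [comp_act, h₁] at h₂
  exact h₂.symm.trans (by rw [Category.assoc])

/-! ### The action of `G` on `G/H` -/

theorem act_welldef {Z : 𝒯} (g₁ g₂ : Z ⟶ G ⊗ G)
    (h : g₁ ≫ (G ◁ quoπ u) = g₂ ≫ (G ◁ quoπ u)) :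
    g₁ ≫ μ ≫ quoπ u = g₂ ≫ μ ≫ quoπ u := by
  have h₁ : g₁ ≫ fst G G = g₂ ≫ fst G G := by
    have := congrArg (fun m => m ≫ fst _ _) h
    simpa using this
  have h₂ : (g₁ ≫ snd G G) ≫ quoπ u = (g₂ ≫ snd G G) ≫ quoπ u := by
    have := congrArg (fun m => m ≫ snd _ _) h
    simpa using this
  obtain ⟨y, hy⟩ := exists_of_π_eq u hR _ _ h₂
  rw [← Category.assoc, ← Category.assoc, comp_mul' g₂, comp_mul' g₁, hy, ← h₁, ← _root_.mul_assoc, mul_π]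

theorem existsUnique_action :
    ∃! act : G ⊗ quo u ⟶ quo u,
      (η ▷ quo u) ≫ act = (λ_ (quo u)).hom ∧
      (μ ▷ quo u) ≫ act = (α_ G G (quo u)).hom ≫ (G ◁ act) ≫ act ∧
      μ ≫ quoπ u = (G ◁ quoπ u) ≫ act := by
  have : Epi (G ◁ quoπ u) := hR.epi_whiskerLeft G (quoπ u)
  obtain ⟨act, hact⟩ := hR.exists_desc (G ◁ quoπ u) (μ ≫ quoπ u)
    (fun g₁ g₂ h => act_welldef u hR g₁ g₂ h)
  have key : ∀ {Y : 𝒯} (a b : Y ⟶ G), lift a (b ≫ quoπ u) ≫ act = (a * b) ≫ quoπ u := by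
    intro Y a b
    rw [← lift_whiskerLeft, Category.assoc, hact, ← Category.assoc, Hom.mul_def]
  refine ⟨act, ⟨?_, ?_, hact.symm⟩, ?_⟩
  · apply hR.hom_ext₂ (𝟙 (𝟙_ 𝒯)) (quoπ u)
    intro Y a b
    simp only [Category.comp_id]
    rw [lift_whiskerRight_assoc, key, lift_leftUnitor_hom]
    have : a ≫ η = (1 : Y ⟶ G) := by rw [toUnit_unique a (toUnit Y)]; rfl
    rw [this, _root_.one_mul]
  · apply hR.hom_ext₃ (𝟙 G) (𝟙 G) (quoπ u)
    intro Y a b c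
    simp only [Category.comp_id]
    have L : lift (lift a b) (c ≫ quoπ u) ≫ (μ ▷ quo u) ≫ act = ((a * b) * c) ≫ quoπ u := by
      rw [lift_whiskerRight_assoc, ← Hom.mul_def, key]
    have R : lift (lift a b) (c ≫ quoπ u) ≫ (α_ G G (quo u)).hom ≫ (G ◁ act) ≫ act =
        (a * (b * c)) ≫ quoπ u := by
      rw [lift_lift_associator_hom_assoc, lift_whiskerLeft_assoc, key, key]
    rw [L, R, _root_.mul_assoc]
  · rintro act' ⟨-, -, h'⟩
    rw [← cancel_epi (G ◁ quoπ u), hact, ← h']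

/-! ### The group structure on `G/H` for `H` normal -/

section Normal

variable (hn : ∀ {Y : 𝒯} (g : Y ⟶ G) (h : Y ⟶ H), ∃ h' : Y ⟶ H, g * (h ≫ u) * g⁻¹ = h' ≫ u)
include hn

theorem mul_welldef {Z : 𝒯} (g₁ g₂ : Z ⟶ G ⊗ G)
    (h : g₁ ≫ (quoπ u ⊗ₘ quoπ u) = g₂ ≫ (quoπ u ⊗ₘ quoπ u)) :
    g₁ ≫ μ ≫ quoπ u = g₂ ≫ μ ≫ quoπ u := by
  have h₁ : (g₁ ≫ fst G G) ≫ quoπ u = (g₂ ≫ fst G G) ≫ quoπ u := by
    have := congrArg (fun m => m ≫ fst _ _) h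
    simpa using this
  have h₂ : (g₁ ≫ snd G G) ≫ quoπ u = (g₂ ≫ snd G G) ≫ quoπ u := by
    have := congrArg (fun m => m ≫ snd _ _) h
    simpa using this
  obtain ⟨y₁, hy₁⟩ := exists_of_π_eq u hR _ _ h₁
  obtain ⟨y₂, hy₂⟩ := exists_of_π_eq u hR _ _ h₂
  obtain ⟨y', hy'⟩ := hn (g₁ ≫ snd G G)⁻¹ y₁
  have e : g₂ ≫ μ = (g₁ ≫ μ) * ((y' * y₂) ≫ u) := by
    rw [comp_mul' g₂, comp_mul' g₁, hy₁, hy₂, MonObj.mul_comp, ← hy']
    group
  rw [← Category.assoc, ← Category.assoc, e, mul_π]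

theorem inv_welldef {Z : 𝒯} (a a' : Z ⟶ G) (h : a ≫ quoπ u = a' ≫ quoπ u) :
    a ≫ ι ≫ quoπ u = a' ≫ ι ≫ quoπ u := by
  obtain ⟨y, hy⟩ := exists_of_π_eq u hR _ _ h
  obtain ⟨y', hy'⟩ := hn a y⁻¹
  have e : a'⁻¹ = a⁻¹ * (y' ≫ u) := by
    rw [hy, ← hy', GrpObj.inv_comp]
    group
  rw [← Category.assoc, ← Category.assoc, ← Hom.inv_def, ← Hom.inv_def, e, mul_π]

theorem existsUnique_grpObj :
    ∃! str : GrpObj (quo u), @IsMonHom 𝒯 _ _ G (quo u) _ str.toMonObj (quoπ u) := by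
  have : Epi (quoπ u ⊗ₘ quoπ u) := hR.epi_tensorHom _ _
  obtain ⟨m, hm⟩ := hR.exists_desc (quoπ u ⊗ₘ quoπ u) (μ ≫ quoπ u)
    (fun g₁ g₂ h => mul_welldef u hR hn g₁ g₂ h)
  obtain ⟨i, hi⟩ := hR.exists_desc (quoπ u) (ι ≫ quoπ u)
    (fun g₁ g₂ h => inv_welldef u hR hn g₁ g₂ h)
  have key : ∀ {Y : 𝒯} (a b : Y ⟶ G),
      lift (a ≫ quoπ u) (b ≫ quoπ u) ≫ m = (a * b) ≫ quoπ u := by
    intro Y a b
    rw [← lift_map, Category.assoc, hm, ← Category.assoc, Hom.mul_def]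
  have h_one_mul : ((η ≫ quoπ u) ▷ quo u) ≫ m = (λ_ (quo u)).hom := by
    apply hR.hom_ext₂ (𝟙 (𝟙_ 𝒯)) (quoπ u)
    intro Y a b
    simp only [Category.comp_id]
    rw [lift_whiskerRight_assoc, ← Category.assoc a, key, lift_leftUnitor_hom]
    have : a ≫ η = (1 : Y ⟶ G) := by rw [toUnit_unique a (toUnit Y)]; rfl
    rw [this, _root_.one_mul]
  have h_mul_one : (quo u ◁ (η ≫ quoπ u)) ≫ m = (ρ_ (quo u)).hom := by
    apply hR.hom_ext₂ (quoπ u) (𝟙 (𝟙_ 𝒯))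
    intro Y a b
    simp only [Category.comp_id]
    rw [lift_whiskerLeft_assoc, ← Category.assoc b, key, lift_rightUnitor_hom]
    have : b ≫ η = (1 : Y ⟶ G) := by rw [toUnit_unique b (toUnit Y)]; rfl
    rw [this, _root_.mul_one]
  have h_mul_assoc : (m ▷ quo u) ≫ m = (α_ (quo u) (quo u) (quo u)).hom ≫ (quo u ◁ m) ≫ m := by
    apply hR.hom_ext₃ (quoπ u) (quoπ u) (quoπ u)
    intro Y a b c
    have L : lift (lift (a ≫ quoπ u) (b ≫ quoπ u)) (c ≫ quoπ u) ≫ (m ▷ quo u) ≫ m =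
        ((a * b) * c) ≫ quoπ u := by
      rw [lift_whiskerRight_assoc, key, key]
    have R : lift (lift (a ≫ quoπ u) (b ≫ quoπ u)) (c ≫ quoπ u) ≫
        (α_ (quo u) (quo u) (quo u)).hom ≫ (quo u ◁ m) ≫ m = (a * (b * c)) ≫ quoπ u := by
      rw [lift_lift_associator_hom_assoc, lift_whiskerLeft_assoc, key, key]
    rw [L, R, _root_.mul_assoc]
  have keyπ : ∀ (a b : G ⟶ G), lift (a ≫ quoπ u) (b ≫ quoπ u) ≫ m = (a * b) ≫ quoπ u :=
    fun a b => key a b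
  have h_left_inv : lift i (𝟙 (quo u)) ≫ m = toUnit (quo u) ≫ η ≫ quoπ u := by
    rw [← cancel_epi (quoπ u), ← Category.assoc, comp_lift, hi, Category.comp_id]
    have := keyπ ι (𝟙 G)
    rw [Category.id_comp] at this
    rw [this, GrpObj.inv_eq_inv, inv_mul_cancel, comp_toUnit_assoc, Hom.one_def, Category.assoc]
  have h_right_inv : lift (𝟙 (quo u)) i ≫ m = toUnit (quo u) ≫ η ≫ quoπ u := by
    rw [← cancel_epi (quoπ u), ← Category.assoc, comp_lift, hi, Category.comp_id]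
    have := keyπ (𝟙 G) ι
    rw [Category.id_comp] at this
    rw [this, GrpObj.inv_eq_inv, mul_inv_cancel, comp_toUnit_assoc, Hom.one_def, Category.assoc]
  let str : GrpObj (quo u) :=
    { one := η ≫ quoπ u, mul := m, one_mul := h_one_mul, mul_one := h_mul_one,
      mul_assoc := h_mul_assoc, inv := i, left_inv := h_left_inv,
      right_inv := h_right_inv }
  refine ⟨str, @IsMonHom.mk 𝒯 _ _ G (quo u) _ str.toMonObj (quoπ u) rfl hm.symm, ?_⟩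
  intro str' h'
  apply GrpObj.ext
  apply MonObj.ext
  show str'.toMonObj.mul = m
  rw [← cancel_epi (quoπ u ⊗ₘ quoπ u), hm]
  exact (@IsMonHom.mul_hom 𝒯 _ _ G (quo u) _ str'.toMonObj (quoπ u) h').symm

end Normal

end Quot

end Groth.Agent.Lib.Lead.GrpQuot
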