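import Groth.Agent.Lib.Lead.GrpQuot

/-! Second and third isomorphism theorems for quotients of group objects (abstract setting). -/

set_option autoImplicit false
open CategoryTheory CategoryTheory.Limits MonoidalCategory CartesianMonoidalCategory MonObj
universe v u

namespace Groth.Agent.Lib.Lead.GrpQuot

variable {𝒯 : Type u} [Category.{v} 𝒯] [CartesianMonoidalCategory 𝒯]
variable [HasCoequalizers 𝒯] [HasPullbacks 𝒯]

theorem isKernelPair_inter {G H L : 𝒯} [GrpObj G] [GrpObj H] [GrpObj L] (u : H ⟶ G) (l : L ⟶ G)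
    [Mono u] [Mono l] [IsMonHom u] [IsMonHom l] (hR : Reg 𝒯) :
    IsKernelPair (l ≫ quoπ u) (fst L (pullback u l)) ((L ◁ pullback.snd u l) ≫ μ) := by
  apply isKernelPair_of
  · have e : ((L ◁ pullback.snd u l) ≫ μ) ≫ l =
        (fst L (pullback u l) ≫ l) * ((snd L (pullback u l) ≫ pullback.fst u l) ≫ u) := by
      have := comp_act (pullback.snd u l) (𝟙 (L ⊗ pullback u l))
      simp only [Category.id_comp] at this
      rw [this, MonObj.mul_comp]
      simp only [Category.assoc, pullback.condition]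
    rw [← Category.assoc ((L ◁ pullback.snd u l) ≫ μ), e, mul_π, Category.assoc]
  · intro Y a b h₁ h₂
    rw [comp_act, comp_act, h₁] at h₂
    have h₃ := mul_left_cancel h₂
    have h₄ : a ≫ snd _ _ = b ≫ snd _ _ := by
      rw [← cancel_mono (pullback.snd u l)]; simpa using h₃
    exact CartesianMonoidalCategory.hom_ext _ _ h₁ h₄
  · intro Y a b hab
    rw [← Category.assoc, ← Category.assoc] at hab
    obtain ⟨y, hy⟩ := exists_of_π_eq u hR _ _ hab
    have hc : y ≫ u = (a⁻¹ * b) ≫ l := by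
      rw [MonObj.mul_comp, GrpObj.inv_comp, hy]; group
    refine ⟨lift a (pullback.lift y (a⁻¹ * b) hc), lift_fst _ _, ?_⟩
    rw [lift_act, pullback.lift_snd, mul_inv_cancel_left]

theorem third_iso {H K G : 𝒯} [GrpObj H] [GrpObj K] [GrpObj G] (h : H ⟶ K) (k : K ⟶ G)
    [Mono h] [Mono k] [IsMonHom h] [IsMonHom k] (hR : Reg 𝒯)
    (act : quo (h ≫ k) ⊗ quo h ⟶ quo (h ≫ k))
    (hact : (quoπ (h ≫ k) ⊗ₘ quoπ h) ≫ act = (G ◁ k) ≫ μ ≫ quoπ (h ≫ k))
    (qbar : quo (h ≫ k) ⟶ quo k) (hq : quoπ (h ≫ k) ≫ qbar = quoπ k) :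
    Mono (lift act (fst _ _)) ∧
      ∃ wq : fst _ _ ≫ qbar = act ≫ qbar, Nonempty (IsColimit (Cofork.ofπ qbar wq)) := by
  have key : ∀ {Y : 𝒯} (a : Y ⟶ G) (b : Y ⟶ K),
      lift (a ≫ quoπ (h ≫ k)) (b ≫ quoπ h) ≫ act = (a * (b ≫ k)) ≫ quoπ (h ≫ k) := by
    intro Y a b
    rw [← lift_map, Category.assoc, hact, ← lift_act k a b, Category.assoc, Category.assoc]
  constructor
  · constructor
    intro Y f g hfg
    have h₁ : f ≫ act = g ≫ act := by
      have := congrArg (fun m => m ≫ fst _ _) hfg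
      simpa using this
    have h₂ : f ≫ fst _ _ = g ≫ fst _ _ := by
      have := congrArg (fun m => m ≫ snd _ _) hfg
      simpa using this
    obtain ⟨Y₁, e₁, he₁, a, ha⟩ := hR.exists_lift (quoπ (h ≫ k)) (f ≫ fst _ _)
    obtain ⟨Y₂, e₂, he₂, b, hb⟩ := hR.exists_lift (quoπ h) (e₁ ≫ f ≫ snd _ _)
    obtain ⟨Y₃, e₃, he₃, b', hb'⟩ := hR.exists_lift (quoπ h) (e₂ ≫ e₁ ≫ g ≫ snd _ _)
    have hE : Epi (e₃ ≫ e₂ ≫ e₁) := by
      have h12 : Epi (e₂ ≫ e₁) := epi_comp _ _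
      exact epi_comp _ _
    rw [← cancel_epi (e₃ ≫ e₂ ≫ e₁)]
    have hf : (e₃ ≫ e₂ ≫ e₁) ≫ f =
        lift ((e₃ ≫ e₂ ≫ a) ≫ quoπ (h ≫ k)) ((e₃ ≫ b) ≫ quoπ h) := by
      apply CartesianMonoidalCategory.hom_ext
      · simp only [Category.assoc, lift_fst, ha]
      · simp only [Category.assoc, lift_snd, hb]
    have hg : (e₃ ≫ e₂ ≫ e₁) ≫ g =
        lift ((e₃ ≫ e₂ ≫ a) ≫ quoπ (h ≫ k)) (b' ≫ quoπ h) := by
      apply CartesianMonoidalCategory.hom_ext
      · simp only [Category.assoc, lift_fst, ha, h₂]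
      · simp only [Category.assoc, lift_snd, hb']
    have h₃ : ((e₃ ≫ e₂ ≫ e₁) ≫ f) ≫ act = ((e₃ ≫ e₂ ≫ e₁) ≫ g) ≫ act := by
      simp only [Category.assoc, h₁]
    rw [hf, hg, key, key] at h₃
    obtain ⟨y, hy⟩ := exists_of_π_eq (h ≫ k) hR _ _ h₃
    have h₄ : b' = (e₃ ≫ b) * (y ≫ h) := by
      rw [← cancel_mono k, MonObj.mul_comp, Category.assoc y]
      rw [_root_.mul_assoc] at hy
      exact mul_left_cancel hy
    rw [hf, hg]
    congr 1
    rw [h₄, mul_π]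
  · have hepi : Epi (quoπ (h ≫ k) ⊗ₘ quoπ h) := hR.epi_tensorHom _ _
    have wq : fst _ _ ≫ qbar = act ≫ qbar := by
      rw [← cancel_epi (quoπ (h ≫ k) ⊗ₘ quoπ h), tensorHom_fst_assoc, hq, ← Category.assoc, hact]
      simp only [Category.assoc]
      rw [hq]
      exact (coequalizer.condition (fst G K) ((G ◁ k) ≫ μ)).trans (Category.assoc _ _ _)
    have hcond : ∀ s : Cofork (fst (quo (h ≫ k)) (quo h)) act,
        fst G K ≫ quoπ (h ≫ k) ≫ s.π = ((G ◁ k) ≫ μ) ≫ quoπ (h ≫ k) ≫ s.π := by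
      intro s
      have hs : fst _ _ ≫ s.π = act ≫ s.π := s.condition
      have e : ((G ◁ k) ≫ μ) ≫ quoπ (h ≫ k) ≫ s.π =
          (quoπ (h ≫ k) ⊗ₘ quoπ h) ≫ act ≫ s.π := by
        rw [← Category.assoc _ act, hact]; simp only [Category.assoc]
      rw [e, ← hs, tensorHom_fst_assoc]
    have hfac : ∀ s : Cofork (fst (quo (h ≫ k)) (quo h)) act,
        qbar ≫ coequalizer.desc (quoπ (h ≫ k) ≫ s.π) (hcond s) = s.π := by
      intro s
      rw [← cancel_epi (quoπ (h ≫ k)), ← Category.assoc, hq]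
      exact coequalizer.π_desc _ _
    refine ⟨wq, ⟨Cofork.IsColimit.mk _ (fun s => coequalizer.desc _ (hcond s))
      (fun s => hfac s) (fun s m hm => ?_)⟩⟩
    have : Epi qbar := epi_of_epi_fac hq
    rw [← cancel_epi qbar, hfac]
    exact hm

end Groth.Agent.Lib.Lead.GrpQuot
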