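import Groth.Agent.Lib.Lead.GrpQuot3

/-! Points of a quotient `X/R` as stable subobjects of `X × Y` (abstract setting). -/

set_option autoImplicit false
open CategoryTheory CategoryTheory.Limits MonoidalCategory CartesianMonoidalCategory
universe v u

namespace Groth.Agent.Lib.Lead.GrpQuot

variable {𝒯 : Type u} [Category.{v} 𝒯] [CartesianMonoidalCategory 𝒯]

theorem isPullback_of_mono_lift {P X Y B : 𝒯} (ι : P ⟶ X ⊗ Y) [Mono ι] (π : X ⟶ B) (f : Y ⟶ B)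
    (w : (ι ≫ fst X Y) ≫ π = (ι ≫ snd X Y) ≫ f)
    (hex : ∀ {W : 𝒯} (a : W ⟶ X) (b : W ⟶ Y), a ≫ π = b ≫ f → ∃ z : W ⟶ P, z ≫ ι = lift a b) :
    IsPullback (ι ≫ fst X Y) (ι ≫ snd X Y) π f :=
  ⟨⟨w⟩, ⟨PullbackCone.IsLimit.mk _ (fun s => (hex s.fst s.snd s.condition).choose)
    (fun s => by rw [← Category.assoc, (hex s.fst s.snd s.condition).choose_spec, lift_fst])
    (fun s => by rw [← Category.assoc, (hex s.fst s.snd s.condition).choose_spec, lift_snd])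
    (fun s m h₁ h₂ => by
      rw [← cancel_mono ι, (hex s.fst s.snd s.condition).choose_spec]
      apply CartesianMonoidalCategory.hom_ext
      · rw [lift_fst, Category.assoc]; exact h₁
      · rw [lift_snd, Category.assoc]; exact h₂)⟩⟩

variable [HasPullbacks 𝒯] [HasCoequalizers 𝒯] (hR : Reg 𝒯)
include hR

theorem quotient_points {R X B : 𝒯} {p₁ p₂ : R ⟶ X} (π : X ⟶ B) [Epi π]
    (hk : IsKernelPair π p₁ p₂) (Y : 𝒯) :
    (∀ (Z : 𝒯) (ι : Z ⟶ X ⊗ Y), Mono ι →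
      (∀ (W : 𝒯) (r : W ⟶ R) (y : W ⟶ Y),
        (∃ z : W ⟶ Z, z ≫ ι = lift (r ≫ p₁) y) ↔ (∃ z : W ⟶ Z, z ≫ ι = lift (r ≫ p₂) y)) →
      Epi (ι ≫ snd X Y) →
      (∀ (W : 𝒯) (z₁ z₂ : W ⟶ Z), z₁ ≫ ι ≫ snd X Y = z₂ ≫ ι ≫ snd X Y →
        ∃ r : W ⟶ R, r ≫ p₁ = z₁ ≫ ι ≫ fst X Y ∧ r ≫ p₂ = z₂ ≫ ι ≫ fst X Y) →
      ∃! f : Y ⟶ B, IsPullback (ι ≫ fst X Y) (ι ≫ snd X Y) π f) ∧
    (∀ f : Y ⟶ B, ∃ (Z : 𝒯) (ι : Z ⟶ X ⊗ Y), Mono ι ∧
      (∀ (W : 𝒯) (r : W ⟶ R) (y : W ⟶ Y),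
        (∃ z : W ⟶ Z, z ≫ ι = lift (r ≫ p₁) y) ↔ (∃ z : W ⟶ Z, z ≫ ι = lift (r ≫ p₂) y)) ∧
      Epi (ι ≫ snd X Y) ∧
      (∀ (W : 𝒯) (z₁ z₂ : W ⟶ Z), z₁ ≫ ι ≫ snd X Y = z₂ ≫ ι ≫ snd X Y →
        ∃ r : W ⟶ R, r ≫ p₁ = z₁ ≫ ι ≫ fst X Y ∧ r ≫ p₂ = z₂ ≫ ι ≫ fst X Y) ∧
      IsPullback (ι ≫ fst X Y) (ι ≫ snd X Y) π f) := by
  constructor
  · intro Z ι hι hst hq hrel
    obtain ⟨f, hf⟩ := hR.exists_desc (ι ≫ snd X Y) (ι ≫ fst X Y ≫ π) (fun z₁ z₂ hz => by
      obtain ⟨r, hr₁, hr₂⟩ := hrel _ z₁ z₂ (by simpa only [Category.assoc] using hz)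
      calc z₁ ≫ ι ≫ fst X Y ≫ π = (r ≫ p₁) ≫ π := by rw [hr₁]; simp only [Category.assoc]
        _ = (r ≫ p₂) ≫ π := by rw [Category.assoc, Category.assoc, hk.w]
        _ = z₂ ≫ ι ≫ fst X Y ≫ π := by rw [hr₂]; simp only [Category.assoc])
    have hpb : IsPullback (ι ≫ fst X Y) (ι ≫ snd X Y) π f := by
      apply isPullback_of_mono_lift ι π f (by rw [hf, Category.assoc])
      intro W a b hab
      obtain ⟨W', e, he, z', hz'⟩ := hR.exists_lift (ι ≫ snd X Y) b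
      have h₁ : (z' ≫ ι ≫ fst X Y) ≫ π = (e ≫ a) ≫ π := by
        calc (z' ≫ ι ≫ fst X Y) ≫ π = (z' ≫ ι ≫ snd X Y) ≫ f := by
              simp only [Category.assoc]; rw [← hf]; simp only [Category.assoc]
          _ = (e ≫ a) ≫ π := by rw [hz', Category.assoc, ← hab, Category.assoc]
      have hr₁ : hk.lift _ _ h₁ ≫ p₁ = z' ≫ ι ≫ fst X Y := hk.lift_fst _ _ h₁
      have hr₂ : hk.lift _ _ h₁ ≫ p₂ = e ≫ a := hk.lift_snd _ _ h₁
      have hz₀ : z' ≫ ι = lift (hk.lift _ _ h₁ ≫ p₁) (e ≫ b) := by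
        apply CartesianMonoidalCategory.hom_ext
        · rw [lift_fst, hr₁, Category.assoc]
        · rw [lift_snd, Category.assoc]; exact hz'
      obtain ⟨z'', hz''⟩ := (hst W' (hk.lift _ _ h₁) (e ≫ b)).1 ⟨z', hz₀⟩
      show Fac ι (lift a b)
      apply hR.fac_of_epi_comp e ι
      refine ⟨z'', ?_⟩
      rw [hz'', hr₂, comp_lift]
    refine ⟨f, hpb, fun f' hf' => ?_⟩
    rw [← cancel_epi (ι ≫ snd X Y), hf, ← hf'.w, Category.assoc]
  · intro f
    have hpb := IsPullback.of_hasPullback π f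
    refine ⟨pullback π f, lift (pullback.fst π f) (pullback.snd π f), ?_, ?_, ?_, ?_, ?_⟩
    · constructor
      intro W a b hab
      apply pullback.hom_ext
      · have := congrArg (fun m => m ≫ fst _ _) hab
        simpa using this
      · have := congrArg (fun m => m ≫ snd _ _) hab
        simpa using this
    · intro W r y
      have key : ∀ (x : W ⟶ X), (∃ z : W ⟶ pullback π f,
          z ≫ lift (pullback.fst π f) (pullback.snd π f) = lift x y) ↔ x ≫ π = y ≫ f := by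
        intro x
        constructor
        · rintro ⟨z, hz⟩
          have h1 : z ≫ pullback.fst π f = x := by
            have := congrArg (fun m => m ≫ fst _ _) hz
            simpa using this
          have h2 : z ≫ pullback.snd π f = y := by
            have := congrArg (fun m => m ≫ snd _ _) hz
            simpa using this
          rw [← h1, ← h2, Category.assoc, Category.assoc, pullback.condition]
        · intro h
          exact ⟨pullback.lift x y h, by rw [comp_lift, pullback.lift_fst, pullback.lift_snd]⟩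
      rw [key, key, Category.assoc, Category.assoc, hk.w]
    · rw [lift_snd]
      exact hR.epi_pb hpb.flip inferInstance
    · intro W z₁ z₂ hz
      simp only [lift_fst, lift_snd] at hz ⊢
      have h : (z₁ ≫ pullback.fst π f) ≫ π = (z₂ ≫ pullback.fst π f) ≫ π := by
        rw [Category.assoc, Category.assoc, pullback.condition, ← Category.assoc, hz,
          Category.assoc]
      exact ⟨hk.lift _ _ h, hk.lift_fst _ _ h, hk.lift_snd _ _ h⟩
    · rw [lift_fst, lift_snd]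
      exact hpb

end Groth.Agent.Lib.Lead.GrpQuot
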