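import Groth.Agent.Lib.Lead.GrpQuot
import Groth.Agent.Lib.Lead.SheafExact

/-! `Sheaf J (Type w)` satisfies the hypotheses `Reg` of `GrpQuot`. -/

set_option autoImplicit false
open CategoryTheory CategoryTheory.Limits
universe w v₁ u₁

namespace Groth.Agent.Lib.Lead.GrpQuot

variable {C : Type u₁} [Category.{v₁} C] (J : GrothendieckTopology C) [HasSheafify J (Type w)]

theorem regSheaf : Reg (Sheaf J (Type w)) where
  epi_pb := fun {P X Y Z p₁ p₂ f g} hpb hg => by
    haveI := hg
    exact Groth.Agent.S5218.epi_of_isPullback J hpb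
  eff := fun f hf => by
    haveI := hf
    have := IsRegularEpiCategory.regularEpiOfEpi f
    infer_instance
  kp := fun p₁ p₂ e => by
    let E := SheafExact.effective p₁ p₂ e
    have hw : p₁ ≫ E.π = p₂ ≫ E.π := E.isKernelPair.w
    have h : coequalizer.π p₁ p₂ ≫ coequalizer.desc E.π hw = E.π := coequalizer.π_desc _ _
    exact IsKernelPair.cancel_right (coequalizer.condition p₁ p₂) (h ▸ E.isKernelPair)

end Groth.Agent.Lib.Lead.GrpQuot
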