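import Groth.Agent.Lib.Lead.ConstH1
import Mathlib.CategoryTheory.Sites.LocallyInjective
import Mathlib.CategoryTheory.Sites.Abelian
import Mathlib.Algebra.Module.LocalizedModule.Basic
import Mathlib.Algebra.Homology.DerivedCategory.Ext.EnoughInjectives
import Mathlib.CategoryTheory.Abelian.GrothendieckCategory.EnoughInjectives

set_option autoImplicit false
universe u
open CategoryTheory CategoryTheory.Limits Opposite Abelian

namespace Groth.Agent.Lib.Lead.PhiTors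

section Center

variable {𝒜 : Type*} [Category 𝒜] [Abelian 𝒜] [HasExt 𝒜] [EnoughInjectives 𝒜]

theorem center_comm (z : ∀ X : 𝒜, X ⟶ X) (hz : ∀ {X Y : 𝒜} (f : X ⟶ Y), z X ≫ f = f ≫ z Y)
    {X Y : 𝒜} (x : Ext X Y 1) :
    (Ext.mk₀ (z X)).comp x (zero_add 1) = x.comp (Ext.mk₀ (z Y)) (add_zero 1) := by
  let i := Injective.ι Y
  let S : ShortComplex 𝒜 := ShortComplex.mk i (cokernel.π i) (cokernel.condition i)
  have hS : S.ShortExact :=
    { exact := ShortComplex.exact_cokernel i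
      mono_f := (inferInstance : Mono i)
      epi_g := (inferInstance : Epi (cokernel.π i)) }
  have h0 : x.comp (Ext.mk₀ S.f) (add_zero 1) = 0 := Ext.eq_zero_of_injective _
  obtain ⟨x₃, rfl⟩ := Ext.covariant_sequence_exact₁ _ hS x h0 (zero_add 1)
  obtain ⟨g, rfl⟩ := (Ext.mk₀_bijective _ _).2 x₃
  let f : S ⟶ S :=
    { τ₁ := z _, τ₂ := z _, τ₃ := z _, comm₁₂ := hz _, comm₂₃ := hz _ }
  have nat := ShortComplex.ShortExact.extClass_naturality hS hS f
  calc (Ext.mk₀ (z X)).comp ((Ext.mk₀ g).comp hS.extClass (zero_add 1)) (zero_add 1)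
      = (Ext.mk₀ (z X ≫ g)).comp hS.extClass (zero_add 1) := Ext.mk₀_comp_mk₀_assoc _ _ _
    _ = (Ext.mk₀ (g ≫ z S.X₃)).comp hS.extClass (zero_add 1) := by rw [hz g]
    _ = (Ext.mk₀ g).comp ((Ext.mk₀ (z S.X₃)).comp hS.extClass (zero_add 1)) (zero_add 1) :=
        (Ext.mk₀_comp_mk₀_assoc _ _ _).symm
    _ = (Ext.mk₀ g).comp (hS.extClass.comp (Ext.mk₀ (z S.X₁)) (add_zero 1)) (zero_add 1) := by
        rw [nat]
    _ = ((Ext.mk₀ g).comp hS.extClass (zero_add 1)).comp (Ext.mk₀ (z Y)) (add_zero 1) :=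
        (Ext.comp_assoc_of_third_deg_zero _ _ _ _).symm

end Center

theorem exists_divisible_hull {A : Type u} [AddCommGroup A]
    (hA : ∀ (m : ℤ) (a : A), m ≠ 0 → m • a = 0 → a = 0) :
    ∃ (D : Type u) (_ : AddCommGroup D) (ι₀ : A →+ D), Function.Injective ι₀ ∧
      ∀ m : ℤ, m ≠ 0 → ∃ d : D →+ D, (∀ p, m • d p = p) ∧ (∀ p, d (m • p) = p) := by
  let S : Submonoid ℤ := nonZeroDivisors ℤ
  refine ⟨LocalizedModule S A, inferInstance,
    (LocalizedModule.mkLinearMap S A).toAddMonoidHom, ?_, ?_⟩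
  · intro a b hab
    have hab' : LocalizedModule.mk a (1 : S) = LocalizedModule.mk b (1 : S) := hab
    obtain ⟨c, hc⟩ := LocalizedModule.mk_eq.1 hab'
    have hc0 : (c : ℤ) ≠ 0 := nonZeroDivisors.coe_ne_zero c
    have hc' : (c : ℤ) • a = (c : ℤ) • b := by
      simpa [Submonoid.smul_def] using hc
    have : (c : ℤ) • (a - b) = 0 := by rw [smul_sub, sub_eq_zero]; exact hc'
    exact sub_eq_zero.1 (hA _ _ hc0 this)
  · intro m hm
    let s : S := ⟨m, mem_nonZeroDivisors_of_ne_zero hm⟩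
    refine ⟨(LocalizedModule.divBy s).toAddMonoidHom, ?_, ?_⟩
    · intro p
      have := LocalizedModule.mul_by_divBy s p
      rw [Module.algebraMap_end_apply] at this
      exact (int_smul_eq_zsmul (M := LocalizedModule S A)
        OreLocalization.instModuleOfIsScalarTower m _).symm.trans this
    · intro p
      have := LocalizedModule.divBy_mul_by s p
      rw [Module.algebraMap_end_apply] at this
      have e := int_smul_eq_zsmul (M := LocalizedModule S A)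
        OreLocalization.instModuleOfIsScalarTower m p
      show LocalizedModule.divBy s (m • p) = p
      rw [← e]
      exact this

section Glue

variable {C : Type u} [SmallCategory C] {J : GrothendieckTopology C} {ι : Type u}

/-- the covering hypothesis -/
abbrev CovHyp (J : GrothendieckTopology C) (U : ι → C) : Prop :=
  ∀ V : C, ∃ R ∈ J V, ∀ ⦃W : C⦄ (g : W ⟶ V), R g → ∃ i, Nonempty (W ⟶ U i)

theorem glue_unique (U : ι → C) (hcov : CovHyp J U) {F G : Sheaf J AddCommGrpCat.{u}}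
    (z z' : F ⟶ G)
    (h : ∀ (i : ι) (W : C) (_ : W ⟶ U i), z.hom.app (op W) = z'.hom.app (op W)) : z = z' := by
  apply Sheaf.hom_ext
  apply NatTrans.ext
  funext V
  induction V using Opposite.rec with
  | _ V =>
  obtain ⟨R, hR, hRi⟩ := hcov V
  refine G.property.hom_ext ⟨R, hR⟩ _ _ ?_
  intro I
  obtain ⟨i, ⟨k⟩⟩ := hRi I.f I.hf
  rw [← z.hom.naturality, ← z'.hom.naturality, h i _ k]

theorem glue_exists (U : ι → C) (hcov : CovHyp J U) {F G : Sheaf J AddCommGrpCat.{u}}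
    (μ : ι → (F ⟶ G))
    (hμ : ∀ (i j : ι) (W : C) (_ : W ⟶ U i) (_ : W ⟶ U j),
      (μ i).hom.app (op W) = (μ j).hom.app (op W)) :
    ∃ z : F ⟶ G, ∀ (i : ι) (W : C) (_ : W ⟶ U i),
      z.hom.app (op W) = (μ i).hom.app (op W) := by
  classical
  choose R hR hRi using hcov
  choose idx hidx using hRi
  have compat : ∀ V : C, ∀ ⦃I₁ I₂ : GrothendieckTopology.Cover.Arrow (⟨R V, hR V⟩ : J.Cover V)⦄ (r : I₁.Relation I₂),
      (F.obj.map I₁.f.op ≫ (μ (idx V I₁.f I₁.hf)).hom.app (op I₁.Y)) ≫ G.obj.map r.g₁.op =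
      (F.obj.map I₂.f.op ≫ (μ (idx V I₂.f I₂.hf)).hom.app (op I₂.Y)) ≫ G.obj.map r.g₂.op := by
    intro V I₁ I₂ r
    obtain ⟨k₁⟩ := hidx V I₁.f I₁.hf
    obtain ⟨k₂⟩ := hidx V I₂.f I₂.hf
    rw [Category.assoc, Category.assoc, ← (μ _).hom.naturality, ← (μ _).hom.naturality,
      ← Category.assoc, ← Category.assoc, ← F.obj.map_comp, ← F.obj.map_comp, ← op_comp,
      ← op_comp, r.w, hμ _ _ r.Z (r.g₁ ≫ k₁) (r.g₂ ≫ k₂)]
  let zV : ∀ V : C, F.obj.obj (op V) ⟶ G.obj.obj (op V) := fun V =>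
    G.property.amalgamate ⟨R V, hR V⟩
      (fun I => F.obj.map I.f.op ≫ (μ (idx V I.f I.hf)).hom.app (op I.Y)) (compat V)
  have hP : ∀ (V W : C) (g : W ⟶ V) (i : ι) (_ : W ⟶ U i),
      zV V ≫ G.obj.map g.op = F.obj.map g.op ≫ (μ i).hom.app (op W) := by
    intro V W g i k
    refine G.property.hom_ext ⟨(R V).pullback g, J.pullback_stable g (hR V)⟩ _ _ ?_
    intro I
    have hI : R V (I.f ≫ g) := I.hf
    obtain ⟨k'⟩ := hidx V (I.f ≫ g) hI
    have h1 : zV V ≫ G.obj.map (I.f ≫ g).op =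
        F.obj.map (I.f ≫ g).op ≫ (μ (idx V (I.f ≫ g) hI)).hom.app (op I.Y) :=
      G.property.amalgamate_map ⟨R V, hR V⟩
        (fun I => F.obj.map I.f.op ≫ (μ (idx V I.f I.hf)).hom.app (op I.Y)) (compat V)
        ⟨I.Y, I.f ≫ g, hI⟩
    rw [Category.assoc, ← G.obj.map_comp, ← op_comp, h1, Category.assoc,
      ← (μ i).hom.naturality, ← Category.assoc, ← F.obj.map_comp, ← op_comp,
      hμ i (idx V (I.f ≫ g) hI) I.Y (I.f ≫ k) k']
  refine ⟨⟨{ app := fun V => zV V.unop, naturality := ?_ }⟩, ?_⟩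
  · rintro ⟨V⟩ ⟨V'⟩ k
    dsimp only [Opposite.unop_op]
    refine G.property.hom_ext ⟨R V', hR V'⟩ _ _ ?_
    intro I
    obtain ⟨kk⟩ := hidx V' I.f I.hf
    have e1 := hP V' I.Y I.f _ kk
    have e2 := hP V I.Y (I.f ≫ k.unop) _ kk
    have e3 : k ≫ I.f.op = (I.f ≫ k.unop).op := by simp
    rw [Category.assoc, e1, Category.assoc, ← G.obj.map_comp, e3, e2, ← Category.assoc,
      ← F.obj.map_comp, e3]
  · intro i W k
    have := hP W W (𝟙 W) i k
    simpa using this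

theorem overlap (U : ι → C)
    (φ : (constantSheaf J AddCommGrpCat.{u}).obj (AddCommGrpCat.of (ULift.{u} ℤ)) ⟶
      (constantSheaf J AddCommGrpCat.{u}).obj (AddCommGrpCat.of (ULift.{u} ℤ)))
    (n : ι → ℤ) (hφ : ∀ (i : ι) (V : C) (_ : V ⟶ U i), φ.hom.app (op V) = n i • 𝟙 _)
    {W : C} {i j : ι} (ki : W ⟶ U i) (kj : W ⟶ U j) : n i = n j ∨ ⊥ ∈ J W := by
  by_cases hij : n i = n j
  · exact Or.inl hij
  right
  let Z : AddCommGrpCat.{u} := AddCommGrpCat.of (ULift.{u} ℤ)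
  let P : Cᵒᵖ ⥤ AddCommGrpCat.{u} := (Functor.const Cᵒᵖ).obj Z
  let η : P ⟶ sheafify J P := toSheafify J P
  have e : n i • 𝟙 ((sheafify J P).obj (op W)) = n j • 𝟙 _ :=
    (hφ i W ki).symm.trans (hφ j W kj)
  have h1 : η.app (op W) (ULift.up (n i)) = η.app (op W) (ULift.up (n j)) := by
    have hi : (ULift.up (n i) : ULift.{u} ℤ) = n i • ULift.up 1 := by
      apply ULift.ext; simp
    have hj : (ULift.up (n j) : ULift.{u} ℤ) = n j • ULift.up 1 := by
      apply ULift.ext; simp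
    have := congrArg (fun t => (ConcreteCategory.hom t) (η.app (op W) (ULift.up 1))) e
    rw [hi, hj, map_zsmul, map_zsmul]
    simpa using this
  have hmem := Presheaf.equalizerSieve_mem J η _ _ h1
  refine J.superset_covering ?_ hmem
  intro W' f hf
  exfalso
  apply hij
  have : (ULift.up (n i) : ULift.{u} ℤ) = ULift.up (n j) := hf
  exact congrArg ULift.down this

theorem zsmul_id_app (F : Sheaf J AddCommGrpCat.{u}) (m : ℤ) (V : Cᵒᵖ) :
    (m • 𝟙 F : F ⟶ F).hom.app V = m • 𝟙 (F.obj.obj V) := rfl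

variable (U : ι → C) (hcov : CovHyp J U) (n : ι → ℤ)
  (hov : ∀ (i j : ι) (W : C) (_ : W ⟶ U i) (_ : W ⟶ U j), n i = n j ∨ ⊥ ∈ J W)

include hov in
theorem mu_compat (F : Sheaf J AddCommGrpCat.{u}) (i j : ι) (W : C) (ki : W ⟶ U i)
    (kj : W ⟶ U j) :
    (n i • 𝟙 F : F ⟶ F).hom.app (op W) = (n j • 𝟙 F : F ⟶ F).hom.app (op W) := by
  rcases hov i j W ki kj with h | h
  · rw [h]
  · exact F.property.hom_ext ⟨⊥, h⟩ _ _ (fun I => False.elim I.hf)

/-- the central endomorphism -/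
noncomputable def zc (F : Sheaf J AddCommGrpCat.{u}) : F ⟶ F :=
  (glue_exists U hcov (fun i => n i • 𝟙 F) (mu_compat U n hov F)).choose

theorem zc_spec (F : Sheaf J AddCommGrpCat.{u}) (i : ι) (W : C) (k : W ⟶ U i) :
    (zc U hcov n hov F).hom.app (op W) = n i • 𝟙 (F.obj.obj (op W)) :=
  ((glue_exists U hcov (fun i => n i • 𝟙 F) (mu_compat U n hov F)).choose_spec i W k).trans
    (zsmul_id_app F (n i) (op W))

theorem zc_nat {F G : Sheaf J AddCommGrpCat.{u}} (f : F ⟶ G) :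
    zc U hcov n hov F ≫ f = f ≫ zc U hcov n hov G := by
  apply glue_unique U hcov
  intro i W k
  show (zc U hcov n hov F).hom.app (op W) ≫ f.hom.app (op W) =
    f.hom.app (op W) ≫ (zc U hcov n hov G).hom.app (op W)
  rw [zc_spec U hcov n hov F i W k, zc_spec U hcov n hov G i W k, Preadditive.zsmul_comp,
    Preadditive.comp_zsmul, Category.id_comp, Category.comp_id]

theorem zc_rightInv (F : Sheaf J AddCommGrpCat.{u}) (ν : ι → (F ⟶ F))
    (h1 : ∀ i, (n i • 𝟙 F) ≫ ν i = 𝟙 F) (h2 : ∀ i, ν i ≫ (n i • 𝟙 F) = 𝟙 F) :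
    ∃ w : F ⟶ F, zc U hcov n hov F ≫ w = 𝟙 F := by
  have hν : ∀ (i j : ι) (W : C) (_ : W ⟶ U i) (_ : W ⟶ U j),
      (ν i).hom.app (op W) = (ν j).hom.app (op W) := by
    intro i j W ki kj
    have a := mu_compat U n hov F i j W ki kj
    have b1 : (n j • 𝟙 F : F ⟶ F).hom.app (op W) ≫ (ν j).hom.app (op W) = 𝟙 _ :=
      congrArg (fun t => t.hom.app (op W)) (h1 j)
    have b2 : (ν i).hom.app (op W) ≫ (n i • 𝟙 F : F ⟶ F).hom.app (op W) = 𝟙 _ :=
      congrArg (fun t => t.hom.app (op W)) (h2 i)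
    calc (ν i).hom.app (op W)
        = (ν i).hom.app (op W) ≫ (n j • 𝟙 F : F ⟶ F).hom.app (op W) ≫ (ν j).hom.app (op W) := by
          rw [b1, Category.comp_id]
      _ = ((ν i).hom.app (op W) ≫ (n i • 𝟙 F : F ⟶ F).hom.app (op W)) ≫ (ν j).hom.app (op W) := by
          rw [a, Category.assoc]
      _ = (ν j).hom.app (op W) := by rw [b2, Category.id_comp]
  obtain ⟨w, hw⟩ := glue_exists U hcov ν hν
  refine ⟨w, ?_⟩
  apply glue_unique U hcov
  intro i W k
  show (zc U hcov n hov F).hom.app (op W) ≫ w.hom.app (op W) = 𝟙 _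
  rw [zc_spec U hcov n hov F i W k, hw i W k]
  exact congrArg (fun t => t.hom.app (op W)) (h1 i)

end Glue

theorem main {C : Type u} [SmallCategory C] (J : GrothendieckTopology C)
    {A : Type u} [AddCommGroup A] (hA : ∀ (m : ℤ) (a : A), m ≠ 0 → m • a = 0 → a = 0)
    (φ : (constantSheaf J AddCommGrpCat.{u}).obj (AddCommGrpCat.of (ULift.{u} ℤ)) ⟶
      (constantSheaf J AddCommGrpCat.{u}).obj (AddCommGrpCat.of (ULift.{u} ℤ)))
    {ι : Type u} (U : ι → C) (n : ι → ℤ) (hn : ∀ i, n i ≠ 0)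
    (hφ : ∀ (i : ι) (V : C) (_ : V ⟶ U i), φ.hom.app (op V) = n i • 𝟙 _)
    (hcov : ∀ V : C, ∃ R ∈ J V, ∀ ⦃W : C⦄ (g : W ⟶ V), R g → ∃ i, Nonempty (W ⟶ U i))
    (x : Sheaf.H ((constantSheaf J AddCommGrpCat.{u}).obj (AddCommGrpCat.of A)) 1)
    (hx : (Abelian.Ext.mk₀ φ).comp x (zero_add 1) = 0) :
    x = 0 := by
  obtain ⟨D, instD, ι₀, hι, hdiv⟩ := exists_divisible_hull hA
  choose d hd1 hd2 using fun i => hdiv (n i) (hn i)
  have hov : ∀ (i j : ι) (W : C) (_ : W ⟶ U i) (_ : W ⟶ U j), n i = n j ∨ ⊥ ∈ J W :=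
    fun i j W ki kj => overlap U φ n hφ ki kj
  have hzφ : zc U hcov n hov _ = φ := by
    apply glue_unique U hcov
    intro i W k
    rw [zc_spec U hcov n hov _ i W k, hφ i W k]
  obtain ⟨w, hw⟩ := zc_rightInv U hcov n hov
    ((constantSheaf J AddCommGrpCat.{u}).obj (AddCommGrpCat.of D))
    (fun i => (constantSheaf J AddCommGrpCat.{u}).map (AddCommGrpCat.ofHom (d i)))
    (fun i => by
      have key : n i • AddCommGrpCat.ofHom (d i) = 𝟙 (AddCommGrpCat.of D) := by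
        ext p
        simpa using hd1 i p
      rw [Preadditive.zsmul_comp, Category.id_comp, ← Functor.map_zsmul, key,
        CategoryTheory.Functor.map_id])
    (fun i => by
      have key : n i • AddCommGrpCat.ofHom (d i) = 𝟙 (AddCommGrpCat.of D) := by
        ext p
        simpa using hd1 i p
      rw [Preadditive.comp_zsmul, Category.comp_id, ← Functor.map_zsmul, key,
        CategoryTheory.Functor.map_id])
  refine (injective_iff_map_eq_zero _).1 (ConstH1.main J ι₀ hι) x ?_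
  show x.comp (Ext.mk₀ ((constantSheaf J AddCommGrpCat.{u}).map (AddCommGrpCat.ofHom ι₀)))
    (add_zero 1) = 0
  generalize hx' : x.comp (Ext.mk₀ ((constantSheaf J AddCommGrpCat.{u}).map
    (AddCommGrpCat.ofHom ι₀))) (add_zero 1) = x'
  have h1 : (Ext.mk₀ φ).comp x' (zero_add 1) = 0 := by
    rw [← hx', ← Ext.comp_assoc_of_third_deg_zero, hx, Ext.zero_comp]
  have h2 : x'.comp (Ext.mk₀ (zc U hcov n hov _)) (add_zero 1) = 0 := by
    rw [← center_comm (zc U hcov n hov) (fun f => zc_nat U hcov n hov f) x', hzφ, h1]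
  calc x' = x'.comp (Ext.mk₀ (𝟙 _)) (add_zero 1) := (Ext.comp_mk₀_id x').symm
    _ = x'.comp (Ext.mk₀ (zc U hcov n hov _ ≫ w)) (add_zero 1) := by rw [hw]
    _ = (x'.comp (Ext.mk₀ (zc U hcov n hov _)) (add_zero 1)).comp (Ext.mk₀ w) (add_zero 1) := by
        rw [Ext.comp_assoc_of_third_deg_zero, Ext.mk₀_comp_mk₀]
    _ = 0 := by rw [h2, Ext.zero_comp]

end Groth.Agent.Lib.Lead.PhiTors
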