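import Groth.Statements.S6818
import Mathlib.AlgebraicTopology.DoldKan.Normalized
import Mathlib.AlgebraicTopology.DoldKan.Degeneracies

set_option autoImplicit false
open CategoryTheory CategoryTheory.Limits Opposite
universe v u
open CategoryTheory CategoryTheory.Abelian

namespace Groth.Agent.Lib.Lead.SimpSub

variable {A : Type u} [Category.{v} A] [Abelian A]

/-- a sup of images composes to zero with `g` if every generator does. -/
theorem lub_arrow_comp_eq_zero {X Z : A} {ι : Type*} {Y : ι → A} (f : ∀ i, Y i ⟶ X)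
    (T : Subobject X) (hT : IsLUB (Set.range (fun i => imageSubobject (f i))) T)
    (g : X ⟶ Z) (hg : ∀ i, f i ≫ g = 0) : T.arrow ≫ g = 0 := by
  have hle : T ≤ kernelSubobject g := by
    apply hT.2
    rintro _ ⟨i, rfl⟩
    exact le_kernelSubobject g _ (imageSubobject_arrow_comp_eq_zero (hg i))
  rw [← Subobject.ofLE_arrow hle, Category.assoc, kernelSubobject_arrow_comp, comp_zero]

theorem comp_cokernel_eq_zero_of_le {X Y : A} (f : Y ⟶ X) (T : Subobject X)
    (h : imageSubobject f ≤ T) : f ≫ cokernel.π T.arrow = 0 := by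
  rw [← imageSubobject_arrow_comp f, ← Subobject.ofLE_arrow h, Category.assoc, Category.assoc,
    cokernel.condition, comp_zero, comp_zero]

theorem image_le_of_comp_cokernel_eq_zero {X Y : A} (f : Y ⟶ X) (T : Subobject X)
    (h : f ≫ cokernel.π T.arrow = 0) : imageSubobject f ≤ T :=
  imageSubobject_le f (Abelian.monoLift T.arrow f h) (Abelian.monoLift_comp T.arrow f h)

theorem eq_bot_of_arrow_eq_zero {X : A} (P : Subobject X) (h : P.arrow = 0) : P = ⊥ := by
  rw [eq_bot_iff]
  refine Subobject.le_of_comm 0 ?_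
  rw [zero_comp, h]

theorem main (U : SimplicialObject A) (n : ℕ)
    (U' : ∀ m : ℕ, Subobject (U.obj (op (SimplexCategory.mk m))))
    (hU' : ∀ m : ℕ, IsLUB (Set.range (fun φ : Σ i : Fin (n + 1),
      (SimplexCategory.mk m ⟶ SimplexCategory.mk i) => imageSubobject (U.map φ.2.op))) (U' m)) :
    (∀ (m m' : ℕ) (ψ : SimplexCategory.mk m' ⟶ SimplexCategory.mk m),
      imageSubobject ((U' m).arrow ≫ U.map ψ.op) ≤ U' m') ∧
    (∀ i : ℕ, i ≤ n → U' i = ⊤) ∧
    (∀ m : ℕ, n < m → U' m ⊓ AlgebraicTopology.NormalizedMooreComplex.objX U m = ⊥) := by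
  refine ⟨?_, ?_, ?_⟩
  · intro m m' ψ
    apply image_le_of_comp_cokernel_eq_zero
    rw [Category.assoc]
    apply lub_arrow_comp_eq_zero (fun φ : Σ i : Fin (n + 1),
      (SimplexCategory.mk m ⟶ SimplexCategory.mk i) => U.map φ.2.op) (U' m) (hU' m)
    intro φ
    rw [← Category.assoc, ← U.map_comp, ← op_comp]
    apply comp_cokernel_eq_zero_of_le
    exact (hU' m').1 ⟨⟨φ.1, ψ ≫ φ.2⟩, rfl⟩
  · intro i hi
    rw [eq_top_iff]
    have hmem : imageSubobject (U.map (𝟙 (SimplexCategory.mk i)).op) ≤ U' i :=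
      (hU' i).1 ⟨⟨⟨i, Nat.lt_succ_of_le hi⟩, 𝟙 _⟩, rfl⟩
    refine le_trans ?_ hmem
    refine Subobject.le_of_comm
      ((⊤ : Subobject _).arrow ≫ factorThruImageSubobject (U.map (𝟙 (SimplexCategory.mk i)).op)) ?_
    rw [Category.assoc, imageSubobject_arrow_comp, op_id, U.map_id, Category.comp_id]
  · intro m hm
    obtain ⟨k, rfl⟩ : ∃ k, m = k + 1 := ⟨m - 1, by omega⟩
    apply eq_bot_of_arrow_eq_zero
    set N := AlgebraicTopology.NormalizedMooreComplex.objX U (k + 1) with hN
    have ha : N.arrow ≫ (AlgebraicTopology.DoldKan.PInfty (X := U)).f (k + 1) = N.arrow := by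
      have h1 := congrArg (fun t => t.f (k + 1))
        (AlgebraicTopology.DoldKan.inclusionOfMooreComplexMap_comp_PInfty U)
      simp only [HomologicalComplex.comp_f,
        AlgebraicTopology.inclusionOfMooreComplexMap_f] at h1
      exact h1
    have hb : (U' (k + 1)).arrow ≫ (AlgebraicTopology.DoldKan.PInfty (X := U)).f (k + 1) = 0 := by
      apply lub_arrow_comp_eq_zero (fun φ : Σ i : Fin (n + 1),
        (SimplexCategory.mk (k + 1) ⟶ SimplexCategory.mk i) => U.map φ.2.op) (U' (k + 1))
        (hU' (k + 1))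
      rintro ⟨i, φ⟩
      have hninj : ¬ Function.Injective φ.toOrderHom := by
        intro hinj
        have := Fintype.card_le_of_injective _ hinj
        simp only [SimplexCategory.len_mk, Fintype.card_fin] at this
        have hi := i.2
        omega
      obtain ⟨j, θ', rfl⟩ := SimplexCategory.eq_σ_comp_of_not_injective φ hninj
      show U.map (SimplexCategory.σ j ≫ θ').op ≫ _ = 0
      rw [op_comp, U.map_comp, Category.assoc]
      have := AlgebraicTopology.DoldKan.σ_comp_PInfty U j
      erw [this, comp_zero]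
    have hP1 : (U' (k + 1) ⊓ N).arrow = Subobject.ofLE _ _ inf_le_right ≫ N.arrow :=
      (Subobject.ofLE_arrow _).symm
    have hP2 : (U' (k + 1) ⊓ N).arrow = Subobject.ofLE _ _ inf_le_left ≫ (U' (k + 1)).arrow :=
      (Subobject.ofLE_arrow _).symm
    calc (U' (k + 1) ⊓ N).arrow
        = (U' (k + 1) ⊓ N).arrow ≫ (AlgebraicTopology.DoldKan.PInfty (X := U)).f (k + 1) := by
          rw [hP1, Category.assoc, ha]
      _ = 0 := by rw [hP2, Category.assoc, hb, comp_zero]

end Groth.Agent.Lib.Lead.SimpSub
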