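import Groth.Statements.S0926
import Groth.Agent.Lib.Lead.SimpSub
import Groth.Agent.Lib.Lead.PhiTors
import Mathlib.CategoryTheory.Sites.LocallyInjective
import Mathlib.CategoryTheory.Sites.LocallySurjective

set_option autoImplicit false
universe u
open CategoryTheory CategoryTheory.Limits Opposite TopologicalSpace

namespace Groth.Agent.Lib.Lead.IrrConst

section General
variable {𝒜 : Type (u + 1)} [Category.{u} 𝒜] [Abelian 𝒜]

theorem image_le_image_of_comp_cokernel {X Y Y' : 𝒜} (a : Y ⟶ X) (b : Y' ⟶ X)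
    (h : a ≫ cokernel.π b = 0) : imageSubobject a ≤ imageSubobject b := by
  apply SimpSub.image_le_of_comp_cokernel_eq_zero
  have hb : b ≫ cokernel.π (imageSubobject b).arrow = 0 := by
    calc b ≫ cokernel.π (imageSubobject b).arrow
        = (factorThruImageSubobject b ≫ (imageSubobject b).arrow) ≫
            cokernel.π (imageSubobject b).arrow := by rw [imageSubobject_arrow_comp]
      _ = 0 := by rw [Category.assoc, cokernel.condition, comp_zero]
  rw [← cokernel.π_desc b _ hb, ← Category.assoc, h, zero_comp]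

end General

section Site
variable {C : Type u} [SmallCategory C] {K : GrothendieckTopology C}

theorem comp_cokernel_eq_zero_of_sections {F F' G : Sheaf K AddCommGrpCat.{u}} (a : F ⟶ G)
    (b : F' ⟶ G)
    (h : ∀ (V : Cᵒᵖ) (s : F.obj.obj V), ∃ t : F'.obj.obj V, a.hom.app V s = b.hom.app V t) :
    a ≫ cokernel.π b = 0 := by
  apply Sheaf.hom_ext
  ext V s
  obtain ⟨t, ht⟩ := h V s
  have e1 : (a ≫ cokernel.π b).hom.app V s = (cokernel.π b).hom.app V (a.hom.app V s) := rfl
  have e2 : (b ≫ cokernel.π b).hom.app V t = (cokernel.π b).hom.app V (b.hom.app V t) := rfl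
  rw [e1, ht, ← e2, cokernel.condition]
  rfl

/-- the morphism `ℤ → M` picking an element -/
noncomputable def elemHom {M : AddCommGrpCat.{u}} (t : M) : AddCommGrpCat.of (ULift.{u} ℤ) ⟶ M :=
  AddCommGrpCat.ofHom ((zmultiplesHom M t).comp (AddEquiv.ulift.toAddMonoidHom : ULift.{u} ℤ →+ ℤ))

theorem elemHom_apply {M : AddCommGrpCat.{u}} (t : M) (n : ULift.{u} ℤ) :
    elemHom t n = n.down • t := rfl

theorem elemHom_comp {M N : AddCommGrpCat.{u}} (t : M) (g : M ⟶ N) :
    elemHom t ≫ g = elemHom (g t) := by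
  ext n
  show g (n.down • t) = n.down • g t
  rw [map_zsmul]

theorem sec_ext (F : Sheaf K AddCommGrpCat.{u}) {W : C} {S : Sieve W} (hS : S ∈ K W)
    (t₁ t₂ : F.obj.obj (op W))
    (h : ∀ (W' : C) (f : W' ⟶ W), S f → F.obj.map f.op t₁ = F.obj.map f.op t₂) : t₁ = t₂ := by
  have key := F.property.hom_ext ⟨S, hS⟩ (elemHom t₁) (elemHom t₂) (by
    intro I
    rw [elemHom_comp, elemHom_comp, h _ I.f I.hf])
  have e : ∀ t : F.obj.obj (op W), elemHom t (ULift.up 1) = t := fun t => by
    rw [elemHom_apply]; simp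
  calc t₁ = elemHom t₁ (ULift.up 1) := (e t₁).symm
    _ = elemHom t₂ (ULift.up 1) := by rw [key]
    _ = t₂ := e t₂

end Site

section Space
variable {X : TopCat.{u}}

/-- the constant sheaf ℤ -/
noncomputable abbrev DZ (X : TopCat.{u}) : CohTop.Ab X := CohTop.const X (ULift.{u} ℤ)

/-- the constant presheaf -/
abbrev P (X : TopCat.{u}) : (Opens X)ᵒᵖ ⥤ AddCommGrpCat.{u} :=
  (Functor.const _).obj (AddCommGrpCat.of (ULift.{u} ℤ))

noncomputable abbrev η (X : TopCat.{u}) :
    P X ⟶ sheafify (Opens.grothendieckTopology X) (P X) :=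
  toSheafify (Opens.grothendieckTopology X) (P X)

noncomputable def one (W : Opens X) : (DZ X).obj.obj (op W) := (η X).app (op W) (ULift.up 1)

theorem eta_apply (W : Opens X) (b : ULift.{u} ℤ) : (η X).app (op W) b = b.down • one W := by
  have hb : b = b.down • (ULift.up 1 : ULift.{u} ℤ) := by
    apply ULift.ext; simp
  calc (η X).app (op W) b = (η X).app (op W) (b.down • ULift.up 1) := by rw [← hb]
    _ = b.down • one W := map_zsmul _ _ _

theorem one_res {W' W : Opens X} (f : W' ⟶ W) : (DZ X).obj.map f.op (one W) = one W' := by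
  have := NatTrans.naturality_apply (η X) f.op (ULift.up 1)
  exact this.symm

theorem smul_id_app_apply (W : Opens X) (d : ℤ) (t : (DZ X).obj.obj (op W)) :
    (d • 𝟙 (DZ X) : (DZ X) ⟶ (DZ X)).hom.app (op W) t = d • t := by
  rw [PhiTors.zsmul_id_app]
  simp

theorem bot_mem (X : TopCat.{u}) :
    (⊥ : Sieve (⊥ : Opens X)) ∈ Opens.grothendieckTopology X ⊥ := by
  intro x hx
  exact (hx : x ∈ (⊥ : Opens X)).elim

theorem subsingleton_bot (F : CohTop.Ab X) : Subsingleton (F.obj.obj (op (⊥ : Opens X))) := by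
  have hT := Sheaf.isTerminalOfBotCover F (⊥ : Opens X) (bot_mem X)
  exact AddCommGrpCat.subsingleton_of_isZero hT.isZero

theorem covering_nonempty {W : Opens X} (hW : W ≠ ⊥) {S : Sieve W}
    (hS : S ∈ Opens.grothendieckTopology X W) :
    ∃ (V : Opens X) (f : V ⟶ W), S f ∧ V ≠ ⊥ := by
  obtain ⟨x, hx⟩ : ∃ x, x ∈ W := by
    by_contra hne
    apply hW
    ext x
    simp only [Opens.coe_bot, Set.mem_empty_iff_false, iff_false]
    exact fun hx => hne ⟨x, hx⟩
  obtain ⟨V, f, hf, hxV⟩ := hS x hx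
  refine ⟨V, f, hf, ?_⟩
  intro hV
  rw [hV] at hxV
  exact hxV.elim

theorem eta_injective {W : Opens X} (hW : W ≠ ⊥) (a b : ℤ) (h : a • one W = b • one W) :
    a = b := by
  have h' : (η X).app (op W) (ULift.up a) = (η X).app (op W) (ULift.up b) := by
    rw [eta_apply, eta_apply]; exact h
  have hmem := Presheaf.equalizerSieve_mem (Opens.grothendieckTopology X) (η X) _ _ h'
  obtain ⟨V, f, hf, -⟩ := covering_nonempty hW hmem
  have : (ULift.up a : ULift.{u} ℤ) = ULift.up b := hf
  exact congrArg ULift.down this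

theorem eta_surjective [IrreducibleSpace X] {W : Opens X} (hW : W ≠ ⊥)
    (t : (DZ X).obj.obj (op W)) : ∃ m : ℤ, t = m • one W := by
  have hS := Presheaf.imageSieve_mem (Opens.grothendieckTopology X) (η X) (U := op W) t
  obtain ⟨W₁, f₁, ⟨a, ha⟩, hW₁⟩ := covering_nonempty hW hS
  rw [eta_apply] at ha
  have ha' : (DZ X).obj.map f₁.op t = a.down • one W₁ := ha.symm
  refine ⟨a.down, ?_⟩
  apply sec_ext (DZ X) hS
  rintro W' f ⟨b, hb⟩
  rw [eta_apply] at hb
  have hb' : (DZ X).obj.map f.op t = b.down • one W' := hb.symm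
  rw [map_zsmul, one_res, hb']
  by_cases hW' : W' = ⊥
  · subst hW'
    haveI := subsingleton_bot (X := X) (DZ X)
    exact Subsingleton.elim _ _
  · have hne : (W' ⊓ W₁) ≠ ⊥ := by
      have hn1 : (W' : Set X).Nonempty := by
        by_contra hcon
        apply hW'
        ext x
        simp only [Opens.coe_bot, Set.mem_empty_iff_false, iff_false]
        exact fun hx => hcon ⟨x, hx⟩
      have hn2 : (W₁ : Set X).Nonempty := by
        by_contra hcon
        apply hW₁
        ext x
        simp only [Opens.coe_bot, Set.mem_empty_iff_false, iff_false]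
        exact fun hx => hcon ⟨x, hx⟩
      obtain ⟨x, hx⟩ := nonempty_preirreducible_inter W'.2 W₁.2 hn1 hn2
      intro hbot
      have : x ∈ (W' ⊓ W₁ : Opens X) := hx
      rw [hbot] at this
      exact this.elim
    have hab : b.down = a.down := by
      apply eta_injective hne
      let g' : (W' ⊓ W₁ : Opens X) ⟶ W' := homOfLE inf_le_left
      let g₁ : (W' ⊓ W₁ : Opens X) ⟶ W₁ := homOfLE inf_le_right
      have e1 := congrArg ((DZ X).obj.map g'.op) hb'
      have e2 := congrArg ((DZ X).obj.map g₁.op) ha'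
      rw [map_zsmul, one_res] at e1 e2
      have hcomp : g' ≫ f = g₁ ≫ f₁ := Subsingleton.elim _ _
      have h3 : (DZ X).obj.map g'.op ((DZ X).obj.map f.op t) =
          (DZ X).obj.map (g' ≫ f).op t := by
        rw [op_comp, Functor.map_comp]; rfl
      have h4 : (DZ X).obj.map g₁.op ((DZ X).obj.map f₁.op t) =
          (DZ X).obj.map (g₁ ≫ f₁).op t := by
        rw [op_comp, Functor.map_comp]; rfl
      rw [← e1, ← e2, h3, h4, hcomp]
    rw [hab]

variable (H : CohTop.Ab X) (ι : H ⟶ CohTop.const X (ULift.{u} ℤ))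

/-- `m·1` is in the image of `H(W)` -/
def Am (W : Opens X) (m : ℤ) : Prop :=
  ∃ s : H.obj.obj (op W), ι.hom.app (op W) s = m • one W

theorem Am_zero (W : Opens X) : Am H ι W 0 := ⟨0, by simp⟩

theorem Am_sub_mul {W : Opens X} {m m' : ℤ} (h : Am H ι W m) (h' : Am H ι W m') (q : ℤ) :
    Am H ι W (m - q * m') := by
  obtain ⟨s, hs⟩ := h
  obtain ⟨s', hs'⟩ := h'
  refine ⟨s - q • s', ?_⟩
  rw [map_sub, map_zsmul, hs, hs', sub_smul, mul_smul]

theorem Am_res {W' W : Opens X} (hle : W' ≤ W) {m : ℤ} (h : Am H ι W m) : Am H ι W' m := by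
  obtain ⟨s, hs⟩ := h
  refine ⟨H.obj.map (homOfLE hle).op s, ?_⟩
  have nat := NatTrans.naturality_apply ι.hom (homOfLE hle).op s
  rw [nat, hs, map_zsmul, one_res]

theorem core [IrreducibleSpace X] : ∃ (U : Opens X) (d : ℤ), U ≠ ⊥ ∧
    (∀ W : Opens X, W ≤ U → ∀ s : H.obj.obj (op W), ∃ t : (DZ X).obj.obj (op W),
      ι.hom.app (op W) s = (d • 𝟙 (DZ X) : (DZ X) ⟶ (DZ X)).hom.app (op W) t) ∧
    (∀ W : Opens X, W ≤ U → ∀ t : (DZ X).obj.obj (op W), ∃ s : H.obj.obj (op W),
      (d • 𝟙 (DZ X) : (DZ X) ⟶ (DZ X)).hom.app (op W) t = ι.hom.app (op W) s) := by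
  classical
  suffices hsuff : ∃ (U : Opens X) (d : ℤ), U ≠ ⊥ ∧
      (∀ W : Opens X, W ≤ U → W ≠ ⊥ → ∀ m : ℤ, Am H ι W m ↔ d ∣ m) by
    obtain ⟨U, d, hU, hA⟩ := hsuff
    refine ⟨U, d, hU, ?_, ?_⟩
    · intro W hW s
      by_cases hWb : W = ⊥
      · subst hWb
        haveI := subsingleton_bot (X := X) (DZ X)
        exact ⟨0, Subsingleton.elim _ _⟩
      · obtain ⟨m, hm⟩ := eta_surjective hWb (ι.hom.app (op W) s)
        obtain ⟨q, rfl⟩ := (hA W hW hWb m).1 ⟨s, hm⟩
        refine ⟨q • one W, ?_⟩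
        rw [smul_id_app_apply, hm, mul_smul]
    · intro W hW t
      by_cases hWb : W = ⊥
      · subst hWb
        haveI := subsingleton_bot (X := X) (DZ X)
        exact ⟨0, Subsingleton.elim _ _⟩
      · obtain ⟨m, rfl⟩ := eta_surjective hWb t
        obtain ⟨s, hs⟩ := (hA W hW hWb d).2 (dvd_refl d)
        refine ⟨m • s, ?_⟩
        rw [smul_id_app_apply, map_zsmul, hs, smul_comm]
  by_cases hex : ∃ k : ℕ, 0 < k ∧ ∃ W : Opens X, W ≠ ⊥ ∧ Am H ι W (k : ℤ)
  · obtain ⟨hd0, U, hU, hdU⟩ := Nat.find_spec hex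
    refine ⟨U, ((Nat.find hex : ℕ) : ℤ), hU, ?_⟩
    intro W hW hWb m
    generalize hd : ((Nat.find hex : ℕ) : ℤ) = d at *
    have hdpos : 0 < d := by rw [← hd]; exact_mod_cast hd0
    constructor
    · intro hm
      have hr := Am_sub_mul H ι hm (Am_res H ι hW hdU) (m / d)
      have hr' : Am H ι W (m % d) := by
        have : m - m / d * d = m % d := by rw [Int.emod_def, mul_comm]
        rwa [this] at hr
      by_contra hnd
      have h1 := Int.emod_nonneg m hdpos.ne'
      have h2 : m % d ≠ 0 := fun h => hnd (Int.dvd_of_emod_eq_zero h)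
      have hlt : m % d < d := Int.emod_lt_of_pos m hdpos
      generalize m % d = r at *
      have hmin := Nat.find_min hex (m := r.toNat) (by
        have : (r.toNat : ℤ) < (Nat.find hex : ℕ) := by
          rw [Int.toNat_of_nonneg h1, hd]; exact hlt
        exact_mod_cast this)
      apply hmin
      refine ⟨by omega, W, hWb, ?_⟩
      rwa [Int.toNat_of_nonneg h1]
    · rintro ⟨q, rfl⟩
      have := Am_sub_mul H ι (Am_zero H ι W) (Am_res H ι hW hdU) (-q)
      have e : (0 : ℤ) - -q * d = d * q := by ring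
      rwa [e] at this
  · have htop : (⊤ : Opens X) ≠ ⊥ := by
      intro h
      obtain ⟨x⟩ := (inferInstance : Nonempty X)
      have hx : x ∈ (⊤ : Opens X) := trivial
      rw [h] at hx
      exact hx.elim
    refine ⟨⊤, 0, htop, ?_⟩
    intro W _ hWb m
    constructor
    · intro hm
      by_contra hne
      have hm0 : m ≠ 0 := fun h => hne (by subst h; exact dvd_refl 0)
      apply hex
      rcases lt_or_gt_of_ne hm0 with h | h
      · refine ⟨(-m).toNat, by omega, W, hWb, ?_⟩
        have := Am_sub_mul H ι (Am_zero H ι W) hm 1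
        rw [Int.toNat_of_nonneg (by omega)]
        simpa using this
      · refine ⟨m.toNat, by omega, W, hWb, ?_⟩
        rwa [Int.toNat_of_nonneg h.le]
    · intro h0
      have : m = 0 := zero_dvd_iff.1 h0
      subst this
      exact Am_zero H ι W

theorem main [IrreducibleSpace X] :
    ∃ (U : Opens X) (d : ℤ), U ≠ ⊥ ∧
      imageSubobject ((CohTop.restrFunctor U).map ι) =
        imageSubobject ((CohTop.restrFunctor U).map (d • 𝟙 (CohTop.const X (ULift.{u} ℤ)))) := by
  obtain ⟨U, d, hU, F1, F2⟩ := core H ι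
  have hle : ∀ V : Opens ↥U, (U.isOpenEmbedding.isOpenMap.functor).obj V ≤ U := by
    rintro V x ⟨y, -, rfl⟩
    exact y.2
  refine ⟨U, d, hU, le_antisymm ?_ ?_⟩
  · apply image_le_image_of_comp_cokernel
    apply comp_cokernel_eq_zero_of_sections
    intro V s
    obtain ⟨t, ht⟩ := F1 _ (hle V.unop) s
    exact ⟨t, ht⟩
  · apply image_le_image_of_comp_cokernel
    apply comp_cokernel_eq_zero_of_sections
    intro V t
    obtain ⟨s, hs⟩ := F2 _ (hle V.unop) t
    exact ⟨s, hs⟩

end Space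

end Groth.Agent.Lib.Lead.IrrConst
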