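import Groth.Statements.S6434
import Mathlib.Data.Fintype.Sigma
import Mathlib.Data.Finite.Sigma
import Mathlib.Data.Finite.Prod

set_option autoImplicit false
open CategoryTheory CategoryTheory.Limits
universe w v u v' u'

namespace Groth.Agent.Lib.Lead.LocFinColim

variable {C : Type u} [Category.{v} C] {D : Type u'} [Category.{v'} D] (W : MorphismProperty C)
  (L : C ⥤ D) [L.IsLocalization W] [W.HasLeftCalculusOfFractions]

include W in
theorem common [W.HasLeftCalculusOfFractions] (Y : C) {ι : Type w} [Finite ι] (Z : ι → C)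
    (t : ∀ i, Y ⟶ Z i) (ht : ∀ i, W (t i)) :
    ∃ (Y' : C) (s : Y ⟶ Y') (_ : W s), ∀ i, ∃ u : Z i ⟶ Y', t i ≫ u = s := by
  classical
  haveI := Fintype.ofFinite ι
  have key : ∀ S : Finset ι, ∃ (Y' : C) (s : Y ⟶ Y') (_ : W s),
      ∀ i ∈ S, ∃ u : Z i ⟶ Y', t i ≫ u = s := by
    intro S
    induction S using Finset.induction_on with
    | empty => exact ⟨Y, 𝟙 Y, W.id_mem Y, fun i hi => absurd hi (Finset.notMem_empty i)⟩
    | insert a S' ha ih =>
      obtain ⟨Y', s, hs, hu⟩ := ih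
      obtain ⟨ψ, hψ⟩ := MorphismProperty.HasLeftCalculusOfFractions.exists_leftFraction
        (MorphismProperty.RightFraction.mk (t a) (ht a) s)
      refine ⟨ψ.Y', s ≫ ψ.s, W.comp_mem _ _ hs ψ.hs, ?_⟩
      intro i hi
      rcases Finset.mem_insert.1 hi with rfl | hi'
      · exact ⟨ψ.f, hψ.symm⟩
      · obtain ⟨u, hu'⟩ := hu i hi'
        exact ⟨u ≫ ψ.s, by rw [← Category.assoc, hu']⟩
  obtain ⟨Y', s, hs, hu⟩ := key Finset.univ
  exact ⟨Y', s, hs, fun i => hu i (Finset.mem_univ i)⟩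

theorem commonDenom {ι : Type w} [Finite ι] (X : ι → C) (Y : C)
    (a : ∀ i, L.obj (X i) ⟶ L.obj Y) :
    ∃ (Y' : C) (s : Y ⟶ Y') (_ : W s) (f : ∀ i, X i ⟶ Y'),
      ∀ i, a i ≫ L.map s = L.map (f i) := by
  choose φ hφ using fun i => Localization.exists_leftFraction L W (a i)
  obtain ⟨Y', s, hs, hu⟩ := common W Y (fun i => (φ i).Y') (fun i => (φ i).s) (fun i => (φ i).hs)
  choose u hu using hu
  refine ⟨Y', s, hs, fun i => (φ i).f ≫ u i, fun i => ?_⟩
  rw [← hu i, L.map_comp, ← Category.assoc, hφ i,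
    MorphismProperty.LeftFraction.map_comp_map_s, ← L.map_comp]

theorem commonEq {ι : Type w} [Finite ι] (X : ι → C) (Y : C) (f g : ∀ i, X i ⟶ Y)
    (h : ∀ i, L.map (f i) = L.map (g i)) :
    ∃ (Y' : C) (s : Y ⟶ Y') (_ : W s), ∀ i, f i ≫ s = g i ≫ s := by
  have h' := fun i => (MorphismProperty.map_eq_iff_postcomp L W (f i) (g i)).1 (h i)
  choose Z t ht htt using h'
  obtain ⟨Y', s, hs, hu⟩ := common W Y Z t ht
  refine ⟨Y', s, hs, fun i => ?_⟩
  obtain ⟨u, hu'⟩ := hu i
  rw [← hu', ← Category.assoc, htt i, Category.assoc]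

include W in
theorem main : PreservesFiniteColimits L := by
  constructor
  intro J _ _
  constructor
  intro K
  constructor
  intro c hc
  haveI := Localization.essSurj L W
  have hL : W.IsInvertedBy L := Localization.inverts L W
  refine ⟨IsColimit.ofExistsUnique ?_⟩
  intro s
  obtain ⟨Y, ⟨e⟩⟩ : ∃ Y : C, Nonempty (L.obj Y ≅ s.pt) := ⟨_, ⟨L.objObjPreimageIso s.pt⟩⟩
  haveI : Finite J := Finite.of_fintype J
  -- existence
  have hex : ∃ l : L.obj c.pt ⟶ s.pt, ∀ j, (L.mapCocone c).ι.app j ≫ l = s.ι.app j := by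
    obtain ⟨Y', s₀, hs₀, f, hf⟩ := commonDenom W L (fun j => K.obj j) Y
      (fun j => s.ι.app j ≫ e.inv)
    haveI : Finite (Σ p : J × J, (p.1 ⟶ p.2)) := Finite.of_fintype _
    have harr : ∀ p : (Σ p : J × J, (p.1 ⟶ p.2)),
        L.map (K.map p.2 ≫ f p.1.2) = L.map (f p.1.1) := by
      rintro ⟨⟨j, j'⟩, φ⟩
      dsimp only
      rw [L.map_comp, ← hf j', ← hf j]
      have hw := s.w φ
      rw [← hw]
      simp only [Functor.comp_map, Category.assoc]
    obtain ⟨Y'', t, ht, htt⟩ := commonEq W L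
      (fun p : (Σ p : J × J, (p.1 ⟶ p.2)) => K.obj p.1.1) Y'
      (fun p => K.map p.2 ≫ f p.1.2) (fun p => f p.1.1) harr
    let c' : Cocone K :=
      { pt := Y''
        ι := { app := fun j => f j ≫ t
               naturality := fun j j' φ => by
                 have := htt ⟨⟨j, j'⟩, φ⟩
                 dsimp only at this
                 simp only [Functor.const_obj_obj, Functor.const_obj_map, Category.comp_id]
                 rw [← Category.assoc]
                 exact this } }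
    haveI : IsIso (L.map (s₀ ≫ t)) := hL _ (W.comp_mem _ _ hs₀ ht)
    refine ⟨L.map (hc.desc c') ≫ inv (L.map (s₀ ≫ t)) ≫ e.hom, fun j => ?_⟩
    have h1 : L.map (c.ι.app j) ≫ L.map (hc.desc c') = (s.ι.app j ≫ e.inv) ≫ L.map (s₀ ≫ t) := by
      rw [← L.map_comp, hc.fac c' j]
      show L.map (f j ≫ t) = _
      rw [L.map_comp, ← hf j, L.map_comp, Category.assoc]
    show L.map (c.ι.app j) ≫ L.map (hc.desc c') ≫ inv (L.map (s₀ ≫ t)) ≫ e.hom = _
    rw [← Category.assoc, h1]
    simp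
  obtain ⟨l, hl⟩ := hex
  refine ⟨l, hl, ?_⟩
  intro l' hl'
  -- uniqueness
  obtain ⟨Y', s₀, hs₀, g, hg⟩ := commonDenom W L (fun _ : Bool => c.pt) Y
    (fun b => if b then l' ≫ e.inv else l ≫ e.inv)
  have hgt := hg true
  have hgf := hg false
  simp only [if_true] at hgt
  simp only [Bool.false_eq_true, if_false] at hgf
  have hj : ∀ j : J, L.map (c.ι.app j ≫ g true) = L.map (c.ι.app j ≫ g false) := by
    intro j
    rw [L.map_comp, L.map_comp, ← hgt, ← hgf]
    have e1 := hl' j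
    have e2 := hl j
    change L.map (c.ι.app j) ≫ l' = _ at e1
    change L.map (c.ι.app j) ≫ l = _ at e2
    rw [← Category.assoc, ← Category.assoc, ← Category.assoc, ← Category.assoc, e1, e2]
  obtain ⟨Y'', t, ht, htt⟩ := commonEq W L (fun j : J => K.obj j) Y'
    (fun j => c.ι.app j ≫ g true) (fun j => c.ι.app j ≫ g false) hj
  have hgg : g true ≫ t = g false ≫ t := by
    apply hc.hom_ext
    intro j
    have := htt j
    simpa only [Category.assoc] using this
  haveI : IsIso (L.map t) := hL _ ht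
  haveI : IsIso (L.map s₀) := hL _ hs₀
  have h2 : L.map (g true) = L.map (g false) := by
    rw [← cancel_mono (L.map t), ← L.map_comp, ← L.map_comp, hgg]
  rw [← hgt, ← hgf, cancel_mono, cancel_mono] at h2
  exact h2

end Groth.Agent.Lib.Lead.LocFinColim
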