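import Groth.Statements.S18591
import Groth.Statements.S18592
import Groth.Statements.S18593
import Groth.Statements.S18594

set_option autoImplicit false
set_option backward.isDefEq.respectTransparency false
universe v u
open CategoryTheory MonoidalCategory Functor.LaxMonoidal Functor.OplaxMonoidal

namespace Groth.Agent.Lib.Lead.MateCalc
open W4c5suslinpi1ab

section Single
variable {C : Type u} [Category.{v} C] [MonoidalCategory C]
variable {D : Type u} [Category.{v} D] [MonoidalCategory D]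
variable {L : C ⥤ D} {R : D ⥤ C} (adj : L ⊣ R) [R.LaxMonoidal]

@[reassoc]
theorem projR_natural {A A' : D} {B B' : C} (a : A ⟶ A') (b : B ⟶ B') :
    (R.map a ⊗ₘ b) ≫ projR adj A' B' = projR adj A B ≫ R.map (a ⊗ₘ L.map b) := by
  unfold projR
  have hn : b ≫ adj.unit.app B' = adj.unit.app B ≫ R.map (L.map b) :=
    (adj.unit_naturality b).symm
  have hA : (R.map a ⊗ₘ b) ≫ (R.obj A' ◁ adj.unit.app B') =
      (R.obj A ◁ adj.unit.app B) ≫ (R.map a ⊗ₘ R.map (L.map b)) := by
    rw [← id_tensorHom, ← id_tensorHom, tensorHom_comp_tensorHom, tensorHom_comp_tensorHom,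
      Category.comp_id, Category.id_comp]
    exact congrArg (fun t => R.map a ⊗ₘ t) hn
  rw [← Category.assoc, hA, Category.assoc, μ_natural, Category.assoc]

@[reassoc]
theorem projR_natural_right (A : D) {B B' : C} (b : B ⟶ B') :
    (R.obj A ◁ b) ≫ projR adj A B' = projR adj A B ≫ R.map (A ◁ L.map b) := by
  have := projR_natural adj (𝟙 A) b
  rw [R.map_id, id_tensorHom, id_tensorHom] at this
  exact this

@[reassoc]
theorem projL_natural {A A' : C} {B B' : D} (a : A ⟶ A') (b : B ⟶ B') :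
    (a ⊗ₘ R.map b) ≫ projL adj A' B' = projL adj A B ≫ R.map (L.map a ⊗ₘ b) := by
  unfold projL
  have hn : a ≫ adj.unit.app A' = adj.unit.app A ≫ R.map (L.map a) :=
    (adj.unit_naturality a).symm
  have hA : (a ⊗ₘ R.map b) ≫ (adj.unit.app A' ▷ R.obj B') =
      (adj.unit.app A ▷ R.obj B) ≫ (R.map (L.map a) ⊗ₘ R.map b) := by
    rw [← tensorHom_id, ← tensorHom_id, tensorHom_comp_tensorHom, tensorHom_comp_tensorHom,
      Category.comp_id, Category.id_comp]
    exact congrArg (fun t => t ⊗ₘ R.map b) hn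
  rw [← Category.assoc, hA, Category.assoc, μ_natural, Category.assoc]

variable [L.OplaxMonoidal] [adj.IsMonoidal]

@[reassoc]
theorem map_projR_counit (A : D) (B : C) :
    L.map (projR adj A B) ≫ adj.counit.app (A ⊗ L.obj B) =
      δ L (R.obj A) B ≫ (adj.counit.app A ▷ L.obj B) := by
  unfold projR
  rw [L.map_comp, Category.assoc, adj.map_μ_comp_counit_app_tensor, ← id_tensorHom]
  erw [← δ_natural_assoc]
  rw [tensorHom_comp_tensorHom, L.map_id, Category.id_comp]
  erw [adj.left_triangle_components]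
  rw [tensorHom_id]

@[reassoc]
theorem map_projL_counit (A : C) (B : D) :
    L.map (projL adj A B) ≫ adj.counit.app (L.obj A ⊗ B) =
      δ L A (R.obj B) ≫ (L.obj A ◁ adj.counit.app B) := by
  unfold projL
  rw [L.map_comp, Category.assoc, adj.map_μ_comp_counit_app_tensor, ← tensorHom_id]
  erw [← δ_natural_assoc]
  rw [tensorHom_comp_tensorHom, L.map_id, Category.id_comp]
  erw [adj.left_triangle_components]
  rw [id_tensorHom]
  rfl

end Single

section Shriek
variable {C : Type u} [Category.{v} C] [MonoidalCategory C]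
variable {D : Type u} [Category.{v} D] [MonoidalCategory D]
variable {L : C ⥤ D} {R : D ⥤ C} {S : C ⥤ D} (adj : L ⊣ R) (adj' : R ⊣ S) [R.LaxMonoidal]
  [∀ (A : D) (B : C), IsIso (projR adj A B)]

@[reassoc]
theorem cupShriek_counit (A B : C) :
    R.map (cupShriek adj adj' A B) ≫ adj'.counit.app (A ⊗ B) =
      inv (projR adj (S.obj A) B) ≫ (adj'.counit.app A ▷ B) := by
  unfold cupShriek
  have h := (adj'.homEquiv (S.obj A ⊗ L.obj B) (A ⊗ B)).symm_apply_apply
    (inv (projR adj (S.obj A) B) ≫ (adj'.counit.app A ▷ B))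
  rw [Adjunction.homEquiv_counit] at h
  exact h

theorem cupShriek_natural (A : C) {B B' : C} (h : B ⟶ B') :
    (S.obj A ◁ L.map h) ≫ cupShriek adj adj' A B' = cupShriek adj adj' A B ≫ S.map (A ◁ h) := by
  unfold cupShriek
  rw [← Adjunction.homEquiv_naturality_left, ← Adjunction.homEquiv_naturality_right]
  congr 1
  have h1 : R.map (S.obj A ◁ L.map h) ≫ inv (projR adj (S.obj A) B') =
      inv (projR adj (S.obj A) B) ≫ (R.obj (S.obj A) ◁ h) := by
    rw [IsIso.eq_inv_comp, ← Category.assoc, IsIso.comp_inv_eq]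
    exact (projR_natural_right adj (S.obj A) h).symm
  rw [← Category.assoc, h1, Category.assoc, Category.assoc, whisker_exchange]
  rfl

end Shriek

section Square
variable {S₀ : Type u} [Category.{v} S₀] [MonoidalCategory S₀]
variable {Y₁ : Type u} [Category.{v} Y₁] [MonoidalCategory Y₁]
variable {Y₂ : Type u} [Category.{v} Y₂] [MonoidalCategory Y₂]
variable {X : Type u} [Category.{v} X] [MonoidalCategory X]
variable {fL : S₀ ⥤ Y₁} {fR : Y₁ ⥤ S₀} (adjf : fL ⊣ fR) [fR.LaxMonoidal]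
variable {gR : Y₂ ⥤ S₀}
variable {pL : Y₁ ⥤ X} {pR : X ⥤ Y₁} (adjp : pL ⊣ pR) [pR.LaxMonoidal]
variable {qL : Y₂ ⥤ X} {qR : X ⥤ Y₂} (adjq : qL ⊣ qR) (ν : qR ⋙ gR ⟶ pR ⋙ fR)

@[reassoc]
theorem extProd_natural {A A' : Y₁} {B B' : Y₂} (a : A ⟶ A') (b : B ⟶ B') :
    (fR.map a ⊗ₘ gR.map b) ≫ extProd adjf adjp adjq ν A' B' =
      extProd adjf adjp adjq ν A B ≫ fR.map (pR.map (pL.map a ⊗ₘ qL.map b)) := by
  unfold extProd
  rw [projR_natural_assoc, Category.assoc, Category.assoc, ← fR.map_comp, ← fR.map_comp,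
    ← fR.map_comp, ← fR.map_comp]
  congr 2
  have hb : (a ⊗ₘ fL.map (gR.map b)) ≫ (A' ◁ (bcMor adjf adjq ν).app B') =
      (A ◁ (bcMor adjf adjq ν).app B) ≫ (a ⊗ₘ pR.map (qL.map b)) := by
    have hn := (bcMor adjf adjq ν).naturality b
    simp only [Functor.comp_map] at hn
    rw [← id_tensorHom, ← id_tensorHom, tensorHom_comp_tensorHom, tensorHom_comp_tensorHom,
      Category.comp_id, Category.id_comp, hn]
  rw [← Category.assoc, hb, Category.assoc, projL_natural]

variable [fL.OplaxMonoidal] [adjf.IsMonoidal] [pL.OplaxMonoidal] [adjp.IsMonoidal]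

theorem E1 (A : Y₁) (B : Y₂) :
    fL.map (extProd adjf adjp adjq ν A B) ≫ adjf.counit.app _ =
      δ fL (fR.obj A) (gR.obj B) ≫ (adjf.counit.app A ⊗ₘ (bcMor adjf adjq ν).app B) ≫
        projL adjp A (qL.obj B) := by
  unfold extProd
  rw [fL.map_comp, fL.map_comp, Category.assoc, Category.assoc]
  erw [adjf.counit_naturality, adjf.counit_naturality_assoc]
  erw [map_projR_counit_assoc]
  rw [tensorHom_def, Category.assoc]
  rfl

theorem T1 (A : Y₁) (B : Y₂) :
    ((adjf.comp adjp).homEquiv _ _).symm (extProd adjf adjp adjq ν A B) =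
      δ (fL ⋙ pL) (fR.obj A) (gR.obj B) ≫
        (pL.map (adjf.counit.app A) ⊗ₘ
          (pL.map ((bcMor adjf adjq ν).app B) ≫ adjp.counit.app (qL.obj B))) := by
  rw [Adjunction.homEquiv_counit, Adjunction.comp_counit_app, Functor.OplaxMonoidal.comp_δ]
  rw [Functor.comp_map, ← Category.assoc, ← pL.map_comp]
  erw [E1]
  rw [pL.map_comp, pL.map_comp, Category.assoc, Category.assoc]
  erw [map_projL_counit]
  erw [← δ_natural_assoc]
  rw [← id_tensorHom, tensorHom_comp_tensorHom]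
  erw [Category.comp_id]
  rw [Category.assoc]

end Square

section Square2
variable {S₀ : Type u} [Category.{v} S₀] [MonoidalCategory S₀]
variable {Y₁ : Type u} [Category.{v} Y₁] [MonoidalCategory Y₁]
variable {Y₂ : Type u} [Category.{v} Y₂] [MonoidalCategory Y₂]
variable {X : Type u} [Category.{v} X] [MonoidalCategory X]
variable {fL : S₀ ⥤ Y₁} {fR : Y₁ ⥤ S₀} (adjf : fL ⊣ fR) [fR.LaxMonoidal]
variable {gR : Y₂ ⥤ S₀}
variable {pL : Y₁ ⥤ X} {pR : X ⥤ Y₁} (adjp : pL ⊣ pR) [pR.LaxMonoidal]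
variable {qL : Y₂ ⥤ X} {qR : X ⥤ Y₂} (adjq : qL ⊣ qR) (ν : qR ⋙ gR ⟶ pR ⋙ fR)
variable {fS : S₀ ⥤ Y₁} (adjf' : fR ⊣ fS) {gS : S₀ ⥤ Y₂} (adjg' : gR ⊣ gS)
    {pS : Y₁ ⥤ X} (adjp' : pR ⊣ pS)
    [∀ (A : Y₁) (B : S₀), IsIso (projR adjf A B)]
    [∀ (A : Y₁) (B : X), IsIso (projL adjp A B)]
    [∀ B : Y₂, IsIso ((bcMor adjf adjq ν).app B)]

instance isIso_extProd (A : Y₁) (B : Y₂) : IsIso (extProd adjf adjp adjq ν A B) := by
  unfold extProd
  infer_instance

theorem T3 (A B : S₀) :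
    extProd adjf adjp adjq ν (fS.obj A) (gS.obj B) ≫
      fR.map (pR.map (prodShriek adjf adjf' adjg' adjp adjp' adjq ν A B)) ≫
        fR.map (adjp'.counit.app (fS.obj (A ⊗ B))) =
      (fR.obj (fS.obj A) ◁ adjg'.counit.app B) ≫ projR adjf (fS.obj A) B ≫
        fR.map (cupShriek adjf adjf' A B) := by
  have hT : pR.map (prodShriek adjf adjf' adjg' adjp adjp' adjq ν A B) ≫
      adjp'.counit.app (fS.obj (A ⊗ B)) =
      inv (projL adjp (fS.obj A) (qL.obj (gS.obj B))) ≫
      (fS.obj A ◁ inv ((bcMor adjf adjq ν).app (gS.obj B))) ≫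
      cupShriek adjf adjf' A (gR.obj (gS.obj B)) ≫ fS.map (A ◁ adjg'.counit.app B) := by
    unfold prodShriek
    have h := (adjp'.homEquiv (pL.obj (fS.obj A) ⊗ qL.obj (gS.obj B)) (fS.obj (A ⊗ B))).symm_apply_apply
      (inv (projL adjp (fS.obj A) (qL.obj (gS.obj B))) ≫
      (fS.obj A ◁ inv ((bcMor adjf adjq ν).app (gS.obj B))) ≫
      cupShriek adjf adjf' A (gR.obj (gS.obj B)) ≫ fS.map (A ◁ adjg'.counit.app B))
    rw [Adjunction.homEquiv_counit] at h
    exact h
  rw [← fR.map_comp, hT, ← cupShriek_natural]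
  erw [projR_natural_right_assoc]
  rw [← fR.map_comp]
  unfold extProd
  rw [Category.assoc, Category.assoc, ← fR.map_comp, ← fR.map_comp]
  congr 2
  rw [IsIso.hom_inv_id_assoc, ← MonoidalCategory.whiskerLeft_comp_assoc, IsIso.hom_inv_id,
    MonoidalCategory.whiskerLeft_id, Category.id_comp]
  rfl

theorem T2 (A B : S₀) :
    extProd adjf adjp adjq ν (fS.obj A) (gS.obj B) ≫
      ((adjp'.comp adjf').homEquiv _ _).symm
        (prodShriek adjf adjf' adjg' adjp adjp' adjq ν A B) =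
      (adjf'.counit.app A ⊗ₘ adjg'.counit.app B) := by
  rw [Adjunction.homEquiv_counit, Adjunction.comp_counit_app, Functor.comp_map]
  have h3 := T3 adjf adjp adjq ν adjf' adjg' adjp' A B
  calc _ = (extProd adjf adjp adjq ν (fS.obj A) (gS.obj B) ≫
        fR.map (pR.map (prodShriek adjf adjf' adjg' adjp adjp' adjq ν A B)) ≫
          fR.map (adjp'.counit.app (fS.obj (A ⊗ B)))) ≫ adjf'.counit.app (A ⊗ B) := by
        simp only [Category.assoc]
    _ = _ := by
        rw [h3, Category.assoc, Category.assoc, cupShriek_counit, IsIso.hom_inv_id_assoc,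
          tensorHom_def']
        rfl

theorem T4 (A B : S₀) (A' : Y₁) (B' : Y₂) (C' : X)
    (trA : A' ⟶ fS.obj A) (trB : B' ⟶ gS.obj B) (trC : C' ⟶ pS.obj (fS.obj (A ⊗ B)))
    (m : pL.obj A' ⊗ qL.obj B' ⟶ C') :
    ((pL.map trA ⊗ₘ qL.map trB) ≫ prodShriek adjf adjf' adjg' adjp adjp' adjq ν A B =
        m ≫ trC) ↔
      (((adjf'.homEquiv _ _).symm trA ⊗ₘ (adjg'.homEquiv _ _).symm trB) =
        extProd adjf adjp adjq ν A' B' ≫ fR.map (pR.map m) ≫
          ((adjp'.comp adjf').homEquiv _ _).symm trC) := by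
  have K : ((adjf'.homEquiv _ _).symm trA ⊗ₘ (adjg'.homEquiv _ _).symm trB) =
      extProd adjf adjp adjq ν A' B' ≫ ((adjp'.comp adjf').homEquiv _ _).symm
        ((pL.map trA ⊗ₘ qL.map trB) ≫ prodShriek adjf adjf' adjg' adjp adjp' adjq ν A B) := by
    rw [Adjunction.homEquiv_naturality_left_symm, Functor.comp_map, ← extProd_natural_assoc, T2,
      tensorHom_comp_tensorHom, Adjunction.homEquiv_counit, Adjunction.homEquiv_counit]
  have K2 : fR.map (pR.map m) ≫ ((adjp'.comp adjf').homEquiv _ _).symm trC =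
      ((adjp'.comp adjf').homEquiv _ _).symm (m ≫ trC) := by
    rw [Adjunction.homEquiv_naturality_left_symm, Functor.comp_map]
  rw [K, K2]
  constructor
  · intro h
    rw [h]
  · intro h
    exact (Equiv.injective _) ((cancel_epi _).1 h)

end Square2

end Groth.Agent.Lib.Lead.MateCalc
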