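import Groth.Statements.S15465
import Mathlib.CategoryTheory.Abelian.Refinements

set_option autoImplicit false
open CategoryTheory CategoryTheory.Limits
universe v u

namespace Groth.Agent.Lib.Lead.NineK

variable {C : Type u} [Category.{v} C] [Abelian C]

theorem aux (S : ShortComplex C) {A₂ A₃ C₁ C₂ : C}
    (i₁ : S.X₁ ⟶ A₂) (p₁ : A₂ ⟶ A₃) (wA : i₁ ≫ p₁ = 0) (hA : (ShortComplex.mk i₁ p₁ wA).ShortExact)
    (i₂ : A₂ ⟶ S.X₂) (π₂ : S.X₂ ⟶ C₂) (wB : i₂ ≫ π₂ = 0) (hB : (ShortComplex.mk i₂ π₂ wB).ShortExact)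
    (j : C₁ ⟶ C₂) (q : C₂ ⟶ S.X₃) (wC : j ≫ q = 0) (hC : (ShortComplex.mk j q wC).ShortExact)
    (hSf : S.f = i₁ ≫ i₂) (hSg : S.g = π₂ ≫ q)
    (h₂ : i₂ ≫ S.g = 0) (h₃ : S.f ≫ π₂ = 0)
    (f : A₃ ⟶ S.homology) (g : S.homology ⟶ C₁)
    (hf : p₁ ≫ f = S.liftCycles i₂ h₂ ≫ S.homologyπ)
    (hg : g ≫ j = S.homologyι ≫ S.descOpcycles π₂ h₃) :
    ∃ wfg : f ≫ g = 0, (ShortComplex.mk f g wfg).ShortExact := by
  haveI : Epi p₁ := hA.epi_g
  haveI : Mono i₁ := hA.mono_f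
  haveI : Mono i₂ := hB.mono_f
  haveI : Epi π₂ := hB.epi_g
  haveI : Mono j := hC.mono_f
  haveI : Epi q := hC.epi_g
  have key : S.homologyπ ≫ S.homologyι ≫ S.descOpcycles π₂ h₃ = S.iCycles ≫ π₂ := by
    rw [← Category.assoc, S.homology_π_ι, Category.assoc, S.p_descOpcycles]
  have wfg : f ≫ g = 0 := by
    have h0 : (p₁ ≫ f) ≫ (g ≫ j) = 0 := by
      rw [hf, hg, Category.assoc, key, S.liftCycles_i_assoc, wB]
    rw [← cancel_epi p₁, ← cancel_mono j]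
    simpa only [Category.assoc, comp_zero, zero_comp] using h0
  have hmono : Mono f := by
    apply Preadditive.mono_of_cancel_zero
    intro T x hx
    obtain ⟨T', π, hπ, y, hy⟩ := surjective_up_to_refinements_of_epi p₁ x
    have h1 : (y ≫ S.liftCycles i₂ h₂) ≫ S.homologyπ = 0 := by
      rw [Category.assoc, ← hf, ← Category.assoc, ← hy, Category.assoc, hx, comp_zero]
    obtain ⟨T'', π', hπ', z, hz⟩ := (S.comp_homologyπ_eq_zero_iff_up_to_refinements _).1 h1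
    have h2 : z ≫ i₁ = π' ≫ y := by
      rw [← cancel_mono i₂, Category.assoc, Category.assoc]
      have := congrArg (· ≫ S.iCycles) hz
      simp only [Category.assoc, S.liftCycles_i, S.toCycles_i, hSf] at this
      exact this.symm
    rw [← cancel_epi π, ← cancel_epi π', comp_zero, comp_zero, hy, ← Category.assoc, ← h2,
      Category.assoc, wA, comp_zero]
  have hepi : Epi g := by
    rw [epi_iff_surjective_up_to_refinements]
    intro T c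
    obtain ⟨T', π, hπ, b, hb⟩ := surjective_up_to_refinements_of_epi π₂ (c ≫ j)
    have hbβ : b ≫ S.g = 0 := by
      rw [hSg, ← Category.assoc, ← hb, Category.assoc, Category.assoc, wC, comp_zero, comp_zero]
    refine ⟨T', π, hπ, S.liftCycles b hbβ ≫ S.homologyπ, ?_⟩
    rw [← cancel_mono j, Category.assoc, Category.assoc, Category.assoc, hg, key,
      S.liftCycles_i_assoc]
    exact hb
  have hex : (ShortComplex.mk f g wfg).Exact := by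
    rw [ShortComplex.exact_iff_exact_up_to_refinements]
    intro T k hk
    have hk' : k ≫ g = 0 := hk
    obtain ⟨T', π, hπ, z, hz⟩ := surjective_up_to_refinements_of_epi S.homologyπ k
    have hb : (z ≫ S.iCycles) ≫ π₂ = 0 := by
      calc (z ≫ S.iCycles) ≫ π₂
          = z ≫ S.homologyπ ≫ S.homologyι ≫ S.descOpcycles π₂ h₃ := by
            rw [Category.assoc, key]
        _ = (π ≫ k) ≫ g ≫ j := by rw [hz, hg, Category.assoc]
        _ = 0 := by rw [Category.assoc, ← Category.assoc k, hk', zero_comp, comp_zero]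
    obtain ⟨T'', π', hπ', a, ha⟩ := hB.exact.exact_up_to_refinements (z ≫ S.iCycles) hb
    have hza : π' ≫ z = a ≫ S.liftCycles i₂ h₂ := by
      rw [← cancel_mono S.iCycles, Category.assoc, Category.assoc, S.liftCycles_i]
      exact ha
    refine ⟨T'', π' ≫ π, epi_comp _ _, a ≫ p₁, ?_⟩
    show (π' ≫ π) ≫ k = (a ≫ p₁) ≫ f
    rw [Category.assoc, hz, ← Category.assoc, hza, Category.assoc, Category.assoc, hf]
  exact ⟨wfg, { exact := hex, mono_f := hmono, epi_g := hepi }⟩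


theorem main {A₁ A₂ A₃ B₂ C₁ C₂ C₃ : C}
    (i₁ : A₁ ⟶ A₂) (p₁ : A₂ ⟶ A₃) (wA : i₁ ≫ p₁ = 0) (hA : (ShortComplex.mk i₁ p₁ wA).ShortExact)
    (i₂ : A₂ ⟶ B₂) (π₂ : B₂ ⟶ C₂) (wB : i₂ ≫ π₂ = 0) (hB : (ShortComplex.mk i₂ π₂ wB).ShortExact)
    (j : C₁ ⟶ C₂) (q : C₂ ⟶ C₃) (wC : j ≫ q = 0) (hC : (ShortComplex.mk j q wC).ShortExact)
    (w : (i₁ ≫ i₂) ≫ (π₂ ≫ q) = 0) (h₂ : i₂ ≫ (π₂ ≫ q) = 0) (h₃ : (i₁ ≫ i₂) ≫ π₂ = 0)
    (f : A₃ ⟶ (ShortComplex.mk (i₁ ≫ i₂) (π₂ ≫ q) w).homology)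
    (g : (ShortComplex.mk (i₁ ≫ i₂) (π₂ ≫ q) w).homology ⟶ C₁)
    (hf : p₁ ≫ f = (ShortComplex.mk (i₁ ≫ i₂) (π₂ ≫ q) w).liftCycles i₂ h₂ ≫
      (ShortComplex.mk (i₁ ≫ i₂) (π₂ ≫ q) w).homologyπ)
    (hg : g ≫ j = (ShortComplex.mk (i₁ ≫ i₂) (π₂ ≫ q) w).homologyι ≫
      (ShortComplex.mk (i₁ ≫ i₂) (π₂ ≫ q) w).descOpcycles π₂ h₃) :
    ∃ wfg : f ≫ g = 0, (ShortComplex.mk f g wfg).ShortExact :=
  aux (ShortComplex.mk (i₁ ≫ i₂) (π₂ ≫ q) w) i₁ p₁ wA hA i₂ π₂ wB hB j q wC hC rfl rfl h₂ h₃ f g hf hg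

end Groth.Agent.Lib.Lead.NineK
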