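import Mathlib.CategoryTheory.Sites.Over
import Mathlib.CategoryTheory.Sites.CoverLifting
import Mathlib.CategoryTheory.Sites.Pullback
import Mathlib.CategoryTheory.Adjunction.Triple
import Mathlib.CategoryTheory.Sites.Limits
import Mathlib.CategoryTheory.Limits.Types.Limits
import Mathlib.Algebra.Category.Grp.Limits

/-!
# Extension by the empty set along a fully faithful continuous and cocontinuous functor
-/

set_option autoImplicit false
set_option backward.isDefEq.respectTransparency false
set_option backward.isDefEq.respectTransparency.types false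

namespace Groth.Agent.Lib.Lead.OverSub

open CategoryTheory CategoryTheory.Limits Opposite

universe w' w v₁ u₁ v₂ u₂

variable {C : Type u₁} [Category.{v₁} C] {D : Type u₂} [Category.{v₂} D]

/-- for a fully faithful continuous and cocontinuous functor the unit of `L_! ⊣ L^*` is an
isomorphism -/
theorem isIso_unit_of_fullyFaithful (L : C ⥤ D) [L.Full] [L.Faithful]
    (J : GrothendieckTopology C) (K : GrothendieckTopology D) (A : Type w') [Category.{w} A]
    [L.IsContinuous J K] [L.IsCocontinuous J K]
    [∀ P : Cᵒᵖ ⥤ A, L.op.HasPointwiseRightKanExtension P]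
    [(L.sheafPushforwardContinuous A J K).IsRightAdjoint] :
    IsIso (L.sheafAdjunctionContinuous A J K).unit := by
  let adj₂ := L.sheafAdjunctionCocontinuous A J K
  let adj₁ := L.sheafAdjunctionContinuous A J K
  haveI : IsIso adj₂.counit := by
    apply (config := {allowSynthFailures := true}) NatIso.isIso_of_isIso_app
    intro Q
    haveI : IsIso ((sheafToPresheaf _ _).map (adj₂.counit.app Q)) := by
      show IsIso (adj₂.counit.app Q).hom
      rw [Functor.sheafAdjunctionCocontinuous_counit_app_hom]
      infer_instance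
    exact isIso_of_reflects_iso _ (sheafToPresheaf _ _)
  let t : Adjunction.Triple _ _ _ := ⟨adj₁, adj₂⟩
  exact t.isIso_unit_iff_isIso_counit.2 inferInstance

theorem full_forget_of_subsingleton (U : C) (hU : ∀ V : C, Subsingleton (V ⟶ U)) :
    (Over.forget U).Full :=
  ⟨fun {X Y} f => ⟨Over.homMk f (Subsingleton.elim _ _), rfl⟩⟩

section Over

universe v u

variable {C : Type u} [Category.{v} C] (J : GrothendieckTopology C) (U : C)

theorem isIso_unit_over_type (hU : ∀ V : C, Subsingleton (V ⟶ U))
    [HasWeakSheafify J (Type (max u v))]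
    [∀ (P : (Over U)ᵒᵖ ⥤ (Type (max u v))), (Over.forget U).op.HasLeftKanExtension P] :
    IsIso ((Over.forget U).sheafAdjunctionContinuous (Type (max u v)) (J.over U) J).unit := by
  haveI := full_forget_of_subsingleton U hU
  exact isIso_unit_of_fullyFaithful (Over.forget U) (J.over U) J (Type (max u v))

theorem isIso_unit_over_ab (hU : ∀ V : C, Subsingleton (V ⟶ U))
    [HasWeakSheafify J AddCommGrpCat.{max u v}]
    [∀ (P : (Over U)ᵒᵖ ⥤ AddCommGrpCat.{max u v}), (Over.forget U).op.HasLeftKanExtension P] :
    IsIso ((Over.forget U).sheafAdjunctionContinuous AddCommGrpCat.{max u v} (J.over U) J).unit := by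
  haveI := full_forget_of_subsingleton U hU
  exact isIso_unit_of_fullyFaithful (Over.forget U) (J.over U) J AddCommGrpCat.{max u v}

theorem surjective_over (hU : ∀ W : C, Subsingleton (W ⟶ U))
    [HasWeakSheafify J (Type (max u v))]
    [∀ (P : (Over U)ᵒᵖ ⥤ Type (max u v)), (Over.forget U).op.HasLeftKanExtension P]
    (V : C) (hV : ∀ (A B : Sheaf J (Type (max u v))) (ψ : A ⟶ B), Epi ψ →
      Function.Surjective (ψ.hom.app (op V))) (a : V ⟶ U)
    (A B : Sheaf (J.over U) (Type (max u v))) (ψ : A ⟶ B) (hψ : Epi ψ) :
    Function.Surjective (ψ.hom.app (op (Over.mk a))) := by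
  intro b
  let adj := (Over.forget U).sheafAdjunctionContinuous (Type (max u v)) (J.over U) J
  let jsh := (Over.forget U).sheafPullback (Type (max u v)) (J.over U) J
  have hiso := isIso_unit_over_type J U hU
  have hla : jsh.IsLeftAdjoint := adj.isLeftAdjoint
  have hepi : Epi (jsh.map ψ) := inferInstance
  have bij : ∀ X : Sheaf (J.over U) (Type (max u v)),
      Function.Bijective ((adj.unit.app X).hom.app (op (Over.mk a))) := by
    intro X
    have h1 : IsIso (adj.unit.app X) := inferInstance
    have h2 : IsIso ((sheafToPresheaf _ _).map (adj.unit.app X)) := inferInstance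
    have h3 : IsIso (((sheafToPresheaf _ _).map (adj.unit.app X)).app (op (Over.mk a))) :=
      inferInstance
    exact (isIso_iff_bijective _).1 h3
  obtain ⟨a', ha'⟩ := hV _ _ (jsh.map ψ) hepi ((adj.unit.app B).hom.app (op (Over.mk a)) b)
  obtain ⟨a0, ha0⟩ := (bij A).2 a'
  refine ⟨a0, (bij B).1 ?_⟩
  have nat : ψ ≫ adj.unit.app B = adj.unit.app A ≫
      ((Over.forget U).sheafPushforwardContinuous (Type (max u v)) (J.over U) J).map (jsh.map ψ) :=
    adj.unit.naturality ψ
  have nat' := congrArg (fun k => k.hom.app (op (Over.mk a)) a0) nat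
  refine nat'.trans ?_
  show (jsh.map ψ).hom.app (op V) ((adj.unit.app A).hom.app (op (Over.mk a)) a0) = _
  rw [ha0]
  exact ha'

end Over

end Groth.Agent.Lib.Lead.OverSub
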