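import Mathlib
import Groth.Prelude.Def_EGA41

/-!
# `K[T_i]/(T_i^p - a_i)` is a field for `p`-independent `a_i` (lead)
-/

set_option autoImplicit false
universe u

namespace Groth.Agent.Lib.Lead.PIndepField

open MvPolynomial

variable {K : Type u} [Field K] (p : ℕ) [Fact p.Prime] [CharP K p] {ι : Type u} (a : ι → K)

/-- the ideal `(X_i^p - a_i)`. -/
noncomputable def J : Ideal (MvPolynomial ι K) :=
  Ideal.span (Set.range fun i => (X i : MvPolynomial ι K) ^ p - C (a i))

/-- `P ↦ P^p` evaluated: coefficients raised to `p`, `X_i ↦ a_i`. -/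
noncomputable def ψ : MvPolynomial ι K →+* K := eval₂Hom (frobenius K p) a

theorem ψ_monomial (e : ι →₀ ℕ) (c : K) :
    ψ p a (monomial e c) = c ^ p * EGA41.pMonomial a e := by
  unfold ψ EGA41.pMonomial
  rw [coe_eval₂Hom, eval₂_monomial]
  rfl

theorem ψ_J (P : MvPolynomial ι K) (hP : P ∈ J p a) : ψ p a P = 0 := by
  have : J p a ≤ RingHom.ker (ψ p a) := by
    unfold J
    rw [Ideal.span_le]
    rintro _ ⟨i, rfl⟩
    rw [SetLike.mem_coe, RingHom.mem_ker, map_sub, map_pow]
    unfold ψ
    rw [coe_eval₂Hom, eval₂_X, eval₂_C]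
    simp [frobenius_def]
  exact this hP

theorem mk_pow (P : MvPolynomial ι K) :
    Ideal.Quotient.mk (J p a) (P ^ p) = Ideal.Quotient.mk (J p a) (C (ψ p a P)) := by
  have h : (Ideal.Quotient.mk (J p a)).comp (frobenius (MvPolynomial ι K) p) =
      (Ideal.Quotient.mk (J p a)).comp (C.comp (ψ p a)) := by
    apply MvPolynomial.ringHom_ext
    · intro r
      simp only [RingHom.comp_apply, frobenius_def]
      unfold ψ
      rw [coe_eval₂Hom, eval₂_C, ← C_pow]
      rfl
    · intro i
      simp only [RingHom.comp_apply, frobenius_def]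
      unfold ψ
      rw [coe_eval₂Hom, eval₂_X]
      rw [Ideal.Quotient.eq]
      exact Ideal.subset_span ⟨i, rfl⟩
  have := congrArg (fun f => f P) h
  simpa [frobenius_def] using this

/-- exponent quotient and remainder -/
noncomputable def qe (e : ι →₀ ℕ) : ι →₀ ℕ := e.mapRange (· / p) (Nat.zero_div p)
noncomputable def re (e : ι →₀ ℕ) : ι →₀ ℕ := e.mapRange (· % p) (Nat.zero_mod p)

theorem re_lt (e : ι →₀ ℕ) (i : ι) : re p e i < p := by
  unfold re
  rw [Finsupp.mapRange_apply]
  exact Nat.mod_lt _ (Fact.out : p.Prime).pos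

theorem qe_re (e : ι →₀ ℕ) : p • qe p e + re p e = e := by
  ext i
  simp only [Finsupp.coe_add, Finsupp.coe_smul, Pi.add_apply, Pi.smul_apply, smul_eq_mul]
  unfold qe re
  rw [Finsupp.mapRange_apply, Finsupp.mapRange_apply]
  exact Nat.div_add_mod _ _

theorem monomial_red (e : ι →₀ ℕ) (c : K) :
    monomial e c - monomial (re p e) (c * EGA41.pMonomial a (qe p e)) ∈ J p a := by
  rw [← Ideal.Quotient.eq]
  have h1 : (monomial e c : MvPolynomial ι K) =
      (monomial (qe p e) (1 : K)) ^ p * monomial (re p e) c := by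
    rw [monomial_pow, one_pow, monomial_mul, one_mul, qe_re]
  have h2 : (monomial (re p e) (c * EGA41.pMonomial a (qe p e)) : MvPolynomial ι K) =
      C (ψ p a (monomial (qe p e) (1 : K))) * monomial (re p e) c := by
    rw [ψ_monomial, one_pow, one_mul, C_mul_monomial, mul_comm]
  rw [h1, h2, map_mul, map_mul, mk_pow]

/-- reduced exponents -/
abbrev N (p : ℕ) (ι : Type u) : Type u := {e : ι →₀ ℕ // ∀ i, e i < p}

/-- the reduced coefficient vector of a polynomial -/
noncomputable def ρ : MvPolynomial ι K →ₗ[K] (N p ι →₀ K) :=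
  (basisMonomials ι K).constr K
    (fun e => Finsupp.single (⟨re p e, re_lt p e⟩ : N p ι) (EGA41.pMonomial a (qe p e)))

/-- back to polynomials -/
noncomputable def σ : (N p ι →₀ K) →ₗ[K] MvPolynomial ι K :=
  Finsupp.linearCombination K (fun e' : N p ι => (monomial e'.1 (1 : K) : MvPolynomial ι K))

theorem ρ_monomial (e : ι →₀ ℕ) (c : K) :
    ρ p a (monomial e c) =
      Finsupp.single (⟨re p e, re_lt p e⟩ : N p ι) (c * EGA41.pMonomial a (qe p e)) := by
  have h1 : (monomial e c : MvPolynomial ι K) = c • basisMonomials ι K e := by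
    rw [coe_basisMonomials, smul_monomial, smul_eq_mul, mul_one]
  rw [h1, map_smul]
  unfold ρ
  rw [Module.Basis.constr_basis, Finsupp.smul_single, smul_eq_mul]

theorem σ_single (e' : N p ι) (c : K) : σ p (Finsupp.single e' c) = monomial e'.1 c := by
  unfold σ
  rw [Finsupp.linearCombination_single, smul_monomial, smul_eq_mul, mul_one]

theorem sub_σρ_mem (P : MvPolynomial ι K) : P - σ p (ρ p a P) ∈ J p a := by
  induction P using MvPolynomial.induction_on' with
  | monomial e c =>
    rw [ρ_monomial, σ_single]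
    exact monomial_red p a e c
  | add P Q hP hQ =>
    have : P + Q - σ p (ρ p a (P + Q)) = (P - σ p (ρ p a P)) + (Q - σ p (ρ p a Q)) := by
      rw [map_add, map_add]; ring
    rw [this]
    exact Ideal.add_mem _ hP hQ

theorem ψ_σ (v : N p ι →₀ K) :
    ψ p a (σ p v) = v.sum fun e' c => c ^ p * EGA41.pMonomial a e'.1 := by
  induction v using Finsupp.induction_linear with
  | zero => simp
  | add v w hv hw =>
    rw [map_add, map_add, hv, hw, Finsupp.sum_add_index']
    · intro e'; simp [(Fact.out : p.Prime).ne_zero]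
    · intro e' c d
      rw [add_pow_char, add_mul]
  | single e' c =>
    rw [σ_single, ψ_monomial, Finsupp.sum_single_index]
    simp [(Fact.out : p.Prime).ne_zero]

variable (hind : LinearIndependent (↥(frobenius K p).fieldRange)
      (fun e : N p ι => EGA41.pMonomial a e.1))

include hind in
theorem mem_J_of_ψ_eq_zero (P : MvPolynomial ι K) (h : ψ p a P = 0) : P ∈ J p a := by
  have h1 := sub_σρ_mem p a P
  have h2 : ψ p a (σ p (ρ p a P)) = 0 := by
    have := ψ_J p a _ h1
    rw [map_sub, h, zero_sub, neg_eq_zero] at this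
    exact this
  rw [ψ_σ] at h2
  rw [linearIndependent_iff'] at hind
  have h3 := hind (ρ p a P).support
    (fun e' => (⟨(ρ p a P e') ^ p, ⟨ρ p a P e', rfl⟩⟩ : (frobenius K p).fieldRange)) (by
      rw [← h2]
      unfold Finsupp.sum
      refine Finset.sum_congr rfl (fun e' _ => ?_)
      rfl)
  have h4 : ρ p a P = 0 := by
    ext e'
    by_cases he : e' ∈ (ρ p a P).support
    · have := h3 e' he
      have h5 : (ρ p a P e') ^ p = 0 := congrArg Subtype.val this
      rw [Finsupp.coe_zero, Pi.zero_apply]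
      exact pow_eq_zero_iff (Fact.out : p.Prime).ne_zero |>.mp h5
    · rw [Finsupp.notMem_support_iff] at he
      rw [he]; rfl
  rw [h4, map_zero, sub_zero] at h1
  exact h1

include hind in
theorem J_isMaximal : (J p a).IsMaximal := by
  rw [Ideal.isMaximal_iff]
  refine ⟨fun h1 => ?_, fun I P hJI hP hPI => ?_⟩
  · have := ψ_J p a 1 h1
    rw [map_one] at this
    exact one_ne_zero this
  · have hψ : ψ p a P ≠ 0 := fun h => hP (mem_J_of_ψ_eq_zero p a hind P h)
    have hp1 : p = (p - 1) + 1 := (Nat.sub_add_cancel (Fact.out : p.Prime).one_le).symm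
    have h2 : P ^ p - C (ψ p a P) ∈ J p a := by
      rw [← Ideal.Quotient.eq]
      exact mk_pow p a P
    have h3 : C (ψ p a P) ∈ I := by
      have : C (ψ p a P) = P ^ p - (P ^ p - C (ψ p a P)) := by ring
      rw [this]
      refine Ideal.sub_mem _ ?_ (hJI h2)
      rw [hp1, pow_succ]
      exact Ideal.mul_mem_left _ _ hPI
    have h4 : (1 : MvPolynomial ι K) = C ((ψ p a P)⁻¹) * C (ψ p a P) := by
      rw [← C_mul, inv_mul_cancel₀ hψ, C_1]
    rw [h4]
    exact Ideal.mul_mem_left _ _ h3

end Groth.Agent.Lib.Lead.PIndepField
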