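import Groth.Prelude.Def_ProCons
import Groth.Agent.Lib.Lead.Spectral
import Mathlib

/-!
# Pro-constructible and ind-constructible subsets: topological theory

On an open subspace `U` of `X` which is a spectral space, a pro-constructible (ind-constructible)
subset of `X` restricts to a closed (open) subset of `U` for the constructible topology, and
conversely.  From this we derive compactness statements and the comparison with locally
constructible sets, for spaces which are "locally spectral" (every point has an open spectral
neighbourhood), e.g. schemes.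
-/

set_option autoImplicit false
set_option linter.unusedSectionVars false

namespace Groth.Agent.Lib.Lead

open Topology Set ProCons

variable {X : Type*} [TopologicalSpace X]

/-! ### Complements -/

theorem isIndConstructible_compl {E : Set X} (hE : IsProConstructible E) :
    IsIndConstructible Eᶜ := by
  intro x
  obtain ⟨U, hUo, hxU, S, hS, hES⟩ := hE x
  refine ⟨U, hUo, hxU, compl '' S, ?_, ?_⟩
  · rintro _ ⟨T, hT, rfl⟩
    have h1 := hS T hT
    intro y
    obtain ⟨V, hV, hVo, hc⟩ := h1 y
    refine ⟨V, hV, hVo, ?_⟩
    rw [preimage_compl]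
    exact isConstructible_compl.mpr hc
  · rw [preimage_compl, hES]
    ext y
    simp only [mem_compl_iff, mem_sInter, not_forall, mem_sUnion, mem_image]
    constructor
    · rintro ⟨T, hT, hy⟩
      exact ⟨Tᶜ, ⟨T, hT, rfl⟩, hy⟩
    · rintro ⟨_, ⟨T, hT, rfl⟩, hy⟩
      exact ⟨T, hT, hy⟩

theorem isProConstructible_compl {E : Set X} (hE : IsIndConstructible E) :
    IsProConstructible Eᶜ := by
  intro x
  obtain ⟨U, hUo, hxU, S, hS, hES⟩ := hE x
  refine ⟨U, hUo, hxU, compl '' S, ?_, ?_⟩
  · rintro _ ⟨T, hT, rfl⟩
    have h1 := hS T hT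
    intro y
    obtain ⟨V, hV, hVo, hc⟩ := h1 y
    refine ⟨V, hV, hVo, ?_⟩
    rw [preimage_compl]
    exact isConstructible_compl.mpr hc
  · rw [preimage_compl, hES]
    ext y
    simp only [mem_compl_iff, mem_sUnion, not_exists, not_and, mem_sInter, mem_image]
    constructor
    · rintro h _ ⟨T, hT, rfl⟩
      exact h T hT
    · intro h T hT hy
      exact h Tᶜ ⟨T, hT, rfl⟩ hy

theorem isProConstructible_univ : IsProConstructible (univ : Set X) := by
  intro x
  refine ⟨univ, isOpen_univ, mem_univ x, ∅, by simp, by simp⟩

theorem isIndConstructible_empty : IsIndConstructible (∅ : Set X) := by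
  intro x
  refine ⟨univ, isOpen_univ, mem_univ x, ∅, by simp, by simp⟩

/-! ### Constructible subsets and the constructible topology of a spectral space -/

theorem isConstructible_of_mem_constructibleTopologySubbasis [QuasiSeparatedSpace X] {s : Set X}
    (hs : s ∈ constructibleTopologySubbasis X) : IsConstructible s := by
  rcases hs with ⟨ho, hc⟩ | ⟨hcl, hc⟩
  · exact hc.isConstructible ho
  · rw [← isConstructible_compl]
    exact hc.isConstructible hcl.isOpen_compl

/-- Every neighbourhood for the constructible topology contains a constructible neighbourhood. -/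
theorem exists_isConstructible_subset_of_isOpen_constructible [QuasiSeparatedSpace X] {s : Set X}
    (hs : IsOpen[constructibleTopology X] s) {x : X} (hx : x ∈ s) :
    ∃ B : Set X, IsConstructible B ∧ x ∈ B ∧ B ⊆ s := by
  have hb := @TopologicalSpace.isTopologicalBasis_of_subbasis X (constructibleTopology X)
    (constructibleTopologySubbasis X) rfl
  obtain ⟨B, ⟨F, ⟨hFfin, hFsub⟩, rfl⟩, hxB, hBs⟩ :=
    (@TopologicalSpace.IsTopologicalBasis.exists_subset_of_mem_open X (constructibleTopology X)
      _ hb x s hx hs)
  exact ⟨⋂₀ F, IsConstructible.sInter hFfin fun t ht =>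
    isConstructible_of_mem_constructibleTopologySubbasis (hFsub ht), hxB, hBs⟩

/-- A clopen subset for the constructible topology of a spectral space is constructible. -/
theorem isConstructible_of_isClopen_constructible [CompactSpace X] [QuasiSober X]
    [PrespectralSpace X] [QuasiSeparatedSpace X] {s : Set X}
    (hs : @IsClopen X (constructibleTopology X) s) : IsConstructible s := by
  have hc : @IsCompact X (constructibleTopology X) s :=
    @IsClosed.isCompact X (constructibleTopology X) s compactSpace_constructible hs.1
  choose! B hBc hxB hBs using fun x (hx : x ∈ s) =>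
    exists_isConstructible_subset_of_isOpen_constructible hs.2 hx
  obtain ⟨t, hts, hcov⟩ := @IsCompact.elim_nhds_subcover X (constructibleTopology X) s hc B
    (fun x hx => @IsOpen.mem_nhds X (constructibleTopology X) x (B x)
      (isClopen_constructible_of_isConstructible (hBc x hx)).2 (hxB x hx))
  have : s = ⋃ x ∈ t, B x := by
    apply subset_antisymm hcov
    exact iUnion₂_subset fun x hx => hBs x (hts x hx)
  rw [this]
  exact IsConstructible.biUnion t.finite_toSet fun x hx => hBc x (hts x hx)

/-- A subset closed for the constructible topology is the intersection of the constructible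
subsets containing it. -/
theorem eq_sInter_isConstructible_of_isClosed_constructible [CompactSpace X]
    [QuasiSeparatedSpace X] {E : Set X} (hE : IsClosed[constructibleTopology X] E) :
    E = ⋂₀ {T : Set X | IsConstructible T ∧ E ⊆ T} := by
  apply subset_antisymm
  · exact subset_sInter fun T hT => hT.2
  · intro x hx
    by_contra hxE
    have hop : IsOpen[constructibleTopology X] Eᶜ :=
      (@isOpen_compl_iff X E (constructibleTopology X)).mpr hE
    obtain ⟨B, hBc, hxB, hBE⟩ := exists_isConstructible_subset_of_isOpen_constructible hop hxE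
    have := hx Bᶜ ⟨isConstructible_compl.mpr hBc, fun y hy hyB => hBE hyB hy⟩
    exact this hxB

/-- A subset open for the constructible topology is the union of the constructible
subsets it contains. -/
theorem eq_sUnion_isConstructible_of_isOpen_constructible [QuasiSeparatedSpace X] {E : Set X}
    (hE : IsOpen[constructibleTopology X] E) :
    E = ⋃₀ {T : Set X | IsConstructible T ∧ T ⊆ E} := by
  apply subset_antisymm
  · intro x hx
    obtain ⟨B, hBc, hxB, hBE⟩ := exists_isConstructible_subset_of_isOpen_constructible hE hx
    exact ⟨B, ⟨hBc, hBE⟩, hxB⟩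
  · exact sUnion_subset fun T hT => hT.2

/-! ### Restriction to spectral open subspaces -/

/-- A pro-constructible subset restricts to a subset closed for the constructible topology on
every open spectral subspace. -/
theorem isClosed_constructible_of_isProConstructible {E : Set X} (hE : IsProConstructible E)
    (U : Set X) (hU : IsOpen U) [SpectralSpace U] :
    IsClosed[constructibleTopology U] (Subtype.val ⁻¹' E : Set U) := by
  rw [← @isOpen_compl_iff U _ (constructibleTopology U),
    @isOpen_iff_forall_mem_open U (constructibleTopology U) _]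
  rintro ⟨x, hxU⟩ hxE
  obtain ⟨W, hWo, hxW, S, hS, hES⟩ := hE x
  have hxS : (⟨x, hxW⟩ : W) ∉ ⋂₀ S := by
    rw [← hES]; exact hxE
  obtain ⟨T, hTS, hxT⟩ : ∃ T ∈ S, (⟨x, hxW⟩ : W) ∉ T := by
    simpa only [mem_sInter, not_forall, exists_prop] using hxS
  obtain ⟨V, ⟨hVo, hVc⟩, hxV, hVW⟩ :=
    (PrespectralSpace.isTopologicalBasis (X := U)).exists_subset_of_mem_open
      (a := ⟨x, hxU⟩) (u := Subtype.val ⁻¹' W) hxW (hWo.preimage continuous_subtype_val)
  let j : V → W := fun v => ⟨v.1.1, hVW v.2⟩
  have hj : IsOpenEmbedding j := by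
    apply IsOpenEmbedding.of_comp j hWo.isOpenEmbedding_subtypeVal
    exact hU.isOpenEmbedding_subtypeVal.comp hVo.isOpenEmbedding_subtypeVal
  have hV1 : CompactSpace V := isCompact_iff_compactSpace.mp hVc
  have hV2 : PrespectralSpace V := hVo.isOpenEmbedding_subtypeVal.prespectralSpace
  have hV3 : QuasiSeparatedSpace V := hVo.isOpenEmbedding_subtypeVal.quasiSeparatedSpace
  have hT' : IsConstructible (j ⁻¹' T) :=
    ((hS T hTS).preimage_of_isOpenEmbedding hj).isConstructible
  have hC : IsConstructible (Subtype.val '' (j ⁻¹' T)ᶜ : Set U) := by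
    apply (isConstructible_compl.mpr hT').image_of_isOpenEmbedding
      hVo.isOpenEmbedding_subtypeVal
    rw [Subtype.range_coe]
    exact hVc.isRetrocompact hVo
  refine ⟨Subtype.val '' (j ⁻¹' T)ᶜ, ?_, (isClopen_constructible_of_isConstructible hC).2, ?_⟩
  · rintro _ ⟨v, hv, rfl⟩ hvE
    apply hv
    have : j v ∈ (Subtype.val ⁻¹' E : Set W) := hvE
    rw [hES] at this
    exact this T hTS
  · exact ⟨⟨⟨x, hxU⟩, hxV⟩, hxT, rfl⟩

/-- An ind-constructible subset restricts to a subset open for the constructible topology on
every open spectral subspace. -/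
theorem isOpen_constructible_of_isIndConstructible {E : Set X} (hE : IsIndConstructible E)
    (U : Set X) (hU : IsOpen U) [SpectralSpace U] :
    IsOpen[constructibleTopology U] (Subtype.val ⁻¹' E : Set U) := by
  have := isClosed_constructible_of_isProConstructible (isProConstructible_compl hE) U hU
  rw [preimage_compl] at this
  exact (@isClosed_compl_iff U (constructibleTopology U) _).mp this

/-- Local criterion for pro-constructibility. -/
theorem isProConstructible_of_forall_exists_spectral {E : Set X}
    (h : ∀ x : X, ∃ U : Set X, IsOpen U ∧ x ∈ U ∧ ∃ _ : SpectralSpace U,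
      IsClosed[constructibleTopology U] (Subtype.val ⁻¹' E : Set U)) :
    IsProConstructible E := by
  intro x
  obtain ⟨U, hUo, hxU, _, hcl⟩ := h x
  refine ⟨U, hUo, hxU, {T : Set U | IsConstructible T ∧ (Subtype.val ⁻¹' E : Set U) ⊆ T},
    fun T hT => hT.1.isLocallyConstructible, ?_⟩
  exact eq_sInter_isConstructible_of_isClosed_constructible hcl

/-- Local criterion for ind-constructibility. -/
theorem isIndConstructible_of_forall_exists_spectral {E : Set X}
    (h : ∀ x : X, ∃ U : Set X, IsOpen U ∧ x ∈ U ∧ ∃ _ : SpectralSpace U,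
      IsOpen[constructibleTopology U] (Subtype.val ⁻¹' E : Set U)) :
    IsIndConstructible E := by
  intro x
  obtain ⟨U, hUo, hxU, _, hcl⟩ := h x
  refine ⟨U, hUo, hxU, {T : Set U | IsConstructible T ∧ T ⊆ (Subtype.val ⁻¹' E : Set U)},
    fun T hT => hT.1.isLocallyConstructible, ?_⟩
  exact eq_sUnion_isConstructible_of_isOpen_constructible hcl

/-! ### Locally spectral spaces -/

/-- Every point has an open neighbourhood which is a spectral space. -/
def LocallySpectral (X : Type*) [TopologicalSpace X] : Prop :=
  ∀ x : X, ∃ U : Set X, IsOpen U ∧ x ∈ U ∧ SpectralSpace U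

/-- Locally constructible sets are ind- and pro-constructible (any space). -/
theorem isIndConstructible_of_isLocallyConstructible {E : Set X}
    (hE : IsLocallyConstructible E) : IsIndConstructible E := by
  intro x
  refine ⟨univ, isOpen_univ, mem_univ x, {Subtype.val ⁻¹' E}, ?_, by simp⟩
  rintro T rfl
  exact hE.preimage_of_isOpenEmbedding isOpen_univ.isOpenEmbedding_subtypeVal

theorem isProConstructible_of_isLocallyConstructible {E : Set X}
    (hE : IsLocallyConstructible E) : IsProConstructible E := by
  intro x
  refine ⟨univ, isOpen_univ, mem_univ x, {Subtype.val ⁻¹' E}, ?_, by simp⟩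
  rintro T rfl
  exact hE.preimage_of_isOpenEmbedding isOpen_univ.isOpenEmbedding_subtypeVal

/-- In a locally spectral space, a subset which is both ind- and pro-constructible is locally
constructible. -/
theorem isLocallyConstructible_of_ind_of_pro (hX : LocallySpectral X) {E : Set X}
    (h1 : IsIndConstructible E) (h2 : IsProConstructible E) : IsLocallyConstructible E := by
  intro x
  obtain ⟨U, hUo, hxU, hUs⟩ := hX x
  refine ⟨U, hUo.mem_nhds hxU, hUo, ?_⟩
  exact isConstructible_of_isClopen_constructible
    ⟨isClosed_constructible_of_isProConstructible h2 U hUo,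
      isOpen_constructible_of_isIndConstructible h1 U hUo⟩

theorem isLocallyConstructible_iff_ind_and_pro (hX : LocallySpectral X) {E : Set X} :
    IsLocallyConstructible E ↔ IsIndConstructible E ∧ IsProConstructible E :=
  ⟨fun h => ⟨isIndConstructible_of_isLocallyConstructible h,
    isProConstructible_of_isLocallyConstructible h⟩,
    fun h => isLocallyConstructible_of_ind_of_pro hX h.1 h.2⟩

/-- Quasi-compactness of pro-constructible subsets for ind-constructible covers. -/
theorem exists_finite_subcover_of_isProConstructible [CompactSpace X] (hX : LocallySpectral X)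
    {F : Set X} (hF : IsProConstructible F) {ι : Type*} (E : ι → Set X)
    (hE : ∀ i, IsIndConstructible (E i)) (h : F ⊆ ⋃ i, E i) :
    ∃ J : Finset ι, F ⊆ ⋃ i ∈ J, E i := by
  classical
  choose U hUo hxU hUs using hX
  obtain ⟨t, ht⟩ := isCompact_univ.elim_nhds_subcover U (fun x _ => (hUo x).mem_nhds (hxU x))
  have key : ∀ x : X, ∃ J : Finset ι, F ∩ U x ⊆ ⋃ i ∈ J, E i := by
    intro x
    have := hUs x
    have hFc : @IsCompact (U x) (constructibleTopology (U x)) (Subtype.val ⁻¹' F) :=
      @IsClosed.isCompact (U x) (constructibleTopology (U x)) _ compactSpace_constructible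
        (isClosed_constructible_of_isProConstructible hF (U x) (hUo x))
    obtain ⟨J, hJ⟩ := @IsCompact.elim_finite_subcover (U x) (constructibleTopology (U x))
      (Subtype.val ⁻¹' F) ι hFc (fun i => Subtype.val ⁻¹' (E i))
      (fun i => isOpen_constructible_of_isIndConstructible (hE i) (U x) (hUo x))
      (by
        intro y hy
        have := h hy
        simpa only [mem_iUnion, mem_preimage] using this)
    refine ⟨J, ?_⟩
    rintro y ⟨hyF, hyU⟩
    have := hJ (show (⟨y, hyU⟩ : U x) ∈ Subtype.val ⁻¹' F from hyF)
    simpa only [mem_iUnion, mem_preimage, exists_prop] using this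
  choose J hJ using key
  refine ⟨t.biUnion J, ?_⟩
  intro y hyF
  have hy := ht.2 (mem_univ y)
  simp only [mem_iUnion, exists_prop] at hy
  obtain ⟨x, hxt, hyx⟩ := hy
  have := hJ x ⟨hyF, hyx⟩
  simp only [mem_iUnion, exists_prop] at this ⊢
  obtain ⟨i, hi, hyi⟩ := this
  exact ⟨i, Finset.mem_biUnion.mpr ⟨x, hxt, hi⟩, hyi⟩

/-- Dual form: an intersection of pro-constructible subsets contained in an ind-constructible
subset has a finite sub-intersection contained in it. -/
theorem exists_finite_subfamily_inter_subset [CompactSpace X] (hX : LocallySpectral X)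
    {E : Set X} (hE : IsIndConstructible E) {ι : Type*} (F : ι → Set X)
    (hF : ∀ i, IsProConstructible (F i)) (h : ⋂ i, F i ⊆ E) :
    ∃ J : Finset ι, ⋂ i ∈ J, F i ⊆ E := by
  classical
  have hcov : (univ : Set X) ⊆ ⋃ o : Option ι, (Option.elim o E fun i => (F i)ᶜ) := by
    intro y _
    by_cases hy : y ∈ E
    · exact mem_iUnion.mpr ⟨none, hy⟩
    · have : y ∉ ⋂ i, F i := fun h' => hy (h h')
      simp only [mem_iInter, not_forall] at this
      obtain ⟨i, hi⟩ := this
      exact mem_iUnion.mpr ⟨some i, hi⟩
  obtain ⟨J, hJ⟩ := exists_finite_subcover_of_isProConstructible hX isProConstructible_univ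
    (fun o : Option ι => Option.elim o E fun i => (F i)ᶜ)
    (by
      rintro (_ | i)
      · exact hE
      · exact isIndConstructible_compl (hF i)) hcov
  refine ⟨J.preimage some (Option.some_injective _).injOn, ?_⟩
  intro y hy
  have := hJ (mem_univ y)
  simp only [mem_iUnion, exists_prop] at this
  obtain ⟨o, hoJ, hyo⟩ := this
  rcases o with _ | i
  · exact hyo
  · exfalso
    simp only [mem_iInter, Finset.mem_preimage] at hy
    exact hyo (hy i hoJ)

/-- An ind-constructible set is a neighbourhood of each point all of whose generizations it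
contains. -/
theorem mem_interior_iff_of_isIndConstructible (hX : LocallySpectral X) {E : Set X}
    (hE : IsIndConstructible E) (x : X) :
    x ∈ interior E ↔ ∀ x' : X, x' ⤳ x → x' ∈ E := by
  constructor
  · intro hx x' hx'
    exact interior_subset (hx'.mem_open isOpen_interior hx)
  · intro hgen
    obtain ⟨U, hUo, hxU, hUs⟩ := hX x
    -- work inside U
    let x0 : U := ⟨x, hxU⟩
    let EU : Set U := Subtype.val ⁻¹' E
    have hEU : IsOpen[constructibleTopology U] EU :=
      isOpen_constructible_of_isIndConstructible hE U hUo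
    let 𝒱 : Set (Set U) := {V | IsOpen V ∧ IsCompact V ∧ x0 ∈ V}
    have hgenU : ⋂₀ 𝒱 ⊆ EU := by
      intro u hu
      have h1 := generalizations_eq_sInter (X := U) (E := {x0}) isCompact_singleton
      have h2 : u ∈ ⋂₀ {V : Set U | IsOpen V ∧ IsCompact V ∧ ({x0} : Set U) ⊆ V} := by
        rw [mem_sInter] at hu ⊢
        rintro V ⟨hVo, hVc, hxV⟩
        exact hu V ⟨hVo, hVc, hxV rfl⟩
      rw [← h1] at h2
      obtain ⟨e, he, hue⟩ := h2
      rw [mem_singleton_iff] at he
      subst he
      exact hgen u.1 ((subtype_specializes_iff u x0).mp hue)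
    -- compactness of the constructible topology
    have hne : ¬ (⋂₀ (insert EUᶜ 𝒱)).Nonempty := by
      rintro ⟨u, hu⟩
      rw [sInter_insert] at hu
      exact hu.1 (hgenU hu.2)
    have hfin : ∃ t ⊆ insert EUᶜ 𝒱, t.Finite ∧ ¬ (⋂₀ t).Nonempty := by
      by_contra hcon
      push Not at hcon
      apply hne
      apply sInter_nonempty_of_isClosed_constructible
      · rintro T (rfl | ⟨hTo, hTc, -⟩)
        · exact (@isClosed_compl_iff U (constructibleTopology U) _).mpr hEU
        · exact isClosed_constructible_of_isOpen_isCompact hTo hTc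
      · exact hcon
    obtain ⟨t, hts, htfin, htne⟩ := hfin
    -- the finite intersection of the members of t lying in 𝒱
    have hW : IsOpen (⋂₀ (t ∩ 𝒱)) :=
      (htfin.subset inter_subset_left).isOpen_sInter fun V hV => hV.2.1
    have hxW : x0 ∈ ⋂₀ (t ∩ 𝒱) := fun V hV => hV.2.2.2
    have hWE : ⋂₀ (t ∩ 𝒱) ⊆ EU := by
      intro u hu
      by_contra huE
      apply htne
      refine ⟨u, fun T hT => ?_⟩
      rcases hts hT with rfl | hTV
      · exact huE
      · exact hu T ⟨hT, hTV⟩
    rw [mem_interior]
    refine ⟨Subtype.val '' (⋂₀ (t ∩ 𝒱)), ?_, hUo.isOpenMap_subtype_val _ hW, ⟨x0, hxW, rfl⟩⟩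
    rintro _ ⟨u, hu, rfl⟩
    exact hWE hu

/-- In a spectral space, if a subset `E` open for the constructible topology contains all
generizations of `x0` lying in a subset `Z` closed for the constructible topology, then `E`
contains `W ∩ Z` for some open neighbourhood `W` of `x0`. -/
theorem exists_isOpen_inter_subset_of_isOpen_constructible [CompactSpace X] [QuasiSober X]
    [PrespectralSpace X] [QuasiSeparatedSpace X] {E Z : Set X}
    (hE : IsOpen[constructibleTopology X] E) (hZ : IsClosed[constructibleTopology X] Z) (x0 : X)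
    (h : ∀ u ∈ Z, u ⤳ x0 → u ∈ E) : ∃ W : Set X, IsOpen W ∧ x0 ∈ W ∧ W ∩ Z ⊆ E := by
  let 𝒱 : Set (Set X) := {V | IsOpen V ∧ IsCompact V ∧ x0 ∈ V}
  have hgenU : ⋂₀ 𝒱 ∩ Z ⊆ E := by
    rintro u ⟨hu, huZ⟩
    have h1 := generalizations_eq_sInter (X := X) (E := {x0}) isCompact_singleton
    have h2 : u ∈ ⋂₀ {V : Set X | IsOpen V ∧ IsCompact V ∧ ({x0} : Set X) ⊆ V} := by
      rw [mem_sInter] at hu ⊢
      rintro V ⟨hVo, hVc, hxV⟩
      exact hu V ⟨hVo, hVc, hxV rfl⟩
    rw [← h1] at h2
    obtain ⟨e, he, hue⟩ := h2
    rw [mem_singleton_iff] at he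
    subst he
    exact h u huZ hue
  have hne : ¬ (⋂₀ (insert (Z ∩ Eᶜ) 𝒱)).Nonempty := by
    rintro ⟨u, hu⟩
    rw [sInter_insert] at hu
    exact hu.1.2 (hgenU ⟨hu.2, hu.1.1⟩)
  have hfin : ∃ t ⊆ insert (Z ∩ Eᶜ) 𝒱, t.Finite ∧ ¬ (⋂₀ t).Nonempty := by
    by_contra hcon
    push Not at hcon
    apply hne
    apply sInter_nonempty_of_isClosed_constructible
    · rintro T (rfl | ⟨hTo, hTc, -⟩)
      · exact @IsClosed.inter X _ _ (constructibleTopology X) hZ
          ((@isClosed_compl_iff X (constructibleTopology X) _).mpr hE)
      · exact isClosed_constructible_of_isOpen_isCompact hTo hTc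
    · exact hcon
  obtain ⟨t, hts, htfin, htne⟩ := hfin
  refine ⟨⋂₀ (t ∩ 𝒱), (htfin.subset inter_subset_left).isOpen_sInter fun V hV => hV.2.1,
    fun V hV => hV.2.2.2, ?_⟩
  rintro u ⟨hu, huZ⟩
  by_contra huE
  apply htne
  refine ⟨u, fun T hT => ?_⟩
  rcases hts hT with rfl | hTV
  · exact ⟨huZ, huE⟩
  · exact hu T ⟨hT, hTV⟩

/-- If `E` is ind-constructible in a locally spectral space then `E ∩ closure {x}` is a
neighbourhood of `x` in `closure {x}` for every `x ∈ E`. -/
theorem mem_nhds_subtype_closure_of_isIndConstructible [T0Space X] (hX : LocallySpectral X)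
    {E : Set X} (hE : IsIndConstructible E) {x : X} (hx : x ∈ E) :
    (Subtype.val ⁻¹' E : Set ↥(closure ({x} : Set X))) ∈
      nhds (⟨x, subset_closure rfl⟩ : ↥(closure ({x} : Set X))) := by
  obtain ⟨U, hUo, hxU, hUs⟩ := hX x
  let x0 : U := ⟨x, hxU⟩
  have hEU : IsOpen[constructibleTopology U] (Subtype.val ⁻¹' E : Set U) :=
    isOpen_constructible_of_isIndConstructible hE U hUo
  have hZ : IsClosed[constructibleTopology U] (Subtype.val ⁻¹' closure ({x} : Set X) : Set U) :=
    isClosed_constructible_of_isClosed (isClosed_closure.preimage continuous_subtype_val)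
  obtain ⟨W, hWo, hxW, hWE⟩ := exists_isOpen_inter_subset_of_isOpen_constructible hEU hZ x0 (by
    intro u huZ hux
    have h1 : u.1 ⤳ x := (subtype_specializes_iff u x0).mp hux
    have h2 : x ⤳ u.1 := specializes_iff_mem_closure.mpr huZ
    have : u.1 = x := (h1.antisymm h2).eq
    change u.1 ∈ E
    rw [this]; exact hx)
  rw [mem_nhds_subtype]
  refine ⟨Subtype.val '' W, (hUo.isOpenMap_subtype_val _ hWo).mem_nhds ⟨x0, hxW, rfl⟩, ?_⟩
  rintro ⟨z, hz⟩ ⟨w, hwW, hwz⟩
  have hwz' : w.1 = z := hwz
  have h := hWE ⟨hwW, show w.1 ∈ closure ({x} : Set X) by rw [hwz']; exact hz⟩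
  change z ∈ E
  rw [← hwz']; exact h

theorem isSpectralMap_homeomorph {Y : Type*} [TopologicalSpace Y] (e : X ≃ₜ Y) :
    IsSpectralMap e :=
  ⟨e.continuous, fun _ _ hs => e.isCompact_preimage.mpr hs⟩

/-- A pro-constructible subset of a spectral space is closed for the constructible topology. -/
theorem isClosed_constructible_of_isProConstructible_of_spectralSpace [SpectralSpace X]
    {E : Set X} (hE : IsProConstructible E) : IsClosed[constructibleTopology X] E := by
  let e : (univ : Set X) ≃ₜ X := Homeomorph.Set.univ X
  have hc : CompactSpace (univ : Set X) := isCompact_iff_compactSpace.mp isCompact_univ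
  have hs : SpectralSpace (univ : Set X) := e.isOpenEmbedding.spectralSpace
  have h1 := isClosed_constructible_of_isProConstructible hE univ isOpen_univ
  have h2 := @IsClosed.preimage _ _ (constructibleTopology _) (constructibleTopology _) _
    (continuous_constructible_of_isSpectralMap (isSpectralMap_homeomorph e.symm)) _ h1
  exact h2

/-- An ind-constructible subset of a spectral space is open for the constructible topology. -/
theorem isOpen_constructible_of_isIndConstructible_of_spectralSpace [SpectralSpace X]
    {E : Set X} (hE : IsIndConstructible E) : IsOpen[constructibleTopology X] E := by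
  have := isClosed_constructible_of_isProConstructible_of_spectralSpace
    (isProConstructible_compl hE)
  exact (@isClosed_compl_iff X (constructibleTopology X) _).mp this

end Groth.Agent.Lib.Lead
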