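import Groth.Agent.Lib.Lead.ConstH1
import Mathlib.Algebra.Homology.DerivedCategory.Ext.EnoughInjectives
import Mathlib.CategoryTheory.Abelian.Refinements

set_option autoImplicit false
universe u
open CategoryTheory CategoryTheory.Limits Opposite Abelian

namespace Groth.Agent.Lib.Lead.ProdExt

variable {𝒜 : Type*} [Category 𝒜] [Abelian 𝒜] [HasExt 𝒜]

theorem ext_eq_zero_of_lift {S : ShortComplex 𝒜} (hS : S.ShortExact) {X : 𝒜} (g : X ⟶ S.X₃)
    (h : X ⟶ S.X₂) (hh : h ≫ S.g = g) :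
    (Ext.mk₀ g).comp hS.extClass (zero_add 1) = 0 := by
  subst hh
  rw [← Ext.mk₀_comp_mk₀_assoc, hS.comp_extClass, Ext.comp_zero]

theorem lift_of_ext_eq_zero {S : ShortComplex 𝒜} (hS : S.ShortExact) {X : 𝒜} (g : X ⟶ S.X₃)
    (h0 : (Ext.mk₀ g).comp hS.extClass (zero_add 1) = 0) : ∃ h : X ⟶ S.X₂, h ≫ S.g = g := by
  obtain ⟨x₂, hx₂⟩ := Ext.covariant_sequence_exact₃ _ hS _ (zero_add 1) h0
  obtain ⟨h, rfl⟩ := (Ext.mk₀_bijective _ _).2 x₂
  refine ⟨h, ?_⟩
  rw [Ext.mk₀_comp_mk₀] at hx₂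
  exact (Ext.mk₀_bijective _ _).1 hx₂

/-- abstract form: a short exact `S` with injective middle term mapping to short exact `Si i`,
such that liftings can be assembled. -/
theorem abstract_main {I : Type*} {S : ShortComplex 𝒜} (hS : S.ShortExact) [Injective S.X₂]
    (Si : I → ShortComplex 𝒜) (hSi : ∀ i, (Si i).ShortExact) (φ : ∀ i, S ⟶ Si i)
    {X : 𝒜}
    (assemble : ∀ g : X ⟶ S.X₃, (∀ i, ∃ h : X ⟶ (Si i).X₂, h ≫ (Si i).g = g ≫ (φ i).τ₃) →
      ∃ h : X ⟶ S.X₂, h ≫ S.g = g)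
    (x : Ext X S.X₁ 1)
    (hx : ∀ i, x.comp (Ext.mk₀ (φ i).τ₁) (add_zero 1) = 0) : x = 0 := by
  have h0 : x.comp (Ext.mk₀ S.f) (add_zero 1) = 0 := Ext.eq_zero_of_injective _
  obtain ⟨x₃, rfl⟩ := Ext.covariant_sequence_exact₁ _ hS x h0 (zero_add 1)
  obtain ⟨g, rfl⟩ := (Ext.mk₀_bijective _ _).2 x₃
  obtain ⟨h, hh⟩ := assemble g (by
    intro i
    apply lift_of_ext_eq_zero (hSi i)
    have nat := ShortComplex.ShortExact.extClass_naturality hS (hSi i) (φ i)
    rw [← Ext.mk₀_comp_mk₀_assoc, ← nat, ← Ext.comp_assoc_of_third_deg_zero]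
    exact hx i)
  exact ext_eq_zero_of_lift hS g h hh

theorem ext1_prod_injective [EnoughInjectives 𝒜]
    {I : Type*} (F : I → 𝒜) [HasProduct F] [HasProduct (fun i => Injective.under (F i))]
    {X : 𝒜} (x : Ext X (∏ᶜ F) 1)
    (hx : ∀ i, x.comp (Ext.mk₀ (Pi.π F i)) (add_zero 1) = 0) : x = 0 := by
  classical
  let E : I → 𝒜 := fun i => Injective.under (F i)
  let ι : ∀ i, F i ⟶ E i := fun i => Injective.ι (F i)
  haveI : ∀ i, Mono (ι i) := fun i => (inferInstance : Mono (Injective.ι (F i)))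
  let p : ∀ i, E i ⟶ cokernel (ι i) := fun i => cokernel.π (ι i)
  let Si : I → ShortComplex 𝒜 := fun i =>
    ShortComplex.mk (ι i) (p i) (cokernel.condition _)
  have hSi : ∀ i, (Si i).ShortExact := fun i =>
    { exact := ShortComplex.exact_cokernel (ι i)
      mono_f := (inferInstance : Mono (ι i))
      epi_g := (inferInstance : Epi (cokernel.π (ι i))) }
  let j : ∏ᶜ F ⟶ ∏ᶜ E := Limits.Pi.map ι
  haveI : Mono j := Limits.Pi.map_mono ι
  let S : ShortComplex 𝒜 := ShortComplex.mk j (cokernel.π j) (cokernel.condition _)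
  have hS : S.ShortExact :=
    { exact := ShortComplex.exact_cokernel j
      mono_f := (inferInstance : Mono j)
      epi_g := (inferInstance : Epi (cokernel.π j)) }
  haveI : Injective S.X₂ := (inferInstance : Injective (∏ᶜ E))
  have wq : ∀ i, j ≫ Pi.π E i ≫ p i = 0 := by
    intro i
    rw [← Category.assoc, Pi.map_π, Category.assoc, cokernel.condition, comp_zero]
  let q : ∀ i, cokernel j ⟶ cokernel (ι i) := fun i =>
    cokernel.desc j (Pi.π E i ≫ p i) (wq i)
  let φ : ∀ i, S ⟶ Si i := fun i =>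
    { τ₁ := Pi.π F i
      τ₂ := Pi.π E i
      τ₃ := q i
      comm₁₂ := (Limits.Pi.map_π ι i).symm
      comm₂₃ := (cokernel.π_desc j (Pi.π E i ≫ p i) (wq i)).symm }
  refine abstract_main hS Si hSi φ ?_ x hx
  intro g hlift
  choose h hh using hlift
  refine ⟨Limits.Pi.lift h, ?_⟩
  show Limits.Pi.lift h ≫ cokernel.π j = g
  rw [← sub_eq_zero]
  generalize hk : Limits.Pi.lift h ≫ cokernel.π j - g = k
  have hkq : ∀ i, k ≫ q i = 0 := by
    intro i
    have e1 : h i ≫ p i = g ≫ q i := hh i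
    rw [← hk, Preadditive.sub_comp, Category.assoc, cokernel.π_desc, ← Category.assoc,
      Pi.lift_π, e1, sub_self]
  obtain ⟨A', π, hπ, a, ha⟩ := surjective_up_to_refinements_of_epi (cokernel.π j) k
  have hb : ∀ i, ∃ b : A' ⟶ F i, b ≫ ι i = a ≫ Pi.π E i := by
    intro i
    have hz : (a ≫ Pi.π E i) ≫ (Si i).g = 0 := by
      show (a ≫ Pi.π E i) ≫ p i = 0
      rw [Category.assoc, ← cokernel.π_desc j (Pi.π E i ≫ p i) (wq i), ← Category.assoc, ← ha,
        Category.assoc]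
      exact (congrArg (fun t => π ≫ t) (hkq i)).trans comp_zero
    haveI : Mono (Si i).f := (inferInstance : Mono (ι i))
    exact ⟨(hSi i).exact.lift _ hz, (hSi i).exact.lift_f _ hz⟩
  choose b hb using hb
  have hab : Limits.Pi.lift b ≫ j = a := by
    apply Limits.Pi.hom_ext
    intro i
    rw [Category.assoc, Pi.map_π, ← Category.assoc, Pi.lift_π, hb i]
  have hπk : π ≫ k = 0 := by
    rw [ha, ← hab, Category.assoc, cokernel.condition, comp_zero]
  exact (cancel_epi π).1 (by rw [hπk, comp_zero])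

end Groth.Agent.Lib.Lead.ProdExt
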