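import Mathlib

/-!
# Colimits over pseudo-filtered categories commute with finite connected limits of types
-/

set_option autoImplicit false
set_option linter.style.haveILetI false
open CategoryTheory CategoryTheory.Limits

universe v

namespace Groth.Agent.Lib.Lead.PseudoFiltered

variable {I : Type v} [SmallCategory I]

section

variable (h1 : ∀ ⦃w x y : I⦄ (a : w ⟶ x) (b : w ⟶ y), ∃ (z : I) (c : x ⟶ z) (d : y ⟶ z), a ≫ c = b ≫ d)
  (h2 : ∀ ⦃x y : I⦄ (a b : x ⟶ y), ∃ (z : I) (c : y ⟶ z), a ≫ c = b ≫ c)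

include h1 h2 in
theorem isFiltered_under (i₀ : I) : IsFiltered (Under i₀) := by
  haveI : Nonempty (Under i₀) := ⟨Under.mk (𝟙 i₀)⟩
  haveI : IsFilteredOrEmpty (Under i₀) :=
    { cocone_objs := fun X Y => by
        obtain ⟨z, c, d, hcd⟩ := h1 X.hom Y.hom
        exact ⟨Under.mk (X.hom ≫ c), Under.homMk c rfl, Under.homMk d hcd.symm, trivial⟩
      cocone_maps := fun X Y f g => by
        obtain ⟨z, c, hc⟩ := h2 f.right g.right
        refine ⟨Under.mk (Y.hom ≫ c), Under.homMk c rfl, ?_⟩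
        ext
        simpa using hc }
  exact { }

include h1 in
theorem ι_eq_iff (G : I ⥤ Type v) {i j : I} (x : G.obj i) (y : G.obj j) :
    colimit.ι G i x = colimit.ι G j y ↔
      ∃ (k : I) (f : i ⟶ k) (g : j ⟶ k), G.map f x = G.map g y := by
  constructor
  · intro h
    let r : (Σ i, G.obj i) → (Σ i, G.obj i) → Prop := fun a b =>
      ∃ (k : I) (f : a.1 ⟶ k) (g : b.1 ⟶ k), G.map f a.2 = G.map g b.2
    have hr : Equivalence r :=
      ⟨fun a => ⟨a.1, 𝟙 _, 𝟙 _, rfl⟩, fun ⟨k, f, g, h⟩ => ⟨k, g, f, h.symm⟩,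
        fun {a b c} ⟨k, f, g, h⟩ ⟨k', f', g', h'⟩ => by
          obtain ⟨z, c₁, d₁, hz⟩ := h1 g f'
          refine ⟨z, f ≫ c₁, g' ≫ d₁, ?_⟩
          rw [FunctorToTypes.map_comp_apply, h, ← FunctorToTypes.map_comp_apply, hz,
            FunctorToTypes.map_comp_apply, h', ← FunctorToTypes.map_comp_apply]⟩
    have hmono : ∀ a b, G.ColimitTypeRel a b → r a b := fun a b ⟨f, hf⟩ =>
      ⟨b.1, f, 𝟙 _, by simp [hf]⟩
    have := Relation.EqvGen.mono hmono _ _ (Types.colimit_eq h)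
    exact hr.eqvGen_iff.1 this
  · rintro ⟨k, f, g, h⟩
    exact Types.colimit_sound' f g h

end

section

variable (i₀ : I) (G : I ⥤ Type v)

/-- comparison map from the colimit over `Under i₀` -/
noncomputable abbrev κ : colimit (Under.forget i₀ ⋙ G) ⟶ colimit G :=
  colimit.pre G (Under.forget i₀)

theorem κ_ι (u : Under i₀) (x : G.obj u.right) :
    κ i₀ G (colimit.ι (Under.forget i₀ ⋙ G) u x) = colimit.ι G u.right x := by
  have := ConcreteCategory.congr_hom (colimit.ι_pre G (Under.forget i₀) u) x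
  rwa [ConcreteCategory.comp_apply] at this

theorem κ_natural {G G' : I ⥤ Type v} (α : G ⟶ G')
    (t : colimit (Under.forget i₀ ⋙ G)) :
    κ i₀ G' (colimMap (Functor.whiskerLeft (Under.forget i₀) α) t) = colimMap α (κ i₀ G t) := by
  obtain ⟨u, x, rfl⟩ := Types.jointly_surjective_of_isColimit (colimit.isColimit _) t
  show κ i₀ G' (colimMap (Functor.whiskerLeft (Under.forget i₀) α)
    (colimit.ι (Under.forget i₀ ⋙ G) u x)) =
      colimMap α (κ i₀ G (colimit.ι (Under.forget i₀ ⋙ G) u x))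
  rw [κ_ι]
  erw [colimit.ι_map_apply, colimit.ι_map_apply]
  exact κ_ι i₀ G' u _

theorem mem_range_κ {i : I} (x : G.obj i) {z : I} (a : i₀ ⟶ z) (b : i ⟶ z) :
    colimit.ι G i x ∈ Set.range (κ i₀ G) :=
  ⟨colimit.ι (Under.forget i₀ ⋙ G) (Under.mk a) (G.map b x), by
    rw [κ_ι]; exact colimit.w_apply G b x⟩

variable (h1 : ∀ ⦃w x y : I⦄ (a : w ⟶ x) (b : w ⟶ y), ∃ (z : I) (c : x ⟶ z) (d : y ⟶ z), a ≫ c = b ≫ d)
  (h2 : ∀ ⦃x y : I⦄ (a b : x ⟶ y), ∃ (z : I) (c : y ⟶ z), a ≫ c = b ≫ c)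

include h1 h2 in
theorem κ_injective : Function.Injective (κ i₀ G) := by
  intro a b hab
  obtain ⟨u, x, rfl⟩ := Types.jointly_surjective_of_isColimit (colimit.isColimit _) a
  obtain ⟨u', x', rfl⟩ := Types.jointly_surjective_of_isColimit (colimit.isColimit _) b
  change κ i₀ G (colimit.ι (Under.forget i₀ ⋙ G) u x) =
    κ i₀ G (colimit.ι (Under.forget i₀ ⋙ G) u' x') at hab
  rw [κ_ι, κ_ι] at hab
  obtain ⟨k, f, g, hfg⟩ := (ι_eq_iff h1 G x x').1 hab
  obtain ⟨z, c, hc⟩ := h2 (u.hom ≫ f) (u'.hom ≫ g)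
  let w : Under i₀ := Under.mk (u.hom ≫ f ≫ c)
  let m : u ⟶ w := Under.homMk (f ≫ c) rfl
  let m' : u' ⟶ w := Under.homMk (g ≫ c) (by
    show u'.hom ≫ g ≫ c = u.hom ≫ f ≫ c
    simpa using hc.symm)
  refine Types.colimit_sound' (F := Under.forget i₀ ⋙ G) m m' ?_
  show G.map (f ≫ c) x = G.map (g ≫ c) x'
  rw [FunctorToTypes.map_comp_apply, hfg, ← FunctorToTypes.map_comp_apply]

end

theorem key
    (h1 : ∀ ⦃w x y : I⦄ (a : w ⟶ x) (b : w ⟶ y), ∃ (z : I) (c : x ⟶ z) (d : y ⟶ z), a ≫ c = b ≫ d)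
    (h2 : ∀ ⦃x y : I⦄ (a b : x ⟶ y), ∃ (z : I) (c : y ⟶ z), a ≫ c = b ≫ c)
    {J : Type} [SmallCategory J] [IsConnected J] (F : J ⥤ I ⥤ Type v) (L : I ⥤ Type v)
    (π : ∀ j, L ⟶ F.obj j)
    (hU : ∀ i₀ : I, ∀ t : ∀ j, colimit (Under.forget i₀ ⋙ F.obj j),
      (∀ {j j' : J} (φ : j ⟶ j'),
        colimMap (Functor.whiskerLeft (Under.forget i₀) (F.map φ)) (t j) = t j') →
      ∃! x' : colimit (Under.forget i₀ ⋙ L),
        ∀ j, colimMap (Functor.whiskerLeft (Under.forget i₀) (π j)) x' = t j)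
    (s : ∀ j, colimit (F.obj j))
    (hs' : ∀ {j j' : J} (φ : j ⟶ j'), colimMap (F.map φ) (s j) = s j') :
    ∃! x : colimit L, ∀ j, colimMap (π j) x = s j := by
  have huniq : ∀ x₁ x₂ : colimit L,
      (∀ j, colimMap (π j) x₁ = s j) → (∀ j, colimMap (π j) x₂ = s j) → x₁ = x₂ := by
    intro x₁ x₂ e₁ e₂
    obtain ⟨j₀⟩ : Nonempty J := inferInstance
    obtain ⟨i₁, l₁, hl₁⟩ := Types.jointly_surjective_of_isColimit (colimit.isColimit _) x₁
    obtain ⟨i₂, l₂, hl₂⟩ := Types.jointly_surjective_of_isColimit (colimit.isColimit _) x₂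
    change colimit.ι L i₁ l₁ = x₁ at hl₁
    change colimit.ι L i₂ l₂ = x₂ at hl₂
    have e := (e₁ j₀).trans (e₂ j₀).symm
    rw [← hl₁, ← hl₂] at e
    erw [colimit.ι_map_apply, colimit.ι_map_apply] at e
    obtain ⟨k, f, g, -⟩ := (ι_eq_iff h1 _ _ _).1 e
    obtain ⟨a₁, ha₁⟩ := mem_range_κ i₁ L l₁ (𝟙 i₁) (𝟙 i₁)
    obtain ⟨a₂, ha₂⟩ := mem_range_κ i₁ L l₂ f g
    rw [hl₁] at ha₁
    rw [hl₂] at ha₂
    rw [← ha₁, ← ha₂]
    congr 1
    let t : ∀ j, colimit (Under.forget i₁ ⋙ F.obj j) := fun j =>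
      colimMap (Functor.whiskerLeft (Under.forget i₁) (π j)) a₁
    have ht : ∀ {j j' : J} (φ : j ⟶ j'),
        colimMap (Functor.whiskerLeft (Under.forget i₁) (F.map φ)) (t j) = t j' := by
      intro j j' φ
      apply κ_injective i₁ _ h1 h2
      rw [κ_natural, κ_natural, κ_natural, ha₁, e₁, e₁]
      exact hs' φ
    obtain ⟨x', -, hx'⟩ := hU i₁ t ht
    rw [hx' a₁ (fun j => rfl), hx' a₂ (fun j => ?_)]
    apply κ_injective i₁ _ h1 h2
    rw [κ_natural, κ_natural, ha₁, ha₂]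
    exact (e₂ j).trans (e₁ j).symm
  obtain ⟨j₀⟩ : Nonempty J := inferInstance
  obtain ⟨i₀, y₀, hy₀⟩ := Types.jointly_surjective_of_isColimit (colimit.isColimit (F.obj j₀)) (s j₀)
  change colimit.ι (F.obj j₀) i₀ y₀ = s j₀ at hy₀
  have hrange : ∀ j, s j ∈ Set.range (κ i₀ (F.obj j)) := by
    intro j
    refine induct_on_objects {j | s j ∈ Set.range (κ i₀ (F.obj j))} (j₀ := j₀) ?_ ?_ j
    · rw [Set.mem_setOf_eq, ← hy₀]
      exact mem_range_κ i₀ _ y₀ (𝟙 i₀) (𝟙 i₀)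
    · intro j₁ j₂ φ
      constructor
      · rintro ⟨t, ht⟩
        refine ⟨colimMap (Functor.whiskerLeft (Under.forget i₀) (F.map φ)) t, ?_⟩
        rw [κ_natural, ht]
        exact hs' φ
      · rintro ⟨t, ht⟩
        obtain ⟨i, y, hy⟩ := Types.jointly_surjective_of_isColimit
          (colimit.isColimit (F.obj j₁)) (s j₁)
        change colimit.ι (F.obj j₁) i y = s j₁ at hy
        obtain ⟨u', y', hy'⟩ := Types.jointly_surjective_of_isColimit (colimit.isColimit _) t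
        change colimit.ι (Under.forget i₀ ⋙ F.obj j₂) u' y' = t at hy'
        have e : colimit.ι (F.obj j₂) i ((F.map φ).app i y) = colimit.ι (F.obj j₂) u'.right y' := by
          rw [← κ_ι i₀ (F.obj j₂) u' y', hy', ht, ← hs' φ, ← hy]
          erw [colimit.ι_map_apply]
        obtain ⟨k, f, g, -⟩ := (ι_eq_iff h1 _ _ _).1 e
        rw [Set.mem_setOf_eq, ← hy]
        exact mem_range_κ i₀ _ y (u'.hom ≫ g) f
  choose t ht using hrange
  have ht' : ∀ {j j' : J} (φ : j ⟶ j'),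
      colimMap (Functor.whiskerLeft (Under.forget i₀) (F.map φ)) (t j) = t j' := by
    intro j j' φ
    apply κ_injective i₀ _ h1 h2
    rw [κ_natural, ht, ht]
    exact hs' φ
  obtain ⟨x', hx', -⟩ := hU i₀ t ht'
  have hx : ∀ j, colimMap (π j) (κ i₀ L x') = s j := fun j => by
    rw [← κ_natural, hx', ht]
  exact ⟨κ i₀ L x', hx, fun x₂ hx₂ => huniq _ _ hx₂ hx⟩

theorem preservesLimitsOfShape
    (h1 : ∀ ⦃w x y : I⦄ (a : w ⟶ x) (b : w ⟶ y), ∃ (z : I) (c : x ⟶ z) (d : y ⟶ z), a ≫ c = b ≫ d)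
    (h2 : ∀ ⦃x y : I⦄ (a b : x ⟶ y), ∃ (z : I) (c : y ⟶ z), a ≫ c = b ≫ c)
    (J : Type) [SmallCategory J] [FinCategory J] [IsConnected J] :
    PreservesLimitsOfShape J (colim : (I ⥤ Type v) ⥤ Type v) := by
  constructor
  intro F
  have hc := limit.isLimit F
  refine preservesLimit_of_preserves_limit_cone hc ?_
  refine ((Types.isLimit_iff _).2 ?_).some
  intro s hs
  refine key h1 h2 F (limit.cone F).pt (fun j => (limit.cone F).π.app j) ?_ s (fun φ => hs φ)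
  intro i₀ t ht
  haveI := isFiltered_under h1 h2 i₀
  let W := (Functor.whiskeringLeft (Under i₀) I (Type v)).obj (Under.forget i₀)
  have hl : IsLimit ((colim : (Under i₀ ⥤ Type v) ⥤ Type v).mapCone (W.mapCone (limit.cone F))) :=
    isLimitOfPreserves _ (isLimitOfPreserves W hc)
  exact (Types.isLimit_iff _).1 ⟨hl⟩ t (fun {j j'} φ => ht φ)

end Groth.Agent.Lib.Lead.PseudoFiltered
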