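import Mathlib.Algebra.Category.ModuleCat.Presheaf.Abelian
import Mathlib.Algebra.Category.ModuleCat.Presheaf.EpiMono
import Mathlib.Algebra.Category.ModuleCat.Injective
import Mathlib.CategoryTheory.Preadditive.Injective.Basic

/-!
# Enough injectives in presheaves of modules (coinduced presheaves)

For `R : Cᵒᵖ ⥤ RingCat.{u}` with `C` locally `u`-small and module values in `Type (u+1)`,
we construct for `X₀` and an `R(X₀)`-module `N` the coinduced presheaf of modules
`coind X₀ N : X ↦ ((X ⟶ X₀) → N)`, show `Hom(M, coind X₀ N)` receives `Hom(M(X₀), N)`,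
that `coind X₀ I` is injective for injective `I`, and deduce enough injectives.
-/

universe u₁ u

open CategoryTheory Limits Opposite

namespace Groth.Agent.Lib.Lead.PshModInj

noncomputable section

variable {C : Type u₁} [Category.{u} C] {R : Cᵒᵖ ⥤ RingCat.{u}}

/-- Values of the coinduced presheaf. -/
def CoindVal (X₀ : Cᵒᵖ) (N : ModuleCat.{u + 1} (R.obj X₀)) (X : Cᵒᵖ) : Type (u + 1) :=
  (X ⟶ X₀) → N

namespace CoindVal

variable (X₀ : Cᵒᵖ) (N : ModuleCat.{u + 1} (R.obj X₀)) (X : Cᵒᵖ)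

instance : AddCommGroup (CoindVal X₀ N X) :=
  inferInstanceAs (AddCommGroup ((X ⟶ X₀) → N))

instance : Module (R.obj X) (CoindVal X₀ N X) where
  smul r φ := fun f => (R.map f).hom r • φ f
  one_smul φ := by
    funext f
    show (R.map f).hom 1 • φ f = φ f
    rw [map_one, one_smul]
  mul_smul r s φ := by
    funext f
    show (R.map f).hom (r * s) • φ f = (R.map f).hom r • ((R.map f).hom s • φ f)
    rw [map_mul, mul_smul]
  smul_zero r := by
    funext f
    show (R.map f).hom r • (0 : N) = 0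
    rw [smul_zero]
  smul_add r φ ψ := by
    funext f
    show (R.map f).hom r • (φ f + ψ f) = (R.map f).hom r • φ f + (R.map f).hom r • ψ f
    rw [smul_add]
  add_smul r s φ := by
    funext f
    show (R.map f).hom (r + s) • φ f = (R.map f).hom r • φ f + (R.map f).hom s • φ f
    rw [map_add, add_smul]
  zero_smul φ := by
    funext f
    show (R.map f).hom 0 • φ f = 0
    rw [map_zero, zero_smul]

variable {X₀ N X}

lemma smul_apply (r : R.obj X) (φ : CoindVal X₀ N X) (f : X ⟶ X₀) :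
    (r • φ) f = (R.map f).hom r • φ f := rfl

lemma add_apply (φ ψ : CoindVal X₀ N X) (f : X ⟶ X₀) : (φ + ψ) f = φ f + ψ f := rfl

lemma zero_apply (f : X ⟶ X₀) : (0 : CoindVal X₀ N X) f = 0 := rfl

end CoindVal

/-- The underlying abelian presheaf of the coinduced presheaf of modules. -/
def coindAb (X₀ : Cᵒᵖ) (N : ModuleCat.{u + 1} (R.obj X₀)) : Cᵒᵖ ⥤ Ab.{u + 1} where
  obj X := AddCommGrpCat.of (CoindVal X₀ N X)
  map {X Y} g := AddCommGrpCat.ofHom
    { toFun := fun φ => (fun f'' : Y ⟶ X₀ => φ (g ≫ f'') : CoindVal X₀ N Y)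
      map_zero' := rfl
      map_add' := fun _ _ => rfl }
  map_id X := by
    ext φ
    funext f
    show φ (𝟙 X ≫ f) = φ f
    rw [Category.id_comp]
  map_comp {X Y Z} g h := by
    ext φ
    funext f
    show φ ((g ≫ h) ≫ f) = φ (g ≫ (h ≫ f))
    rw [Category.assoc]

instance (X₀ : Cᵒᵖ) (N : ModuleCat.{u + 1} (R.obj X₀)) (X : Cᵒᵖ) :
    Module (R.obj X) ((coindAb X₀ N).obj X) :=
  inferInstanceAs (Module (R.obj X) (CoindVal X₀ N X))

/-- The coinduced presheaf of modules `X ↦ ((X ⟶ X₀) → N)`. -/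
def coind (X₀ : Cᵒᵖ) (N : ModuleCat.{u + 1} (R.obj X₀)) : PresheafOfModules.{u + 1} R :=
  PresheafOfModules.ofPresheaf (coindAb X₀ N) (by
    intro X Y g r φ
    funext f
    show (R.map (g ≫ f)).hom r • φ (g ≫ f) = (R.map f).hom ((R.map g).hom r) • φ (g ≫ f)
    rw [R.map_comp]
    rfl)

/-- Evaluate an element of `coind X₀ N` at a morphism. -/
def ev {X₀ : Cᵒᵖ} {N : ModuleCat.{u + 1} (R.obj X₀)} {X : Cᵒᵖ} (φ : (coind X₀ N).obj X)
    (f : X ⟶ X₀) : N := (show CoindVal X₀ N X from φ) f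

lemma ev_ext {X₀ : Cᵒᵖ} {N : ModuleCat.{u + 1} (R.obj X₀)} {X : Cᵒᵖ}
    {φ ψ : (coind X₀ N).obj X} (h : ∀ f, ev φ f = ev ψ f) : φ = ψ := funext h

lemma ev_map {X₀ : Cᵒᵖ} {N : ModuleCat.{u + 1} (R.obj X₀)} {X Y : Cᵒᵖ} (g : X ⟶ Y)
    (φ : (coind X₀ N).obj X) (f : Y ⟶ X₀) :
    ev ((coind X₀ N).map g φ) f = ev φ (g ≫ f) := rfl

lemma ev_zero {X₀ : Cᵒᵖ} {N : ModuleCat.{u + 1} (R.obj X₀)} {X : Cᵒᵖ} (f : X ⟶ X₀) :
    ev (0 : (coind X₀ N).obj X) f = 0 := rfl

lemma ev_add {X₀ : Cᵒᵖ} {N : ModuleCat.{u + 1} (R.obj X₀)} {X : Cᵒᵖ}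
    (φ ψ : (coind X₀ N).obj X) (f : X ⟶ X₀) : ev (φ + ψ) f = ev φ f + ev ψ f := rfl

lemma ev_smul {X₀ : Cᵒᵖ} {N : ModuleCat.{u + 1} (R.obj X₀)} {X : Cᵒᵖ} (r : R.obj X)
    (φ : (coind X₀ N).obj X) (f : X ⟶ X₀) : ev (r • φ) f = (R.map f).hom r • ev φ f := rfl

/-- The morphism `M ⟶ coind X₀ N` attached to a linear map `M(X₀) ⟶ N`. -/
def lift {X₀ : Cᵒᵖ} {N : ModuleCat.{u + 1} (R.obj X₀)} (M : PresheafOfModules.{u + 1} R)
    (ψ : M.obj X₀ ⟶ N) : M ⟶ coind X₀ N :=
  PresheafOfModules.homMk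
    { app := fun X => AddCommGrpCat.ofHom
        { toFun := fun m => (fun f : X ⟶ X₀ => ψ.hom (M.restrictₛₗ f m) : CoindVal X₀ N X)
          map_zero' := by
            funext f
            show ψ.hom (M.restrictₛₗ f 0) = 0
            rw [map_zero, map_zero]
          map_add' := fun m m' => by
            funext f
            show ψ.hom (M.restrictₛₗ f (m + m')) =
              ψ.hom (M.restrictₛₗ f m) + ψ.hom (M.restrictₛₗ f m')
            rw [map_add, map_add] }
      naturality := fun {X Y} g => by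
        ext m
        funext f
        show ψ.hom (M.restrictₛₗ f (M.restrictₛₗ g m)) = ψ.hom (M.restrictₛₗ (g ≫ f) m)
        congr 1
        exact (M.map_comp_apply g f m).symm }
    (by
      intro X r m
      funext f
      show ψ.hom (M.restrictₛₗ f (r • m)) = (R.map f).hom r • ψ.hom (M.restrictₛₗ f m)
      rw [map_smulₛₗ, map_smul])

lemma ev_lift {X₀ : Cᵒᵖ} {N : ModuleCat.{u + 1} (R.obj X₀)} (M : PresheafOfModules.{u + 1} R)
    (ψ : M.obj X₀ ⟶ N) {X : Cᵒᵖ} (m : M.obj X) (f : X ⟶ X₀) :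
    ev ((lift M ψ).app X m) f = ψ.hom (M.restrictₛₗ f m) := rfl

/-- `coind X₀ I` is injective when `I` is. -/
theorem injective_coind (X₀ : Cᵒᵖ) (I : ModuleCat.{u + 1} (R.obj X₀)) [Injective I] :
    Injective (coind X₀ I) where
  factors {X Y} h i _ := by
    let ψh : X.obj X₀ ⟶ I := ModuleCat.ofHom
      { toFun := fun x => ev (h.app X₀ x) (𝟙 X₀)
        map_add' := fun x y => by
          rw [map_add, ev_add]
        map_smul' := fun r x => by
          rw [map_smul, ev_smul, R.map_id]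
          rfl }
    have : Mono (i.app X₀) := inferInstance
    refine ⟨lift Y (Injective.factorThru ψh (i.app X₀)), ?_⟩
    ext X' x
    apply ev_ext
    intro f
    show ev ((lift Y (Injective.factorThru ψh (i.app X₀))).app X' (i.app X' x)) f = ev (h.app X' x) f
    rw [ev_lift]
    have h1 : Y.restrictₛₗ f (i.app X' x) = i.app X₀ (X.restrictₛₗ f x) :=
      (PresheafOfModules.naturality_apply i f x).symm
    rw [h1]
    have h2 : (Injective.factorThru ψh (i.app X₀)).hom (i.app X₀ (X.restrictₛₗ f x)) =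
        ψh.hom (X.restrictₛₗ f x) := by
      have := Injective.comp_factorThru ψh (i.app X₀)
      exact congrArg (fun k => k.hom (X.restrictₛₗ f x)) this
    rw [h2]
    show ev (h.app X₀ (X.restrictₛₗ f x)) (𝟙 X₀) = ev (h.app X' x) f
    have h3 : h.app X₀ (X.restrictₛₗ f x) = (coind X₀ I).map f (h.app X' x) :=
      PresheafOfModules.naturality_apply h f x
    rw [h3, ev_map, Category.comp_id]

/-- Presheaves of modules (values one universe up) have enough injectives. -/
theorem enoughInjectives [∀ X : Cᵒᵖ, EnoughInjectives (ModuleCat.{u + 1} (R.obj X))]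
    [HasProductsOfShape Cᵒᵖ (PresheafOfModules.{u + 1} R)] :
    EnoughInjectives (PresheafOfModules.{u + 1} R) where
  presentation M := by
    let I : ∀ X : Cᵒᵖ, ModuleCat.{u + 1} (R.obj X) := fun X => Injective.under (M.obj X)
    let j : ∀ X, M.obj X ⟶ I X := fun X => Injective.ι (M.obj X)
    haveI : ∀ X, Injective (coind X (I X)) := fun X => injective_coind X (I X)
    let g : M ⟶ ∏ᶜ (fun X => coind X (I X)) := Limits.Pi.lift (fun X => lift M (j X))
    have : Mono g := by
      apply Preadditive.mono_of_cancel_zero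
      intro Z z hz
      ext X x
      have h1 : z ≫ lift M (j X) = 0 := by
        have := congrArg (fun k => k ≫ Limits.Pi.π (fun X => coind X (I X)) X) hz
        simpa [g] using this
      have h2 : ev ((z ≫ lift M (j X)).app X x) (𝟙 X) = 0 := by
        rw [h1]
        rfl
      have h3 : (j X).hom (M.restrictₛₗ (𝟙 X) (z.app X x)) = 0 := h2
      have h4 : M.restrictₛₗ (𝟙 X) (z.app X x) = z.app X x := by
        show M.map (𝟙 X) (z.app X x) = z.app X x
        simp
      rw [h4] at h3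
      have hinj : Function.Injective (j X).hom :=
        (ModuleCat.mono_iff_injective (j X)).1 inferInstance
      exact hinj (h3.trans (map_zero _).symm)
    exact ⟨⟨_, inferInstance, g, inferInstance⟩⟩

end

end Groth.Agent.Lib.Lead.PshModInj
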