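import Groth.Statements.S15582
import Mathlib.Topology.Sheaves.LocallySurjective

set_option autoImplicit false
universe u
open CategoryTheory TopologicalSpace Opposite

namespace Groth.Agent.Lib.Lead.PushEpi

theorem subsingleton_of_bot {X : TopCat.{u}} (F : TopCat.Sheaf (Type u) X) (U : Opens X)
    (h : U = ⊥) : Subsingleton (F.obj.obj (op U)) := by
  haveI : Unique (F.obj.obj (op U)) :=
    Limits.Types.isTerminalEquivUnique _ (F.isTerminalOfEqEmpty h)
  infer_instance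

theorem main {X Y : TopCat.{u}} (π : X ⟶ Y)
    (h1 : ∀ (y : Y) (U : Set X), IsOpen U → π ⁻¹' {y} ⊆ U →
      ∃ V : Set Y, IsOpen V ∧ y ∈ V ∧ π ⁻¹' V ⊆ U)
    (h2 : ∀ y : Y, (π ⁻¹' {y}).Finite ∧ ∃ U : X → Set X,
      (∀ x ∈ π ⁻¹' {y}, IsOpen (U x) ∧ x ∈ U x) ∧ (π ⁻¹' {y}).PairwiseDisjoint U) :
    (TopCat.Sheaf.pushforward (Type u) π).PreservesEpimorphisms := by
  constructor
  intro F G φ hφ
  have hφ' : TopCat.Presheaf.IsLocallySurjective φ.hom :=
    (TopCat.Sheaf.isLocallySurjective_iff_epi φ).2 hφ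
  refine (TopCat.Sheaf.isLocallySurjective_iff_epi _).1 ?_
  constructor
  intro V t
  rw [Opens.mem_grothendieckTopology]
  intro y hy
  obtain ⟨-, Ufun, hU1, hU2⟩ := h2 y
  let ι : Type u := ↥(π ⁻¹' {y})
  have hmem : ∀ i : ι, (i : X) ∈ (Opens.map π).obj V := by
    intro i
    have : π (i : X) = y := i.2
    show π (i : X) ∈ V
    rw [this]; exact hy
  have hloc : ∀ i : ι, ∃ (W : Opens X) (f : W ⟶ (Opens.map π).obj V),
      (∃ s : F.obj.obj (op W), φ.hom.app (op W) s = G.obj.map f.op t) ∧ (i : X) ∈ W := by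
    intro i
    exact hφ'.imageSieve_mem (U := (Opens.map π).obj V) t (i : X) (hmem i)
  choose W f hs hxW using hloc
  choose s hs using hs
  let Uo : ι → Opens X := fun i => ⟨Ufun i, (hU1 i i.2).1⟩
  let W' : ι → Opens X := fun i => W i ⊓ Uo i
  let sf : ∀ i, F.obj.obj (op (W' i)) :=
    fun i => F.obj.map (homOfLE (inf_le_left : W' i ≤ W i)).op (s i)
  have hcompat : TopCat.Presheaf.IsCompatible F.obj W' sf := by
    intro i j
    by_cases hij : i = j
    · subst hij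
      rfl
    · have hbot : W' i ⊓ W' j = ⊥ := by
        have hd : Disjoint (Ufun i) (Ufun j) := hU2 i.2 j.2 (fun h => hij (Subtype.ext h))
        rw [eq_bot_iff]
        intro x hx
        obtain ⟨⟨_, h1'⟩, ⟨_, h2'⟩⟩ := hx
        exact (Set.disjoint_left.1 hd h1' h2').elim
      haveI := subsingleton_of_bot F _ hbot
      exact Subsingleton.elim _ _
  obtain ⟨gl, hgl, -⟩ := F.existsUnique_gluing W' sf hcompat
  have hfib : π ⁻¹' {y} ⊆ ((iSup W' : Opens X) : Set X) := by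
    intro x hx
    exact Opens.mem_iSup.2 ⟨⟨x, hx⟩, ⟨hxW ⟨x, hx⟩, (hU1 x hx).2⟩⟩
  obtain ⟨V0, hV0o, hyV0, hV0⟩ := h1 y _ (iSup W').2 hfib
  let V' : Opens Y := ⟨V0, hV0o⟩ ⊓ V
  have hle : (Opens.map π).obj V' ≤ iSup W' := by
    intro x hx
    exact hV0 hx.1
  have hV : ∀ i, W' i ≤ (Opens.map π).obj V := fun i => le_trans inf_le_left (leOfHom (f i))
  have ht : ∀ i, φ.hom.app (op (W' i)) (sf i) = G.obj.map (homOfLE (hV i)).op t := by
    intro i
    show φ.hom.app (op (W' i)) (F.obj.map (homOfLE (inf_le_left : W' i ≤ W i)).op (s i)) = _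
    rw [NatTrans.naturality_apply, hs i, ← FunctorToTypes.map_comp_apply]
    rfl
  have key := TopCat.Sheaf.eq_app_of_locally_eq (F := F) (G := G) (f := φ) (U := W')
    (V := (Opens.map π).obj V) (t := t) hgl hV ht
  refine ⟨V', homOfLE inf_le_right, ⟨F.obj.map (homOfLE hle).op gl, ?_⟩, ⟨hyV0, hy⟩⟩
  show φ.hom.app (op ((Opens.map π).obj V')) (F.obj.map (homOfLE hle).op gl) =
    G.obj.map ((Opens.map π).map (homOfLE (inf_le_right : V' ≤ V))).op t
  rw [NatTrans.naturality_apply, key, ← FunctorToTypes.map_comp_apply]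
  rfl

end Groth.Agent.Lib.Lead.PushEpi
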