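import Mathlib

/-! Pushforward of abelian sheaves along a continuous functor is exact when the pushforward of
sheaves of sets preserves epimorphisms. -/

set_option autoImplicit false
universe u
open CategoryTheory Limits

namespace Groth.Agent.Lib.Lead.PushExact

variable {C D : Type u} [SmallCategory C] [SmallCategory D]
  (J : GrothendieckTopology C) (K : GrothendieckTopology D) (u : D ⥤ C) [u.IsContinuous K J]

abbrev ΦAb : Sheaf J AddCommGrpCat.{u} ⥤ Sheaf K AddCommGrpCat.{u} :=
  u.sheafPushforwardContinuous AddCommGrpCat.{u} K J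

abbrev ΦSet : Sheaf J (Type u) ⥤ Sheaf K (Type u) :=
  u.sheafPushforwardContinuous (Type u) K J

instance : PreservesFiniteLimits (ΦAb J K u) := by
  have e : ΦAb J K u ⋙ sheafToPresheaf K AddCommGrpCat.{u} ≅
      sheafToPresheaf J AddCommGrpCat.{u} ⋙
        (Functor.whiskeringLeft Dᵒᵖ Cᵒᵖ AddCommGrpCat.{u}).obj u.op := Iso.refl _
  haveI : PreservesFiniteLimits (ΦAb J K u ⋙ sheafToPresheaf K AddCommGrpCat.{u}) :=
    preservesFiniteLimits_of_natIso e.symm
  exact preservesFiniteLimits_of_reflects_of_preserves (ΦAb J K u)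
    (sheafToPresheaf K AddCommGrpCat.{u})

instance : (ΦAb J K u).Additive := Functor.additive_of_preserves_binary_products _

theorem epi_map (hpe : (ΦSet J K u).PreservesEpimorphisms)
    {B C' : Sheaf J AddCommGrpCat.{u}} (g : B ⟶ C') [Epi g] :
    Epi ((ΦAb J K u).map g) := by
  haveI : Sheaf.IsLocallySurjective g :=
    (Sheaf.isLocallySurjective_iff_epi' (φ := g)).2 inferInstance
  have h1 : Epi ((sheafCompose J (forget AddCommGrpCat.{u})).map g) := inferInstance
  have h2 : Epi ((ΦSet J K u).map ((sheafCompose J (forget AddCommGrpCat.{u})).map g)) :=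
    inferInstance
  have h3 : Sheaf.IsLocallySurjective
      ((ΦSet J K u).map ((sheafCompose J (forget AddCommGrpCat.{u})).map g)) :=
    (Sheaf.isLocallySurjective_iff_epi _).2 h2
  haveI : Sheaf.IsLocallySurjective ((ΦAb J K u).map g) := by
    show Presheaf.IsLocallySurjective K ((ΦAb J K u).map g).hom
    rw [Presheaf.isLocallySurjective_iff_whisker_forget]
    exact h3
  exact Sheaf.epi_of_isLocallySurjective _

theorem main [hpe : (ΦSet J K u).PreservesEpimorphisms] :
    PreservesFiniteColimits (ΦAb J K u) := by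
  have hfl : PreservesFiniteLimits (ΦAb J K u) := inferInstance
  have hL := ((Functor.preservesFiniteLimits_tfae (ΦAb J K u)).out 3 0).1 hfl
  refine ((Functor.preservesFiniteColimits_tfae (ΦAb J K u)).out 3 0).2 ?_
  intro S hS
  haveI := hS.epi_g
  exact ⟨(hL S hS).1, epi_map J K u hpe S.g⟩

end Groth.Agent.Lib.Lead.PushExact
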