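import Groth.Agent.Lib.Lead.AdeqModMain

/-!
# Affine charts of `Spec R ×_S T` and their base changes along `R → B`
-/

universe u

open CategoryTheory Limits Opposite TensorProduct AlgebraicGeometry

namespace Groth.Agent.Lib.Lead.PushGeom

open Adeq

noncomputable section

variable {S T : Scheme.{u}} (f : T ⟶ S) {R : CommRingCat.{u}} (a : Spec R ⟶ S)

/-- An affine chart of `Spec R ×_S T`. -/
structure Chart where
  /-- the ring -/
  C : CommRingCat.{u}
  /-- the chart map -/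
  v : Spec C ⟶ pullback a f

namespace Chart

variable {f a} (c : Chart f a)

/-- The structure map `R → C`. -/
def φ : R ⟶ c.C := Spec.preimage (c.v ≫ pullback.fst a f)

lemma map_φ : Spec.map c.φ = c.v ≫ pullback.fst a f := Spec.map_preimage _

/-- The chart as an affine object of `T`. -/
def b : Spec c.C ⟶ T := c.v ≫ pullback.snd a f

instance algebra : Algebra R c.C := c.φ.hom.toAlgebra

lemma ofHom_algebraMap : CommRingCat.ofHom (algebraMap R c.C) = c.φ := rfl

lemma b_f : c.b ≫ f = Spec.map (CommRingCat.ofHom (algebraMap R c.C)) ≫ a := by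
  rw [ofHom_algebraMap, map_φ]
  unfold b
  rw [Category.assoc, Category.assoc, pullback.condition]

end Chart

variable {f a}

/-- `Spec B → Spec R`. -/
abbrev sB (B : Alg R) : Spec (CommRingCat.of B) ⟶ Spec R :=
  Spec.map (CommRingCat.ofHom (algebraMap R B))

variable (f a) in
/-- `Spec B ×_S T`. -/
abbrev PB (B : Alg R) : Scheme.{u} := pullback (sB B ≫ a) f

variable (f a) in
/-- `Spec B ×_S T` as an object over `T`. -/
abbrev XB (B : Alg R) : Over T := (Over.pullback f).obj ((specOver a).obj (op B))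

/-- `Spec (C ⊗_R B)` as an object over `T`. -/
abbrev VB (c : Chart f a) (B : Alg R) : Over T :=
  (specOver c.b).obj (op ((Alg.baseChange R c.C).obj B))

/-- `Spec (C ⊗ B) → Spec B`. -/
abbrev inR (c : Chart f a) (B : Alg R) :
    Spec (CommRingCat.of (c.C ⊗[R] B)) ⟶ Spec (CommRingCat.of B) :=
  Spec.map (CommRingCat.ofHom
    (Algebra.TensorProduct.includeRight : B →ₐ[R] c.C ⊗[R] B).toRingHom)

/-- `Spec (C ⊗ B) → Spec C`. -/
abbrev inL (c : Chart f a) (B : Alg R) :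
    Spec (CommRingCat.of (c.C ⊗[R] B)) ⟶ Spec c.C :=
  Spec.map (CommRingCat.ofHom (algebraMap c.C (c.C ⊗[R] B)))

lemma ring_sq (c : Chart f a) (B : Alg R) :
    CommRingCat.ofHom (algebraMap R B) ≫ CommRingCat.ofHom
      (Algebra.TensorProduct.includeRight : B →ₐ[R] c.C ⊗[R] B).toRingHom =
    CommRingCat.ofHom (algebraMap R c.C) ≫ CommRingCat.ofHom (algebraMap c.C (c.C ⊗[R] B)) := by
  ext r
  show (Algebra.TensorProduct.includeRight : B →ₐ[R] c.C ⊗[R] B) (algebraMap R B r) =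
    algebraMap c.C (c.C ⊗[R] B) (algebraMap R c.C r)
  rw [AlgHom.commutes, IsScalarTower.algebraMap_apply R c.C (c.C ⊗[R] B)]

lemma inR_sB (c : Chart f a) (B : Alg R) :
    inR c B ≫ sB B = inL c B ≫ Spec.map (CommRingCat.ofHom (algebraMap R c.C)) := by
  rw [← Spec.map_comp, ← Spec.map_comp, ring_sq]

lemma inR_sB' (c : Chart f a) (B : Alg R) :
    inR c B ≫ sB B = inL c B ≫ c.v ≫ pullback.fst a f := by
  rw [inR_sB, ← c.map_φ]
  rfl

lemma cB_cond (c : Chart f a) (B : Alg R) :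
    inR c B ≫ (sB B ≫ a) = (inL c B ≫ c.b) ≫ f := by
  rw [Category.assoc, c.b_f, ← Category.assoc, ← Category.assoc, inR_sB]

/-- The map `Spec (C ⊗ B) → Spec B ×_S T`. -/
def cBleft (c : Chart f a) (B : Alg R) : Spec (CommRingCat.of (c.C ⊗[R] B)) ⟶ PB f a B :=
  pullback.lift (inR c B) (inL c B ≫ c.b) (cB_cond c B)

lemma cBleft_fst (c : Chart f a) (B : Alg R) :
    cBleft c B ≫ pullback.fst (sB B ≫ a) f = inR c B :=
  pullback.lift_fst _ _ _

lemma cBleft_snd (c : Chart f a) (B : Alg R) :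
    cBleft c B ≫ pullback.snd (sB B ≫ a) f = inL c B ≫ c.b :=
  pullback.lift_snd _ _ _

/-- The map `Spec (C ⊗ B) → Spec B ×_S T` over `T`. -/
def cB (c : Chart f a) (B : Alg R) : VB c B ⟶ XB f a B :=
  Over.homMk (cBleft c B) (cBleft_snd c B)

@[simp] lemma cB_left (c : Chart f a) (B : Alg R) : (cB c B).left = cBleft c B := rfl

variable (f a) in
/-- `Spec B ×_S T → Spec R ×_S T`. -/
def qB (B : Alg R) : PB f a B ⟶ pullback a f :=
  pullback.lift (pullback.fst (sB B ≫ a) f ≫ sB B) (pullback.snd (sB B ≫ a) f)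
    (by rw [Category.assoc]; exact pullback.condition)

lemma qB_fst (B : Alg R) : qB f a B ≫ pullback.fst a f =
    pullback.fst (sB B ≫ a) f ≫ sB B := pullback.lift_fst _ _ _

lemma qB_snd (B : Alg R) : qB f a B ≫ pullback.snd a f =
    pullback.snd (sB B ≫ a) f := pullback.lift_snd _ _ _

lemma isPullback_right (B : Alg R) :
    IsPullback (qB f a B) (pullback.fst (sB B ≫ a) f) (pullback.fst a f) (sB B) := by
  refine IsPullback.of_right ?_ (qB_fst B) (IsPullback.of_hasPullback a f).flip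
  rw [qB_snd]
  exact (IsPullback.of_hasPullback (sB B ≫ a) f).flip

lemma cBleft_qB (c : Chart f a) (B : Alg R) : cBleft c B ≫ qB f a B = inL c B ≫ c.v := by
  apply pullback.hom_ext
  · rw [Category.assoc, qB_fst, ← Category.assoc, cBleft_fst, Category.assoc, inR_sB']
  · rw [Category.assoc, qB_snd, cBleft_snd, Category.assoc]
    rfl

lemma isPullback_chart (c : Chart f a) (B : Alg R) :
    IsPullback (cBleft c B) (inL c B) (qB f a B) c.v := by
  refine IsPullback.of_right ?_ (cBleft_qB c B) (isPullback_right B).flip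
  rw [cBleft_fst, ← c.map_φ]
  exact isPullback_SpecMap_of_isPushout _ _ _ _
    (CommRingCat.isPushout_tensorProduct R c.C B).flip

/-- `Spec (C ⊗ B') → Spec (C ⊗ B)`. -/
abbrev bcMap (c : Chart f a) {B B' : Alg R} (g : B ⟶ B') :
    Spec (CommRingCat.of (c.C ⊗[R] B')) ⟶ Spec (CommRingCat.of (c.C ⊗[R] B)) :=
  Spec.map (CommRingCat.ofHom (Algebra.TensorProduct.map (AlgHom.id c.C c.C) g.hom).toRingHom)

/-- `Spec B' → Spec B`. -/
abbrev gMap {B B' : Alg R} (g : B ⟶ B') : Spec (CommRingCat.of B') ⟶ Spec (CommRingCat.of B) :=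
  Spec.map (CommRingCat.ofHom g.hom.toRingHom)

lemma gMap_sB {B B' : Alg R} (g : B ⟶ B') : gMap g ≫ sB B = sB B' := by
  rw [← Spec.map_comp]
  congr 1
  ext r
  exact g.hom.commutes r

variable (f a) in
/-- `Spec B' ×_S T → Spec B ×_S T`. -/
def pbMap {B B' : Alg R} (g : B ⟶ B') : PB f a B' ⟶ PB f a B :=
  pullback.lift (pullback.fst (sB B' ≫ a) f ≫ gMap g) (pullback.snd (sB B' ≫ a) f)
    (by rw [Category.assoc, ← Category.assoc (gMap g), gMap_sB]; exact pullback.condition)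

lemma pbMap_fst {B B' : Alg R} (g : B ⟶ B') :
    pbMap f a g ≫ pullback.fst (sB B ≫ a) f = pullback.fst (sB B' ≫ a) f ≫ gMap g :=
  pullback.lift_fst _ _ _

lemma pbMap_snd {B B' : Alg R} (g : B ⟶ B') :
    pbMap f a g ≫ pullback.snd (sB B ≫ a) f = pullback.snd (sB B' ≫ a) f :=
  pullback.lift_snd _ _ _

lemma bcMap_inR (c : Chart f a) {B B' : Alg R} (g : B ⟶ B') :
    bcMap c g ≫ inR c B = inR c B' ≫ gMap g := by
  rw [← Spec.map_comp, ← Spec.map_comp]
  congr 1

lemma bcMap_inL (c : Chart f a) {B B' : Alg R} (g : B ⟶ B') :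
    bcMap c g ≫ inL c B = inL c B' := by
  rw [← Spec.map_comp]
  congr 1
  ext x
  show (Algebra.TensorProduct.map (AlgHom.id c.C c.C) g.hom) (x ⊗ₜ[R] (1 : B)) =
    x ⊗ₜ[R] (1 : B')
  rw [Algebra.TensorProduct.map_tmul, map_one]
  rfl

lemma cBleft_natural (c : Chart f a) {B B' : Alg R} (g : B ⟶ B') :
    bcMap c g ≫ cBleft c B = cBleft c B' ≫ pbMap f a g := by
  apply pullback.hom_ext
  · rw [Category.assoc, cBleft_fst, Category.assoc, pbMap_fst, ← Category.assoc, cBleft_fst,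
      bcMap_inR]
  · rw [Category.assoc, cBleft_snd, Category.assoc, pbMap_snd, cBleft_snd, ← Category.assoc,
      bcMap_inL]

/-- Naturality of `cB` in the algebra `B`. -/
lemma cB_natural (c : Chart f a) {B B' : Alg R} (g : B ⟶ B') :
    (specOver c.b).map ((Alg.baseChange R c.C).map g).op ≫ cB c B =
      cB c B' ≫ (Over.pullback f).map ((specOver a).map g.op) := by
  apply Over.OverMorphism.ext
  exact cBleft_natural c g

/-- The charts cover `Spec B ×_S T`. -/
theorem cover_XB (K : Precoverage Scheme.{u}) [K.IsStableUnderBaseChange]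
    (hzar : Scheme.zariskiPrecoverage ≤ K) {m : ℕ} (c : Fin m → Chart f a)
    (hcov : Presieve.ofArrows (fun k => Spec (c k).C) (fun k => (c k).v) ∈
      Scheme.zariskiPrecoverage.coverings (pullback a f)) (B : Alg R) :
    Sieve.ofArrows (fun k => VB (c k) B) (fun k => cB (c k) B) ∈ QuotSh.J K T (XB f a B) := by
  rw [GrothendieckTopology.mem_over_iff, Sieve.overEquiv_ofArrows]
  apply Precoverage.generate_mem_toGrothendieck
  apply hzar
  exact Precoverage.mem_coverings_of_isPullback (fun k => (c k).v) hcov (qB f a B)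
    (fun k => cBleft (c k) B) (fun k => inL (c k) B) (fun k => isPullback_chart (c k) B)

/-- A morphism of charts: `Spec C' → Spec C` over `Spec R ×_S T`. -/
structure ChartHom (c c' : Chart f a) where
  /-- the ring map -/
  ρ : c.C ⟶ c'.C
  w : Spec.map ρ ≫ c.v = c'.v

namespace ChartHom

variable {c c' : Chart f a} (h : ChartHom c c')

lemma φ_comp : c.φ ≫ h.ρ = c'.φ := by
  apply Spec.map_injective
  rw [Spec.map_comp, c.map_φ, c'.map_φ, ← Category.assoc, h.w]

lemma b_comp : Spec.map h.ρ ≫ c.b = c'.b := by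
  unfold Chart.b
  rw [← Category.assoc, h.w]

/-- The ring map as a map of `R`-algebras. -/
def alg : c.C →ₐ[R] c'.C :=
  { h.ρ.hom with
    commutes' := fun r => congrArg (fun k => k.hom r) h.φ_comp }

/-- `Spec (C' ⊗ B) → Spec (C ⊗ B)`. -/
abbrev tMap (B : Alg R) :
    Spec (CommRingCat.of (c'.C ⊗[R] B)) ⟶ Spec (CommRingCat.of (c.C ⊗[R] B)) :=
  Spec.map (CommRingCat.ofHom (Algebra.TensorProduct.map h.alg (AlgHom.id R B)).toRingHom)

lemma tMap_inL (B : Alg R) : h.tMap B ≫ inL c B = inL c' B ≫ Spec.map h.ρ := by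
  rw [← Spec.map_comp, ← Spec.map_comp]
  congr 1

lemma tMap_inR (B : Alg R) : h.tMap B ≫ inR c B = inR c' B := by
  rw [← Spec.map_comp]
  congr 1
  ext x
  show (Algebra.TensorProduct.map h.alg (AlgHom.id R B)) ((1 : c.C) ⊗ₜ[R] x) =
    (1 : c'.C) ⊗ₜ[R] x
  rw [Algebra.TensorProduct.map_tmul, map_one]
  rfl

lemma tMap_hom (B : Alg R) : h.tMap B ≫ (inL c B ≫ c.b) = inL c' B ≫ c'.b := by
  rw [← Category.assoc, tMap_inL, Category.assoc, b_comp]

/-- `Spec (C' ⊗ B) → Spec (C ⊗ B)` over `T`. -/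
def ρB (B : Alg R) : VB c' B ⟶ VB c B := Over.homMk (h.tMap B) (h.tMap_hom B)

@[simp] lemma ρB_left (B : Alg R) : (h.ρB B).left = h.tMap B := rfl

lemma tMap_cBleft (B : Alg R) : h.tMap B ≫ cBleft c B = cBleft c' B := by
  apply pullback.hom_ext
  · rw [Category.assoc, cBleft_fst, cBleft_fst, tMap_inR]
  · rw [Category.assoc, cBleft_snd, cBleft_snd, tMap_hom]

lemma ρB_cB (B : Alg R) : h.ρB B ≫ cB c B = cB c' B := by
  apply Over.OverMorphism.ext
  exact h.tMap_cBleft B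

lemma tMap_natural {B B' : Alg R} (g : B ⟶ B') :
    bcMap c' g ≫ h.tMap B = h.tMap B' ≫ bcMap c g := by
  rw [← Spec.map_comp, ← Spec.map_comp]
  congr 1
  apply CommRingCat.hom_ext
  apply RingHom.ext
  intro z
  show (Algebra.TensorProduct.map (AlgHom.id c'.C c'.C) g.hom)
      ((Algebra.TensorProduct.map h.alg (AlgHom.id R B)) z) =
    (Algebra.TensorProduct.map h.alg (AlgHom.id R B'))
      ((Algebra.TensorProduct.map (AlgHom.id c.C c.C) g.hom) z)
  induction z using TensorProduct.induction_on with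
  | zero => simp
  | tmul x y => simp [Algebra.TensorProduct.map_tmul]
  | add x y hx hy => rw [map_add, map_add, map_add, map_add, hx, hy]

lemma ρB_natural {B B' : Alg R} (g : B ⟶ B') :
    (specOver c'.b).map ((Alg.baseChange R c'.C).map g).op ≫ h.ρB B =
      h.ρB B' ≫ (specOver c.b).map ((Alg.baseChange R c.C).map g).op := by
  apply Over.OverMorphism.ext
  exact h.tMap_natural g

end ChartHom

/-- A finite family of charts covering the overlap of two charts. -/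
structure Overlap (c₁ c₂ : Chart f a) where
  /-- number of charts -/
  n : ℕ
  /-- the charts -/
  w : Fin n → Chart f a
  /-- first projection -/
  h₁ : ∀ p, ChartHom c₁ (w p)
  /-- second projection -/
  h₂ : ∀ p, ChartHom c₂ (w p)
  cov : Presieve.ofArrows (fun p => Spec (w p).C)
      (fun p => pullback.lift (Spec.map (h₁ p).ρ) (Spec.map (h₂ p).ρ)
        (by rw [(h₁ p).w, (h₂ p).w])) ∈
    Scheme.zariskiPrecoverage.coverings (pullback c₁.v c₂.v)

theorem overlap_refine (K : Precoverage Scheme.{u}) (hzar : Scheme.zariskiPrecoverage ≤ K)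
    {c₁ c₂ : Chart f a} (o : Overlap c₁ c₂) (B : Alg R) (Z : Over T)
    (g₁ : Z ⟶ VB c₁ B) (g₂ : Z ⟶ VB c₂ B) (hg : g₁ ≫ cB c₁ B = g₂ ≫ cB c₂ B) :
    ∃ R₀ : Sieve Z, R₀ ∈ QuotSh.J K T Z ∧ ∀ ⦃Z' : Over T⦄ (h : Z' ⟶ Z), R₀ h →
      ∃ (p : Fin o.n) (r : Z' ⟶ VB (o.w p) B),
        r ≫ (o.h₁ p).ρB B = h ≫ g₁ ∧ r ≫ (o.h₂ p).ρB B = h ≫ g₂ := by
  let γ₁ : Z.left ⟶ Spec (CommRingCat.of (c₁.C ⊗[R] B)) := g₁.left
  let γ₂ : Z.left ⟶ Spec (CommRingCat.of (c₂.C ⊗[R] B)) := g₂.left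
  have hγ : γ₁ ≫ cBleft c₁ B = γ₂ ≫ cBleft c₂ B := congrArg CommaMorphism.left hg
  have hw₁ : γ₁ ≫ (inL c₁ B ≫ c₁.b) = Z.hom := Over.w g₁
  have hw₂ : γ₂ ≫ (inL c₂ B ≫ c₂.b) = Z.hom := Over.w g₂
  have hz : (γ₁ ≫ inL c₁ B) ≫ c₁.v = (γ₂ ≫ inL c₂ B) ≫ c₂.v := by
    rw [Category.assoc, Category.assoc, ← cBleft_qB, ← cBleft_qB, ← Category.assoc,
      ← Category.assoc, hγ]
  let z : Z.left ⟶ pullback c₁.v c₂.v := pullback.lift (γ₁ ≫ inL c₁ B) (γ₂ ≫ inL c₂ B) hz
  let m : ∀ p, Spec (o.w p).C ⟶ pullback c₁.v c₂.v := fun p =>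
    pullback.lift (Spec.map (o.h₁ p).ρ) (Spec.map (o.h₂ p).ρ) (by rw [(o.h₁ p).w, (o.h₂ p).w])
  have hm : Sieve.ofArrows (fun p => Spec (o.w p).C) m ∈
      K.toGrothendieck (pullback c₁.v c₂.v) :=
    Precoverage.generate_mem_toGrothendieck (hzar _ o.cov)
  refine ⟨(Sieve.overEquiv Z).symm (Sieve.pullback z (Sieve.ofArrows (fun p => Spec (o.w p).C) m)),
    GrothendieckTopology.overEquiv_symm_mem_over _ _ _
      (K.toGrothendieck.pullback_stable z hm), ?_⟩
  intro Z' h hh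
  have hh' : (Sieve.ofArrows (fun p => Spec (o.w p).C) m) (h.left ≫ z) := hh
  obtain ⟨_, r₀, _, ⟨p⟩, hr₀⟩ := hh'
  -- `r₀ : Z'.left ⟶ Spec (o.w p).C`, `hr₀ : r₀ ≫ m p = h.left ≫ z`
  have hr₁ : r₀ ≫ Spec.map (o.h₁ p).ρ = h.left ≫ γ₁ ≫ inL c₁ B := by
    have := congrArg (· ≫ pullback.fst c₁.v c₂.v) hr₀
    simpa only [Category.assoc, pullback.lift_fst, m, z] using this
  have hr₂ : r₀ ≫ Spec.map (o.h₂ p).ρ = h.left ≫ γ₂ ≫ inL c₂ B := by
    have := congrArg (· ≫ pullback.snd c₁.v c₂.v) hr₀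
    simpa only [Category.assoc, pullback.lift_snd, m, z] using this
  have hcompat : (h.left ≫ γ₁ ≫ cBleft c₁ B) ≫ qB f a B = r₀ ≫ (o.w p).v := by
    rw [Category.assoc, Category.assoc, cBleft_qB, ← (o.h₁ p).w, ← Category.assoc r₀, hr₁,
      Category.assoc, Category.assoc]
  let ρ₀ : Z'.left ⟶ Spec (CommRingCat.of ((o.w p).C ⊗[R] B)) :=
    (isPullback_chart (o.w p) B).lift (h.left ≫ γ₁ ≫ cBleft c₁ B) r₀ hcompat
  have hρ₀1 : ρ₀ ≫ cBleft (o.w p) B = h.left ≫ γ₁ ≫ cBleft c₁ B :=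
    (isPullback_chart (o.w p) B).lift_fst _ _ _
  have hρ₀2 : ρ₀ ≫ inL (o.w p) B = r₀ := (isPullback_chart (o.w p) B).lift_snd _ _ _
  have hρ₀w : ρ₀ ≫ (inL (o.w p) B ≫ (o.w p).b) = Z'.hom := by
    rw [← cBleft_snd, ← Category.assoc, hρ₀1, Category.assoc, Category.assoc, cBleft_snd, hw₁]
    exact Over.w h
  refine ⟨p, Over.homMk ρ₀ hρ₀w, ?_, ?_⟩
  · apply Over.OverMorphism.ext
    show ρ₀ ≫ (o.h₁ p).tMap B = h.left ≫ γ₁
    apply (isPullback_chart c₁ B).hom_ext
    · rw [Category.assoc, (o.h₁ p).tMap_cBleft, hρ₀1, Category.assoc]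
    · rw [Category.assoc, (o.h₁ p).tMap_inL, ← Category.assoc, hρ₀2, hr₁, Category.assoc]
  · apply Over.OverMorphism.ext
    show ρ₀ ≫ (o.h₂ p).tMap B = h.left ≫ γ₂
    apply (isPullback_chart c₂ B).hom_ext
    · rw [Category.assoc, (o.h₂ p).tMap_cBleft, hρ₀1, Category.assoc, hγ]
    · rw [Category.assoc, (o.h₂ p).tMap_inL, ← Category.assoc, hρ₀2, hr₂, Category.assoc]

/-- A compact scheme has a finite affine open cover. -/
theorem exists_fin_affine_cover (X : Scheme.{u}) [CompactSpace X] :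
    ∃ (m : ℕ) (C : Fin m → CommRingCat.{u}) (v : ∀ k, Spec (C k) ⟶ X),
      Presieve.ofArrows (fun k => Spec (C k)) v ∈ Scheme.zariskiPrecoverage.coverings X := by
  let 𝒰 : X.OpenCover := X.affineOpenCover.openCover.finiteSubcover
  let e : 𝒰.I₀ ≃ Fin (Fintype.card 𝒰.I₀) := Fintype.equivFin _
  refine ⟨Fintype.card 𝒰.I₀,
    fun k => X.affineOpenCover.X (X.affineOpenCover.openCover.idx (e.symm k).1),
    fun k => 𝒰.f (e.symm k), ?_⟩
  rw [Scheme.ofArrows_mem_precoverage_iff]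
  refine ⟨fun x => ?_, fun k => 𝒰.map_prop _⟩
  obtain ⟨y, hy⟩ := 𝒰.covers x
  refine ⟨e (𝒰.idx x), ?_⟩
  have h2 : ∀ k k' (h : k = k'), x ∈ Set.range (𝒰.f k).base → x ∈ Set.range (𝒰.f k').base := by
    intro k k' h hk
    subst h
    exact hk
  exact h2 _ _ (e.symm_apply_apply _).symm ⟨y, hy⟩

variable (f a) in
theorem exists_charts [QuasiCompact f] :
    ∃ (m : ℕ) (c : Fin m → Chart f a),
      Presieve.ofArrows (fun k => Spec (c k).C) (fun k => (c k).v) ∈
        Scheme.zariskiPrecoverage.coverings (pullback a f) := by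
  obtain ⟨m, C, v, hcov⟩ := exists_fin_affine_cover (pullback a f)
  exact ⟨m, fun k => ⟨C k, v k⟩, hcov⟩

theorem exists_overlap [QuasiSeparated f] (c₁ c₂ : Chart f a) : Nonempty (Overlap c₁ c₂) := by
  haveI : QuasiSeparatedSpace ↑(pullback a f) :=
    quasiSeparatedSpace_of_quasiSeparated (pullback.fst a f)
  haveI : QuasiCompact c₂.v := quasiCompact_of_compactSpace c₂.v
  obtain ⟨n, D, u, hcov⟩ := exists_fin_affine_cover (pullback c₁.v c₂.v)
  let w : Fin n → Chart f a := fun p => ⟨D p, u p ≫ pullback.fst c₁.v c₂.v ≫ c₁.v⟩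
  let h₁ : ∀ p, ChartHom c₁ (w p) := fun p =>
    ⟨Spec.preimage (u p ≫ pullback.fst c₁.v c₂.v), by
      rw [Spec.map_preimage, Category.assoc]⟩
  let h₂ : ∀ p, ChartHom c₂ (w p) := fun p =>
    ⟨Spec.preimage (u p ≫ pullback.snd c₁.v c₂.v), by
      rw [Spec.map_preimage, Category.assoc, ← pullback.condition]⟩
  refine ⟨⟨n, w, h₁, h₂, ?_⟩⟩
  have e : (fun p => pullback.lift (Spec.map (h₁ p).ρ) (Spec.map (h₂ p).ρ)
      (by rw [(h₁ p).w, (h₂ p).w])) = u := by
    funext p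
    apply pullback.hom_ext
    · rw [pullback.lift_fst]
      exact Spec.map_preimage _
    · rw [pullback.lift_snd]
      exact Spec.map_preimage _
  rw [e]
  exact hcov

end

end Groth.Agent.Lib.Lead.PushGeom
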