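import Groth.Agent.Lib.Lead.AdeqModBase

/-!
# Gluing sections of a sheaf along a covering whose overlaps are only covered by given objects
-/

universe v₁ u₁

open CategoryTheory Limits Opposite

namespace Groth.Agent.Lib.Lead.SiteGlue

open Groth.Agent.Lib.Lead.AdeqModBase

variable {𝒞 : Type u₁} [Category.{v₁} 𝒞] (J : GrothendieckTopology 𝒞)
  (G : 𝒞ᵒᵖ ⥤ AddCommGrpCat.{max u₁ v₁}) (hG : Presheaf.IsSheaf J G)

include hG

theorem sheaf_glue_refined {Y : 𝒞} {I : Type*} (V : I → 𝒞) (u : ∀ i, V i ⟶ Y)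
    (hcov : Sieve.ofArrows V u ∈ J Y)
    {P : I → I → Type*} (W : ∀ k l, P k l → 𝒞) (p₁ : ∀ k l p, W k l p ⟶ V k)
    (p₂ : ∀ k l p, W k l p ⟶ V l)
    (hW : ∀ (k l : I) (Z : 𝒞) (g₁ : Z ⟶ V k) (g₂ : Z ⟶ V l), g₁ ≫ u k = g₂ ≫ u l →
      ∃ R : Sieve Z, R ∈ J Z ∧ ∀ ⦃Z' : 𝒞⦄ (h : Z' ⟶ Z), R h →
        ∃ (p : P k l) (r : Z' ⟶ W k l p), r ≫ p₁ k l p = h ≫ g₁ ∧ r ≫ p₂ k l p = h ≫ g₂)
    (y : ∀ i, G.obj (op (V i)))
    (hy : ∀ k l p, G.map (p₁ k l p).op (y k) = G.map (p₂ k l p).op (y l)) :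
    ∃ x : G.obj (op Y), ∀ i, G.map (u i).op x = y i := by
  have hG' : Presieve.IsSheaf J (G ⋙ forget AddCommGrpCat) :=
    (isSheaf_iff_isSheaf_of_type J _).1
      ((Presheaf.isSheaf_iff_isSheaf_forget J G (forget AddCommGrpCat)).1 hG)
  have h1 : Presieve.IsSheafFor (G ⋙ forget AddCommGrpCat) (Presieve.ofArrows V u) :=
    (Presieve.isSheafFor_iff_generate _).2 (hG' _ hcov)
  rw [Presieve.isSheafFor_arrows_iff] at h1
  have hc : Presieve.Arrows.Compatible (G ⋙ forget AddCommGrpCat) u y := by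
    intro i j Z gi gj hgg
    obtain ⟨R, hR, hR'⟩ := hW i j Z gi gj hgg
    apply (hG' R hR).isSeparatedFor.ext
    intro Z' h hh
    obtain ⟨p, r, e1, e2⟩ := hR' h hh
    show G.map h.op (G.map gi.op (y i)) = G.map h.op (G.map gj.op (y j))
    rw [← map_comp_apply', ← map_comp_apply', ← e1, ← e2, map_comp_apply', map_comp_apply', hy]
  obtain ⟨x, hx, _⟩ := h1 y hc
  exact ⟨x, hx⟩

end Groth.Agent.Lib.Lead.SiteGlue
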