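import Groth.Agent.Lib.Lead.PushGeom
import Groth.Agent.Lib.Lead.SiteGlue
import Groth.Agent.Lib.Lead.AdeqModPull

/-!
# The module-valued functor of a pushforward, as a kernel of pushforwards along affine charts
-/

universe u

open CategoryTheory Limits Opposite TensorProduct AlgebraicGeometry

namespace Groth.Agent.Lib.Lead.PushMVF

open Adeq Groth.Agent.Lib.Lead.AdeqBasic Groth.Agent.Lib.Lead.AdeqModBase
  Groth.Agent.Lib.Lead.AdeqModMain Groth.Agent.Lib.Lead.PushGeom

noncomputable section

variable (K : Precoverage Scheme.{u}) [BigSite.OSh K] {S T : Scheme.{u}} (f : T ⟶ S)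
  (M : BigSite.Mod K T) {R : CommRingCat.{u}} (a : Spec R ⟶ S)

/-- `F_{f_* M, R}`. -/
abbrev FP : MVF R := (toMVF K a).obj ((BigSite.pushMod K f).obj M)

variable {f a}

/-- `B ↦ M(Spec (C ⊗_R B))`. -/
abbrev GC (c : Chart f a) : MVF R := (push R c.C).obj ((toMVF K c.b).obj M)

/-- The restriction `M(Spec B ×_S T) → M(Spec (C ⊗ B))`. -/
def iotaC (c : Chart f a) : FP K f M a ⟶ GC K M c where
  app X := ModuleCat.ofHom (X := (FP K f M a).obj X) (Y := (GC K M c).obj X)
    { toFun := fun x => M.val.presheaf.map (cB c X.unop.unop).op x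
      map_add' := fun x y => (M.val.presheaf.map (cB c X.unop.unop).op).hom.map_add x y
      map_smul' := fun β x => by
        have h := M.val.map_smul (cB c X.unop.unop).op
          ((BigSite.ORingAbs K).obj.map (pullback.fst (sB X.unop.unop ≫ a) f).op
            (toSect K a X.unop.unop β)) x
        refine h.trans ?_
        show (BigSite.ORing K T).obj.map (cB c X.unop.unop).op
            ((BigSite.ORingAbs K).obj.map (pullback.fst (sB X.unop.unop ≫ a) f).op
              (toSect K a X.unop.unop β)) • M.val.map (cB c X.unop.unop).op x =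
          toSect K c.b ((Alg.baseChange R c.C).obj X.unop.unop)
            ((Algebra.TensorProduct.includeRight :
              X.unop.unop →ₐ[R] c.C ⊗[R] X.unop.unop) β) • M.val.map (cB c X.unop.unop).op x
        congr 1
        apply ULift.ext
        have e1 : (pullback.fst (sB X.unop.unop ≫ a) f).appTop ≫ (cBleft c X.unop.unop).appTop =
            (inR c X.unop.unop).appTop := by
          rw [← Scheme.Hom.comp_appTop, cBleft_fst]
        change ((Scheme.ΓSpecIso (CommRingCat.of X.unop.unop)).inv ≫
            ((pullback.fst (sB X.unop.unop ≫ a) f).appTop ≫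
              (cBleft c X.unop.unop).appTop)) β =
          (CommRingCat.ofHom (Algebra.TensorProduct.includeRight :
              X.unop.unop →ₐ[R] c.C ⊗[R] X.unop.unop).toRingHom ≫
            (Scheme.ΓSpecIso (CommRingCat.of (c.C ⊗[R] X.unop.unop))).inv) β
        rw [e1, Scheme.ΓSpecIso_inv_naturality] }
  naturality {X Y} g := by
    apply ModuleCat.hom_ext
    apply LinearMap.ext
    intro x
    show M.val.presheaf.map (cB c Y.unop.unop).op
        (M.val.presheaf.map (X := op (XB f a X.unop.unop)) (Y := op (XB f a Y.unop.unop))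
          ((Over.pullback f).map ((specOver a).map g.unop)).op x) =
      M.val.presheaf.map ((specOver c.b).map ((Alg.baseChange R c.C).map g.unop.unop).op).op
        (M.val.presheaf.map (X := op (XB f a X.unop.unop)) (Y := op (VB c X.unop.unop))
          (cB c X.unop.unop).op x)
    rw [← map_comp_apply', ← map_comp_apply']
    exact congrArg (fun (k : VB c Y.unop.unop ⟶ XB f a X.unop.unop) =>
      M.val.presheaf.map (X := op (XB f a X.unop.unop)) k.op x) (cB_natural c g.unop.unop).symm

lemma iotaC_apply (c : Chart f a) (X : (Alg R)ᵒᵖᵒᵖ) (x : (FP K f M a).obj X) :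
    (iotaC K M c).app X x = M.val.presheaf.map (X := op (XB f a X.unop.unop))
      (cB c X.unop.unop).op x := rfl

/-- The restriction `M(Spec (C ⊗ B)) → M(Spec (C' ⊗ B))` for a morphism of charts. -/
def resH {c c' : Chart f a} (h : ChartHom c c') : GC K M c ⟶ GC K M c' where
  app X := ModuleCat.ofHom (X := (GC K M c).obj X) (Y := (GC K M c').obj X)
    { toFun := fun x => M.val.presheaf.map (X := op (VB c X.unop.unop)) (h.ρB X.unop.unop).op x
      map_add' := fun x y => (M.val.presheaf.map (h.ρB X.unop.unop).op).hom.map_add x y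
      map_smul' := fun β x => by
        have h1 := M.val.map_smul (h.ρB X.unop.unop).op
          (toSect K c.b ((Alg.baseChange R c.C).obj X.unop.unop)
            ((Algebra.TensorProduct.includeRight :
              X.unop.unop →ₐ[R] c.C ⊗[R] X.unop.unop) β)) x
        refine h1.trans ?_
        show (BigSite.ORing K T).obj.map (h.ρB X.unop.unop).op
            (toSect K c.b ((Alg.baseChange R c.C).obj X.unop.unop)
              ((Algebra.TensorProduct.includeRight :
                X.unop.unop →ₐ[R] c.C ⊗[R] X.unop.unop) β)) •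
              M.val.map (h.ρB X.unop.unop).op x =
          toSect K c'.b ((Alg.baseChange R c'.C).obj X.unop.unop)
            ((Algebra.TensorProduct.includeRight :
              X.unop.unop →ₐ[R] c'.C ⊗[R] X.unop.unop) β) • M.val.map (h.ρB X.unop.unop).op x
        congr 1
        apply ULift.ext
        change ((Scheme.ΓSpecIso (CommRingCat.of (c.C ⊗[R] X.unop.unop))).inv ≫
            (h.tMap X.unop.unop).appTop) ((1 : c.C) ⊗ₜ[R] β) =
          (Scheme.ΓSpecIso (CommRingCat.of (c'.C ⊗[R] X.unop.unop))).inv
            ((1 : c'.C) ⊗ₜ[R] β)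
        rw [← Scheme.ΓSpecIso_inv_naturality]
        show (Scheme.ΓSpecIso (CommRingCat.of (c'.C ⊗[R] X.unop.unop))).inv
            ((Algebra.TensorProduct.map h.alg (AlgHom.id R X.unop.unop)) ((1 : c.C) ⊗ₜ[R] β)) = _
        rw [Algebra.TensorProduct.map_tmul, map_one]
        rfl }
  naturality {X Y} g := by
    apply ModuleCat.hom_ext
    apply LinearMap.ext
    intro x
    show M.val.presheaf.map (h.ρB Y.unop.unop).op
        (M.val.presheaf.map (X := op (VB c X.unop.unop)) (Y := op (VB c Y.unop.unop))
          ((specOver c.b).map ((Alg.baseChange R c.C).map g.unop.unop).op).op x) =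
      M.val.presheaf.map ((specOver c'.b).map ((Alg.baseChange R c'.C).map g.unop.unop).op).op
        (M.val.presheaf.map (X := op (VB c X.unop.unop)) (Y := op (VB c' X.unop.unop))
          (h.ρB X.unop.unop).op x)
    rw [← map_comp_apply', ← map_comp_apply']
    exact congrArg (fun (k : VB c' Y.unop.unop ⟶ VB c X.unop.unop) =>
      M.val.presheaf.map (X := op (VB c X.unop.unop)) k.op x) (h.ρB_natural g.unop.unop).symm

lemma resH_apply {c c' : Chart f a} (h : ChartHom c c') (X : (Alg R)ᵒᵖᵒᵖ)
    (x : (GC K M c).obj X) :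
    (resH K M h).app X x = M.val.presheaf.map (X := op (VB c X.unop.unop))
      (h.ρB X.unop.unop).op x := rfl

lemma iotaC_resH {c c' : Chart f a} (h : ChartHom c c') :
    iotaC K M c ≫ resH K M h = iotaC K M c' := by
  apply PresheafOfModules.hom_ext
  intro X
  apply ModuleCat.hom_ext
  apply LinearMap.ext
  intro x
  show M.val.presheaf.map (h.ρB X.unop.unop).op
      (M.val.presheaf.map (X := op (XB f a X.unop.unop)) (cB c X.unop.unop).op x) =
    M.val.presheaf.map (X := op (XB f a X.unop.unop)) (cB c' X.unop.unop).op x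
  rw [← map_comp_apply', h.ρB_cB]

attribute [local instance] Abelian.hasFiniteBiproducts

open Groth.Agent.Lib.Lead.AdeqFamDescent in
theorem adequate_FP [K.IsStableUnderBaseChange] (hzar : Scheme.zariskiPrecoverage ≤ K)
    (href : HasAffineRefinements K) (hM : adequateMod K T M) {m : ℕ} (c : Fin m → Chart f a)
    (hcov : Presieve.ofArrows (fun k => Spec (c k).C) (fun k => (c k).v) ∈
      Scheme.zariskiPrecoverage.coverings (pullback a f))
    (o : ∀ k l, Overlap (c k) (c l)) : adequate R (FP K f M a) := by
  classical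
  let Q : Type := Σ (k : Fin m) (l : Fin m), Fin (o k l).n
  let P : Fin m → MVF R := fun k => GC K M (c k)
  let Hq : Q → MVF R := fun q => GC K M ((o q.1 q.2.1).w q.2.2)
  have hP : adequate R (⨁ P) := adequate_biproduct P (fun k =>
    AdeqPush.adequate_push (c k).C _ (adequate_toMVF K href M hM _ (c k).b))
  have hH : adequate R (⨁ Hq) := adequate_biproduct Hq (fun q =>
    AdeqPush.adequate_push ((o q.1 q.2.1).w q.2.2).C _
      (adequate_toMVF K href M hM _ ((o q.1 q.2.1).w q.2.2).b))
  let η : FP K f M a ⟶ ⨁ P := biproduct.lift (fun k => iotaC K M (c k))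
  let g : ⨁ P ⟶ ⨁ Hq := biproduct.lift (fun q =>
    biproduct.π P q.1 ≫ resH K M ((o q.1 q.2.1).h₁ q.2.2) -
      biproduct.π P q.2.1 ≫ resH K M ((o q.1 q.2.1).h₂ q.2.2))
  have hgπ : ∀ q : Q, g ≫ biproduct.π Hq q =
      biproduct.π P q.1 ≫ resH K M ((o q.1 q.2.1).h₁ q.2.2) -
      biproduct.π P q.2.1 ≫ resH K M ((o q.1 q.2.1).h₂ q.2.2) :=
    fun q => biproduct.lift_π _ _
  have hηπ : ∀ k, η ≫ biproduct.π P k = iotaC K M (c k) := fun k => biproduct.lift_π _ _
  have hker : IsKerPt η g := by
    refine ⟨?_, ?_, ?_⟩
    · apply biproduct.hom_ext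
      intro q
      rw [Category.assoc, hgπ, zero_comp, Preadditive.comp_sub, ← Category.assoc,
        ← Category.assoc, hηπ, hηπ, sub_eq_zero, iotaC_resH, iotaC_resH]
    · intro X x x' hxx'
      have h1 : ∀ k, (iotaC K M (c k)).app X x = (iotaC K M (c k)).app X x' := by
        intro k
        have h2 := congrArg (fun z => (biproduct.π P k).app X z) hxx'
        have h3 : (η ≫ biproduct.π P k).app X x = (η ≫ biproduct.π P k).app X x' := h2
        rw [hηπ] at h3
        exact h3
      exact sheaf_sep (QuotSh.J K T) M.val.presheaf M.isSheaf _ _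
        (cover_XB K hzar c hcov X.unop.unop) x x' h1
    · intro X y hy
      let B : Alg R := X.unop.unop
      let yk : ∀ k, M.val.presheaf.obj (op (VB (c k) B)) := fun k => (biproduct.π P k).app X y
      have hcompat : ∀ k l (p : Fin (o k l).n),
          M.val.presheaf.map (((o k l).h₁ p).ρB B).op (yk k) =
            M.val.presheaf.map (((o k l).h₂ p).ρB B).op (yk l) := by
        intro k l p
        have h1 : (g ≫ biproduct.π Hq ⟨k, l, p⟩).app X y = 0 := by
          rw [comp_app_apply, hy, map_zero]
        rw [hgπ] at h1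
        have h1' : (biproduct.π P k ≫ resH K M ((o k l).h₁ p)).app X y -
            (biproduct.π P l ≫ resH K M ((o k l).h₂ p)).app X y = 0 := h1
        exact sub_eq_zero.mp h1'
      obtain ⟨x, hx⟩ := SiteGlue.sheaf_glue_refined (QuotSh.J K T) M.val.presheaf M.isSheaf
        (fun k => VB (c k) B) (fun k => cB (c k) B) (cover_XB K hzar c hcov B)
        (P := fun k l => Fin (o k l).n) (fun k l p => VB ((o k l).w p) B)
        (fun k l p => ((o k l).h₁ p).ρB B) (fun k l p => ((o k l).h₂ p).ρB B)
        (fun k l Z g₁ g₂ hg => overlap_refine K hzar (o k l) B Z g₁ g₂ hg) yk hcompat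
      refine ⟨x, ?_⟩
      apply biproduct_ext_apply P X
      intro k
      have h3 : (η ≫ biproduct.π P k).app X x = (biproduct.π P k).app X y := by
        rw [hηπ]
        exact hx k
      exact h3
  exact (adequate R).prop_of_iso hker.iso.symm (AdeqKer.adequate_kernel g hP hH)

variable (f) in
theorem adequateMod_push [K.IsStableUnderBaseChange] (hzar : Scheme.zariskiPrecoverage ≤ K)
    (href : HasAffineRefinements K) [QuasiCompact f] [QuasiSeparated f]
    (hM : adequateMod K T M) : adequateMod K S ((BigSite.pushMod K f).obj M) := by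
  obtain ⟨ι, R, a, hcov⟩ := AdeqModPull.exists_affine_cover K hzar S
  refine ⟨ι, R, a, hcov, fun i => ?_⟩
  obtain ⟨m, c, hc⟩ := exists_charts f (a i)
  have o : ∀ k l, Overlap (c k) (c l) := fun k l => (exists_overlap (c k) (c l)).some
  exact adequate_FP K M hzar href hM c hc o

end

end Groth.Agent.Lib.Lead.PushMVF
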