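import Groth.Statements.S8562

set_option autoImplicit false
universe u
open CategoryTheory CategoryTheory.Limits AlgebraicGeometry Opposite
open NonAbH1

namespace Groth.Agent.Lib.Lead.PushTorsor

variable {X Y : Scheme.{u}} (f : X ⟶ Y) [EtCoh.BCCont f]

/-- the pushforward G-sheaf -/
noncomputable def pushGSheaf (F : Sheaf X.smallEtaleTopology GrpCat.{u + 1}) (Q : NonAbH1.GSheaf F) :
    NonAbH1.GSheaf (((EtCoh.bc f).sheafPushforwardContinuous GrpCat.{u + 1}
        Y.smallEtaleTopology X.smallEtaleTopology).obj F) where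
  P := ((EtCoh.bc f).sheafPushforwardContinuous (Type (u + 1))
        Y.smallEtaleTopology X.smallEtaleTopology).obj Q.P
  smul {U} g s := Q.smul (U := (EtCoh.bc f).op.obj U) g s
  one_smul {U} p := Q.one_smul (U := (EtCoh.bc f).op.obj U) p
  mul_smul {U} g h p := Q.mul_smul (U := (EtCoh.bc f).op.obj U) g h p
  map_smul {U V} a g p := Q.map_smul ((EtCoh.bc f).op.map a) g p

set_option backward.isDefEq.respectTransparency.types false in
theorem covering_of_covers {ι : Type u} (V : ι → Y.Etale) (hV : EtCoh.Covers V) (U : Y.Etale)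
    (S : Sieve U) (hS : ∀ (i : ι) (W : Y.Etale) (g : W ⟶ U) (_ : W ⟶ V i), S g) :
    S ∈ Y.smallEtaleTopology U := by
  have eY : Y.smallEtaleTopology =
      (Y.smallPretopology (P := EtCoh.etaleMP) (Q := EtCoh.etaleMP)).toGrothendieck :=
    Scheme.smallGrothendieckTopology_eq_toGrothendieck_smallPretopology Y le_rfl
  rw [eY]
  refine (Scheme.mem_toGrothendieck_smallPretopology U S).2 ?_
  intro x
  obtain ⟨i, v, hv⟩ := hV (U.hom.base x)
  obtain ⟨z, hz1, hz2⟩ := Scheme.Pullback.exists_preimage_pullback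
    (f := U.hom) (g := (V i).hom) x v hv.symm
  let W : Y.Etale := Scheme.Etale.mk (pullback.fst U.hom (V i).hom ≫ U.hom)
  let g : W ⟶ U := MorphismProperty.Over.homMk (pullback.fst U.hom (V i).hom) rfl trivial
  let h : W ⟶ V i := MorphismProperty.Over.homMk (pullback.snd U.hom (V i).hom)
    (pullback.condition.symm) trivial
  exact ⟨W, g, z, hS i W g h, inferInstanceAs (Etale (pullback.fst U.hom (V i).hom)), hz1⟩

theorem main (F : Sheaf X.smallEtaleTopology GrpCat.{u + 1}) (Q : NonAbH1.Torsor F) :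
    (∃ (P : NonAbH1.Torsor (((EtCoh.bc f).sheafPushforwardContinuous GrpCat.{u + 1}
        Y.smallEtaleTopology X.smallEtaleTopology).obj F))
      (φ : P.P ⟶ ((EtCoh.bc f).sheafPushforwardContinuous (Type (u + 1))
        Y.smallEtaleTopology X.smallEtaleTopology).obj Q.P),
      ∀ (V : Y.Etaleᵒᵖ) (g : F.obj.obj (op ((EtCoh.bc f).obj V.unop))) (s : P.P.obj.obj V),
        φ.hom.app V (P.smul g s) = Q.smul g (φ.hom.app V s)) ↔
    ∃ (ι : Type u) (V : ι → Y.Etale), EtCoh.Covers V ∧
      ∀ i, Nonempty (Q.P.obj.obj (op ((EtCoh.bc f).obj (V i)))) := by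
  constructor
  · rintro ⟨P, φ, -⟩
    obtain ⟨S, hS, hne⟩ := P.isTorsor.2 (EtCoh.top Y)
    have eY : Y.smallEtaleTopology =
        (Y.smallPretopology (P := EtCoh.etaleMP) (Q := EtCoh.etaleMP)).toGrothendieck :=
      Scheme.smallGrothendieckTopology_eq_toGrothendieck_smallPretopology Y le_rfl
    rw [eY] at hS
    replace hS := (Scheme.mem_toGrothendieck_smallPretopology (EtCoh.top Y) S).1 hS
    choose V g v hg _ hv using hS
    refine ⟨Y, V, ?_, ?_⟩
    · intro y
      refine ⟨y, v y, ?_⟩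
      have e : (g y).left ≫ (EtCoh.top Y).hom = (V y).hom := Over.w (g y).hom
      rw [← e]
      exact hv y
    · intro y
      obtain ⟨s⟩ := hne (g y) (hg y)
      exact ⟨φ.hom.app (op (V y)) s⟩
  · rintro ⟨ι, V, hV, hne⟩
    refine ⟨⟨pushGSheaf f F Q.toGSheaf, ?_, ?_⟩, 𝟙 _, fun V g s => rfl⟩
    · intro U p q
      exact Q.isTorsor.1 ((EtCoh.bc f).op.obj U) p q
    · intro U
      refine ⟨⟨fun W g => Nonempty (Q.P.obj.obj (op ((EtCoh.bc f).obj W))), ?_⟩, ?_, ?_⟩
      · intro W W' g hg a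
        obtain ⟨s⟩ := hg
        exact ⟨Q.P.obj.map ((EtCoh.bc f).map a).op s⟩
      · refine covering_of_covers V hV U _ ?_
        intro i W g h
        obtain ⟨s⟩ := hne i
        exact ⟨Q.P.obj.map ((EtCoh.bc f).map h).op s⟩
      · intro W g hg
        exact hg

end Groth.Agent.Lib.Lead.PushTorsor
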