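import Mathlib
import Groth.Agent.Lib.Helper29.QCohFinite

/-!
# A morphism of quasi-coherent modules that is bijective on an affine cover is an isomorphism
-/

universe u
open CategoryTheory AlgebraicGeometry TopologicalSpace Opposite

namespace Groth.Agent.Lib.Lead.QCohIso
open Groth.Agent.Lib.Helper29.QCoh

variable {X : Scheme.{u}}

theorem isUnit_germ_of_mem_basicOpen {U : X.Opens} (x : X) (hx : x ∈ U) (r : Γ(X, U))
    (hr : x ∈ X.basicOpen r) : IsUnit (X.presheaf.germ U x hx r) :=
  (Scheme.mem_basicOpen _ _ _ hx).1 hr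

theorem bijective_stalkMap_of_bijective_app {M N : X.Modules} [M.IsQuasicoherent]
    [N.IsQuasicoherent] (φ : M ⟶ N) {U : X.Opens} (hU : IsAffineOpen U)
    (hb : Function.Bijective (φ.app U)) (x : X) (hx : x ∈ U) :
    Function.Bijective (stalkMap φ x) := by
  constructor
  · rw [injective_iff_map_eq_zero]
    intro t ht
    obtain ⟨r, m, hxr, hrm⟩ := exists_smul_germ_eq M hU x hx t
    have h1 : N.presheaf.germ U x hx (φ.app U m) = 0 := by
      rw [← stalkMap_germ, ← hrm, stalkMap_smul, ht, smul_zero]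
    obtain ⟨r', hxr', hr'⟩ := exists_smul_eq_zero_of_germ_eq_zero N hU x hx _ h1
    have h2 : r' • m = 0 := by
      apply hb.1
      rw [Scheme.Modules.Hom.app_smul, hr', map_zero]
    have h3 : X.presheaf.germ U x hx r' • (X.presheaf.germ U x hx r • t) = 0 := by
      rw [hrm, ← germ_smul, h2, map_zero]
    obtain ⟨u, hu⟩ := isUnit_germ_of_mem_basicOpen x hx r hxr
    obtain ⟨u', hu'⟩ := isUnit_germ_of_mem_basicOpen x hx r' hxr'
    rw [← hu, ← hu'] at h3
    have h4 := congrArg (fun z => (↑u⁻¹ : X.presheaf.stalk x) • ((↑u'⁻¹ : X.presheaf.stalk x) • z)) h3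
    have h5 : (↑u⁻¹ * (↑u'⁻¹ * (↑u' * ↑u)) : X.presheaf.stalk x) = 1 := by
      rw [← mul_assoc (↑u'⁻¹ : X.presheaf.stalk x), Units.inv_mul, one_mul, Units.inv_mul]
    simpa only [smul_smul, h5, one_smul, smul_zero] using h4
  · intro t'
    obtain ⟨r, n, hxr, hrn⟩ := exists_smul_germ_eq N hU x hx t'
    obtain ⟨m, rfl⟩ := hb.2 n
    obtain ⟨u, hu⟩ := isUnit_germ_of_mem_basicOpen x hx r hxr
    refine ⟨(↑u⁻¹ : X.presheaf.stalk x) • M.presheaf.germ U x hx m, ?_⟩
    rw [stalkMap_smul, stalkMap_germ, ← hrn, ← hu, smul_smul, Units.inv_mul, one_smul]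

/-- A morphism of quasi-coherent modules which is bijective on sections over each member of an
affine open cover is an isomorphism. -/
theorem isIso_of_bijective_on_affine_cover {M N : X.Modules} [M.IsQuasicoherent]
    [N.IsQuasicoherent] (φ : M ⟶ N) {ι : Type*} (V : ι → X.Opens) (hV : ∀ i, IsAffineOpen (V i))
    (hcov : ∀ x : X, ∃ i, x ∈ V i) (hb : ∀ i, Function.Bijective (φ.app (V i))) : IsIso φ := by
  rw [isIso_iff_stalkMap_bijective]
  intro x
  obtain ⟨i, hi⟩ := hcov x
  exact bijective_stalkMap_of_bijective_app φ (hV i) (hb i) x hi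

end Groth.Agent.Lib.Lead.QCohIso
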