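import Mathlib

/-!
# Rank is invariant under compatible base changes to fields
-/

universe u
open TensorProduct

namespace Groth.Agent.Lib.Lead.RankBC

theorem rank_eq_of_isBaseChange {A B KY KX : Type u} [CommRing A] [CommRing B] [Field KY] [Field KX]
    [Algebra A B] [Algebra A KY] [Algebra B KX] [Algebra KY KX] [Algebra A KX]
    [IsScalarTower A B KX] [IsScalarTower A KY KX]
    {M P NY NX : Type u} [AddCommGroup M] [Module A M]
    [AddCommGroup P] [Module A P] [Module B P] [IsScalarTower A B P]
    [AddCommGroup NY] [Module A NY] [Module KY NY] [IsScalarTower A KY NY]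
    [AddCommGroup NX] [Module A NX] [Module B NX] [Module KX NX] [IsScalarTower A B NX]
    [IsScalarTower B KX NX] [IsScalarTower A KX NX]
    (g : M →ₗ[A] P) (hg : IsBaseChange B g)
    (l : P →ₗ[B] NX) (hl : IsBaseChange KX l)
    (j : M →ₗ[A] NY) (hj : IsBaseChange KY j) :
    Module.rank KX NX = Module.rank KY NY := by
  have h1 : IsBaseChange KX ((l.restrictScalars A).comp g) := IsBaseChange.comp hg hl
  have h2 : IsBaseChange KX (TensorProduct.mk KY KX NY 1) := TensorProduct.isBaseChange KY NY KX
  have h3 : IsBaseChange KX (((TensorProduct.mk KY KX NY 1).restrictScalars A).comp j) :=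
    IsBaseChange.comp hj h2
  let e : NX ≃ₗ[KX] KX ⊗[KY] NY := h1.equiv.symm ≪≫ₗ h3.equiv
  rw [LinearEquiv.rank_eq e, Module.rank_baseChange, Cardinal.lift_id]

/-- version with `IsField` hypotheses instead of `Field` instances -/
theorem rank_eq_of_isBaseChange' {A B KY KX : Type u} [CommRing A] [CommRing B] [CommRing KY]
    [CommRing KX] (hKY : IsField KY) (hKX : IsField KX)
    [Algebra A B] [Algebra A KY] [Algebra B KX] [Algebra KY KX] [Algebra A KX]
    [IsScalarTower A B KX] [IsScalarTower A KY KX]
    {M P NY NX : Type u} [AddCommGroup M] [Module A M]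
    [AddCommGroup P] [Module A P] [Module B P] [IsScalarTower A B P]
    [AddCommGroup NY] [Module A NY] [Module KY NY] [IsScalarTower A KY NY]
    [AddCommGroup NX] [Module A NX] [Module B NX] [Module KX NX] [IsScalarTower A B NX]
    [IsScalarTower B KX NX] [IsScalarTower A KX NX]
    (g : M →ₗ[A] P) (hg : IsBaseChange B g)
    (l : P →ₗ[B] NX) (hl : IsBaseChange KX l)
    (j : M →ₗ[A] NY) (hj : IsBaseChange KY j) :
    Module.rank KX NX = Module.rank KY NY := by
  letI := hKY.toField
  letI := hKX.toField
  exact rank_eq_of_isBaseChange g hg l hl j hj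

end Groth.Agent.Lib.Lead.RankBC
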