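import Mathlib
import Groth.Prelude.Def_W4sga3iivvp2RelPsh

/-! Sheaf conditions for the relative presheaf on `Over S`. -/

set_option autoImplicit false
open CategoryTheory Opposite
universe v₁ u₁

namespace Groth.Agent.Lib.Lead.RelPsh

variable {C : Type u₁} [Category.{v₁} C] (J : GrothendieckTopology C) {S : C}
  {F : Cᵒᵖ ⥤ Type v₁} (φ : F ⟶ yoneda.obj S)

theorem φ_map {Z T : C} (f : Z ⟶ T) (x : F.obj (op T)) :
    φ.app (op Z) (F.map f.op x) = f ≫ φ.app (op T) x := by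
  rw [NatTrans.naturality_apply φ f.op x]
  rfl

theorem sep_rel (hF : Presieve.IsSeparated J F) :
    Presieve.IsSeparated (J.over S) (ShfCat.relPsh φ) := by
  intro T R hR x t₁ t₂ h₁ h₂
  apply Subtype.ext
  refine (hF _ ((GrothendieckTopology.mem_over_iff _ _).1 hR)).ext ?_
  intro Z f hf
  rw [Sieve.overEquiv_iff] at hf
  have e1 := congrArg Subtype.val (h₁ _ hf)
  have e2 := congrArg Subtype.val (h₂ _ hf)
  exact e1.trans e2.symm

theorem sep_of_rel (hS : Presieve.IsSeparated J (yoneda.obj S))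
    (h : Presieve.IsSeparated (J.over S) (ShfCat.relPsh φ)) : Presieve.IsSeparated J F := by
  intro X R hR x t₁ t₂ h₁ h₂
  have hφ : φ.app (op X) t₁ = φ.app (op X) t₂ := by
    refine (hS R hR).ext ?_
    intro Z f hf
    rw [← NatTrans.naturality_apply φ f.op t₁, ← NatTrans.naturality_apply φ f.op t₂, h₁ f hf,
      h₂ f hf]
  let T : Over S := Over.mk (φ.app (op X) t₁)
  have hR' : (Sieve.overEquiv T).symm R ∈ J.over S T :=
    GrothendieckTopology.overEquiv_symm_mem_over J T R hR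
  let u₁ : (ShfCat.relPsh φ).obj (op T) := ⟨t₁, rfl⟩
  let u₂ : (ShfCat.relPsh φ).obj (op T) := ⟨t₂, hφ.symm⟩
  have : u₁ = u₂ := by
    refine (h _ hR').ext ?_
    intro Z g hg
    rw [Sieve.overEquiv_symm_iff] at hg
    apply Subtype.ext
    show F.map g.left.op t₁ = F.map g.left.op t₂
    rw [h₁ _ hg, h₂ _ hg]
  exact congrArg Subtype.val this

theorem sheaf_rel (hS : Presieve.IsSeparated J (yoneda.obj S)) (hF : Presieve.IsSheaf J F) :
    Presieve.IsSheaf (J.over S) (ShfCat.relPsh φ) := by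
  intro T R hR
  rw [← Presieve.isSeparatedFor_and_exists_isAmalgamation_iff_isSheafFor]
  refine ⟨sep_rel J φ hF.isSeparated R hR, ?_⟩
  intro x hx
  have hR' : Sieve.overEquiv T R ∈ J T.left := (GrothendieckTopology.mem_over_iff _ _).1 hR
  let x' : Presieve.FamilyOfElements F (Sieve.overEquiv T R).arrows := fun Z f hf =>
    (x (Over.homMk f : Over.mk (f ≫ T.hom) ⟶ T) ((Sieve.overEquiv_iff _ _).1 hf)).1
  have hx' : x'.Compatible := by
    intro Z₁ Z₂ W g₁ g₂ f₁ f₂ h₁ h₂ hcomm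
    have := hx (Over.homMk g₁ : Over.mk (g₁ ≫ f₁ ≫ T.hom) ⟶ Over.mk (f₁ ≫ T.hom))
      (Over.homMk g₂ (by simp [reassoc_of% hcomm]) :
        Over.mk (g₁ ≫ f₁ ≫ T.hom) ⟶ Over.mk (f₂ ≫ T.hom))
      ((Sieve.overEquiv_iff _ _).1 h₁) ((Sieve.overEquiv_iff _ _).1 h₂)
      (by ext; simpa using hcomm)
    exact congrArg Subtype.val this
  have hsh := hF _ hR'
  have ht : x'.IsAmalgamation (hsh.amalgamate x' hx') := hsh.isAmalgamation hx'
  have hφt : φ.app (op T.left) (hsh.amalgamate x' hx') = T.hom := by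
    refine (hS _ hR').ext ?_
    intro Z f hf
    rw [← NatTrans.naturality_apply φ f.op, ht f hf]
    exact (x (Over.homMk f : Over.mk (f ≫ T.hom) ⟶ T) ((Sieve.overEquiv_iff _ _).1 hf)).2
  refine ⟨⟨hsh.amalgamate x' hx', hφt⟩, ?_⟩
  intro Z g hg
  apply Subtype.ext
  have hR1 : R (Over.homMk g.left : Over.mk (g.left ≫ T.hom) ⟶ T) := by
    have e : (Over.homMk (𝟙 Z.left) (by simpa using (Over.w g).symm) :
        Over.mk (g.left ≫ T.hom) ⟶ Z) ≫ g =
        (Over.homMk g.left : Over.mk (g.left ≫ T.hom) ⟶ T) := by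
      ext; simp
    rw [← e]
    exact R.downward_closed hg _
  have hg' : Sieve.overEquiv T R g.left := (Sieve.overEquiv_iff _ _).2 hR1
  have e1 := ht g.left hg'
  have e2 := hx (Over.homMk (𝟙 Z.left) (by simpa using Over.w g) :
    Z ⟶ Over.mk (g.left ≫ T.hom)) (𝟙 Z) hR1 hg (by ext; simp)
  have e3 : (x (Over.homMk g.left : Over.mk (g.left ≫ T.hom) ⟶ T) hR1).1 = (x g hg).1 := by
    have := congrArg Subtype.val e2
    simpa [ShfCat.relPsh_map_val] using this
  show F.map g.left.op (hsh.amalgamate x' hx') = (x g hg).1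
  exact e1.trans e3

theorem sheaf_of_rel (hS : Presieve.IsSheaf J (yoneda.obj S))
    (h : Presieve.IsSheaf (J.over S) (ShfCat.relPsh φ)) : Presieve.IsSheaf J F := by
  intro X R hR
  rw [← Presieve.isSeparatedFor_and_exists_isAmalgamation_iff_isSheafFor]
  refine ⟨sep_of_rel J φ hS.isSeparated h.isSeparated R hR, ?_⟩
  intro x hx
  let xs : Presieve.FamilyOfElements (yoneda.obj S) R.arrows := fun Z f hf =>
    φ.app (op Z) (x f hf)
  have hxs : xs.Compatible := by
    intro Z₁ Z₂ W g₁ g₂ f₁ f₂ h₁ h₂ hcomm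
    show (yoneda.obj S).map g₁.op (φ.app _ (x f₁ h₁)) = (yoneda.obj S).map g₂.op (φ.app _ (x f₂ h₂))
    rw [← NatTrans.naturality_apply φ g₁.op, ← NatTrans.naturality_apply φ g₂.op,
      hx g₁ g₂ h₁ h₂ hcomm]
  have hs : ∀ ⦃Z : C⦄ (f : Z ⟶ X) (hf : R f),
      f ≫ (hS R hR).amalgamate xs hxs = φ.app (op Z) (x f hf) := fun Z f hf =>
    (hS R hR).isAmalgamation hxs f hf
  let T : Over S := Over.mk ((hS R hR).amalgamate xs hxs)
  have hR' : (Sieve.overEquiv T).symm R ∈ J.over S T :=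
    GrothendieckTopology.overEquiv_symm_mem_over J T R hR
  let y : Presieve.FamilyOfElements (ShfCat.relPsh φ) ((Sieve.overEquiv T).symm R).arrows :=
    fun Z g hg => ⟨x g.left ((Sieve.overEquiv_symm_iff _ _).1 hg), by
      rw [← hs]; exact Over.w g⟩
  have hy : y.Compatible := by
    intro Z₁ Z₂ W g₁ g₂ f₁ f₂ h₁ h₂ hcomm
    apply Subtype.ext
    exact hx g₁.left g₂.left _ _ (by
      have := congrArg (fun m => m.left) hcomm
      simpa using this)
  have ht := (h _ hR').isAmalgamation hy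
  refine ⟨((h _ hR').amalgamate y hy).1, ?_⟩
  intro Z f hf
  have := ht (Over.homMk f : Over.mk (f ≫ T.hom) ⟶ T) ((Sieve.overEquiv_symm_iff _ _).2 hf)
  exact congrArg Subtype.val this

theorem main (hS : Presieve.IsSheaf J (yoneda.obj S)) :
    (Presieve.IsSeparated (J.over S) (ShfCat.relPsh φ) ↔ Presieve.IsSeparated J F) ∧
    (Presieve.IsSheaf (J.over S) (ShfCat.relPsh φ) ↔ Presieve.IsSheaf J F) :=
  ⟨⟨sep_of_rel J φ hS.isSeparated, sep_rel J φ⟩,
    ⟨sheaf_of_rel J φ hS, sheaf_rel J φ hS.isSeparated⟩⟩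

end Groth.Agent.Lib.Lead.RelPsh
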