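import Groth.Statements.S3886
import Mathlib.AlgebraicTopology.SimplicialObject.ChainHomotopy
import Mathlib.Algebra.Homology.Opposite

set_option autoImplicit false
universe u
open CategoryTheory Opposite AlgebraicTopology Simplicial

namespace Groth.Agent.Lib.Lead.SimpHtpy

variable {𝓕 : Type*} [Category 𝓕] {A : Type*} [Category A] [Preadditive A]

/-- the cosimplicial map induced by a simplicial map and a contravariant functor -/
abbrev coMap {K L : SimplicialObject 𝓕} (a : L ⟶ K) (G : 𝓕ᵒᵖ ⥤ A) :
    (K.rightOp ⋙ G : CosimplicialObject A) ⟶ (L.rightOp ⋙ G : CosimplicialObject A) :=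
  Functor.whiskerRight (NatTrans.rightOp a) G

theorem d_op (K : SimplicialObject 𝓕) (G : 𝓕ᵒᵖ ⥤ A) (n : ℕ) :
    ((alternatingFaceMapComplex Aᵒᵖ).obj (K ⋙ G.rightOp)).d (n + 1) n =
      (((alternatingCofaceMapComplex A).obj (K.rightOp ⋙ G)).d n (n + 1)).op := by
  let Z : CosimplicialObject A := K.rightOp ⋙ G
  have h2 : ((alternatingCofaceMapComplex A).obj Z).d n (n + 1) =
      AlternatingCofaceMapComplex.objD Z n := by
    show (AlternatingCofaceMapComplex.obj Z).d n (n + 1) = _
    exact CochainComplex.of_d (fun n => Z.obj ⦋n⦌) (AlternatingCofaceMapComplex.objD Z) n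
  have key : (AlternatingCofaceMapComplex.objD Z n).op =
      AlternatingFaceMapComplex.objD ((cosimplicialSimplicialEquiv A).functor.obj (op Z)) n :=
    congrArg Quiver.Hom.op (AlternatingCofaceMapComplex.d_eq_unop_d Z n)
  exact (alternatingFaceMapComplex_obj_d _ _).trans
    (key.symm.trans (congrArg Quiver.Hom.op h2.symm))

theorem d_op' (K : SimplicialObject 𝓕) (G : 𝓕ᵒᵖ ⥤ A) (i j : ℕ) (h : i + 1 = j) :
    ((alternatingFaceMapComplex Aᵒᵖ).obj (K ⋙ G.rightOp)).d j i =
      (((alternatingCofaceMapComplex A).obj (K.rightOp ⋙ G)).d i j).op := by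
  subst h
  exact d_op K G i

noncomputable def coHomotopy {K L : SimplicialObject 𝓕} {a b : L ⟶ K}
    (H : SimplicialObject.Homotopy a b) (G : 𝓕ᵒᵖ ⥤ A) :
    _root_.Homotopy ((alternatingCofaceMapComplex A).map (coMap a G))
      ((alternatingCofaceMapComplex A).map (coMap b G)) where
  hom i j := ((H.whiskerRight G.rightOp).toChainHomotopy.hom j i).unop
  zero i j hij := by
    have := (H.whiskerRight G.rightOp).toChainHomotopy.zero j i hij
    rw [this]; rfl
  comm n := by
    apply Quiver.Hom.op_inj
    have e := (H.whiskerRight G.rightOp).toChainHomotopy.comm n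
    cases n with
    | zero =>
      rw [prevD_eq _ (show (ComplexShape.down ℕ).Rel 1 0 by simp), dNext_eq_zero _ _ (by simp),
        zero_add] at e
      rw [dNext_eq _ (show (ComplexShape.up ℕ).Rel 0 1 by simp), prevD_eq_zero _ _ (by simp),
        add_zero, op_add, op_comp]
      rw [← d_op' K G 0 1 rfl]
      exact e
    | succ n =>
      rw [dNext_eq _ (show (ComplexShape.down ℕ).Rel (n + 1) n by simp),
        prevD_eq _ (show (ComplexShape.down ℕ).Rel (n + 2) (n + 1) by simp)] at e
      rw [dNext_eq _ (show (ComplexShape.up ℕ).Rel (n + 1) (n + 2) by simp),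
        prevD_eq _ (show (ComplexShape.up ℕ).Rel n (n + 1) by simp), op_add, op_add, op_comp,
        op_comp]
      rw [← d_op' K G (n + 1) (n + 2) rfl, ← d_op' L G n (n + 1) rfl, add_comm (_ ≫ _) (_ ≫ _)]
      exact e

end Groth.Agent.Lib.Lead.SimpHtpy
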