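import Groth.Agent.Lib.Lead.Spectral
import Mathlib.Topology.Category.TopCat.Limits.Basic
import Mathlib.Topology.Category.TopCat.Limits.Konig

set_option autoImplicit false
set_option linter.unusedSectionVars false

universe u

namespace Groth.Agent.Lib.Lead

open Topology Set CategoryTheory CategoryTheory.Limits

section withCT

variable {X Y : Type*} [TopologicalSpace X] [TopologicalSpace Y]

instance t2Space_withConstructibleTopology [T0Space X] [PrespectralSpace X] :
    T2Space (WithConstructibleTopology X) :=
  @T2Space.of_injective_continuous (WithConstructibleTopology X) X _ (constructibleTopology X)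
    t2Space_constructible WithTopology.ofTopology (WithTopology.ofTopology_injective _)
    (WithTopology.continuous_ofTopology _)

/-- the map induced by a spectral map on spaces with the constructible topology -/
def withCTMap (f : X → Y) : WithConstructibleTopology X → WithConstructibleTopology Y :=
  fun x => WithTopology.toTopology (constructibleTopology Y) (f x.ofTopology)

theorem continuous_withCTMap {f : X → Y} (hf : IsSpectralMap f) : Continuous (withCTMap f) := by
  have h := continuous_constructible_of_isSpectralMap hf
  refine ⟨fun s hs => ?_⟩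
  rw [WithConstructibleTopology.isOpen_iff] at hs ⊢
  exact @Continuous.isOpen_preimage X Y (constructibleTopology X) (constructibleTopology Y) f h _ hs

theorem isClosed_withCT_preimage {Z : Set X} (hZ : IsClosed[constructibleTopology X] Z) :
    IsClosed {x : WithConstructibleTopology X | x.ofTopology ∈ Z} := by
  rw [WithConstructibleTopology.isClosed_iff]
  exact hZ

end withCT

section limit

variable {J : Type u} [SmallCategory J] (F : J ⥤ TopCat.{u})

/-- compatible families in the product -/
def sections' : Set (∀ j, F.obj j) := {u | ∀ {i j : J} (f : i ⟶ j), F.map f (u i) = u j}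

variable {F}

/-- the canonical map from the point of a cone to the product -/
def toPi (c : Cone F) : c.pt → ∀ j, F.obj j := fun x j => c.π.app j x

theorem continuous_toPi (c : Cone F) : Continuous (toPi c) :=
  continuous_pi fun j => (c.π.app j).hom.continuous

theorem isInducing_toPi (c : Cone F) (hc : IsLimit c) : IsInducing (toPi c) := by
  constructor
  rw [TopCat.induced_of_isLimit c hc]
  simp only [Pi.topologicalSpace, induced_iInf, induced_compose]
  rfl

theorem range_toPi (c : Cone F) (hc : IsLimit c) : range (toPi c) = sections' F := by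
  apply Subset.antisymm
  · rintro _ ⟨x, rfl⟩ i j f
    have := c.w f
    exact congrArg (fun g => g.hom x) this
  · intro u hu
    let e := hc.conePointUniqueUpToIso (TopCat.limitConeIsLimit.{u, u} F)
    refine ⟨e.inv ⟨u, fun f => hu f⟩, ?_⟩
    funext j
    have := IsLimit.conePointUniqueUpToIso_inv_comp hc (TopCat.limitConeIsLimit.{u, u} F) j
    exact congrArg (fun g => g.hom ⟨u, fun f => hu f⟩) this

end limit

section compact

theorem continuous_ofTopology_orig {X : Type*} [TopologicalSpace X] [PrespectralSpace X] :
    Continuous (WithTopology.ofTopology : WithConstructibleTopology X → X) := by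
  refine ⟨fun s hs => ?_⟩
  rw [WithConstructibleTopology.isOpen_iff]
  exact isOpen_constructible_of_isOpen hs

variable {J : Type u} [SmallCategory J] {F : J ⥤ TopCat.{u}}

/-- the sections through constructibly closed subsets form a compact subset of the product -/
theorem isCompact_sections_inter (hF : ∀ j, SpectralSpace (F.obj j))
    (hFm : ∀ {i j : J} (a : i ⟶ j), IsSpectralMap (F.map a : F.obj i → F.obj j))
    (Z : ∀ j, Set (F.obj j))
    (hZ : ∀ j, IsClosed[constructibleTopology (F.obj j)] (Z j)) :
    IsCompact (sections' F ∩ {u | ∀ j, u j ∈ Z j}) := by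
  have := hF
  let ψ : (∀ j, WithConstructibleTopology (F.obj j)) → ∀ j, F.obj j :=
    fun u j => (u j).ofTopology
  have hψ : Continuous ψ :=
    continuous_pi fun j => continuous_ofTopology_orig.comp (continuous_apply j)
  have hcl : IsClosed (ψ ⁻¹' (sections' F ∩ {u | ∀ j, u j ∈ Z j})) := by
    have : ψ ⁻¹' (sections' F ∩ {u | ∀ j, u j ∈ Z j}) =
        (⋂ (i : J) (j : J) (f : i ⟶ j), {u | withCTMap (F.map f) (u i) = u j}) ∩
          ⋂ j, {u | (u j).ofTopology ∈ Z j} := by
      ext u
      simp only [mem_preimage, mem_inter_iff, sections', mem_ofPred_eq, mem_iInter, ψ]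
      refine and_congr ⟨fun h i j f => ?_, fun h i j f => ?_⟩ Iff.rfl
      · exact WithTopology.ofTopology_injective _ (h f)
      · exact congrArg WithTopology.ofTopology (h i j f)
    rw [this]
    refine IsClosed.inter ?_ ?_
    · refine isClosed_iInter fun i => isClosed_iInter fun j => isClosed_iInter fun f => ?_
      exact isClosed_eq ((continuous_withCTMap (hFm f)).comp (continuous_apply i))
        (continuous_apply j)
    · refine isClosed_iInter fun j => ?_
      have h1 : IsClosed {x : WithConstructibleTopology (F.obj j) | x.ofTopology ∈ Z j} :=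
        isClosed_withCT_preimage (hZ j)
      have h2 : Continuous fun u : (∀ j, WithConstructibleTopology (F.obj j)) => u j :=
        continuous_apply j
      exact h1.preimage h2
  have hsurj : Function.Surjective ψ := fun u =>
    ⟨fun j => WithTopology.toTopology _ (u j), rfl⟩
  have := hcl.isCompact.image hψ
  rwa [image_preimage_eq _ hsurj] at this

/-- Stacks 0A2W: the limit of constructibly closed subsets is quasi-compact -/
theorem isCompact_limit_of_isClosed_constructible (hF : ∀ j, SpectralSpace (F.obj j))
    (hFm : ∀ {i j : J} (a : i ⟶ j), IsSpectralMap (F.map a : F.obj i → F.obj j))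
    (c : Cone F) (hc : IsLimit c) (Z : ∀ j, Set (F.obj j))
    (hZ : ∀ j, IsClosed[constructibleTopology (F.obj j)] (Z j)) :
    IsCompact {x : c.pt | ∀ j, c.π.app j x ∈ Z j} := by
  have h1 := isCompact_sections_inter hF hFm Z hZ
  have h2 : {x : c.pt | ∀ j, c.π.app j x ∈ Z j} =
      toPi c ⁻¹' (sections' F ∩ {u | ∀ j, u j ∈ Z j}) := by
    ext x
    simp only [mem_ofPred_eq, mem_preimage, mem_inter_iff]
    refine ⟨fun h => ⟨?_, h⟩, fun h => h.2⟩
    rw [← range_toPi c hc]
    exact mem_range_self x
  rw [h2, (isInducing_toPi c hc).isCompact_preimage_iff]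
  · exact h1
  · rw [range_toPi c hc]
    exact inter_subset_left

end compact

section nonempty

variable {J : Type u} [SmallCategory J] {F : J ⥤ TopCat.{u}}

/-- the system of the subsets `Z j`, with the constructible topologies -/
def zFunctor (hFm : ∀ {i j : J} (a : i ⟶ j), IsSpectralMap (F.map a : F.obj i → F.obj j))
    (Z : ∀ j, Set (F.obj j))
    (hZm : ∀ {i j : J} (a : i ⟶ j), MapsTo (F.map a) (Z i) (Z j)) : J ⥤ TopCat.{u} where
  obj j := TopCat.of {z : WithConstructibleTopology (F.obj j) // z.ofTopology ∈ Z j}
  map {i j} a := TopCat.ofHom ⟨fun z => ⟨withCTMap (F.map a) z.1, hZm a z.2⟩,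
    Continuous.subtype_mk ((continuous_withCTMap (hFm a)).comp continuous_subtype_val) _⟩
  map_id i := by
    ext z
    simp [withCTMap]
  map_comp a b := by
    ext z
    simp [withCTMap]

/-- Stacks 0A2W: nonemptiness of cofiltered limits of nonempty constructibly closed subsets -/
theorem exists_section_of_isClosed_constructible [IsCofiltered J]
    (hF : ∀ j, SpectralSpace (F.obj j))
    (hFm : ∀ {i j : J} (a : i ⟶ j), IsSpectralMap (F.map a : F.obj i → F.obj j))
    (c : Cone F) (hc : IsLimit c) (Z : ∀ j, Set (F.obj j))
    (hne : ∀ j, (Z j).Nonempty)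
    (hZ : ∀ j, IsClosed[constructibleTopology (F.obj j)] (Z j))
    (hZm : ∀ {i j : J} (a : i ⟶ j), MapsTo (F.map a) (Z i) (Z j)) :
    ∃ x : c.pt, ∀ j, c.π.app j x ∈ Z j := by
  have := hF
  let G := zFunctor hFm Z hZm
  have h1 : ∀ j, Nonempty (G.obj j) := fun j => by
    obtain ⟨z, hz⟩ := hne j
    exact ⟨⟨WithTopology.toTopology _ z, hz⟩⟩
  have h2 : ∀ j, CompactSpace (G.obj j) := fun j =>
    isCompact_iff_compactSpace.mp (isClosed_withCT_preimage (hZ j)).isCompact
  have h3 : ∀ j, T2Space (G.obj j) := fun j =>
    inferInstanceAs (T2Space {z : WithConstructibleTopology (F.obj j) // z.ofTopology ∈ Z j})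
  obtain ⟨⟨u, hu⟩⟩ := TopCat.nonempty_limitCone_of_compact_t2_cofiltered_system.{u, u} G
  have hv : (fun j => (u j).1.ofTopology) ∈ sections' F := by
    intro i j f
    have := hu f
    exact congrArg (fun z => z.1.ofTopology) this
  rw [← range_toPi c hc] at hv
  obtain ⟨x, hx⟩ := hv
  refine ⟨x, fun j => ?_⟩
  have : c.π.app j x = (u j).1.ofTopology := congrFun hx j
  rw [this]
  exact (u j).2

end nonempty

section descend

variable {J : Type u} [SmallCategory J] {F : J ⥤ TopCat.{u}}

theorem map_comp_apply' {i j k : J} (a : i ⟶ j) (b : j ⟶ k) (x : F.obj i) :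
    F.map (a ≫ b) x = F.map b (F.map a x) := by
  rw [F.map_comp]; rfl

theorem cone_w_apply (c : Cone F) {i j : J} (a : i ⟶ j) (x : c.pt) :
    F.map a (c.π.app i x) = c.π.app j x := by
  have := c.w a
  exact congrArg (fun g => g.hom x) this

/-- finitely many arrows `j ⟶ i` can be equalized in a cofiltered category -/
theorem exists_equalizing [IsCofiltered J] {i j : J} (s : Finset (j ⟶ i)) :
    ∃ (k : J) (e : k ⟶ j) (b : k ⟶ i), ∀ a ∈ s, e ≫ a = b := by
  classical
  induction s using Finset.induction_on with
  | empty =>
    exact ⟨IsCofiltered.min j i, IsCofiltered.minToLeft j i, IsCofiltered.minToRight j i,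
      by simp⟩
  | insert a0 s _ ih =>
    obtain ⟨k, e, b, h⟩ := ih
    refine ⟨IsCofiltered.eq (e ≫ a0) b, IsCofiltered.eqHom (e ≫ a0) b ≫ e,
      IsCofiltered.eqHom (e ≫ a0) b ≫ b, ?_⟩
    intro a ha
    rcases Finset.mem_insert.mp ha with rfl | ha
    · rw [Category.assoc]; exact IsCofiltered.eq_condition _ _
    · rw [Category.assoc, h a ha]

/-- Stacks 0A2X -/
theorem preimage_subset_preimage_iff_exists [IsCofiltered J]
    (hF : ∀ j, SpectralSpace (F.obj j))
    (hFm : ∀ {i j : J} (a : i ⟶ j), IsSpectralMap (F.map a : F.obj i → F.obj j))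
    (c : Cone F) (hc : IsLimit c) (i : J) (E F' : Set (F.obj i))
    (hE : IsClosed[constructibleTopology (F.obj i)] E)
    (hF' : IsOpen[constructibleTopology (F.obj i)] F') :
    (c.π.app i ⁻¹' E ⊆ c.π.app i ⁻¹' F') ↔
      ∃ (j : J) (a : j ⟶ i), F.map a ⁻¹' E ⊆ F.map a ⁻¹' F' := by
  have := hF
  constructor
  · intro hsub
    by_contra hcon
    push Not at hcon
    set D : Set (F.obj i) := E \ F' with hD
    have hDcl : IsClosed[constructibleTopology (F.obj i)] D :=
      @IsClosed.sdiff _ _ _ (constructibleTopology (F.obj i)) hE hF'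
    have H : ∀ (j : J) (a : j ⟶ i), ∃ y : F.obj j, F.map a y ∈ D := by
      intro j a
      obtain ⟨y, hy1, hy2⟩ := Set.not_subset.mp (hcon j a)
      exact ⟨y, hy1, hy2⟩
    let Z : ∀ j, Set (F.obj j) := fun j => ⋂ a : j ⟶ i, F.map a ⁻¹' D
    have hZcl : ∀ j, IsClosed[constructibleTopology (F.obj j)] (Z j) := fun j =>
      @isClosed_iInter _ _ (constructibleTopology (F.obj j)) _ fun a =>
        @IsClosed.preimage _ _ (constructibleTopology (F.obj j)) (constructibleTopology (F.obj i))
          _ (continuous_constructible_of_isSpectralMap (hFm a)) _ hDcl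
    have hZne : ∀ j, (Z j).Nonempty := by
      intro j
      apply iInter_nonempty_of_isClosed_constructible
      · intro a
        exact @IsClosed.preimage _ _ (constructibleTopology (F.obj j))
          (constructibleTopology (F.obj i)) _
          (continuous_constructible_of_isSpectralMap (hFm a)) _ hDcl
      · intro s
        obtain ⟨k, e, b, h⟩ := exists_equalizing s
        obtain ⟨y, hy⟩ := H k b
        refine ⟨F.map e y, ?_⟩
        simp only [mem_iInter, mem_preimage]
        intro a ha
        rw [← map_comp_apply', h a ha]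
        exact hy
    have hZm : ∀ {k j : J} (e : k ⟶ j), MapsTo (F.map e) (Z k) (Z j) := by
      intro k j e x hx
      simp only [Z, mem_iInter, mem_preimage] at hx ⊢
      intro a
      rw [← map_comp_apply']
      exact hx (e ≫ a)
    obtain ⟨x, hx⟩ := exists_section_of_isClosed_constructible hF hFm c hc Z hZne hZcl hZm
    have hxi := hx i
    simp only [Z, mem_iInter, mem_preimage] at hxi
    have h1 := hxi (𝟙 i)
    rw [F.map_id] at h1
    exact h1.2 (hsub h1.1)
  · rintro ⟨j, a, h⟩ x hx
    have h1 : F.map a (c.π.app j x) = c.π.app i x := cone_w_apply c a x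
    have h2 : c.π.app j x ∈ F.map a ⁻¹' E := by
      simp only [mem_preimage]; rw [h1]; exact hx
    have h3 := h h2
    simp only [mem_preimage] at h3
    rw [h1] at h3
    exact h3

end descend

end Groth.Agent.Lib.Lead
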