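import Groth.Agent.Lib.Lead.SpectralLimit

set_option autoImplicit false
set_option linter.unusedSectionVars false

universe u

namespace Groth.Agent.Lib.Lead

open Topology Set CategoryTheory CategoryTheory.Limits

section basis

variable {J : Type u} [SmallCategory J] {F : J ⥤ TopCat.{u}}

/-- the sets `π_k ⁻¹ W` with `W` quasi-compact open -/
def limBasis (c : Cone F) : Set (Set c.pt) :=
  {V | ∃ (k : J) (W : Set (F.obj k)), IsOpen W ∧ IsCompact W ∧ V = c.π.app k ⁻¹' W}

theorem preimage_map_eq (c : Cone F) {i j : J} (a : i ⟶ j) (W : Set (F.obj j)) :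
    c.π.app i ⁻¹' (F.map a ⁻¹' W) = c.π.app j ⁻¹' W := by
  ext x
  simp only [mem_preimage]
  rw [cone_w_apply c a x]

/-- compact opens of a spectral space are stable under finite intersections (indexed version) -/
theorem isCompact_isOpen_biInter {X : Type*} [TopologicalSpace X] [CompactSpace X]
    [QuasiSeparatedSpace X] {ι : Type*} (I : Finset ι) (W : ι → Set X)
    (hW : ∀ i ∈ I, IsOpen (W i) ∧ IsCompact (W i)) :
    IsOpen (⋂ i ∈ I, W i) ∧ IsCompact (⋂ i ∈ I, W i) := by
  classical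
  induction I using Finset.induction_on with
  | empty => simpa using isCompact_univ
  | insert a I _ ih =>
    have h1 := ih fun i hi => hW i (Finset.mem_insert_of_mem hi)
    have h2 := hW a (Finset.mem_insert_self a I)
    rw [Finset.set_biInter_insert]
    exact ⟨h2.1.inter h1.1, QuasiSeparatedSpace.inter_isCompact _ _ h2.1 h2.2 h1.1 h1.2⟩

theorem isTopologicalBasis_limBasis [IsCofiltered J]
    (hF : ∀ j, SpectralSpace (F.obj j))
    (hFm : ∀ {i j : J} (a : i ⟶ j), IsSpectralMap (F.map a : F.obj i → F.obj j))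
    (c : Cone F) (hc : IsLimit c) : TopologicalSpace.IsTopologicalBasis (limBasis c) := by
  classical
  have := hF
  apply TopologicalSpace.isTopologicalBasis_of_isOpen_of_nhds
  · rintro _ ⟨k, W, hWo, -, rfl⟩
    exact hWo.preimage (c.π.app k).hom.continuous
  · intro x V hxV hVo
    obtain ⟨V', hV'o, rfl⟩ := (isInducing_toPi c hc).isOpen_iff.mp hVo
    obtain ⟨I, u, hu, hIu⟩ := isOpen_pi_iff.mp hV'o (toPi c x) hxV
    have hW : ∀ j ∈ I, ∃ W : Set (F.obj j), IsOpen W ∧ IsCompact W ∧ c.π.app j x ∈ W ∧ W ⊆ u j := by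
      intro j hj
      obtain ⟨W, ⟨hWo, hWc⟩, hxW, hWu⟩ :=
        (PrespectralSpace.isTopologicalBasis (X := F.obj j)).exists_subset_of_mem_open
          (hu j hj).2 (hu j hj).1
      exact ⟨W, hWo, hWc, hxW, hWu⟩
    choose! W hWo hWc hxW hWu using hW
    obtain ⟨k, hk⟩ := IsCofiltered.inf_objs_exists I
    have a : ∀ j, j ∈ I → (k ⟶ j) := fun j hj => (hk hj).some
    let W' : Set (F.obj k) := ⋂ j ∈ I.attach, F.map (a j.1 j.2) ⁻¹' W j.1
    have hW' := isCompact_isOpen_biInter I.attach (fun j => F.map (a j.1 j.2) ⁻¹' W j.1)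
      (fun j _ => ⟨(hWo j.1 j.2).preimage (hFm _).continuous,
        (hFm (a j.1 j.2)).isCompact_preimage_of_isOpen (hWo j.1 j.2) (hWc j.1 j.2)⟩)
    refine ⟨c.π.app k ⁻¹' W', ⟨k, W', hW'.1, hW'.2, rfl⟩, ?_, ?_⟩
    · simp only [W', mem_preimage, mem_iInter]
      intro j _
      rw [cone_w_apply c (a j.1 j.2) x]
      exact hxW j.1 j.2
    · intro y hy
      apply hIu
      intro j hj
      simp only [W', mem_preimage, mem_iInter] at hy
      have := hy ⟨j, hj⟩ (Finset.mem_attach _ _)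
      rw [cone_w_apply c (a j hj) y] at this
      exact hWu j hj this

theorem limBasis_union [IsCofiltered J]
    (hFm : ∀ {i j : J} (a : i ⟶ j), IsSpectralMap (F.map a : F.obj i → F.obj j))
    (c : Cone F) {V₁ V₂ : Set c.pt} (h₁ : V₁ ∈ limBasis c) (h₂ : V₂ ∈ limBasis c) :
    V₁ ∪ V₂ ∈ limBasis c := by
  obtain ⟨k₁, W₁, hW₁o, hW₁c, rfl⟩ := h₁
  obtain ⟨k₂, W₂, hW₂o, hW₂c, rfl⟩ := h₂
  refine ⟨IsCofiltered.min k₁ k₂,
    F.map (IsCofiltered.minToLeft k₁ k₂) ⁻¹' W₁ ∪ F.map (IsCofiltered.minToRight k₁ k₂) ⁻¹' W₂,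
    (hW₁o.preimage (hFm _).continuous).union (hW₂o.preimage (hFm _).continuous),
    ((hFm _).isCompact_preimage_of_isOpen hW₁o hW₁c).union
      ((hFm _).isCompact_preimage_of_isOpen hW₂o hW₂c), ?_⟩
  rw [preimage_union, preimage_map_eq, preimage_map_eq]

theorem empty_mem_limBasis [IsCofiltered J] (c : Cone F) : (∅ : Set c.pt) ∈ limBasis c :=
  ⟨Classical.choice IsCofiltered.nonempty, ∅, isOpen_empty, isCompact_empty, by simp⟩

/-- Stacks 0A2Z (1): quasi-compact opens of the limit come from a finite stage -/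
theorem mem_limBasis_of_isCompact_isOpen [IsCofiltered J]
    (hF : ∀ j, SpectralSpace (F.obj j))
    (hFm : ∀ {i j : J} (a : i ⟶ j), IsSpectralMap (F.map a : F.obj i → F.obj j))
    (c : Cone F) (hc : IsLimit c) {U : Set c.pt} (hUo : IsOpen U) (hUc : IsCompact U) :
    U ∈ limBasis c := by
  have hb := isTopologicalBasis_limBasis hF hFm c hc
  obtain ⟨S, hS, rfl⟩ := hb.open_eq_sUnion hUo
  classical
  obtain ⟨t, ht⟩ := hUc.elim_finite_subcover (fun V : S => (V : Set c.pt))
    (fun V => hb.isOpen (hS V.2)) (by rw [sUnion_eq_iUnion])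
  have heq : ⋃₀ S = ⋃ V ∈ t, (V : Set c.pt) := by
    apply Subset.antisymm ht
    intro x hx
    simp only [mem_iUnion] at hx
    obtain ⟨V, -, hxV⟩ := hx
    exact ⟨V.1, V.2, hxV⟩
  rw [heq]
  clear heq ht
  induction t using Finset.induction_on with
  | empty => simpa using empty_mem_limBasis c
  | insert V t _ ih =>
    rw [Finset.set_biUnion_insert]
    exact limBasis_union hFm c (hS V.2) ih

end basis

section descend2

variable {J : Type u} [SmallCategory J] {F : J ⥤ TopCat.{u}}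

theorem preimage_map_comp {i j k : J} (a : i ⟶ j) (b : j ⟶ k) (W : Set (F.obj k)) :
    F.map (a ≫ b) ⁻¹' W = F.map a ⁻¹' (F.map b ⁻¹' W) := by
  ext x
  simp only [mem_preimage]
  rw [map_comp_apply']

/-- equality of preimages of constructibly clopen sets is detected at a finite stage -/
theorem preimage_eq_preimage_imp_exists [IsCofiltered J]
    (hF : ∀ j, SpectralSpace (F.obj j))
    (hFm : ∀ {i j : J} (a : i ⟶ j), IsSpectralMap (F.map a : F.obj i → F.obj j))
    (c : Cone F) (hc : IsLimit c) (i : J) (E E' : Set (F.obj i))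
    (hE : @IsClopen _ (constructibleTopology (F.obj i)) E)
    (hE' : @IsClopen _ (constructibleTopology (F.obj i)) E')
    (h : c.π.app i ⁻¹' E = c.π.app i ⁻¹' E') :
    ∃ (j : J) (a : j ⟶ i), F.map a ⁻¹' E = F.map a ⁻¹' E' := by
  obtain ⟨j₁, a₁, h₁⟩ := (preimage_subset_preimage_iff_exists hF hFm c hc i E E' hE.1 hE'.2).mp
    h.subset
  obtain ⟨j₂, a₂, h₂⟩ := (preimage_subset_preimage_iff_exists hF hFm c hc i E' E hE'.1 hE.2).mp
    h.symm.subset
  obtain ⟨k, g, g', hg⟩ := IsCofiltered.cospan a₁ a₂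
  refine ⟨k, g ≫ a₁, Subset.antisymm ?_ ?_⟩
  · rw [preimage_map_comp, preimage_map_comp]
    exact preimage_mono h₁
  · rw [hg, preimage_map_comp, preimage_map_comp]
    exact preimage_mono h₂

theorem isClopen_constructible_of_isOpen_isCompact {X : Type*} [TopologicalSpace X] {U : Set X}
    (hUo : IsOpen U) (hUc : IsCompact U) : @IsClopen X (constructibleTopology X) U :=
  ⟨isClosed_constructible_of_isOpen_isCompact hUo hUc,
    hUc.isOpen_constructibleTopology_of_isOpen hUo⟩

/-- Stacks 0A2Z -/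
theorem descend_quasiCompact_opens [IsCofiltered J]
    (hF : ∀ j, SpectralSpace (F.obj j))
    (hFm : ∀ {i j : J} (a : i ⟶ j), IsSpectralMap (F.map a : F.obj i → F.obj j))
    (c : Cone F) (hc : IsLimit c) :
    (∀ U : Set c.pt, IsOpen U → IsCompact U →
      ∃ (i : J) (Ui : Set (F.obj i)), IsOpen Ui ∧ IsCompact Ui ∧ c.π.app i ⁻¹' Ui = U) ∧
    (∀ (i j : J) (Ui : Set (F.obj i)) (Uj : Set (F.obj j)),
      IsOpen Ui → IsCompact Ui → IsOpen Uj → IsCompact Uj →
      c.π.app i ⁻¹' Ui ⊆ c.π.app j ⁻¹' Uj →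
      ∃ (k : J) (a : k ⟶ i) (b : k ⟶ j), F.map a ⁻¹' Ui ⊆ F.map b ⁻¹' Uj) ∧
    (∀ (i : J) (n : ℕ) (Ui : Set (F.obj i)) (V : Fin n → Set (F.obj i)),
      IsOpen Ui → IsCompact Ui → (∀ l, IsOpen (V l) ∧ IsCompact (V l)) →
      (c.π.app i ⁻¹' Ui = ⋃ l, c.π.app i ⁻¹' V l →
        ∃ (j : J) (a : j ⟶ i), F.map a ⁻¹' Ui = ⋃ l, F.map a ⁻¹' V l) ∧
      (c.π.app i ⁻¹' Ui = ⋂ l, c.π.app i ⁻¹' V l →
        ∃ (j : J) (a : j ⟶ i), F.map a ⁻¹' Ui = ⋂ l, F.map a ⁻¹' V l)) := by
  have := hF
  refine ⟨?_, ?_, ?_⟩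
  · intro U hUo hUc
    obtain ⟨k, W, hWo, hWc, rfl⟩ := mem_limBasis_of_isCompact_isOpen hF hFm c hc hUo hUc
    exact ⟨k, W, hWo, hWc, rfl⟩
  · intro i j Ui Uj hUio hUic hUjo hUjc hsub
    let k₀ := IsCofiltered.min i j
    let a₀ : k₀ ⟶ i := IsCofiltered.minToLeft i j
    let b₀ : k₀ ⟶ j := IsCofiltered.minToRight i j
    have hE := isClopen_constructible_of_isOpen_isCompact (hUio.preimage (hFm a₀).continuous)
      ((hFm a₀).isCompact_preimage_of_isOpen hUio hUic)
    have hE' := isClopen_constructible_of_isOpen_isCompact (hUjo.preimage (hFm b₀).continuous)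
      ((hFm b₀).isCompact_preimage_of_isOpen hUjo hUjc)
    have hsub' : c.π.app k₀ ⁻¹' (F.map a₀ ⁻¹' Ui) ⊆ c.π.app k₀ ⁻¹' (F.map b₀ ⁻¹' Uj) := by
      rw [preimage_map_eq, preimage_map_eq]; exact hsub
    obtain ⟨k, e, he⟩ := (preimage_subset_preimage_iff_exists hF hFm c hc k₀ _ _ hE.1 hE'.2).mp
      hsub'
    refine ⟨k, e ≫ a₀, e ≫ b₀, ?_⟩
    rw [preimage_map_comp, preimage_map_comp]
    exact he
  · intro i n Ui V hUio hUic hV
    have hUcl := isClopen_constructible_of_isOpen_isCompact hUio hUic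
    constructor
    · intro h
      have hV' : @IsClopen _ (constructibleTopology (F.obj i)) (⋃ l, V l) :=
        isClopen_constructible_of_isOpen_isCompact (isOpen_iUnion fun l => (hV l).1)
          (isCompact_iUnion fun l => (hV l).2)
      obtain ⟨j, a, ha⟩ := preimage_eq_preimage_imp_exists hF hFm c hc i Ui (⋃ l, V l) hUcl hV'
        (by rw [h, preimage_iUnion])
      exact ⟨j, a, by rw [ha, preimage_iUnion]⟩
    · intro h
      have hV' : @IsClopen _ (constructibleTopology (F.obj i)) (⋂ l, V l) :=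
        @isClopen_iInter_of_finite _ (constructibleTopology (F.obj i)) _ _ _ fun l =>
          isClopen_constructible_of_isOpen_isCompact (hV l).1 (hV l).2
      obtain ⟨j, a, ha⟩ := preimage_eq_preimage_imp_exists hF hFm c hc i Ui (⋂ l, V l) hUcl hV'
        (by rw [h, preimage_iInter])
      exact ⟨j, a, by rw [ha, preimage_iInter]⟩

end descend2

section spectralLimit

variable {J : Type u} [SmallCategory J] {F : J ⥤ TopCat.{u}}

theorem toPi_injective (c : Cone F) (hc : IsLimit c) : Function.Injective (toPi c) := by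
  intro x y hxy
  let e := hc.conePointUniqueUpToIso (TopCat.limitConeIsLimit.{u, u} F)
  have key : ∀ z : c.pt, (e.hom z).1 = toPi c z := by
    intro z
    funext j
    have := IsLimit.conePointUniqueUpToIso_hom_comp hc (TopCat.limitConeIsLimit.{u, u} F) j
    exact congrArg (fun g => g.hom z) this
  have h1 : e.hom x = e.hom y := Subtype.ext (by rw [key, key, hxy])
  have h2 := congrArg e.inv h1
  simpa using h2

/-- the projections of a limit of spectral spaces along spectral maps are spectral -/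
theorem isSpectralMap_proj
    (hF : ∀ j, SpectralSpace (F.obj j))
    (hFm : ∀ {i j : J} (a : i ⟶ j), IsSpectralMap (F.map a : F.obj i → F.obj j))
    (c : Cone F) (hc : IsLimit c) (j : J) : IsSpectralMap (c.π.app j : c.pt → F.obj j) := by
  refine ⟨(c.π.app j).hom.continuous, fun W hWo hWc => ?_⟩
  have hWcl := isClosed_constructible_of_isOpen_isCompact hWo hWc
  let Z : ∀ k, Set (F.obj k) := fun k => ⋂ a : k ⟶ j, F.map a ⁻¹' W
  have hZcl : ∀ k, IsClosed[constructibleTopology (F.obj k)] (Z k) := fun k =>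
    @isClosed_iInter _ _ (constructibleTopology (F.obj k)) _ fun a =>
      @IsClosed.preimage _ _ (constructibleTopology (F.obj k)) (constructibleTopology (F.obj j))
        _ (continuous_constructible_of_isSpectralMap (hFm a)) _ hWcl
  have := isCompact_limit_of_isClosed_constructible hF hFm c hc Z hZcl
  have hset : (c.π.app j : c.pt → F.obj j) ⁻¹' W = {x : c.pt | ∀ k, c.π.app k x ∈ Z k} := by
    apply Set.ext
    intro x
    simp only [mem_preimage, Z, mem_iInter]
    constructor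
    · intro hx k a
      rw [cone_w_apply c a x]; exact hx
    · intro hx
      have := hx j (𝟙 j)
      rwa [F.map_id] at this
  rw [hset]
  exact this

theorem isCompact_of_mem_limBasis
    (hF : ∀ j, SpectralSpace (F.obj j))
    (hFm : ∀ {i j : J} (a : i ⟶ j), IsSpectralMap (F.map a : F.obj i → F.obj j))
    (c : Cone F) (hc : IsLimit c) {V : Set c.pt} (hV : V ∈ limBasis c) : IsCompact V := by
  obtain ⟨k, W, hWo, hWc, rfl⟩ := hV
  exact (isSpectralMap_proj hF hFm c hc k).isCompact_preimage_of_isOpen hWo hWc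

theorem limBasis_inter [IsCofiltered J]
    (hF : ∀ j, SpectralSpace (F.obj j))
    (hFm : ∀ {i j : J} (a : i ⟶ j), IsSpectralMap (F.map a : F.obj i → F.obj j))
    (c : Cone F) {V₁ V₂ : Set c.pt} (h₁ : V₁ ∈ limBasis c) (h₂ : V₂ ∈ limBasis c) :
    V₁ ∩ V₂ ∈ limBasis c := by
  have := hF
  obtain ⟨k₁, W₁, hW₁o, hW₁c, rfl⟩ := h₁
  obtain ⟨k₂, W₂, hW₂o, hW₂c, rfl⟩ := h₂
  refine ⟨IsCofiltered.min k₁ k₂,
    F.map (IsCofiltered.minToLeft k₁ k₂) ⁻¹' W₁ ∩ F.map (IsCofiltered.minToRight k₁ k₂) ⁻¹' W₂,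
    (hW₁o.preimage (hFm _).continuous).inter (hW₂o.preimage (hFm _).continuous),
    QuasiSeparatedSpace.inter_isCompact _ _ (hW₁o.preimage (hFm _).continuous)
      ((hFm _).isCompact_preimage_of_isOpen hW₁o hW₁c) (hW₂o.preimage (hFm _).continuous)
      ((hFm _).isCompact_preimage_of_isOpen hW₂o hW₂c), ?_⟩
  rw [preimage_inter, preimage_map_eq, preimage_map_eq]

theorem quasiSober_limit [IsCofiltered J]
    (hF : ∀ j, SpectralSpace (F.obj j))
    (hFm : ∀ {i j : J} (a : i ⟶ j), IsSpectralMap (F.map a : F.obj i → F.obj j))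
    (c : Cone F) (hc : IsLimit c) : QuasiSober c.pt := by
  have := hF
  constructor
  intro T hTirr hTcl
  have hb := isTopologicalBasis_limBasis hF hFm c hc
  -- generic points of the closures of the images
  have hirr : ∀ j, IsIrreducible (closure (c.π.app j '' T)) := fun j =>
    (hTirr.image _ (c.π.app j).hom.continuous.continuousOn).closure
  let ξ : ∀ j, F.obj j := fun j => (hirr j).genericPoint
  have hξ : ∀ j, IsGenericPoint (ξ j) (closure (c.π.app j '' T)) := fun j =>
    (hirr j).isGenericPoint_genericPoint isClosed_closure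
  have hsec : ξ ∈ sections' F := by
    intro i j a
    have h1 : IsGenericPoint (F.map a (ξ i)) (closure (F.map a '' closure (c.π.app i '' T))) :=
      (hξ i).image (hFm a).continuous
    have h2 : closure (F.map a '' closure (c.π.app i '' T)) = closure (c.π.app j '' T) := by
      rw [closure_image_closure (hFm a).continuous, ← image_comp]
      congr 2
      funext x
      exact cone_w_apply c a x
    rw [h2] at h1
    exact h1.eq (hξ j)
  rw [← range_toPi c hc] at hsec
  obtain ⟨x, hx⟩ := hsec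
  have hxj : ∀ j, c.π.app j x = ξ j := fun j => congrFun hx j
  refine ⟨x, ?_⟩
  have hxT : x ∈ T := by
    by_contra hcon
    obtain ⟨V, ⟨k, W, hWo, hWc, rfl⟩, hxV, hVT⟩ :=
      hb.exists_subset_of_mem_open (show x ∈ Tᶜ from hcon) hTcl.isOpen_compl
    have h1 : ξ k ∈ W := by rw [← hxj k]; exact hxV
    have h2 : (closure (c.π.app k '' T) ∩ W).Nonempty := ⟨ξ k, (hξ k).mem, h1⟩
    rw [closure_inter_open_nonempty_iff hWo] at h2
    obtain ⟨_, ⟨t, ht, rfl⟩, htW⟩ := h2
    exact hVT htW ht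
  apply Subset.antisymm
  · exact closure_minimal (singleton_subset_iff.mpr hxT) hTcl
  · intro t ht
    rw [hb.mem_closure_iff]
    rintro V ⟨k, W, hWo, hWc, rfl⟩ htV
    refine ⟨x, ?_, rfl⟩
    have h1 : c.π.app k t ∈ closure (c.π.app k '' T) := subset_closure ⟨t, ht, rfl⟩
    have h2 : ξ k ⤳ c.π.app k t := (hξ k).specializes h1
    have h3 : ξ k ∈ W := h2.mem_open hWo htV
    show c.π.app k x ∈ W
    rw [hxj k]; exact h3

end spectralLimit

end Groth.Agent.Lib.Lead
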