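import Groth.Agent.Lib.Lead.SpectralLimit2

set_option autoImplicit false
set_option linter.unusedSectionVars false

universe u

namespace Groth.Agent.Lib.Lead

open Topology Set CategoryTheory CategoryTheory.Limits

section spectralLimit3

variable {J : Type u} [SmallCategory J] {F : J ⥤ TopCat.{u}}

theorem compactSpace_limit
    (hF : ∀ j, SpectralSpace (F.obj j))
    (hFm : ∀ {i j : J} (a : i ⟶ j), IsSpectralMap (F.map a : F.obj i → F.obj j))
    (c : Cone F) (hc : IsLimit c) : CompactSpace c.pt := by
  have := isCompact_limit_of_isClosed_constructible hF hFm c hc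
    (fun _ => Set.univ) (fun j => @isClosed_univ _ (constructibleTopology (F.obj j)))
  rw [← isCompact_univ_iff]
  have h : (univ : Set c.pt) = {x : c.pt | ∀ j, c.π.app j x ∈ (univ : Set (F.obj j))} := by
    apply Set.ext; intro x; simp
  rw [h]; exact this

theorem t0Space_limit
    (hF : ∀ j, SpectralSpace (F.obj j))
    (c : Cone F) (hc : IsLimit c) : T0Space c.pt := by
  have := hF
  have h : IsEmbedding (toPi c) := ⟨isInducing_toPi c hc, toPi_injective c hc⟩
  exact h.t0Space

/-- Stacks 0A2Z: a cofiltered limit of spectral spaces along spectral maps is spectral -/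
theorem spectralSpace_limit [IsCofiltered J]
    (hF : ∀ j, SpectralSpace (F.obj j))
    (hFm : ∀ {i j : J} (a : i ⟶ j), IsSpectralMap (F.map a : F.obj i → F.obj j))
    (c : Cone F) (hc : IsLimit c) : SpectralSpace c.pt := by
  have hb := isTopologicalBasis_limBasis hF hFm c hc
  have hT0 := t0Space_limit hF c hc
  have hcomp := compactSpace_limit hF hFm c hc
  have hsob := quasiSober_limit hF hFm c hc
  have hqs : QuasiSeparatedSpace c.pt := ⟨fun U V hUo hUc hVo hVc =>
    isCompact_of_mem_limBasis hF hFm c hc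
      (limBasis_inter hF hFm c (mem_limBasis_of_isCompact_isOpen hF hFm c hc hUo hUc)
        (mem_limBasis_of_isCompact_isOpen hF hFm c hc hVo hVc))⟩
  have hps : PrespectralSpace c.pt :=
    PrespectralSpace.of_isTopologicalBasis hb
      (fun U hU => isCompact_of_mem_limBasis hF hFm c hc hU)
  exact { toT0Space := hT0, toCompactSpace := hcomp, toQuasiSober := hsob,
          toQuasiSeparatedSpace := hqs, toPrespectralSpace := hps }

theorem isConstructible_preimage_of_isSpectralMap {X Y : Type*} [TopologicalSpace X]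
    [TopologicalSpace Y] [CompactSpace Y] [QuasiSeparatedSpace X] {f : X → Y}
    (hf : IsSpectralMap f) {s : Set Y} (hs : IsConstructible s) : IsConstructible (f ⁻¹' s) :=
  hs.preimage hf.continuous (fun _ hso hsr =>
    (hf.isCompact_preimage_of_isOpen hso hsr.isCompact).isRetrocompact (hso.preimage hf.continuous))

/-- Stacks 0A2P: constructible subsets of the limit come from a finite stage -/
theorem exists_isConstructible_preimage_eq [IsCofiltered J]
    (hF : ∀ j, SpectralSpace (F.obj j))
    (hFm : ∀ {i j : J} (a : i ⟶ j), IsSpectralMap (F.map a : F.obj i → F.obj j))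
    (c : Cone F) (hc : IsLimit c) {E : Set c.pt} (hE : IsConstructible E) :
    ∃ (i : J) (Ei : Set (F.obj i)), IsConstructible Ei ∧ c.π.app i ⁻¹' Ei = E := by
  have := hF
  have hX := spectralSpace_limit hF hFm c hc
  induction hE using IsConstructible.empty_union_induction with
  | open_retrocompact U hUopen hUcomp =>
    obtain ⟨k, W, hWo, hWc, rfl⟩ :=
      mem_limBasis_of_isCompact_isOpen hF hFm c hc hUopen hUcomp.isCompact
    exact ⟨k, W, hWc.isConstructible hWo, rfl⟩
  | union s hs t ht hs' ht' =>
    obtain ⟨i, Ei, hEi, rfl⟩ := hs'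
    obtain ⟨j, Ej, hEj, rfl⟩ := ht'
    refine ⟨IsCofiltered.min i j,
      F.map (IsCofiltered.minToLeft i j) ⁻¹' Ei ∪ F.map (IsCofiltered.minToRight i j) ⁻¹' Ej,
      (isConstructible_preimage_of_isSpectralMap (hFm _) hEi).union
        (isConstructible_preimage_of_isSpectralMap (hFm _) hEj), ?_⟩
    rw [preimage_union, preimage_map_eq, preimage_map_eq]
  | compl s hs hs' =>
    obtain ⟨i, Ei, hEi, rfl⟩ := hs'
    exact ⟨i, Eiᶜ, hEi.compl, rfl⟩

theorem exists_isConstructible_isOpen_preimage_eq [IsCofiltered J]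
    (hF : ∀ j, SpectralSpace (F.obj j))
    (hFm : ∀ {i j : J} (a : i ⟶ j), IsSpectralMap (F.map a : F.obj i → F.obj j))
    (c : Cone F) (hc : IsLimit c) {E : Set c.pt} (hE : IsConstructible E) (hEo : IsOpen E) :
    ∃ (i : J) (Ei : Set (F.obj i)), IsConstructible Ei ∧ IsOpen Ei ∧ c.π.app i ⁻¹' Ei = E := by
  have := hF
  have hX := spectralSpace_limit hF hFm c hc
  have hEc : IsCompact E :=
    isCompact_of_isClosed_constructible (isClopen_constructible_of_isConstructible hE).1
  obtain ⟨k, W, hWo, hWc, rfl⟩ := mem_limBasis_of_isCompact_isOpen hF hFm c hc hEo hEc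
  exact ⟨k, W, hWc.isConstructible hWo, hWo, rfl⟩

theorem exists_isConstructible_isClosed_preimage_eq [IsCofiltered J]
    (hF : ∀ j, SpectralSpace (F.obj j))
    (hFm : ∀ {i j : J} (a : i ⟶ j), IsSpectralMap (F.map a : F.obj i → F.obj j))
    (c : Cone F) (hc : IsLimit c) {E : Set c.pt} (hE : IsConstructible E) (hEc : IsClosed E) :
    ∃ (i : J) (Ei : Set (F.obj i)), IsConstructible Ei ∧ IsClosed Ei ∧ c.π.app i ⁻¹' Ei = E := by
  obtain ⟨i, Ei, h1, h2, h3⟩ :=
    exists_isConstructible_isOpen_preimage_eq hF hFm c hc hE.compl hEc.isOpen_compl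
  refine ⟨i, Eiᶜ, h1.compl, h2.isClosed_compl, ?_⟩
  rw [preimage_compl, h3, compl_compl]

end spectralLimit3

end Groth.Agent.Lib.Lead
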