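import Groth.Agent.Lib.Lead.Spectral

set_option autoImplicit false
set_option linter.unusedSectionVars false

universe u

namespace Groth.Agent.Lib.Lead

open Topology Set TopologicalSpace

section pi

variable {ι : Type*} {X : ι → Type*} [∀ i, TopologicalSpace (X i)]

/-- a product of quasi-sober spaces is quasi-sober -/
theorem quasiSober_pi [∀ i, QuasiSober (X i)] : QuasiSober (∀ i, X i) := by
  classical
  constructor
  intro T hTirr hTcl
  have hirr : ∀ i, IsIrreducible (closure (Function.eval i '' T)) := fun i =>
    (hTirr.image _ (continuous_apply i).continuousOn).closure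
  choose ξ hξ using fun i => QuasiSober.sober (hirr i) isClosed_closure
  refine ⟨ξ, ?_⟩
  have hξT : ξ ∈ T := by
    by_contra hcon
    obtain ⟨S, U, hU, hsub⟩ := (isOpen_pi_iff.mp hTcl.isOpen_compl) ξ hcon
    have key := (isIrreducible_iff_sInter.mp hTirr) (S.image (fun i => Function.eval i ⁻¹' U i))
      (by
        intro u hu
        obtain ⟨i, hi, rfl⟩ := Finset.mem_image.mp hu
        exact (hU i hi).1.preimage (continuous_apply i))
      (by
        intro u hu
        obtain ⟨i, hi, rfl⟩ := Finset.mem_image.mp hu
        have h2 : (closure (Function.eval i '' T) ∩ U i).Nonempty :=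
          ⟨ξ i, (hξ i).mem, (hU i hi).2⟩
        rw [closure_inter_open_nonempty_iff (hU i hi).1] at h2
        obtain ⟨_, ⟨t, ht, rfl⟩, htU⟩ := h2
        exact ⟨t, ht, htU⟩)
    obtain ⟨t, htT, ht⟩ := key
    apply hsub _ htT
    intro i hi
    have := mem_sInter.mp ht (Function.eval i ⁻¹' U i)
      (Finset.mem_coe.mpr (Finset.mem_image.mpr ⟨i, hi, rfl⟩))
    exact this
  apply Subset.antisymm
  · exact closure_minimal (singleton_subset_iff.mpr hξT) hTcl
  · intro t ht
    rw [← specializes_iff_mem_closure, specializes_pi]
    intro i
    exact (hξ i).specializes (subset_closure ⟨t, ht, rfl⟩)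

/-- the standard basis of compact opens of a product -/
def piBasis (X : ι → Type*) [∀ i, TopologicalSpace (X i)] : Set (Set (∀ i, X i)) :=
  { S | ∃ (U : ∀ i, Set (X i)) (F : Finset ι),
      (∀ i, i ∈ F → U i ∈ {V : Set (X i) | IsOpen V ∧ IsCompact V}) ∧ S = (F : Set ι).pi U }

theorem isTopologicalBasis_piBasis [∀ i, PrespectralSpace (X i)] :
    IsTopologicalBasis (piBasis X) :=
  isTopologicalBasis_pi fun _ => PrespectralSpace.isTopologicalBasis

theorem pi_eq_univ_pi (F : Finset ι) (U : ∀ i, Set (X i)) [DecidablePred (· ∈ F)] :
    (F : Set ι).pi U = univ.pi (fun i => if i ∈ F then U i else univ) := by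
  ext f
  simp only [mem_pi, Finset.mem_coe, mem_univ, forall_true_left]
  refine forall_congr' fun i => ?_
  by_cases h : i ∈ F <;> simp [h]

theorem isCompact_inter_of_mem_piBasis [∀ i, CompactSpace (X i)]
    [∀ i, QuasiSeparatedSpace (X i)] {V W : Set (∀ i, X i)} (hV : V ∈ piBasis X)
    (hW : W ∈ piBasis X) : IsCompact (V ∩ W) := by
  classical
  obtain ⟨U, F, hU, rfl⟩ := hV
  obtain ⟨U', F', hU', rfl⟩ := hW
  rw [pi_eq_univ_pi F U, pi_eq_univ_pi F' U', ← pi_inter_distrib]
  apply isCompact_univ_pi
  intro i
  have h1 : IsOpen (if i ∈ F then U i else univ) ∧ IsCompact (if i ∈ F then U i else univ) := by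
    by_cases h : i ∈ F
    · rw [if_pos h]; exact hU i h
    · rw [if_neg h]; exact ⟨isOpen_univ, isCompact_univ⟩
  have h2 : IsOpen (if i ∈ F' then U' i else univ) ∧
      IsCompact (if i ∈ F' then U' i else univ) := by
    by_cases h : i ∈ F'
    · rw [if_pos h]; exact hU' i h
    · rw [if_neg h]; exact ⟨isOpen_univ, isCompact_univ⟩
  exact QuasiSeparatedSpace.inter_isCompact _ _ h1.1 h1.2 h2.1 h2.2

/-- an arbitrary product of spectral spaces is spectral -/
theorem spectralSpace_pi [∀ i, SpectralSpace (X i)] : SpectralSpace (∀ i, X i) := by
  have hb := isTopologicalBasis_piBasis (X := X)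
  have hb' : IsTopologicalBasis (range (Subtype.val : piBasis X → Set (∀ i, X i))) := by
    rw [Subtype.range_coe]; exact hb
  have hqs : QuasiSeparatedSpace (∀ i, X i) :=
    QuasiSeparatedSpace.of_isTopologicalBasis hb'
      (fun V W => isCompact_inter_of_mem_piBasis V.2 W.2)
  have hps : PrespectralSpace (∀ i, X i) :=
    PrespectralSpace.of_isTopologicalBasis hb
      (fun V hV => by simpa using isCompact_inter_of_mem_piBasis hV hV)
  have hsob : QuasiSober (∀ i, X i) := quasiSober_pi
  exact { toT0Space := inferInstance, toCompactSpace := inferInstance, toQuasiSober := hsob,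
          toQuasiSeparatedSpace := hqs, toPrespectralSpace := hps }

end pi

section finite

variable {X : Type*} [TopologicalSpace X]

/-- a finite sober space is spectral -/
theorem spectralSpace_of_finite [Finite X] [T0Space X] [QuasiSober X] : SpectralSpace X := by
  have hqs : QuasiSeparatedSpace X := ⟨fun U V _ _ _ _ => (Set.toFinite (U ∩ V)).isCompact⟩
  have hps : PrespectralSpace X :=
    PrespectralSpace.of_isTopologicalBasis isTopologicalBasis_opens
      (fun U _ => (Set.toFinite U).isCompact)
  exact { toT0Space := inferInstance, toCompactSpace := inferInstance,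
          toQuasiSober := inferInstance,
          toQuasiSeparatedSpace := hqs, toPrespectralSpace := hps }

/-- any continuous map from a finite space is spectral -/
theorem isSpectralMap_of_finite {Y : Type*} [TopologicalSpace Y] [Finite X] {f : X → Y}
    (hf : Continuous f) : IsSpectralMap f :=
  ⟨hf, fun s _ _ => (Set.toFinite (f ⁻¹' s)).isCompact⟩

end finite

section sierpinski

theorem specializes_prop_iff {p q : Prop} : p ⤳ q ↔ (q → p) := by
  by_cases hq : q
  · have hq' : q = True := eq_true hq
    subst hq'
    by_cases hp : p
    · have hp' : p = True := eq_true hp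
      subst hp'
      exact ⟨fun _ _ => trivial, fun _ => specializes_rfl⟩
    · have hp' : p = False := eq_false hp
      subst hp'
      simp only [Specializes, nhds_true, nhds_false, forall_true_left, iff_false]
      intro h
      have : ({True} : Set Prop) ∈ (⊤ : Filter Prop) := h (by simp)
      rw [Filter.mem_top] at this
      have h2 : False ∈ ({True} : Set Prop) := this ▸ mem_univ _
      simp at h2
  · have hq' : q = False := eq_false hq
    subst hq'
    simp only [Specializes, nhds_false, le_top, false_imp_iff]

instance t0Space_prop : T0Space Prop := by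
  constructor
  intro p q h
  have h1 := specializes_prop_iff.mp h.specializes
  have h2 := specializes_prop_iff.mp h.specializes'
  exact propext ⟨h2, h1⟩

instance quasiSober_prop : QuasiSober Prop := by
  constructor
  intro T hTirr hTcl
  by_cases hT : True ∈ T
  · refine ⟨True, ?_⟩
    apply Subset.antisymm
    · exact closure_minimal (singleton_subset_iff.mpr hT) hTcl
    · intro q _
      rw [← specializes_iff_mem_closure, specializes_prop_iff]
      exact fun _ => trivial
  · refine ⟨False, ?_⟩
    obtain ⟨q, hq⟩ := hTirr.nonempty
    have hqF : q = False := by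
      by_contra hne
      have : q = True := by
        by_cases hq' : q
        · exact eq_true hq'
        · exact absurd (eq_false hq') hne
      exact hT (this ▸ hq)
    subst hqF
    apply Subset.antisymm
    · exact closure_minimal (singleton_subset_iff.mpr hq) hTcl
    · intro r hr
      have hrF : r = False := by
        by_cases hr' : r
        · exact absurd (eq_true hr' ▸ hr) hT
        · exact eq_false hr'
      subst hrF
      exact subset_closure rfl

instance spectralSpace_prop : SpectralSpace Prop := spectralSpace_of_finite

instance spectralSpace_pi_prop (I : Type*) : SpectralSpace (I → Prop) := spectralSpace_pi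

end sierpinski

section prod

variable (X Y : Type u) [TopologicalSpace X] [TopologicalSpace Y]

/-- the family of the two types `X` and `Y`, indexed by `Bool` -/
def pairFam : Bool → Type u
  | true => X
  | false => Y

instance pairFam.instTop : ∀ b, TopologicalSpace (pairFam X Y b)
  | true => inferInstanceAs (TopologicalSpace X)
  | false => inferInstanceAs (TopologicalSpace Y)

theorem pairFam.spectralSpace [SpectralSpace X] [SpectralSpace Y] :
    ∀ b, SpectralSpace (pairFam X Y b)
  | true => inferInstanceAs (SpectralSpace X)
  | false => inferInstanceAs (SpectralSpace Y)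

/-- the product of two spaces as a product over `Bool` -/
def pairHomeo : (∀ b, pairFam X Y b) ≃ₜ X × Y where
  toFun f := (f true, f false)
  invFun p := fun b => match b with
    | true => p.1
    | false => p.2
  left_inv f := by
    funext b
    cases b <;> rfl
  right_inv p := rfl
  continuous_toFun := (continuous_apply true).prodMk (continuous_apply false)
  continuous_invFun := by
    apply continuous_pi
    intro b
    cases b
    · exact continuous_snd
    · exact continuous_fst

/-- the product of two spectral spaces is spectral -/
theorem spectralSpace_prod [SpectralSpace X] [SpectralSpace Y] : SpectralSpace (X × Y) := by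
  have := pairFam.spectralSpace X Y
  have hpi : SpectralSpace (∀ b, pairFam X Y b) := spectralSpace_pi
  exact (pairHomeo X Y).symm.isOpenEmbedding.spectralSpace

end prod

end Groth.Agent.Lib.Lead
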