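import Groth.Agent.Lib.Lead.Spectral

set_option autoImplicit false

universe u

namespace Groth.Agent.Lib.Lead

open Topology Set TopologicalSpace

section sub

variable {X : Type*} [TopologicalSpace X]

/-- Stacks 0902: a subset of a spectral space which is closed in the constructible topology
is a spectral space for the induced topology. -/
theorem spectralSpace_of_isClosed_constructible [SpectralSpace X] {Z : Set X}
    (hZ : IsClosed[constructibleTopology X] Z) : SpectralSpace Z := by
  -- the index type of the basis
  let ι := {U : Set X // IsOpen U ∧ IsCompact U}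
  let b : ι → Set Z := fun U => Subtype.val ⁻¹' U.1
  have hrange : range b = Set.preimage (Subtype.val (p := (· ∈ Z))) '' {U : Set X | IsOpen U ∧ IsCompact U} := by
    apply Set.ext
    intro V
    constructor
    · rintro ⟨U, rfl⟩
      exact ⟨U.1, U.2, rfl⟩
    · rintro ⟨U, hU, rfl⟩
      exact ⟨⟨U, hU⟩, rfl⟩
  have hbasis : IsTopologicalBasis (range b) := by
    rw [hrange]
    exact isTopologicalBasis_subtype (PrespectralSpace.isTopologicalBasis (X := X)) _
  have hcomp : ∀ (U : Set X), IsOpen U → IsCompact U →
      IsCompact (Subtype.val ⁻¹' U : Set Z) := by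
    intro U hUo hUc
    rw [Topology.IsEmbedding.subtypeVal.isCompact_iff, Subtype.image_preimage_coe]
    exact isCompact_of_isClosed_constructible
      (@IsClosed.inter X _ _ (constructibleTopology X) hZ
        (isClosed_constructible_of_isOpen_isCompact hUo hUc))
  have hT0 : T0Space Z := inferInstance
  have hcs : CompactSpace Z := isCompact_iff_compactSpace.mp (isCompact_of_isClosed_constructible hZ)
  have hqs : QuasiSeparatedSpace Z := by
    refine QuasiSeparatedSpace.of_isTopologicalBasis hbasis (fun U V => ?_)
    have : b U ∩ b V = Subtype.val ⁻¹' (U.1 ∩ V.1) := by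
      simp only [b, preimage_inter]
    rw [this]
    exact hcomp _ (U.2.1.inter V.2.1)
      (QuasiSeparatedSpace.inter_isCompact _ _ U.2.1 U.2.2 V.2.1 V.2.2)
  have hps : PrespectralSpace Z :=
    PrespectralSpace.of_isTopologicalBasis' hbasis (fun U => hcomp _ U.2.1 U.2.2)
  have hsob : QuasiSober Z := by
    constructor
    intro T hTirr hTcl
    -- the image of T in X
    have hirr : IsIrreducible (closure (Subtype.val '' T : Set X)) :=
      (hTirr.image _ continuous_subtype_val.continuousOn).closure
    obtain ⟨ξ, hξ⟩ := QuasiSober.sober hirr isClosed_closure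
    -- `T` as a subset of `X` is `Z ∩ closure T`
    have hTeq : (Subtype.val '' T : Set X) = Z ∩ closure (Subtype.val '' T) := by
      apply Subset.antisymm
      · rintro _ ⟨t, ht, rfl⟩
        exact ⟨t.2, subset_closure ⟨t, ht, rfl⟩⟩
      · rintro x ⟨hxZ, hx⟩
        have h2 : (⟨x, hxZ⟩ : Z) ∈ closure T := by
          rw [closure_subtype]
          exact hx
        rw [hTcl.closure_eq] at h2
        exact ⟨⟨x, hxZ⟩, h2, rfl⟩
    have hTcc : IsClosed[constructibleTopology X] (Subtype.val '' T : Set X) := by
      rw [hTeq]
      exact @IsClosed.inter X _ _ (constructibleTopology X) hZ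
        (isClosed_constructible_of_isClosed isClosed_closure)
    obtain ⟨e, ⟨t, ht, rfl⟩, he⟩ := exists_specializes_of_mem_closure hTcc hξ.mem
    have he' : ξ ⤳ (t : X) := hξ.specializes (subset_closure ⟨t, ht, rfl⟩)
    have heq : (t : X) = ξ := (he.antisymm he').eq
    refine ⟨t, ?_⟩
    -- closure {t} = T in Z
    apply Subset.antisymm
    · exact closure_minimal (singleton_subset_iff.mpr ht) hTcl
    · intro s hs
      rw [← specializes_iff_mem_closure, ← Topology.IsInducing.subtypeVal.specializes_iff, heq]
      exact hξ.specializes (subset_closure ⟨s, hs, rfl⟩)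
  exact { toT0Space := hT0, toCompactSpace := hcs, toQuasiSober := hsob,
          toQuasiSeparatedSpace := hqs, toPrespectralSpace := hps }

/-- the set of generalizations of a constructible set is closed in the constructible topology -/
theorem isClosed_constructible_generalizations [SpectralSpace X] {E : Set X}
    (hE : IsConstructible E) : IsClosed[constructibleTopology X] {x | ∃ e ∈ E, x ⤳ e} := by
  have hEc : IsCompact E :=
    isCompact_of_isClosed_constructible (isClopen_constructible_of_isConstructible hE).1
  rw [generalizations_eq_sInter hEc]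
  exact @isClosed_sInter X (constructibleTopology X) _ fun U hU =>
    isClosed_constructible_of_isOpen_isCompact hU.1 hU.2.1

end sub

end Groth.Agent.Lib.Lead
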