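import Groth.Agent.Lib.Lead.SpectralPi
import Groth.Agent.Lib.Lead.SpectralSub

set_option autoImplicit false
set_option linter.unusedSectionVars false

universe u

namespace Groth.Agent.Lib.Lead

open Topology Set TopologicalSpace

section pimap

variable {ι : Type*} {Y : ι → Type*} [∀ i, TopologicalSpace (Y i)]
variable {X : Type*} [TopologicalSpace X]

/-- finite intersections of compact opens are compact open (indexed version) -/
theorem isCompact_isOpen_biInter' [CompactSpace X]
    [QuasiSeparatedSpace X] {κ : Type*} (I : Finset κ) (W : κ → Set X)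
    (hW : ∀ i ∈ I, IsOpen (W i) ∧ IsCompact (W i)) :
    IsOpen (⋂ i ∈ I, W i) ∧ IsCompact (⋂ i ∈ I, W i) := by
  classical
  induction I using Finset.induction_on with
  | empty => simpa using isCompact_univ
  | insert a I _ ih =>
    have h1 := ih fun i hi => hW i (Finset.mem_insert_of_mem hi)
    have h2 := hW a (Finset.mem_insert_self a I)
    rw [Finset.set_biInter_insert]
    exact ⟨h2.1.inter h1.1, QuasiSeparatedSpace.inter_isCompact _ _ h2.1 h2.2 h1.1 h1.2⟩

/-- a map into a product of spectral spaces is spectral as soon as its components are -/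
theorem isSpectralMap_pi [CompactSpace X] [QuasiSeparatedSpace X]
    [∀ i, SpectralSpace (Y i)] {f : X → ∀ i, Y i}
    (hf : ∀ i, IsSpectralMap (fun x => f x i)) : IsSpectralMap f := by
  have hcont : Continuous f := continuous_pi fun i => (hf i).continuous
  refine ⟨hcont, fun V hVo hVc => ?_⟩
  have hb := isTopologicalBasis_piBasis (X := Y)
  have hb' : IsTopologicalBasis (range (Subtype.val : piBasis Y → Set (∀ i, Y i))) := by
    rw [Subtype.range_coe]; exact hb
  have hbc : ∀ W : piBasis Y, IsCompact (W.1) := fun W => by
    simpa using isCompact_inter_of_mem_piBasis W.2 W.2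
  obtain ⟨s, hs, rfl⟩ :=
    (isCompact_open_iff_eq_finite_iUnion_of_isTopologicalBasis _ hb' hbc V).mp ⟨hVc, hVo⟩
  rw [preimage_iUnion₂]
  refine hs.isCompact_biUnion fun W _ => ?_
  obtain ⟨U, F, hU, hWeq⟩ := W.2
  have : f ⁻¹' W.1 = ⋂ i ∈ F, (fun x => f x i) ⁻¹' U i := by
    rw [hWeq]
    ext x
    simp [Set.mem_pi]
  rw [this]
  exact (isCompact_isOpen_biInter' F _ fun i hi =>
    ⟨(hU i hi).1.preimage (hf i).continuous,
      (hf i).isCompact_preimage_of_isOpen (hU i hi).1 (hU i hi).2⟩).2

end pimap

section embed

variable (X : Type u) [TopologicalSpace X]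

/-- the canonical map of a space into a power of the Sierpiński space, indexed by compact opens -/
def sierpinskiMap : X → ({U : Set X // IsOpen U ∧ IsCompact U} → Prop) := fun x U => x ∈ U.1

theorem continuous_sierpinskiMap : Continuous (sierpinskiMap X) :=
  continuous_pi fun U => continuous_Prop.mpr U.2.1

theorem isInducing_sierpinskiMap [PrespectralSpace X] : IsInducing (sierpinskiMap X) := by
  constructor
  apply le_antisymm
  · exact (continuous_sierpinskiMap X).le_induced
  · intro s hs
    obtain ⟨S, hS, rfl⟩ := (PrespectralSpace.isTopologicalBasis (X := X)).open_eq_sUnion hs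
    refine @isOpen_sUnion X (induced (sierpinskiMap X) inferInstance) S fun U hU => ?_
    rw [isOpen_induced_iff]
    refine ⟨Function.eval (⟨U, hS hU⟩ : {U : Set X // IsOpen U ∧ IsCompact U}) ⁻¹' {True},
      isOpen_singleton_true.preimage (continuous_apply _), ?_⟩
    ext x
    simp [sierpinskiMap]

theorem isEmbedding_sierpinskiMap [T0Space X] [PrespectralSpace X] :
    IsEmbedding (sierpinskiMap X) := by
  refine ⟨isInducing_sierpinskiMap X, fun x y hxy => ?_⟩
  apply Inseparable.eq
  rw [← (isInducing_sierpinskiMap X).inseparable_iff, hxy]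

theorem isSpectralMap_mem [CompactSpace X] {U : Set X} (hUo : IsOpen U) (hUc : IsCompact U) :
    IsSpectralMap (fun x => x ∈ U) := by
  refine ⟨continuous_Prop.mpr hUo, fun V hVo _ => ?_⟩
  by_cases hF : False ∈ V
  · -- then V = univ
    have hV : V = univ := by
      have : V ∈ 𝓝 False := hVo.mem_nhds hF
      rw [nhds_false, Filter.mem_top] at this
      exact this
    rw [hV, preimage_univ]
    exact isCompact_univ
  · by_cases hT : True ∈ V
    · have : (fun x => x ∈ U) ⁻¹' V = U := by
        ext x
        simp only [mem_preimage]
        by_cases hx : x ∈ U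
        · simp [hx, hT]
        · simp [hx, hF]
      rw [this]; exact hUc
    · have : (fun x => x ∈ U) ⁻¹' V = ∅ := by
        ext x
        simp only [mem_preimage, mem_empty_iff_false, iff_false]
        by_cases hx : x ∈ U
        · simp [hx, hT]
        · simp [hx, hF]
      rw [this]; exact isCompact_empty

theorem isSpectralMap_sierpinskiMap [CompactSpace X] [QuasiSeparatedSpace X] :
    IsSpectralMap (sierpinskiMap X) :=
  isSpectralMap_pi fun U => isSpectralMap_mem X U.2.1 U.2.2

theorem isClosed_constructible_range_sierpinskiMap [SpectralSpace X] :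
    IsClosed[constructibleTopology ({U : Set X // IsOpen U ∧ IsCompact U} → Prop)]
      (range (sierpinskiMap X)) := by
  rw [← image_univ]
  exact isClosedMap_constructible_of_isSpectralMap (isSpectralMap_sierpinskiMap X) _
    (@isClosed_univ _ (constructibleTopology X))

/-- Hochster: spectral spaces are exactly the constructibly closed subspaces of powers of the
Sierpiński space -/
theorem spectralSpace_iff_exists_isEmbedding :
    SpectralSpace X ↔ ∃ (I : Type u) (f : X → (I → Prop)),
      IsEmbedding f ∧ IsClosed[constructibleTopology (I → Prop)] (range f) := by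
  constructor
  · intro h
    exact ⟨{U : Set X // IsOpen U ∧ IsCompact U}, sierpinskiMap X, isEmbedding_sierpinskiMap X,
      isClosed_constructible_range_sierpinskiMap X⟩
  · rintro ⟨I, f, hf, hcl⟩
    have hZ : SpectralSpace (range f) := spectralSpace_of_isClosed_constructible hcl
    let e : X ≃ₜ range f := hf.toHomeomorph
    have : CompactSpace X := e.symm.compactSpace
    exact e.isOpenEmbedding.spectralSpace

end embed

end Groth.Agent.Lib.Lead
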