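import Mathlib
import Groth.Agent.Lib.Helper29.TensorIso

/-!
# Base loci and the stable base locus of an invertible module
-/

universe u
open CategoryTheory AlgebraicGeometry TopologicalSpace

namespace Groth.Agent.Lib.Lead.StableBase
open Groth.Agent.Lib.Helper29.QCoh

variable {X : Scheme.{u}}

/-- base locus of the complete linear series of `M` -/
def BsM (M : X.Modules) : Set X :=
  {x | ∀ s : Coh.structureModule X ⟶ M, x ∉ CohB1.genLocus M s}

/-- base locus of `L^m` -/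
def Bs (L : X.Modules) (m : ℕ) : Set X := BsM (CohB1.tensorPow L m)

theorem BsM_subset_of_iso {M M' : X.Modules} (ε : M ≅ M') : BsM M ⊆ BsM M' := by
  intro x h s hx
  refine h (s ≫ ε.symm.hom) ?_
  rw [genLocus_comp_iso s ε.symm]
  exact hx

theorem BsM_congr {M M' : X.Modules} (ε : M ≅ M') : BsM M = BsM M' :=
  le_antisymm (BsM_subset_of_iso ε) (BsM_subset_of_iso ε.symm)

theorem isClosed_BsM (M : X.Modules) : IsClosed (BsM M) := by
  have : BsM M = (⋃ s : Coh.structureModule X ⟶ M, (CohB1.genLocus M s : Set X))ᶜ := by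
    ext x
    simp [BsM]
  rw [this]
  exact (isOpen_iUnion fun s => (CohB1.genLocus M s).isOpen).isClosed_compl

theorem Bs_mul_subset {L : X.Modules} (hL : PicF.IsInvertible L) (m k : ℕ) (hk : 0 < k) :
    Bs L (m * k) ⊆ Bs L m := by
  intro x hx s hxs
  obtain ⟨k', rfl⟩ := Nat.exists_eq_succ_of_ne_zero hk.ne'
  have h1 := genLocus_powHom (isInvertible_tensorPow hL m) s k'
  refine hx (SecTwist.powHom s (k' + 1) ≫ (tensorPowMul L m (k' + 1)).hom) ?_
  rw [genLocus_comp_iso, h1]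
  exact hxs

/-- the stable base locus -/
def B (L : X.Modules) : Set X := {x | ∀ m : ℕ, 0 < m → x ∈ Bs L m}

theorem B_subset (L : X.Modules) (m : ℕ) (hm : 0 < m) : B L ⊆ Bs L m := fun _ hx => hx m hm

theorem exists_stable [NoetherianSpace X] {L : X.Modules} (hL : PicF.IsInvertible L) :
    ∃ n₀ : ℕ, 0 < n₀ ∧ ∀ k : ℕ, 0 < k → B L = Bs L (k * n₀) := by
  classical
  -- the closed sets Bs m, m ≥ 1
  let C : {m : ℕ // 0 < m} → Closeds X := fun m => ⟨Bs L m, isClosed_BsM _⟩
  obtain ⟨_, ⟨m₀, rfl⟩, hmin⟩ :=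
    (wellFounded_lt (α := Closeds X)).has_min (Set.range C) ⟨C ⟨1, one_pos⟩, ⟨_, rfl⟩⟩
  have hmin' : ∀ m : ℕ, 0 < m → Bs L m ⊆ Bs L m₀.1 → Bs L m = Bs L m₀.1 := by
    intro m hm hsub
    by_contra hne
    refine hmin (C ⟨m, hm⟩) ⟨_, rfl⟩ ?_
    refine lt_of_le_of_ne hsub ?_
    intro h
    exact hne (congrArg (fun c : Closeds X => (c : Set X)) h)
  have hall : ∀ m : ℕ, 0 < m → Bs L m₀.1 ⊆ Bs L m := by
    intro m hm
    have h1 : Bs L (m₀.1 * m) ⊆ Bs L m₀.1 := Bs_mul_subset hL _ _ hm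
    have h2 : Bs L (m₀.1 * m) ⊆ Bs L m := by
      rw [mul_comm]
      exact Bs_mul_subset hL _ _ m₀.2
    rw [← hmin' _ (Nat.mul_pos m₀.2 hm) h1]
    exact h2
  have hB : B L = Bs L m₀.1 := le_antisymm (B_subset L _ m₀.2) (fun x hx m hm => hall m hm hx)
  refine ⟨m₀.1, m₀.2, fun k hk => ?_⟩
  rw [hB]
  refine le_antisymm (hall _ (Nat.mul_pos hk m₀.2)) ?_
  rw [mul_comm]
  exact Bs_mul_subset hL _ _ hk

theorem Bs_pow {L : X.Modules} (p m : ℕ) : Bs (CohB1.tensorPow L p) m = Bs L (p * m) :=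
  BsM_congr (tensorPowMul L p m)

theorem B_pow [NoetherianSpace X] {L : X.Modules} (hL : PicF.IsInvertible L) (p : ℕ) (hp : 0 < p) :
    B (CohB1.tensorPow L p) = B L := by
  obtain ⟨n₀, hn₀, h⟩ := exists_stable hL
  apply le_antisymm
  · intro x hx
    rw [h p hp, ← Bs_pow]
    exact hx n₀ hn₀
  · intro x hx m hm
    rw [Bs_pow]
    exact hx _ (Nat.mul_pos hp hm)

/-- a scheme proper over a field is a Noetherian space -/
theorem noetherianSpace_of_proper (k : Type u) [Field k] (X : Scheme.{u})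
    [X.Over (Spec (CommRingCat.of k))] [IsProper (X ↘ Spec (CommRingCat.of k))] :
    NoetherianSpace X := by
  have : IsLocallyNoetherian X :=
    LocallyOfFiniteType.isLocallyNoetherian (X ↘ Spec (CommRingCat.of k))
  have : CompactSpace X :=
    (quasiCompact_iff_compactSpace (X ↘ Spec (CommRingCat.of k))).1 inferInstance
  have : IsNoetherian X := { }
  infer_instance

end Groth.Agent.Lib.Lead.StableBase
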