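import Mathlib
import Groth.Prelude.Def_FibCat2

/-! Covering functors over `C` between categories fibred in groupoids: composition and base change. -/

set_option autoImplicit false
universe v u
open CategoryTheory CategoryTheory.Limits

namespace Groth.Agent.Lib.Lead.StkCover

variable {C : Type u} [Category.{v} C]

/-- the functor `C/V ⥤ C/U` over `C` -/
abbrev M {U V : C} (h : V ⟶ U) : FibCat.overCat V ⥤ᵇ FibCat.overCat U :=
  ⟨Over.map h, Over.mapForget_eq h⟩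

/-- composition of the functors `M` -/
def mapCompIso {U V W : C} (k : W ⟶ V) (h : V ⟶ U) :
    BasedFunctor.comp (M k) (M h) ≅ M (k ≫ h) :=
  BasedNatIso.mkNatIso (Over.mapComp k h).symm (fun a => by
    apply IsHomLift.of_fac _ _ _ rfl rfl
    simp
    first | rfl | (simp [Over.mapComp]; rfl))

theorem covering_comp (J : GrothendieckTopology C)
    {𝒳 𝒴 𝒵 : BasedCategory.{v, max u v} C} (F : 𝒳 ⥤ᵇ 𝒴) (G : 𝒴 ⥤ᵇ 𝒵)
    (hF : (∀ (U : C) (y : FibCat.overCat U ⥤ᵇ 𝒴), ∃ R ∈ J U, ∀ ⦃V : C⦄ (h : V ⟶ U), R.arrows h →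
        ∃ x : FibCat.overCat V ⥤ᵇ 𝒳,
          Nonempty (BasedFunctor.comp x F ≅ BasedFunctor.comp (M h) y)))
    (hG : (∀ (U : C) (y : FibCat.overCat U ⥤ᵇ 𝒵), ∃ R ∈ J U, ∀ ⦃V : C⦄ (h : V ⟶ U), R.arrows h →
        ∃ x : FibCat.overCat V ⥤ᵇ 𝒴,
          Nonempty (BasedFunctor.comp x G ≅ BasedFunctor.comp (M h) y))) :
    (∀ (U : C) (y : FibCat.overCat U ⥤ᵇ 𝒵), ∃ R ∈ J U, ∀ ⦃V : C⦄ (h : V ⟶ U), R.arrows h →
        ∃ x : FibCat.overCat V ⥤ᵇ 𝒳,
          Nonempty (BasedFunctor.comp x (BasedFunctor.comp F G) ≅ BasedFunctor.comp (M h) y)) := by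
  intro U y
  obtain ⟨R, hR, hRx⟩ := hG U y
  choose x hx using hRx
  have hF' := fun ⦃V : C⦄ (h : V ⟶ U) (hh : R.arrows h) => hF V (x h hh)
  choose R' hR' hR'x using hF'
  refine ⟨Sieve.bind R.arrows (fun V h hh => R' h hh),
    J.bind_covering hR (fun V h hh => hR' h hh), ?_⟩
  rintro W g ⟨V, k, h, hh, hk, rfl⟩
  obtain ⟨w, ⟨e2⟩⟩ := hR'x h hh k hk
  obtain ⟨e1⟩ := hx h hh
  refine ⟨w, ⟨?_⟩⟩
  have i1 : BasedFunctor.comp (BasedFunctor.comp w F) G ≅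
      BasedFunctor.comp (BasedFunctor.comp (M k) (x h hh)) G :=
    Bicategory.whiskerRightIso (B := BasedCategory.{v, max u v} C) e2 G
  have i2 : BasedFunctor.comp (M k) (BasedFunctor.comp (x h hh) G) ≅
      BasedFunctor.comp (M k) (BasedFunctor.comp (M h) y) :=
    Bicategory.whiskerLeftIso (B := BasedCategory.{v, max u v} C) (M k) e1
  have i3 : BasedFunctor.comp (BasedFunctor.comp (M k) (M h)) y ≅
      BasedFunctor.comp (M (k ≫ h)) y :=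
    Bicategory.whiskerRightIso (B := BasedCategory.{v, max u v} C) (mapCompIso k h) y
  exact i1 ≪≫ i2 ≪≫ i3

theorem covering_fpFst (J : GrothendieckTopology C)
    {𝒳 𝒴 𝒵 : BasedCategory.{v, max u v} C} (F : 𝒳 ⥤ᵇ 𝒴) (G : 𝒵 ⥤ᵇ 𝒴)
    (hF : ∀ (U : C) (y : FibCat.overCat U ⥤ᵇ 𝒴), ∃ R ∈ J U, ∀ ⦃V : C⦄ (h : V ⟶ U), R.arrows h →
        ∃ x : FibCat.overCat V ⥤ᵇ 𝒳,
          Nonempty (BasedFunctor.comp x F ≅ BasedFunctor.comp (M h) y)) :
    ∀ (U : C) (y : FibCat.overCat U ⥤ᵇ 𝒵), ∃ R ∈ J U, ∀ ⦃V : C⦄ (h : V ⟶ U), R.arrows h →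
        ∃ x : FibCat.overCat V ⥤ᵇ (FibCat.fp G F),
          Nonempty (BasedFunctor.comp x (FibCat.fpFst G F) ≅ BasedFunctor.comp (M h) y) := by
  intro U y
  obtain ⟨R, hR, hRx⟩ := hF U (BasedFunctor.comp y G)
  refine ⟨R, hR, fun V h hh => ?_⟩
  obtain ⟨x', ⟨e⟩⟩ := hRx h hh
  let z : FibCat.overCat V ⥤ᵇ 𝒵 := BasedFunctor.comp (M h) y
  let sq : CategoricalPullback.CatCommSqOver G.toFunctor F.toFunctor (Over V) :=
    { fst := z.toFunctor
      snd := x'.toFunctor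
      iso := (BasedNatTrans.forgetful _ _).mapIso e.symm }
  let T : Over V ⥤ CategoricalPullback G.toFunctor F.toFunctor :=
    (CategoricalPullback.CatCommSqOver.toFunctorToCategoricalPullback _ _ _).obj sq
  have hT : ∀ a : Over V, FibCat.fpProp G F (T.obj a) := by
    intro a
    show 𝒴.p.IsHomLift (𝟙 (𝒵.p.obj (z.obj a))) (e.inv.toNatTrans.app a)
    exact BasedNatTrans.isHomLift e.inv (z.w_obj a).symm
  let xx : FibCat.overCat V ⥤ᵇ FibCat.fp G F :=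
    { toFunctor := ObjectProperty.lift (FibCat.fpProp G F) T hT
      w := z.w }
  refine ⟨xx, ⟨?_⟩⟩
  exact BasedNatIso.mkNatIso (Iso.refl z.toFunctor) (fun a => by
    show 𝒵.p.IsHomLift (𝟙 ((FibCat.overCat V).p.obj a)) (𝟙 (z.obj a))
    infer_instance)

end Groth.Agent.Lib.Lead.StkCover
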