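import Groth.Agent.Lib.Lead.StrictHensGeom
import Groth.Agent.Lib.Lead.EtZarCompare
import Groth.Agent.Lib.Helper22.CechU.EtaleCov

/-!
# Étale and Zariski cohomology agree when all local rings are strictly henselian
-/

set_option autoImplicit false

universe u

open CategoryTheory CategoryTheory.Limits Opposite AlgebraicGeometry IsLocalRing

namespace Groth.Agent.Lib.Lead.StrictHensZar

open Groth.Agent.Lib.Lead.EtZarFlat Groth.Agent.Lib.Lead.EtZarCompare
  Groth.Agent.Lib.Lead.StrictHensGeom Groth.Agent.Lib.Helper22.CechU.Etale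
  Groth.Agent.Lib.Helper22.ExtCompare

noncomputable section

variable (S : Scheme.{u})
  (hS : ∀ s : S, EtCoh.IsStrictlyHenselianLocalRing (S.presheaf.stalk s)) [EtZar.ZarCont S]

include hS in
theorem epi_resZar {F G : EtCoh.Ab S} (g : F ⟶ G) [Epi g] : Epi ((EtZar.resZar S).map g) := by
  haveI : (Opens.grothendieckTopology S).WEqualsLocallyBijective AddCommGrpCat.{u + 1} :=
    .ofEssentiallySmall _
  rw [← Sheaf.isLocallySurjective_iff_epi' (A := AddCommGrpCat.{u + 1})]
  constructor
  intro U s x hx
  have hls : Sheaf.IsLocallySurjective g := (Sheaf.isLocallySurjective_iff_epi' _ g).2 inferInstance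
  have hmem := Presheaf.imageSieve_mem S.smallEtaleTopology g.hom
    (U := op ((EtZar.zarToEt S).obj U)) s
  rw [mem_smallEtaleTopology_iff] at hmem
  obtain ⟨V, f, y, ⟨z, hz⟩, hy⟩ := hmem ⟨x, hx⟩
  haveI : Etale V.hom := V.prop
  have hVy : V.hom y = x := by
    have hw : f.left ≫ Scheme.Opens.ι (X := S) U = V.hom := MorphismProperty.Over.w f
    rw [← hw]
    show Scheme.Opens.ι (X := S) U (f.left y) = x
    rw [hy]
    rfl
  obtain ⟨W, hxW, σ, hσ⟩ := exists_local_section V.hom y (hVy ▸ hS _)
  let u : (EtZar.zarToEt S).obj W ⟶ V := MorphismProperty.Over.homMk σ hσ trivial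
  have hWU : W ≤ U := by
    have h := range_subset_of_hom S ((EtZar.zarToEt S).obj W) U (u ≫ f)
    intro w hw
    have h2 := h ⟨⟨w, hw⟩, rfl⟩
    rw [Scheme.Opens.range_ι] at h2
    exact h2
  have huf : u ≫ f = (EtZar.zarToEt S).map (homOfLE hWU) := hom_ext_zarToEt S _ _ _ _
  refine ⟨W, homOfLE hWU, ⟨F.obj.map u.op z, ?_⟩, hVy ▸ hxW⟩
  show g.hom.app (op ((EtZar.zarToEt S).obj W)) (F.obj.map u.op z) =
    G.obj.map ((EtZar.zarToEt S).map (homOfLE hWU)).op s
  have n1 := congrArg (fun φ => φ z)
    (congrArg AddCommGrpCat.Hom.hom (g.hom.naturality u.op))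
  simp only [AddCommGrpCat.hom_comp, AddMonoidHom.coe_comp, Function.comp_apply] at n1
  refine n1.trans ?_
  erw [hz]
  rw [← huf]
  have := congrArg (fun φ => φ s)
    (congrArg AddCommGrpCat.Hom.hom (G.obj.map_comp f.op u.op))
  simp only [AddCommGrpCat.hom_comp, AddMonoidHom.coe_comp, Function.comp_apply] at this
  exact this.symm

include hS in
theorem shortExact_map_resZar (C : ShortComplex (EtCoh.Ab S)) (hC : C.ShortExact) :
    (C.map (EtZar.resZar S)).ShortExact := by
  haveI : PreservesLimitsOfSize.{0, 0} (EtZar.resZar S) :=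
    (zarAdj S).rightAdjoint_preservesLimits
  haveI : (EtZar.resZar S).PreservesZeroMorphisms :=
    (EtZar.resZar S).preservesZeroMorphisms_of_preserves_terminal_object
  haveI := hC.mono_f
  haveI := hC.epi_g
  have hex : (C.map (EtZar.resZar S)).Exact :=
    hC.exact.map_of_mono_of_preservesKernel _ hC.mono_f inferInstance
  haveI : Mono (C.map (EtZar.resZar S)).f :=
    inferInstanceAs (Mono ((EtZar.resZar S).map C.f))
  haveI : Epi (C.map (EtZar.resZar S)).g := epi_resZar S hS C.g
  exact ShortComplex.ShortExact.mk' hex inferInstance inferInstance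

include hS in
/-- Étale and Zariski cohomology agree when all local rings are strictly henselian. -/
theorem nonempty_compare (F : EtCoh.Ab S) (q : ℕ) :
    Nonempty (EtCoh.H S F q ≃+ EtZar.H ((EtZar.resZar S).obj F) q) := by
  haveI : (EtZar.resZar S).PreservesZeroMorphisms := by
    haveI : PreservesLimitsOfSize.{0, 0} (EtZar.resZar S) :=
      (zarAdj S).rightAdjoint_preservesLimits
    exact (EtZar.resZar S).preservesZeroMorphisms_of_preserves_terminal_object
  exact nonempty_ext_addEquiv (deg0 S) (fun _ => True)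
    (fun G _ => shortExact_map_resZar S hS (injSC G) (injSC_shortExact G))
    (fun _ _ => trivial)
    (fun G _ n x => by
      haveI := injective_resZar S (injSC G).X₂
      exact Abelian.Ext.eq_zero_of_injective x) q F trivial

end

end Groth.Agent.Lib.Lead.StrictHensZar
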