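import Mathlib
import Groth.Agent.Lib.Lead.ToposFinFP2

/-!
# ToposFin: every object is a filtered colimit of finitely presented objects
-/

set_option autoImplicit false
open CategoryTheory CategoryTheory.Limits Opposite Cardinal
universe u w w'

namespace Groth.Agent.Lib.Lead.ToposFin
open _root_.ToposFin

attribute [local instance] Cardinal.fact_isRegular_aleph0

variable {C : Type u} [SmallCategory C] {J : GrothendieckTopology C}

theorem isFP_iff_isFinitelyPresentable (X : Sh J) :
    IsFP X ↔ IsFinitelyPresentable.{u} X := by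
  rw [isFinitelyPresentable_iff_preservesFilteredColimitsOfSize]
  constructor
  · intro h
    refine ⟨fun I _ _ => ⟨fun {D} => ?_⟩⟩
    have : IsIso (colimit.post D (coyoneda.obj (op X))) := (isIso_iff_bijective _).2 (h I D)
    exact preservesColimit_of_isIso_post _ _
  · intro h I _ _ D
    have h1 : PreservesColimitsOfShape I (coyoneda.obj (op X)) :=
      h.preserves_filtered_colimits I
    have : IsIso (colimit.post D (coyoneda.obj (op X))) := inferInstance
    exact (isIso_iff_bijective _).1 this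

theorem exists_small_strongGenerator (hE : HasCoherentGenerators J) :
    ∃ (P : ObjectProperty (Sh J)) (_ : ObjectProperty.Small.{u} P),
      P.IsStrongGenerator ∧ ∀ X, P X → IsCoherent X := by
  choose ι F π hF hπ using fun U : C => hE (eps J U)
  refine ⟨ObjectProperty.ofObj (fun k : (Σ U : C, ι U) => F k.1 k.2), inferInstance, ?_, ?_⟩
  · apply ObjectProperty.IsStrongGenerator.mk_of_exists_extremalEpi.{u}
    intro X
    let K := Σ (p : Σ U : C, X.obj.obj (op U)), ι p.1
    let s : K → Sh J := fun k => F k.1.1 k.2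
    let m : ∀ k : K, s k ⟶ X := fun k => π k.1.1 k.2 ≫ secMap k.1.2
    have hJE : JE m :=
      (JE_secMap X).comp (fun p k => π p.1 k) (fun p => JE.of_epi_sigmaDesc (hπ p.1))
    have hepi : Epi (Sigma.desc m) := hJE.epi_sigmaDesc
    refine ⟨K, s, fun k => ObjectProperty.ofObj.mk (⟨k.1.1, k.2⟩ : Σ U : C, ι U),
      Cofan.mk (∐ s) (Sigma.ι s), coproductIsCoproduct s, Sigma.desc m, ?_⟩
    exact
      { toEpi := hepi
        isIso := fun p i fac _ => by
          have : Epi i := epi_of_epi_fac fac
          exact isIso_of_mono_of_epi i }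
  · rintro X ⟨k⟩
    exact hF k.1 k.2

theorem exists_filtered_presentation (hE : HasCoherentGenerators J)
    (h : ∀ X : Sh J, IsFP X → IsCoherent X) (X : Sh J) :
    ∃ (I : Type u) (_ : SmallCategory I) (_ : IsFiltered I) (D : I ⥤ Sh J),
        (∀ i, IsCoherent (D.obj i)) ∧ Nonempty (X ≅ colimit D) := by
  obtain ⟨P, hPs, hP, hPc⟩ := exists_small_strongGenerator hE
  have hP2 : P ≤ isCardinalPresentable (Sh J) ℵ₀ := fun Y hY =>
    (isFP_iff_isFinitelyPresentable Y).1
      (isFP_of_isCoherent (hasQCGenerators_of_coherent hE) (hPc Y hY))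
  have : IsCardinalLocallyPresentable (Sh J) ℵ₀ :=
    (IsCardinalLocallyPresentable.iff_exists_isStrongGenerator (Sh J) ℵ₀).2 ⟨P, hPs, hP, hP2⟩
  obtain ⟨Q, _, hQ⟩ := HasCardinalFilteredGenerator.exists_small_generator (Sh J) ℵ₀
  obtain ⟨I, _, _, ⟨p⟩⟩ := hQ.exists_colimitsOfShape X
  have : IsFiltered I := isFiltered_of_isCardinalFiltered I ℵ₀
  refine ⟨I, inferInstance, inferInstance, p.diag, fun i => ?_,
    ⟨p.isColimit.coconePointUniqueUpToIso (colimit.isColimit _)⟩⟩
  exact h _ ((isFP_iff_isFinitelyPresentable _).2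
    (hQ.le_isCardinalPresentable _ (p.prop_diag_obj i)))

theorem isCoherent_of_isFP_of_presentation
    (h : ∀ X : Sh J, ∃ (I : Type u) (_ : SmallCategory I) (_ : IsFiltered I) (D : I ⥤ Sh J),
        (∀ i, IsCoherent (D.obj i)) ∧ Nonempty (X ≅ colimit D))
    (X : Sh J) (hX : IsFP X) : IsCoherent X := by
  obtain ⟨I, _, _, D, hD, ⟨e⟩⟩ := h X
  obtain ⟨i, f, hf⟩ := (post_surjective_iff D X).1 (hX I D).2 e.hom
  refine isCoherent_of_retract f (colimit.ι D i ≫ e.inv) ?_ (hD i)
  rw [← Category.assoc, hf, e.hom_inv_id]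

end Groth.Agent.Lib.Lead.ToposFin
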