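import Groth.Agent.Lib.Lead.VCover

/-!
# V coverings: refinement by a finite affine open cover subordinate to an open cover
-/

set_option autoImplicit false

universe w u

namespace Groth.Agent.Lib.Lead

open CategoryTheory CategoryTheory.Limits AlgebraicGeometry HTop

/-- A quasi-compact scheme with an open cover `O` has a finite cover by affine opens each contained
in a member of `O`. -/
theorem exists_fin_affine_refinement {Y : Scheme.{u}} [CompactSpace Y] {ι : Type*}
    (O : ι → Y.Opens) (hO : ∀ y : Y, ∃ i, y ∈ O i) :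
    ∃ (m : ℕ) (W : Fin m → Y.Opens) (idx : Fin m → ι), (∀ k, IsAffineOpen (W k)) ∧
      (∀ k, W k ≤ O (idx k)) ∧ ∀ y : Y, ∃ k, y ∈ W k := by
  classical
  have hloc : ∀ y : Y, ∃ (i : ι) (W : Y.Opens), IsAffineOpen W ∧ y ∈ W ∧ W ≤ O i := by
    intro y
    obtain ⟨i, hi⟩ := hO y
    obtain ⟨_, ⟨W, hW, rfl⟩, hyW, hWU⟩ := (Y.isBasis_affineOpens).exists_subset_of_mem_open
      (show y ∈ ((O i : Y.Opens) : Set Y) from hi) (O i).isOpen
    exact ⟨i, W, hW, hyW, hWU⟩
  choose i W hWaff hyW hWU using hloc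
  obtain ⟨t, -, ht⟩ := isCompact_univ.elim_nhds_subcover (fun y => ((W y : Y.Opens) : Set Y))
    (fun y _ => (W y).isOpen.mem_nhds (hyW y))
  let e : Fin t.card ≃ t := t.equivFin.symm
  refine ⟨t.card, fun k => W (e k).1, fun k => i (e k).1, fun k => hWaff _, fun k => hWU _, ?_⟩
  intro y
  have := ht (Set.mem_univ y)
  simp only [Set.mem_iUnion, exists_prop] at this
  obtain ⟨z, hzt, hyz⟩ := this
  refine ⟨e.symm ⟨z, hzt⟩, ?_⟩
  simp only [Equiv.apply_symm_apply]
  exact hyz

end Groth.Agent.Lib.Lead
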