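import Groth.Agent.Lib.Lead.VCover
import Groth.Agent.Lib.Lead.VSheaf
import Groth.Agent.Lib.Helper10.ValSpec
import Mathlib

/-!
# V coverings are universally submersive
-/

set_option autoImplicit false

universe w' w u

namespace Groth.Agent.Lib.Lead

open CategoryTheory CategoryTheory.Limits AlgebraicGeometry HTop IsLocalRing
open Groth.Agent.Lib.Helper10.ValSpec

/-- A subset of an affine scheme which is stable under specialization, contained in the image
of a morphism from an affine scheme, and with closed preimage, is closed. -/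
theorem isClosed_of_stableUnderSpecialization_of_affine {A T : Scheme.{u}} [IsAffine A]
    [IsAffine T] (g : A ⟶ T) (Z : Set T) (hcl : IsClosed (g ⁻¹' Z)) (hsub : Z ⊆ Set.range g)
    (hst : StableUnderSpecialization Z) : IsClosed Z := by
  have hnat : A.isoSpec.hom ≫ Spec.map g.appTop = g ≫ T.isoSpec.hom :=
    Scheme.isoSpec_hom_naturality g
  have hnat' : Spec.map g.appTop ≫ T.isoSpec.inv = A.isoSpec.inv ≫ g :=
    Scheme.isoSpec_inv_naturality g
  set C₀ : Set (Spec Γ(A, ⊤)) := A.isoSpec.inv ⁻¹' (g ⁻¹' Z) with hC₀def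
  have hC₀ : IsClosed C₀ := hcl.preimage A.isoSpec.inv.continuous
  set Z₀ : Set (Spec Γ(T, ⊤)) := T.isoSpec.inv ⁻¹' Z with hZ₀def
  have himg : (Spec.map g.appTop) '' C₀ = Z₀ := by
    ext p
    constructor
    · rintro ⟨c, hc, rfl⟩
      change T.isoSpec.inv (Spec.map g.appTop c) ∈ Z
      have h1 : T.isoSpec.inv (Spec.map g.appTop c) = g (A.isoSpec.inv c) := by
        rw [← Scheme.Hom.comp_apply, hnat', Scheme.Hom.comp_apply]
      rw [h1]
      exact hc
    · intro hp
      obtain ⟨a, ha⟩ := hsub hp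
      refine ⟨A.isoSpec.hom a, ?_, ?_⟩
      · change g (A.isoSpec.inv (A.isoSpec.hom a)) ∈ Z
        rw [Scheme.hom_inv_apply, ha]
        exact hp
      · rw [← Scheme.Hom.comp_apply, hnat, Scheme.Hom.comp_apply, ha, Scheme.inv_hom_apply]
  have hst₀ : StableUnderSpecialization Z₀ :=
    fun p p' hpp' hp => hst (hpp'.map T.isoSpec.inv.continuous) hp
  have hZ₀ : IsClosed Z₀ := by
    rw [← himg] at hst₀ ⊢
    exact PrimeSpectrum.isClosed_image_of_stableUnderSpecialization g.appTop.hom C₀ hC₀ hst₀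
  have hZ : Z = T.isoSpec.hom ⁻¹' Z₀ := by
    ext t
    change t ∈ Z ↔ T.isoSpec.inv (T.isoSpec.hom t) ∈ Z
    rw [Scheme.hom_inv_apply]
  rw [hZ]
  exact hZ₀.preimage T.isoSpec.hom.continuous

/-- Specializations lift along a family with the valuation-ring lifting property. -/
theorem exists_specializes_of_hasValLift {T : Scheme.{u}} (F : PreZeroHypercover.{w'} T)
    (hF : HasValLift F) {z z' : T} (h : z ⤳ z') :
    ∃ (j : F.I₀) (w w' : F.X j), w ⤳ w' ∧ F.f j w = z ∧ F.f j w' = z' := by
  obtain ⟨A, hAd, hAv, a, ha1, ha2⟩ := exists_valuationRing_of_specializes h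
  obtain ⟨W, hWd, hWv, φ, hφ, j, g', hg'⟩ := hF A a
  have hlocal : IsLocalHom φ.hom := hφ.2
  refine ⟨j, g' (genericPt W), g' (closedPoint W : ↥(Spec W)),
    (genericPt_specializes W _).map g'.continuous, ?_, ?_⟩
  · calc F.f j (g' (genericPt W)) = (g' ≫ F.f j) (genericPt W) := rfl
      _ = a (Spec.map φ (genericPt W)) := by rw [hg']; rfl
      _ = z := by rw [SpecMap_genericPt φ hφ.1, ha1]
  · calc F.f j (g' (closedPoint W : ↥(Spec W))) = (g' ≫ F.f j) (closedPoint W : ↥(Spec W)) := rfl
      _ = a (Spec.map φ (closedPoint W : ↥(Spec W))) := by rw [hg']; rfl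
      _ = a (closedPoint A : ↥(Spec A)) := by
          congr 1
          exact comap_closedPoint φ.hom
      _ = z' := ha2

/-- A subset of an affine scheme whose preimages under the members of a standard V covering
are all closed is closed. -/
theorem isClosed_of_isStandardV_aux {T : Scheme.{u}} (F : PreZeroHypercover.{u} T)
    (hF : IsStandardV F) (Z : Set T) (hZ : ∀ j, IsClosed (F.f j ⁻¹' Z)) : IsClosed Z := by
  have := hF.isAffine
  have := hF.finite_index
  have := hF.isAffine_obj
  have hst : StableUnderSpecialization Z := by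
    intro z z' hzz' hz
    obtain ⟨j, w, w', hww', hw, hw'⟩ := exists_specializes_of_hasValLift F hF.lift hzz'
    have hwZ : w ∈ F.f j ⁻¹' Z := by
      change F.f j w ∈ Z
      rw [hw]; exact hz
    have := (hZ j).stableUnderSpecialization hww' hwZ
    rw [← hw']
    exact this
  have hsub : Z ⊆ Set.range (Sigma.desc F.f) := by
    intro z _
    obtain ⟨j, w, _, -, hw, -⟩ := exists_specializes_of_hasValLift F hF.lift (specializes_rfl (x := z))
    refine ⟨Sigma.ι F.X j w, ?_⟩
    rw [← Scheme.Hom.comp_apply, Sigma.ι_desc, hw]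
  have hcl : IsClosed (Sigma.desc F.f ⁻¹' Z) := by
    rw [← (sigmaMk F.X).isClosed_preimage, isClosed_sigma_iff]
    intro j
    have : Sigma.mk j ⁻¹' (⇑(sigmaMk F.X) ⁻¹' (Sigma.desc F.f ⁻¹' Z)) = F.f j ⁻¹' Z := by
      ext x
      change Sigma.desc F.f (sigmaMk F.X ⟨j, x⟩) ∈ Z ↔ F.f j x ∈ Z
      rw [sigmaMk_mk, ← Scheme.Hom.comp_apply, Sigma.ι_desc]
    rw [this]
    exact hZ j
  exact isClosed_of_stableUnderSpecialization_of_affine (Sigma.desc F.f) Z hcl hsub hst

theorem isClosed_of_isStandardV {T : Scheme.{u}} (F : PreZeroHypercover.{w'} T)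
    (hF : IsStandardV F) (Z : Set T) (hZ : ∀ j, IsClosed (F.f j ⁻¹' Z)) : IsClosed Z := by
  have := hF.finite_index
  obtain ⟨n, e, he⟩ := exists_reindex_fin F
  let e' : ULift.{u} (Fin n) → F.I₀ := fun k => e k.down
  have he' : Function.Surjective e' := fun j => by
    obtain ⟨k, hk⟩ := he j
    exact ⟨⟨k⟩, hk⟩
  exact isClosed_of_isStandardV_aux (reindexFamily F e')
    (isStandardV_reindexFamily F hF e' he') Z (fun k => hZ (e' k))

/-- A morphism through which all members of a V covering factor is a quotient map. -/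
theorem isQuotientMap_of_isVCover {X' Y' : Scheme.{u}} (G : PreZeroHypercover.{w'} Y')
    (hG : IsVCover G) (f' : X' ⟶ Y') (hfac : ∀ i, ∃ m : G.X i ⟶ X', m ≫ f' = G.f i) :
    Topology.IsQuotientMap f' := by
  choose m hm using hfac
  rw [Topology.isQuotientMap_iff_isClosed]
  constructor
  · intro y
    obtain ⟨_, ⟨U, hU, rfl⟩, hyU, -⟩ := (Y'.isBasis_affineOpens).exists_subset_of_mem_open
      (Set.mem_univ y) isOpen_univ
    obtain ⟨F, hF, href⟩ := hG ⟨U, hU⟩
    obtain ⟨j, w, _, -, hw, -⟩ := exists_specializes_of_hasValLift F hF.lift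
      (specializes_rfl (x := (⟨y, hyU⟩ : U)))
    obtain ⟨i, k, hk⟩ := href j
    refine ⟨m i (k w), ?_⟩
    calc f' (m i (k w)) = (m i ≫ f') (k w) := rfl
      _ = (k ≫ G.f i) w := by rw [hm i]; rfl
      _ = Scheme.Opens.ι U (F.f j w) := by rw [hk]; rfl
      _ = y := by rw [hw]; rfl
  · intro Z
    refine ⟨fun hZ => hZ.preimage f'.continuous, fun hZ => ?_⟩
    rw [(show TopologicalSpace.IsOpenCover (fun i : Y'.affineOpens => (i : Y'.Opens)) from
      iSup_affineOpens_eq_top Y').isClosed_iff_coe_preimage]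
    intro U
    obtain ⟨F, hF, href⟩ := hG U
    have hcl : IsClosed ((U : Y'.Opens).ι ⁻¹' Z) := by
      apply isClosed_of_isStandardV F hF
      intro j
      obtain ⟨i, k, hk⟩ := href j
      have : F.f j ⁻¹' ((U : Y'.Opens).ι ⁻¹' Z) = (k ≫ m i) ⁻¹' (f' ⁻¹' Z) := by
        ext x
        change (F.f j ≫ (U : Y'.Opens).ι) x ∈ Z ↔ ((k ≫ m i) ≫ f') x ∈ Z
        rw [Category.assoc, hm i, hk]
      rw [this]
      exact hZ.preimage (k ≫ m i).continuous
    exact hcl

end Groth.Agent.Lib.Lead
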