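import Mathlib.CategoryTheory.Sites.LeftExact
import Mathlib.CategoryTheory.Sites.Limits
import Mathlib.CategoryTheory.Limits.Types.Limits
import Mathlib.CategoryTheory.Limits.Types.Colimits
import Mathlib.CategoryTheory.Limits.FunctorCategory.Basic
import Mathlib.CategoryTheory.Sites.LocallyBijective
import Mathlib.CategoryTheory.Sites.LocallySurjective

/-!
# Weakly contractible objects of a site
-/

set_option autoImplicit false

namespace Groth.Agent.Lib.Lead.WeakContr

open CategoryTheory CategoryTheory.Limits Opposite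

universe u

variable {C : Type u} [SmallCategory C] (J : GrothendieckTopology C) (U : C)

/-- the index type of the coproduct attached to a sieve -/
abbrev Idx (S : Sieve U) : Type u := Σ V : C, {f : V ⟶ U // S f}

/-- the canonical map from the coproduct of the representables of a sieve -/
noncomputable abbrev sig (S : Sieve U) :
    (∐ fun i : Idx U S => yoneda.obj i.1) ⟶ yoneda.obj U :=
  Sigma.desc (fun i : Idx U S => yoneda.map i.2.1)

theorem sig_locallySurjective (S : Sieve U) (hS : S ∈ J U) :
    Presheaf.IsLocallySurjective J (sig U S) := by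
  constructor
  intro V f'
  change V ⟶ U at f'
  refine J.superset_covering ?_ (J.pullback_stable f' hS)
  intro W g hg
  have hg' : S (g ≫ f') := hg
  let i : Idx U S := ⟨W, g ≫ f', hg'⟩
  refine ⟨(Sigma.ι (fun i : Idx U S => yoneda.obj i.1) i).app (op W) (𝟙 W), ?_⟩
  have h1 : Sigma.ι (fun i : Idx U S => yoneda.obj i.1) i ≫ sig U S = yoneda.map (g ≫ f') :=
    Sigma.ι_desc _ _
  have h2 := congrArg (fun k => k.app (op W) (𝟙 W)) h1
  refine h2.trans ?_
  show 𝟙 W ≫ g ≫ f' = g ≫ f'
  rw [Category.id_comp]

theorem main :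
    (∀ S : Sieve U, S ∈ J U →
      IsSplitEpi ((presheafToSheaf J (Type u)).map
        (Sigma.desc (fun i : (Σ V : C, {f : V ⟶ U // S f}) => yoneda.map i.2.1) :
          (∐ fun i : (Σ V : C, {f : V ⟶ U // S f}) => yoneda.obj i.1) ⟶ yoneda.obj U))) ↔
    ∀ (F G : Sheaf J (Type u)) (φ : F ⟶ G), Epi φ → Function.Surjective (φ.hom.app (op U)) := by
  let adj := sheafificationAdjunction J (Type u)
  constructor
  · intro hsplit F G φ hφ y
    have hls : Presheaf.IsLocallySurjective J φ.hom := (Sheaf.isLocallySurjective_iff_epi φ).2 hφ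
    let S : Sieve U := Presheaf.imageSieve φ.hom y
    have hS : S ∈ J U := hls.imageSieve_mem y
    obtain ⟨⟨s, hs⟩⟩ := hsplit S hS
    have hex : ∀ i : Idx U S, ∃ t : F.obj.obj (op i.1), φ.hom.app (op i.1) t = G.obj.map i.2.1.op y :=
      fun i => i.2.2
    choose x hx using hex
    let τ : (∐ fun i : Idx U S => yoneda.obj i.1) ⟶ F.obj :=
      Sigma.desc (fun i => yonedaEquiv.symm (x i))
    let yh : yoneda.obj U ⟶ G.obj := yonedaEquiv.symm y
    have hcomm : sig U S ≫ yh = τ ≫ φ.hom := by
      apply Sigma.hom_ext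
      intro i
      rw [← Category.assoc, ← Category.assoc, Sigma.ι_desc, Sigma.ι_desc]
      rw [yonedaEquiv_symm_naturality_left, yonedaEquiv_symm_naturality_right, hx]
    let τ' : (presheafToSheaf J (Type u)).obj _ ⟶ F := (adj.homEquiv _ _).symm τ
    let yh' : (presheafToSheaf J (Type u)).obj _ ⟶ G := (adj.homEquiv _ _).symm yh
    have hcomm' : τ' ≫ φ = (presheafToSheaf J (Type u)).map (sig U S) ≫ yh' := by
      show (adj.homEquiv _ _).symm τ ≫ φ = _ ≫ (adj.homEquiv _ _).symm yh
      rw [← Adjunction.homEquiv_naturality_left_symm, hcomm]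
      exact (Adjunction.homEquiv_naturality_right_symm adj τ φ).symm
    refine ⟨yonedaEquiv (adj.unit.app (yoneda.obj U) ≫ s.hom ≫ τ'.hom), ?_⟩
    have h3 : (adj.unit.app (yoneda.obj U) ≫ s.hom ≫ τ'.hom) ≫ φ.hom = yh := by
      have e1 : s ≫ τ' ≫ φ = yh' := by
        rw [hcomm', ← Category.assoc, hs, Category.id_comp]
      have e2 : adj.unit.app (yoneda.obj U) ≫ (sheafToPresheaf J (Type u)).map yh' = yh := by
        exact (adj.homEquiv_unit (f := yh')).symm.trans (Equiv.apply_symm_apply _ _)
      rw [← e2, ← e1]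
      rfl
    have h4 := congrArg yonedaEquiv h3
    rw [yonedaEquiv_comp, Equiv.apply_symm_apply] at h4
    exact h4
  · intro hsurj S hS
    have hls := sig_locallySurjective J U S hS
    have hls' : Sheaf.IsLocallySurjective ((presheafToSheaf J (Type u)).map (sig U S)) :=
      (Presheaf.isLocallySurjective_presheafToSheaf_map_iff J (sig U S)).2 hls
    have hepi : Epi ((presheafToSheaf J (Type u)).map (sig U S)) :=
      (Sheaf.isLocallySurjective_iff_epi _).1 hls'
    obtain ⟨t, ht⟩ := hsurj _ _ _ hepi ((adj.unit.app (yoneda.obj U)).app (op U) (𝟙 U))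
    let s : (presheafToSheaf J (Type u)).obj (yoneda.obj U) ⟶
        (presheafToSheaf J (Type u)).obj (∐ fun i : Idx U S => yoneda.obj i.1) :=
      (adj.homEquiv _ _).symm (yonedaEquiv.symm t)
    refine ⟨⟨s, ?_⟩⟩
    apply (adj.homEquiv _ _).injective
    rw [Adjunction.homEquiv_naturality_right, Equiv.apply_symm_apply, Adjunction.homEquiv_unit]
    apply yonedaEquiv.injective
    rw [yonedaEquiv_comp, Equiv.apply_symm_apply]
    refine ht.trans ?_
    rw [CategoryTheory.Functor.map_id]
    exact (congrArg yonedaEquiv (Category.comp_id (adj.unit.app (yoneda.obj U)))).symm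

end Groth.Agent.Lib.Lead.WeakContr
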