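import Groth.Agent.Lib.Lead.ZarFlat
import Groth.Agent.Lib.Lead.CartanAdeq

/-!
# Comparison of big fppf cohomology and Zariski cohomology for Čech-good sheaves
-/

set_option autoImplicit false

universe u

open CategoryTheory CategoryTheory.Limits Opposite AlgebraicGeometry Abelian

namespace Groth.Agent.Lib.Lead.ZarCompare

open Groth.Agent.Lib.Lead.Cartan Groth.Agent.Lib.Lead.ZarFlat
  Groth.Agent.Lib.Helper22.ExtCompare

noncomputable section

variable (S : Scheme.{u}) [BigSite.ZarCont Scheme.fppfPrecoverage S]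

/-- The image of the top open is terminal in the big site. -/
def isTerminalTop : IsTerminal ((BigSite.zarIncl S).obj ⊤) :=
  IsTerminal.ofUniqueHom
    (fun X => liftTo S X ⊤ (by
      rw [Scheme.Opens.range_ι]
      intro s _
      trivial))
    (fun X m => hom_ext_zarIncl S X ⊤ _ _)

/-- The degree zero comparison. -/
def deg0 : Deg0Iso (BigSite.resZar Scheme.fppfPrecoverage S)
    ((constantSheaf (QuotSh.J Scheme.fppfPrecoverage S) AddCommGrpCat.{u + 1}).obj
      (AddCommGrpCat.of (ULift ℤ)))
    ((constantSheaf (Opens.grothendieckTopology S) AddCommGrpCat.{u + 1}).obj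
      (AddCommGrpCat.of (ULift ℤ))) where
  e G := (Sheaf.H.equiv₀ G (isTerminalTop S)).trans
    (Sheaf.H.equiv₀ ((BigSite.resZar Scheme.fppfPrecoverage S).obj G)
      (Limits.isTerminalTop (α := S.Opens))).symm
  nat {G G'} g x := by
    show (Sheaf.H.equiv₀ ((BigSite.resZar Scheme.fppfPrecoverage S).obj G')
        (Limits.isTerminalTop (α := S.Opens))).symm
        (Sheaf.H.equiv₀ G' (isTerminalTop S) (Sheaf.H.map g 0 x)) =
      Sheaf.H.map ((BigSite.resZar Scheme.fppfPrecoverage S).map g) 0
        ((Sheaf.H.equiv₀ ((BigSite.resZar Scheme.fppfPrecoverage S).obj G)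
          (Limits.isTerminalTop (α := S.Opens))).symm
          (Sheaf.H.equiv₀ G (isTerminalTop S) x))
    rw [← Sheaf.H.equiv₀_naturality, Sheaf.H.equiv₀_symm_naturality]
    rfl

/-- Sections lift over affine opens. -/
lemma surjective_affineOpen (C : ShortComplex (AbT S)) (hC : C.ShortExact) (hF : CechGood C.X₁)
    (V : S.Opens) (hV : IsAffineOpen V) :
    Function.Surjective (C.g.hom.app (op ((BigSite.zarIncl S).obj V))) := by
  haveI : IsAffine V.toScheme := hV
  have e : (BigSite.zarIncl S).obj V ≅ Over.mk (V.toScheme.isoSpec.inv ≫ V.ι) :=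
    (Over.isoMk V.toScheme.isoSpec (by
      show V.toScheme.isoSpec.hom ≫ V.toScheme.isoSpec.inv ≫ V.ι = V.ι
      rw [Iso.hom_inv_id_assoc]) : Over.mk V.ι ≅ Over.mk (V.toScheme.isoSpec.inv ≫ V.ι))
  apply surjective_of_iso C.g.hom e
  intro s
  exact sections_surjective_ab C hC hF (V.toScheme.isoSpec.inv ≫ V.ι) s

theorem shortExact_map_resZar (C : ShortComplex (AbT S)) (hC : C.ShortExact)
    (hF : CechGood C.X₁) :
    (C.map (BigSite.resZar Scheme.fppfPrecoverage S)).ShortExact := by
  haveI : PreservesLimitsOfSize.{0, 0} (BigSite.resZar Scheme.fppfPrecoverage S) :=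
    (BigSite.piZarAdj Scheme.fppfPrecoverage S).rightAdjoint_preservesLimits
  haveI := hC.mono_f
  have hex : (C.map (BigSite.resZar Scheme.fppfPrecoverage S)).Exact :=
    hC.exact.map_of_mono_of_preservesKernel _ hC.mono_f inferInstance
  haveI : Mono (C.map (BigSite.resZar Scheme.fppfPrecoverage S)).f :=
    inferInstanceAs (Mono ((BigSite.resZar Scheme.fppfPrecoverage S).map C.f))
  haveI : Epi (C.map (BigSite.resZar Scheme.fppfPrecoverage S)).g := by
    show Epi ((BigSite.resZar Scheme.fppfPrecoverage S).map C.g)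
    haveI : (Opens.grothendieckTopology S).WEqualsLocallyBijective AddCommGrpCat.{u + 1} :=
      .ofEssentiallySmall _
    rw [← Sheaf.isLocallySurjective_iff_epi' (A := AddCommGrpCat.{u + 1})]
    constructor
    intro U s x hx
    obtain ⟨V, hVaff, hxV, hVU⟩ :=
      TopologicalSpace.Opens.isBasis_iff_nbhd.mp S.isBasis_affineOpens (U := U) hx
    refine ⟨V, homOfLE hVU, ?_, hxV⟩
    exact surjective_affineOpen S C hC hF V hVaff _
  exact ShortComplex.ShortExact.mk' hex inferInstance inferInstance

/-- Comparison of Zariski and big fppf cohomology for Čech-good sheaves. -/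
theorem nonempty_compare (F : AbT S) (hF : CechGood F) (q : ℕ) :
    Nonempty (EtZar.H ((BigSite.resZar Scheme.fppfPrecoverage S).obj F) q ≃+
      BigSite.H Scheme.fppfPrecoverage S F q) := by
  obtain ⟨e⟩ := nonempty_ext_addEquiv (deg0 S) CechGood
    (fun G hG => shortExact_map_resZar S (injSC G) (injSC_shortExact G) hG)
    (fun G hG => cechGood_quot G hG)
    (fun G _ n x => by
      haveI := injective_resZar S Scheme.fppfPrecoverage (injSC G).X₂
      exact Ext.eq_zero_of_injective x) q F hF
  exact ⟨e.symm⟩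

theorem nonempty_compare_adequate (M : BigSite.Mod Scheme.fppfPrecoverage S)
    (hM : Adeq.adequateMod Scheme.fppfPrecoverage S M) (q : ℕ) :
    Nonempty (EtZar.H ((BigSite.resZar Scheme.fppfPrecoverage S).obj
        ((BigSite.toAbMod Scheme.fppfPrecoverage S).obj M)) q ≃+
      BigSite.HMod Scheme.fppfPrecoverage S M q) := by
  apply nonempty_compare
  intro R a B _ _ _ n
  have hF := Groth.Agent.Lib.Lead.AdeqModMain.adequate_toMVF Scheme.fppfPrecoverage
    Groth.Agent.Lib.Lead.AdeqModInst.hasAffineRefinements_fppf M hM R a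
  exact Groth.Agent.Lib.Lead.CechAdeq.acyc_PM Scheme.fppfPrecoverage M a B hF n

end

end Groth.Agent.Lib.Lead.ZarCompare
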