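import Groth.Agent.Lib.Lead.ZarFlat
import Groth.Agent.Lib.Helper22.ExtCompare

/-!
# Comparison of big Zariski cohomology and small Zariski cohomology
-/

set_option autoImplicit false

universe u

open CategoryTheory CategoryTheory.Limits Opposite AlgebraicGeometry Abelian

namespace Groth.Agent.Lib.Lead.ZarCompare2

open Groth.Agent.Lib.Lead.ZarFlat Groth.Agent.Lib.Helper22.ExtCompare

noncomputable section

variable (K : Precoverage Scheme.{u}) (S : Scheme.{u}) [BigSite.ZarCont K S]

/-- The image of the top open is terminal in the big site. -/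
def isTerminalTop : IsTerminal ((BigSite.zarIncl S).obj ⊤) :=
  IsTerminal.ofUniqueHom
    (fun X => liftTo S X ⊤ (by
      rw [Scheme.Opens.range_ι]
      intro s _
      trivial))
    (fun X m => hom_ext_zarIncl S X ⊤ _ _)

/-- The degree zero comparison. -/
def deg0 : Deg0Iso (BigSite.resZar K S)
    ((constantSheaf (QuotSh.J K S) AddCommGrpCat.{u + 1}).obj
      (AddCommGrpCat.of (ULift ℤ)))
    ((constantSheaf (Opens.grothendieckTopology S) AddCommGrpCat.{u + 1}).obj
      (AddCommGrpCat.of (ULift ℤ))) where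
  e G := (Sheaf.H.equiv₀ G (isTerminalTop S)).trans
    (Sheaf.H.equiv₀ ((BigSite.resZar K S).obj G)
      (Limits.isTerminalTop (α := S.Opens))).symm
  nat {G G'} g x := by
    show (Sheaf.H.equiv₀ ((BigSite.resZar K S).obj G')
        (Limits.isTerminalTop (α := S.Opens))).symm
        (Sheaf.H.equiv₀ G' (isTerminalTop S) (Sheaf.H.map g 0 x)) =
      Sheaf.H.map ((BigSite.resZar K S).map g) 0
        ((Sheaf.H.equiv₀ ((BigSite.resZar K S).obj G)
          (Limits.isTerminalTop (α := S.Opens))).symm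
          (Sheaf.H.equiv₀ G (isTerminalTop S) x))
    rw [← Sheaf.H.equiv₀_naturality, Sheaf.H.equiv₀_symm_naturality]
    rfl

/-- If epimorphisms of big sheaves restrict to locally surjective maps on opens, the cohomologies
agree. -/
theorem nonempty_compare_of_epi
    (hepi : ∀ (C : ShortComplex (BigSite.Ab K S)), C.ShortExact →
      Epi ((BigSite.resZar K S).map C.g))
    (F : BigSite.Ab K S) (q : ℕ) :
    Nonempty (EtZar.H ((BigSite.resZar K S).obj F) q ≃+ BigSite.H K S F q) := by
  haveI : PreservesLimitsOfSize.{0, 0} (BigSite.resZar K S) :=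
    (BigSite.piZarAdj K S).rightAdjoint_preservesLimits
  obtain ⟨e⟩ := nonempty_ext_addEquiv (deg0 K S) (fun _ => True)
    (fun G _ => by
      have hC := injSC_shortExact G
      haveI := hC.mono_f
      have hex : ((injSC G).map (BigSite.resZar K S)).Exact :=
        hC.exact.map_of_mono_of_preservesKernel _ hC.mono_f inferInstance
      haveI : Mono ((injSC G).map (BigSite.resZar K S)).f :=
        inferInstanceAs (Mono ((BigSite.resZar K S).map (injSC G).f))
      haveI : Epi ((injSC G).map (BigSite.resZar K S)).g := hepi _ hC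
      exact ShortComplex.ShortExact.mk' hex inferInstance inferInstance)
    (fun _ _ => trivial)
    (fun G _ n x => by
      haveI := injective_resZar S K (injSC G).X₂
      exact Ext.eq_zero_of_injective x) q F trivial
  exact ⟨e.symm⟩

/-- On the big Zariski site, epimorphisms restrict to epimorphisms on the small Zariski site. -/
theorem epi_resZar_zariski [BigSite.ZarCont Scheme.zariskiPrecoverage S]
    (C : ShortComplex (BigSite.Ab Scheme.zariskiPrecoverage S)) (hC : C.ShortExact) :
    Epi ((BigSite.resZar Scheme.zariskiPrecoverage S).map C.g) := by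
  haveI : (Opens.grothendieckTopology S).WEqualsLocallyBijective AddCommGrpCat.{u + 1} :=
    .ofEssentiallySmall _
  rw [← Sheaf.isLocallySurjective_iff_epi' (A := AddCommGrpCat.{u + 1})]
  have hepi : Epi C.g := hC.epi_g
  have hls : Presheaf.IsLocallySurjective (QuotSh.J Scheme.zariskiPrecoverage S) C.g.hom :=
    (Sheaf.isLocallySurjective_iff_epi' (A := AddCommGrpCat.{u + 1}) C.g).2 hepi
  constructor
  intro U' s x hx
  obtain ⟨U, rfl⟩ : ∃ U : S.Opens, U = U' := ⟨U', rfl⟩
  have hmem : Presheaf.imageSieve C.g.hom (U := (BigSite.zarIncl S).obj U) s ∈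
      QuotSh.J Scheme.zariskiPrecoverage S ((BigSite.zarIncl S).obj U) :=
    Presheaf.imageSieve_mem _ C.g.hom (U := op ((BigSite.zarIncl S).obj U)) s
  rw [GrothendieckTopology.mem_over_iff] at hmem
  have hmem' : Sieve.overEquiv ((BigSite.zarIncl S).obj U)
      (Presheaf.imageSieve C.g.hom (U := (BigSite.zarIncl S).obj U) s) ∈
      Scheme.grothendieckTopology @IsOpenImmersion U.toScheme := hmem
  obtain ⟨𝒰, h𝒰⟩ := Scheme.exists_cover_of_mem_grothendieckTopology hmem'
  obtain ⟨i, y, hy⟩ := 𝒰.exists_eq (⟨x, hx⟩ : U.toScheme)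
  have hi := h𝒰 _ _ (Presieve.ofArrows.mk i)
  rw [Sieve.overEquiv_iff] at hi
  haveI : IsOpenImmersion (𝒰.f i) := 𝒰.map_prop i
  let V : S.Opens := (𝒰.f i ≫ U.ι).opensRange
  have hxV : x ∈ V := ⟨y, by
    show (𝒰.f i ≫ U.ι).base y = x
    rw [Scheme.Hom.comp_base, TopCat.comp_app, hy]
    rfl⟩
  have hVU : V ≤ U := by
    rintro _ ⟨z, rfl⟩
    show (𝒰.f i ≫ U.ι).base z ∈ U
    rw [Scheme.Hom.comp_base, TopCat.comp_app]
    exact ((𝒰.f i).base z).2
  refine ⟨V, homOfLE hVU, ?_, hxV⟩
  have hr : Set.range V.ι.base ⊆ Set.range (𝒰.f i ≫ U.ι).base := by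
    rw [Scheme.Opens.range_ι]
    exact fun _ h => h
  let k : (BigSite.zarIncl S).obj V ⟶ Over.mk (𝒰.f i ≫ ((BigSite.zarIncl S).obj U).hom) :=
    (Over.homMk (IsOpenImmersion.lift (𝒰.f i ≫ U.ι) V.ι hr)
      (IsOpenImmersion.lift_fac _ _ _) : Over.mk V.ι ⟶ Over.mk (𝒰.f i ≫ U.ι))
  have hk : k ≫ (Over.homMk (𝒰.f i) : Over.mk (𝒰.f i ≫ ((BigSite.zarIncl S).obj U).hom) ⟶
      (BigSite.zarIncl S).obj U) = (BigSite.zarIncl S).map (homOfLE hVU) :=
    hom_ext_zarIncl S _ U _ _
  have h2 := (Presheaf.imageSieve C.g.hom (U := (BigSite.zarIncl S).obj U) s).downward_closed hi k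
  have h3 : (Presheaf.imageSieve C.g.hom (U := (BigSite.zarIncl S).obj U) s).arrows
      ((BigSite.zarIncl S).map (homOfLE hVU)) := by
    have e : (k ≫ (Over.homMk (𝒰.f i) : Over.mk (𝒰.f i ≫ ((BigSite.zarIncl S).obj U).hom) ⟶
      (BigSite.zarIncl S).obj U)) = (BigSite.zarIncl S).map (homOfLE hVU) := hk
    exact e ▸ h2
  obtain ⟨t, ht⟩ := h3
  exact ⟨t, ht⟩

theorem nonempty_compare_zariski [BigSite.ZarCont Scheme.zariskiPrecoverage S]
    (F : BigSite.Ab Scheme.zariskiPrecoverage S) (p : ℕ) :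
    Nonempty (EtZar.H ((BigSite.resZar Scheme.zariskiPrecoverage S).obj F) p ≃+
      BigSite.H Scheme.zariskiPrecoverage S F p) :=
  nonempty_compare_of_epi Scheme.zariskiPrecoverage S (epi_resZar_zariski S) F p

end

end Groth.Agent.Lib.Lead.ZarCompare2
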