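import Mathlib
import Groth.Prelude.Def_BigSite
import Groth.Agent.Lib.Helper10.LanFlat

/-!
# The inclusion of the opens of `S` into the big site is representably flat; `piZarPull` is exact
-/

set_option autoImplicit false

universe u

open CategoryTheory CategoryTheory.Limits Opposite AlgebraicGeometry

namespace Groth.Agent.Lib.Lead.ZarFlat

noncomputable section

variable (S : Scheme.{u})

lemma zarIncl_obj_hom (U : S.Opens) : ((BigSite.zarIncl S).obj U).hom = U.ι := rfl

/-- A morphism to the image of an open, from the range condition. -/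
def liftTo (X : Over S) (U : S.Opens) (h : Set.range X.hom.base ⊆ Set.range U.ι.base) :
    X ⟶ (BigSite.zarIncl S).obj U :=
  (Over.homMk (IsOpenImmersion.lift U.ι X.hom h) (IsOpenImmersion.lift_fac _ _ _) :
    X ⟶ Over.mk U.ι)

lemma range_subset_of_hom (X : Over S) (U : S.Opens) (f : X ⟶ (BigSite.zarIncl S).obj U) :
    Set.range X.hom.base ⊆ Set.range U.ι.base := by
  have hw : f.left ≫ U.ι = X.hom := Over.w f
  rw [← hw]
  rintro _ ⟨x, rfl⟩
  exact ⟨f.left.base x, rfl⟩

lemma hom_ext_zarIncl (X : Over S) (U : S.Opens) (f g : X ⟶ (BigSite.zarIncl S).obj U) : f = g := by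
  apply Over.OverMorphism.ext
  have hf : f.left ≫ U.ι = X.hom := Over.w f
  have hg : g.left ≫ U.ι = X.hom := Over.w g
  exact (cancel_mono U.ι).1 (hf.trans hg.symm)

instance representablyFlat_zarIncl : RepresentablyFlat (BigSite.zarIncl S) where
  cofiltered X :=
    { cone_objs := fun A B => by
        have hA := range_subset_of_hom S X A.right A.hom
        have hB := range_subset_of_hom S X B.right B.hom
        have hAB : Set.range X.hom.base ⊆ Set.range (A.right ⊓ B.right).ι.base := by
          intro s hs
          have h1 := hA hs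
          have h2 := hB hs
          rw [Scheme.Opens.range_ι] at h1 h2 ⊢
          exact ⟨h1, h2⟩
        refine ⟨StructuredArrow.mk (liftTo S X (A.right ⊓ B.right) hAB),
          StructuredArrow.homMk (homOfLE inf_le_left) (hom_ext_zarIncl S X _ _ _),
          StructuredArrow.homMk (homOfLE inf_le_right) (hom_ext_zarIncl S X _ _ _), trivial⟩
      cone_maps := fun A B f g => by
        refine ⟨A, 𝟙 A, ?_⟩
        have : f = g := by
          apply StructuredArrow.ext
          exact Subsingleton.elim _ _
        rw [this]
      nonempty := by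
        have h : Set.range X.hom.base ⊆ Set.range (⊤ : S.Opens).ι.base := by
          rw [Scheme.Opens.range_ι]
          intro s _
          trivial
        exact ⟨StructuredArrow.mk (liftTo S X ⊤ h)⟩ }

open Groth.Agent.Lib.Helper10.LanFlat BigSite

/-- `π_{Zar}⁻¹` is exact. -/
theorem piZarPull_preservesFiniteLimits (K : Precoverage Scheme.{u}) [ZarCont K S] :
    PreservesFiniteLimits (piZarPull K S) := by
  have h1 : ∀ V : (Over S)ᵒᵖ, HasColimitsOfShape (CostructuredArrow (zarIncl S).op V)
      AddCommGrpCat.{u + 1} :=
    fun V => hasColimitsOfShape_costructuredArrow_addCommGrp.{u, u, u, u + 1, u + 1}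
      (zarIncl S) V
  have h2 : PreservesFiniteLimits ((zarIncl S).op.lan :
      ((S.Opens)ᵒᵖ ⥤ AddCommGrpCat.{u + 1}) ⥤ ((Over S)ᵒᵖ ⥤ AddCommGrpCat.{u + 1})) :=
    lan_preservesFiniteLimits_of_flat_addCommGrp.{u, u, u, u + 1, u + 1} (zarIncl S)
  exact Functor.sheafPullbackConstruction.preservesFiniteLimits (zarIncl S) AddCommGrpCat.{u + 1}
    (Opens.grothendieckTopology S) (QuotSh.J K S)

/-- Restriction to the small Zariski site preserves injectives. -/
theorem injective_resZar (K : Precoverage Scheme.{u}) [ZarCont K S]
    (I : Ab K S) [Injective I] : Injective ((resZar K S).obj I) := by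
  have := piZarPull_preservesFiniteLimits S K
  exact Injective.injective_of_adjoint (piZarAdj K S) I

end

end Groth.Agent.Lib.Lead.ZarFlat
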