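import Mathlib
import Groth.Prelude.Def_EtBase
import Groth.Agent.S7528

/-!
# Affine schemes all of whose points are closed: profinite underlying space, stalks with nil
maximal ideal (hence henselian)
-/

set_option autoImplicit false

universe u

open CategoryTheory AlgebraicGeometry Opposite

namespace Groth.Agent.Lib.Lead.ZeroDimA

/-- A local ring whose maximal ideal consists of nilpotent elements is henselian. -/
theorem henselianLocalRing_of_nil (R : Type u) [CommRing R] [IsLocalRing R]
    (h : ∀ x ∈ IsLocalRing.maximalIdeal R, IsNilpotent x) : HenselianLocalRing R where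
  is_henselian f _ a₀ h₁ h₂ := by
    obtain ⟨r, ⟨hr1, hr2⟩, -⟩ :=
      Polynomial.existsUnique_nilpotent_sub_and_aeval_eq_zero (P := f) (x := a₀)
        (by simpa using h _ h₁) (by simpa using h₂)
    refine ⟨r, by simpa [Polynomial.IsRoot] using hr2, ?_⟩
    have h3 : a₀ - r ∈ IsLocalRing.maximalIdeal R := by
      obtain ⟨n, hn⟩ := hr1
      exact (IsLocalRing.maximalIdeal.isMaximal R).isPrime.mem_of_pow_mem n (by rw [hn]; exact zero_mem _)
    have h4 : r - a₀ = -(a₀ - r) := by ring
    rw [h4]
    exact neg_mem h3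

variable (S : Scheme.{u}) (h1 : ∀ s : S, IsClosed ({s} : Set S))

include h1 in
theorem subsingleton_primeSpectrum_stalk (s : S) :
    Subsingleton (PrimeSpectrum (S.presheaf.stalk s)) := by
  constructor
  intro p q
  have key : ∀ z : Spec (S.presheaf.stalk s), (S.fromSpecStalk s) z = s := by
    intro z
    have hz : (S.fromSpecStalk s) z ∈ Set.range (S.fromSpecStalk s) := ⟨z, rfl⟩
    rw [Scheme.range_fromSpecStalk] at hz
    have h2 : s ∈ closure ({(S.fromSpecStalk s) z} : Set S) := hz.mem_closure
    rw [(h1 _).closure_eq] at h2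
    exact h2.symm
  have hinj := (S.fromSpecStalk s).isEmbedding.injective
  exact hinj ((key p).trans (key q).symm)

include h1 in
theorem isNilpotent_of_mem_maximalIdeal_stalk (s : S) (x : S.presheaf.stalk s)
    (hx : x ∈ IsLocalRing.maximalIdeal (S.presheaf.stalk s)) : IsNilpotent x := by
  haveI := subsingleton_primeSpectrum_stalk S h1 s
  rw [← mem_nilradical, nilradical_eq_sInf, Ideal.mem_sInf]
  intro J hJ
  have hJ' : J.IsPrime := hJ
  have e : (⟨J, hJ'⟩ : PrimeSpectrum (S.presheaf.stalk s)) =
      ⟨IsLocalRing.maximalIdeal _, (IsLocalRing.maximalIdeal.isMaximal _).isPrime⟩ :=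
    Subsingleton.elim _ _
  have e' : J = IsLocalRing.maximalIdeal _ := congrArg PrimeSpectrum.asIdeal e
  rw [e']
  exact hx

include h1 in
theorem isStrictlyHenselian_stalk (h2 : ∀ s : S, IsSepClosed (S.residueField s)) (s : S) :
    EtCoh.IsStrictlyHenselianLocalRing (S.presheaf.stalk s) :=
  ⟨henselianLocalRing_of_nil _ (isNilpotent_of_mem_maximalIdeal_stalk S h1 s), h2 s⟩

include h1 in
theorem profinite [IsAffine S] : T2Space S ∧ TotallyDisconnectedSpace S := by
  haveI : SpectralSpace S := {}
  exact ((Groth.Agent.S7528.result S).out 5 0).mp h1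

end Groth.Agent.Lib.Lead.ZeroDimA
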